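/-
Heisenberg-type subgroups: normal forms, orders, and the splitting of a group with a central complement.
-/
import Cfsg.Agent.Lib.Fusion2.GES

set_option autoImplicit false

namespace Cfsg.Agent.Lib.Fusion2

open Cfsg

section Class2

variable {V : Type*} [Group V]

/-- The power formula in class two. -/
theorem class2_pow {X Y c : V} (hc1 : X * c = c * X) (hc2 : Y * c = c * Y) (h : X * Y * X⁻¹ = Y * c) (n : ℕ) :
    (X * Y) ^ n = X ^ n * Y ^ n * (c⁻¹) ^ (n.choose 2) := by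
  have hYX : Y * X = X * Y * c⁻¹ := by
    have h1 : X * Y = Y * c * X := by
      rw [← h]
      group
    have h2 : c⁻¹ * X = X * c⁻¹ := by
      rw [inv_mul_eq_iff_eq_mul, ← mul_assoc, hc1.symm, mul_assoc, mul_inv_cancel, mul_one]
    have h3 : c⁻¹ * Y = Y * c⁻¹ := by
      rw [inv_mul_eq_iff_eq_mul, ← mul_assoc, hc2.symm, mul_assoc, mul_inv_cancel, mul_one]
    rw [h1, mul_assoc Y c X, hc1.symm, mul_assoc, mul_assoc]
    simp [mul_assoc]
  have hc1' : Commute X c⁻¹ := (Commute.inv_right hc1)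
  have hc2' : Commute Y c⁻¹ := (Commute.inv_right hc2)
  have hYnX : ∀ k : ℕ, Y ^ k * X = X * Y ^ k * (c⁻¹) ^ k := by
    intro k
    induction k with
    | zero => simp
    | succ k ih =>
      rw [pow_succ, mul_assoc, hYX, ← mul_assoc, ← mul_assoc, ih, pow_succ (c⁻¹)]
      have h5 : X * Y ^ k * c⁻¹ ^ k * Y * c⁻¹ = X * Y ^ k * (c⁻¹ ^ k * Y) * c⁻¹ := by group
      rw [h5, ((hc2'.pow_right k).eq).symm]
      group
  induction n with
  | zero => simp
  | succ n ih =>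
    have e : (n + 1).choose 2 = n + n.choose 2 := by
      rw [Nat.choose_succ_succ' n 1, Nat.choose_one_right]
    rw [pow_succ, ih, e, pow_add (c⁻¹), pow_succ X, pow_succ Y]
    have h5 : X ^ n * Y ^ n * c⁻¹ ^ n.choose 2 * (X * Y) = X ^ n * (Y ^ n * (c⁻¹ ^ n.choose 2 * X)) * Y := by group
    rw [h5, ((hc1'.pow_right _).eq).symm, ← mul_assoc (Y ^ n), hYnX]
    have h6 : c⁻¹ ^ n.choose 2 * Y = Y * c⁻¹ ^ n.choose 2 := ((hc2'.pow_right _).eq).symm
    calc X ^ n * (X * Y ^ n * c⁻¹ ^ n * c⁻¹ ^ n.choose 2) * Y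
        = X ^ n * X * Y ^ n * c⁻¹ ^ n * (c⁻¹ ^ n.choose 2 * Y) := by group
      _ = X ^ n * X * Y ^ n * c⁻¹ ^ n * (Y * c⁻¹ ^ n.choose 2) := by rw [h6]
      _ = X ^ n * X * Y ^ n * (c⁻¹ ^ n * Y) * c⁻¹ ^ n.choose 2 := by group
      _ = X ^ n * X * Y ^ n * (Y * c⁻¹ ^ n) * c⁻¹ ^ n.choose 2 := by rw [((hc2'.pow_right n).eq).symm]
      _ = X ^ n * X * (Y ^ n * Y) * (c⁻¹ ^ n * c⁻¹ ^ n.choose 2) := by group

/-- The `p`-th power in class two, `p` odd, `c` of order dividing `p`. -/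
theorem class2_pow_p {p : ℕ} [hp : Fact p.Prime] (hodd : p ≠ 2) {X Y c : V} (hc1 : X * c = c * X) (hc2 : Y * c = c * Y)
    (h : X * Y * X⁻¹ = Y * c) (hcp : c ^ p = 1) : (X * Y) ^ p = X ^ p * Y ^ p := by
  have hpp := hp.out
  rw [class2_pow hc1 hc2 h]
  have h2 : 2 < p := lt_of_le_of_ne hpp.two_le (Ne.symm hodd)
  obtain ⟨q, hq⟩ := hpp.dvd_choose_self (by norm_num : 2 ≠ 0) h2
  rw [hq, pow_mul, inv_pow, hcp, inv_one, one_pow, mul_one]

end Class2

section Heis

variable {V : Type*} [Group V] {y A B : V}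

/-- Conjugation of powers. -/
theorem heis_conj (hBy : y * B = B * y) (hBA : A * B = B * A) (hyA : y * A * y⁻¹ = A * B) (i v : ℕ) :
    y ^ i * A ^ v = A ^ v * B ^ (i * v) * y ^ i := by
  have h1 : ∀ i : ℕ, y ^ i * A = A * B ^ i * y ^ i := by
    intro i
    induction i with
    | zero => simp
    | succ i ih =>
      have h2 : y * A = A * B * y := by
        rw [← hyA]
        group
      have h3 : Commute y B := hBy
      rw [pow_succ', mul_assoc, ih, ← mul_assoc, ← mul_assoc, h2, pow_succ' B]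
      have h4 : y * B ^ i = B ^ i * y := (h3.pow_right i).eq
      calc A * B * y * B ^ i * y ^ i = A * B * (y * B ^ i) * y ^ i := by group
        _ = A * B * (B ^ i * y) * y ^ i := by rw [h4]
        _ = A * (B * B ^ i) * (y * y ^ i) := by group
  induction v with
  | zero => simp
  | succ v ih =>
    rw [pow_succ, ← mul_assoc, ih, mul_assoc, h1, Nat.mul_succ, pow_add]
    have h5 : Commute A (B ^ (i * v)) := (Commute.pow_right hBA _)
    have h6 : Commute A (B ^ i) := (Commute.pow_right hBA _)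
    have h7 : Commute (A ^ v) (B ^ i) := (Commute.pow_left h6 _)
    calc A ^ v * B ^ (i * v) * (A * B ^ i * y ^ i) = A ^ v * (B ^ (i * v) * A) * B ^ i * y ^ i := by group
      _ = A ^ v * (A * B ^ (i * v)) * B ^ i * y ^ i := by rw [h5.eq]
      _ = A ^ v * A * (B ^ (i * v) * B ^ i) * y ^ i := by group

/-- The submonoid with normal form `A^v y^i B^w`. -/
def heisMon (hBy : y * B = B * y) (hBA : A * B = B * A) (hyA : y * A * y⁻¹ = A * B) : Submonoid V where
  carrier := {z | ∃ v i w : ℕ, z = A ^ v * y ^ i * B ^ w}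
  one_mem' := ⟨0, 0, 0, by simp⟩
  mul_mem' := by
    rintro _ _ ⟨v, i, w, rfl⟩ ⟨v', i', w', rfl⟩
    refine ⟨v + v', i + i', w + w' + i * v', ?_⟩
    have h1 := heis_conj hBy hBA hyA i v'
    have hcy : Commute y B := hBy
    have hcA : Commute A B := hBA
    have h2 : B ^ w * A ^ v' = A ^ v' * B ^ w := ((hcA.pow_pow v' w).eq).symm
    have h3 : B ^ w * y ^ i' = y ^ i' * B ^ w := ((hcy.pow_pow i' w).eq).symm
    have h4 : B ^ (i * v') * y ^ i' = y ^ i' * B ^ (i * v') := ((hcy.pow_pow i' (i * v')).eq).symm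
    calc A ^ v * y ^ i * B ^ w * (A ^ v' * y ^ i' * B ^ w')
        = A ^ v * y ^ i * (B ^ w * A ^ v') * y ^ i' * B ^ w' := by group
      _ = A ^ v * (y ^ i * A ^ v') * B ^ w * y ^ i' * B ^ w' := by rw [h2]; group
      _ = A ^ v * (A ^ v' * B ^ (i * v') * y ^ i) * B ^ w * y ^ i' * B ^ w' := by rw [h1]
      _ = A ^ v * A ^ v' * B ^ (i * v') * y ^ i * (B ^ w * y ^ i') * B ^ w' := by group
      _ = A ^ v * A ^ v' * B ^ (i * v') * y ^ i * (y ^ i' * B ^ w) * B ^ w' := by rw [h3]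
      _ = A ^ v * A ^ v' * (B ^ (i * v') * (y ^ i * y ^ i')) * B ^ w * B ^ w' := by group
      _ = A ^ v * A ^ v' * (B ^ (i * v') * y ^ (i + i')) * B ^ w * B ^ w' := by rw [pow_add y]
      _ = A ^ v * A ^ v' * (y ^ (i + i') * B ^ (i * v')) * B ^ w * B ^ w' := by
          rw [((hcy.pow_pow (i + i') (i * v')).eq).symm]
      _ = A ^ (v + v') * y ^ (i + i') * B ^ (w + w' + i * v') := by
          have e : w + w' + i * v' = i * v' + (w + w') := by ring
          rw [e, pow_add A, pow_add B, pow_add B]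
          group

theorem exists_inv_pow {x : V} (hx : IsOfFinOrder x) (w : ℕ) : ∃ k : ℕ, (x ^ w)⁻¹ = x ^ k := by
  obtain ⟨n, hn, hxn⟩ := isOfFinOrder_iff_pow_eq_one.1 hx
  refine ⟨w * (n - 1), ?_⟩
  apply inv_eq_of_mul_eq_one_right
  have e : w + w * (n - 1) = w * n := by
    obtain ⟨q, rfl⟩ : ∃ q, n = q + 1 := ⟨n - 1, by omega⟩
    simp [Nat.mul_succ, add_comm]
  rw [← pow_add, e, mul_comm, pow_mul, hxn, one_pow]

/-- The subgroup with normal form `A^v y^i B^w`. -/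
def heisSub (hBy : y * B = B * y) (hBA : A * B = B * A) (hyA : y * A * y⁻¹ = A * B) (hy : IsOfFinOrder y) (hA : IsOfFinOrder A)
    (hB : IsOfFinOrder B) : Subgroup V where
  toSubmonoid := heisMon hBy hBA hyA
  inv_mem' := by
    rintro _ ⟨v, i, w, rfl⟩
    obtain ⟨k₁, h₁⟩ := exists_inv_pow hA v
    obtain ⟨k₂, h₂⟩ := exists_inv_pow hy i
    obtain ⟨k₃, h₃⟩ := exists_inv_pow hB w
    have e : (A ^ v * y ^ i * B ^ w)⁻¹ = B ^ k₃ * y ^ k₂ * A ^ k₁ := by
      rw [← h₁, ← h₂, ← h₃]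
      group
    rw [e]
    have m₁ : B ^ k₃ ∈ heisMon hBy hBA hyA := ⟨0, 0, k₃, by simp⟩
    have m₂ : y ^ k₂ ∈ heisMon hBy hBA hyA := ⟨0, k₂, 0, by simp⟩
    have m₃ : A ^ k₁ ∈ heisMon hBy hBA hyA := ⟨k₁, 0, 0, by simp⟩
    exact (heisMon hBy hBA hyA).mul_mem ((heisMon hBy hBA hyA).mul_mem m₁ m₂) m₃

theorem mem_heisSub {hBy : y * B = B * y} {hBA : A * B = B * A} {hyA : y * A * y⁻¹ = A * B} {hy : IsOfFinOrder y}
    {hA : IsOfFinOrder A} {hB : IsOfFinOrder B} {z : V} :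
    z ∈ heisSub hBy hBA hyA hy hA hB ↔ ∃ v i w : ℕ, z = A ^ v * y ^ i * B ^ w := Iff.rfl

end Heis

section Split0

variable {V : Type*} [Group V] {p : ℕ} [hp : Fact p.Prime]

theorem card_mul_le_of_lt' {A B : Subgroup V} (hAB : A < B) [Finite B] (hB : IsPGroup p B) :
    p * Nat.card A ≤ Nat.card B := by
  have hpp : p.Prime := Fact.out
  obtain ⟨m, hm⟩ := Subgroup.card_dvd_of_le hAB.le
  obtain ⟨n, hn⟩ := IsPGroup.iff_card.1 hB
  have h1 : m ∣ p ^ n := ⟨Nat.card A, by rw [← hn, hm, mul_comm]⟩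
  obtain ⟨l, hl, rfl⟩ := (Nat.dvd_prime_pow hpp).1 h1
  have hl0 : l ≠ 0 := by
    rintro rfl
    rw [pow_zero, mul_one] at hm
    exact hAB.ne (Subgroup.eq_of_le_of_card_ge hAB.le hm.le)
  rw [hm, mul_comm]
  exact Nat.mul_le_mul_left _ (by
    calc p = p ^ 1 := (pow_one p).symm
      _ ≤ p ^ l := Nat.pow_le_pow_right hpp.pos (Nat.pos_of_ne_zero hl0))

end Split0

section Split

variable {V : Type*} [Group V] [Finite V] {p : ℕ} [hp : Fact p.Prime] {y A B : V}

/-- The order of the Heisenberg subgroup. -/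
theorem card_heisSub (hV : IsPGroup p V) (hBy : y * B = B * y) (hBA : A * B = B * A) (hyA : y * A * y⁻¹ = A * B)
    (hAp : A ^ p = 1) (hBp : B ^ p = 1) (hB1 : B ≠ 1) (hAB : A ∉ Subgroup.zpowers B) {m : ℕ} (hym : y ^ p = B ^ m)
    {E : Subgroup V} (hAE : A ∈ E) (hBE : B ∈ E) (hyE : y ∉ E) :
    Nat.card (heisSub hBy hBA hyA (isOfFinOrder_of_finite y) (isOfFinOrder_of_finite A) (isOfFinOrder_of_finite B)) = p ^ 3 := by
  have hpp := hp.out
  obtain ⟨hy, hA, hB⟩ : IsOfFinOrder y ∧ IsOfFinOrder A ∧ IsOfFinOrder B :=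
    ⟨isOfFinOrder_of_finite y, isOfFinOrder_of_finite A, isOfFinOrder_of_finite B⟩
  set H := heisSub hBy hBA hyA hy hA hB with hH
  have hordB : orderOf B = p := orderOf_eq_prime hBp hB1
  have hcB : Nat.card (Subgroup.zpowers B) = p := by rw [Nat.card_zpowers, hordB]
  -- upper bound
  have hupper : Nat.card H ≤ p ^ 3 := by
    haveI : NeZero p := ⟨hpp.ne_zero⟩
    let f : Fin p × Fin p × Fin p → H := fun t => ⟨A ^ (t.1 : ℕ) * y ^ (t.2.1 : ℕ) * B ^ (t.2.2 : ℕ), _, _, _, rfl⟩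
    have hf : Function.Surjective f := by
      rintro ⟨_, v, i, w, rfl⟩
      refine ⟨(⟨v % p, Nat.mod_lt _ hpp.pos⟩, ⟨i % p, Nat.mod_lt _ hpp.pos⟩, ⟨(m * (i / p) + w) % p, Nat.mod_lt _ hpp.pos⟩), ?_⟩
      apply Subtype.ext
      show A ^ (v % p) * y ^ (i % p) * B ^ ((m * (i / p) + w) % p) = A ^ v * y ^ i * B ^ w
      have h1 : A ^ (v % p) = A ^ v := (pow_eq_pow_mod v hAp).symm
      have h2 : B ^ ((m * (i / p) + w) % p) = B ^ (m * (i / p)) * B ^ w := by
        rw [← pow_eq_pow_mod _ hBp, pow_add]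
      have h3 : y ^ i = y ^ (i % p) * (y ^ p) ^ (i / p) := by
        rw [← pow_mul, ← pow_add, Nat.mod_add_div]
      rw [h1, h2, h3, hym, ← pow_mul]
      group
    have h4 := Nat.card_le_card_of_surjective f hf
    simpa [Nat.card_prod, pow_succ, mul_assoc] using h4
  -- lower bound
  have hLmem : ∀ z ∈ Subgroup.zpowers B ⊔ Subgroup.zpowers A, z ∈ H := by
    refine fun z hz => (sup_le ?_ ?_ : Subgroup.zpowers B ⊔ Subgroup.zpowers A ≤ H) hz
    · rw [Subgroup.zpowers_le]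
      exact ⟨0, 0, 1, by simp⟩
    · rw [Subgroup.zpowers_le]
      exact ⟨1, 0, 0, by simp⟩
  have hLE : Subgroup.zpowers B ⊔ Subgroup.zpowers A ≤ E :=
    sup_le ((Subgroup.zpowers_le (H := E)).2 hBE) ((Subgroup.zpowers_le (H := E)).2 hAE)
  have hlt1 : Subgroup.zpowers B < Subgroup.zpowers B ⊔ Subgroup.zpowers A := by
    refine lt_of_le_of_ne le_sup_left (fun h => hAB ?_)
    rw [h]
    exact Subgroup.mem_sup_right (Subgroup.mem_zpowers A)
  have hlt2 : Subgroup.zpowers B ⊔ Subgroup.zpowers A < H := by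
    refine lt_of_le_of_ne hLmem (fun h => hyE (hLE ?_))
    rw [h]
    exact ⟨0, 1, 0, by simp⟩
  have hc1 := card_mul_le_of_lt' hlt1 (hV.to_subgroup _)
  have hc2 := card_mul_le_of_lt' hlt2 (hV.to_subgroup _)
  rw [hcB] at hc1
  have hlower : p ^ 3 ≤ Nat.card H := by
    calc p ^ 3 = p * (p * p) := by ring
      _ ≤ p * Nat.card (Subgroup.zpowers B ⊔ Subgroup.zpowers A : Subgroup V) := Nat.mul_le_mul_left _ hc1
      _ ≤ Nat.card H := hc2
  exact le_antisymm hupper hlower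

/-- A subgroup with a central complement splits off. -/
theorem exists_split {H C : Subgroup V} (hC : ∀ c ∈ C, ∀ u : V, c * u = u * c) (hmeet : ∀ z ∈ H, z ∈ C → z = 1)
    (hgen : ∀ u : V, ∃ h ∈ H, ∃ c ∈ C, u = h * c) : Nonempty (V ≃* H × C) := by
  let f : H × C →* V := MonoidHom.mk' (fun t => (t.1 : V) * (t.2 : V)) (by
    rintro ⟨h₁, c₁⟩ ⟨h₂, c₂⟩
    simp only [Prod.mk_mul_mk, Subgroup.coe_mul]
    have := hC c₁ c₁.2 h₂
    calc (h₁ : V) * h₂ * (c₁ * c₂) = h₁ * (h₂ * c₁) * c₂ := by group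
      _ = h₁ * (c₁ * h₂) * c₂ := by rw [this]
      _ = h₁ * c₁ * (h₂ * c₂) := by group)
  have hinj : Function.Injective f := by
    rw [injective_iff_map_eq_one]
    rintro ⟨h, c⟩ hf
    have h1 : (h : V) * c = 1 := hf
    have h2 : (h : V) = (c : V)⁻¹ := eq_inv_of_mul_eq_one_left h1
    have h3 : (h : V) = 1 := hmeet h h.2 (by rw [h2]; exact C.inv_mem c.2)
    have h4 : (c : V) = 1 := by
      rw [h3, one_mul] at h1
      exact h1
    exact Prod.ext (Subtype.ext h3) (Subtype.ext h4)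
  have hsurj : Function.Surjective f := by
    intro u
    obtain ⟨h, hh, c, hc, rfl⟩ := hgen u
    exact ⟨(⟨h, hh⟩, ⟨c, hc⟩), rfl⟩
  exact ⟨(MulEquiv.ofBijective f ⟨hinj, hsurj⟩).symm⟩

/-- The Heisenberg group has exponent `p` for odd `p`. -/
theorem heis_exp (hodd : p ≠ 2) (hBy : y * B = B * y) (hBA : A * B = B * A) (hyA : y * A * y⁻¹ = A * B) (hAp : A ^ p = 1)
    (hBp : B ^ p = 1) (hyp : y ^ p = 1) (v i w : ℕ) : (A ^ v * y ^ i * B ^ w) ^ p = 1 := by
  have hcy : Commute y B := hBy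
  have hcA : Commute A B := hBA
  have h1 := heis_conj hBy hBA hyA i v
  have e : A ^ v * y ^ i * B ^ w = (y ^ i * A ^ v) * ((B ^ (i * v))⁻¹ * B ^ w) := by
    rw [h1]
    have h2 : B ^ (i * v) * y ^ i = y ^ i * B ^ (i * v) := ((hcy.pow_pow i (i * v)).eq).symm
    have h3 : B ^ (i * v) * A ^ v = A ^ v * B ^ (i * v) := ((hcA.pow_pow v (i * v)).eq).symm
    calc A ^ v * y ^ i * B ^ w = A ^ v * (B ^ (i * v) * y ^ i) * ((B ^ (i * v))⁻¹ * B ^ w) := by
          rw [h2]
          group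
      _ = (A ^ v * B ^ (i * v) * y ^ i) * ((B ^ (i * v))⁻¹ * B ^ w) := by group
  have hcomm : Commute (y ^ i * A ^ v) ((B ^ (i * v))⁻¹ * B ^ w) := by
    have h4 : Commute (y ^ i * A ^ v) (B ^ (i * v)) :=
      (hcy.pow_pow i _).mul_left (hcA.pow_pow v _)
    have h5 : Commute (y ^ i * A ^ v) (B ^ w) :=
      (hcy.pow_pow i _).mul_left (hcA.pow_pow v _)
    exact (h4.inv_right).mul_right h5
  rw [e, hcomm.mul_pow]
  have h6 : (y ^ i * A ^ v) ^ p = 1 := by
    have h7 : y ^ i * A ^ v * (y ^ i)⁻¹ = A ^ v * B ^ (i * v) := by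
      rw [h1]
      group
    rw [class2_pow_p hodd (hcy.pow_pow i _).eq (hcA.pow_pow v _).eq h7 (by
      rw [← pow_mul, mul_comm, pow_mul, hBp, one_pow])]
    rw [← pow_mul, mul_comm i, pow_mul, hyp, one_pow, ← pow_mul, mul_comm v, pow_mul, hAp, one_pow, one_mul]
  have h8 : ((B ^ (i * v))⁻¹ * B ^ w) ^ p = 1 := by
    have h9 : Commute (B ^ (i * v))⁻¹ (B ^ w) := ((Commute.refl B).pow_pow _ _).inv_left
    rw [h9.mul_pow, inv_pow, ← pow_mul, mul_comm (i * v), pow_mul, hBp, one_pow, inv_one, one_mul,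
      ← pow_mul, mul_comm w, pow_mul, hBp, one_pow]
  rw [h6, h8, one_mul]

/-- The Heisenberg group is dihedral of order `8` for `p = 2`. -/
theorem heis_d8 [Fact (Nat.Prime 2)] (hBy : y * B = B * y) (hBA : A * B = B * A) (hyA : y * A * y⁻¹ = A * B) (hAp : A ^ 2 = 1)
    (hBp : B ^ 2 = 1) (hB1 : B ≠ 1) (hAB : A ∉ Subgroup.zpowers B) {m : ℕ} (hym : y ^ 2 = B ^ m)
    {E : Subgroup V} (hAE : A ∈ E) (hBE : B ∈ E) (hyE : y ∉ E) {hy : IsOfFinOrder y} {hA : IsOfFinOrder A} {hB : IsOfFinOrder B}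
    (hcard : Nat.card (heisSub hBy hBA hyA hy hA hB) = 2 ^ 3) :
    Nonempty (heisSub hBy hBA hyA hy hA hB ≃* DihedralGroup 4) := by
  set H := heisSub hBy hBA hyA hy hA hB with hH
  have hyH : y ∈ H := ⟨0, 1, 0, by simp⟩
  have hAH : A ∈ H := ⟨1, 0, 0, by simp⟩
  have hAinv : A⁻¹ = A := inv_eq_of_mul_eq_one_left (by rw [← sq, hAp])
  have hBinv : B⁻¹ = B := inv_eq_of_mul_eq_one_left (by rw [← sq, hBp])
  have hcB : Commute B y := Commute.symm hBy
  obtain ⟨r, hrH, hr2, hrA, hrE⟩ : ∃ r ∈ H, r * r = B ∧ A * r * A⁻¹ = r⁻¹ ∧ r ∉ E := by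
    have hm : y * y = 1 ∨ y * y = B := by
      rw [← sq, hym]
      rcases Nat.even_or_odd m with ⟨l, rfl⟩ | ⟨l, rfl⟩
      · left
        rw [← two_mul, pow_mul, hBp, one_pow]
      · right
        rw [pow_succ, pow_mul, hBp, one_pow, one_mul]
    rcases hm with hm | hm
    · refine ⟨y * A, H.mul_mem hyH hAH, ?_, ?_, fun h => hyE ?_⟩
      · have e₁ : y * A * (y * A) = (y * A * y⁻¹) * (y * y) * A := by group
        rw [e₁, hyA, hm, mul_one]
        have e₂ : A * B * A = A * A * B := by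
          rw [mul_assoc, ← hBA, ← mul_assoc]
        rw [e₂, ← sq, hAp, one_mul]
      · have hyinv : y⁻¹ = y := inv_eq_of_mul_eq_one_left hm
        rw [hAinv, mul_inv_rev, hAinv, hyinv]
        have e₁ : A * (y * A) * A = A * y * (A * A) := by group
        rw [e₁, ← sq, hAp, mul_one]
      · have := E.mul_mem h (E.inv_mem hAE)
        simpa using this
    · refine ⟨y, hyH, hm, ?_, hyE⟩
      have hyi : y⁻¹ = y * B := by
        have h4 : y * y * (y * y) = 1 := by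
          rw [hm, ← sq, hBp]
        apply inv_eq_of_mul_eq_one_right
        rw [← hm]
        rw [← h4]
        group
      have h5 : y⁻¹ * A * y = A * B := by
        have h6 : y * (A * B) * y⁻¹ = A := by
          have e₁ : y * (A * B) * y⁻¹ = (y * A * y⁻¹) * (y * B * y⁻¹) := by group
          rw [e₁, hyA, hBy]
          have e₂ : B * y * y⁻¹ = B := by group
          rw [e₂, mul_assoc, ← sq, hBp, mul_one]
        calc y⁻¹ * A * y = y⁻¹ * (y * (A * B) * y⁻¹) * y := by rw [h6]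
          _ = A * B := by group
      rw [hAinv]
      calc A * y * A = y * (y⁻¹ * A * y) * A := by group
        _ = y * (A * B) * A := by rw [h5]
        _ = y * (A * (B * A)) := by group
        _ = y * (A * (A * B)) := by rw [hBA]
        _ = y * (A * A * B) := by group
        _ = y * B := by rw [← sq, hAp, one_mul]
        _ = y⁻¹ := hyi.symm
  let ρ : H := ⟨r, hrH⟩
  let σ : H := ⟨A, hAH⟩
  have hρ4 : orderOf ρ = 4 := by
    have h1 : orderOf r = 2 ^ (1 + 1) := by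
      apply orderOf_eq_prime_pow (p := 2)
      · rw [pow_one, sq, hr2]
        exact hB1
      · rw [show (2 ^ (1 + 1) : ℕ) = 2 * 2 by norm_num, pow_mul, sq r, hr2, hBp]
    have h2 : orderOf ρ = orderOf r := Subgroup.orderOf_mk r hrH
    rw [h2, h1]
    norm_num
  haveI : NeZero 4 := ⟨by norm_num⟩
  refine Cfsg.Agent.Lib.TwoGroups.nonempty_mulEquiv_dihedral_of ρ σ hρ4 ?_ ?_ ?_ ?_
  · apply Subtype.ext
    show A * A = 1
    rw [← sq, hAp]
  · apply Subtype.ext
    exact hrA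
  · intro hmem
    obtain ⟨k, hk⟩ := (isOfFinOrder_of_finite ρ).mem_powers_iff_mem_zpowers.2 hmem
    have hk' : r ^ k = A := congrArg Subtype.val hk
    rcases Nat.even_or_odd k with ⟨l, rfl⟩ | ⟨l, rfl⟩
    · apply hAB
      rw [← hk', ← two_mul, pow_mul, sq, hr2]
      exact Subgroup.pow_mem _ (Subgroup.mem_zpowers B) l
    · apply hrE
      have h1 : r ^ (2 * l + 1) = B ^ l * r := by
        rw [pow_succ, pow_mul, sq, hr2]
      rw [h1] at hk'
      have h2 : r = (B ^ l)⁻¹ * A := by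
        rw [← hk']
        group
      rw [h2]
      exact E.mul_mem (E.inv_mem (E.pow_mem hBE l)) hAE
  · rw [hcard]
    norm_num

end Split

section Final

universe u

variable {V : Type u} [Group V] [Finite V] {p : ℕ} [hp : Fact p.Prime] {y A B : V}

/-- The final contradiction. -/
theorem ges_final (hV : IsPGroup p V) (hBy : y * B = B * y) (hBA : A * B = B * A) (hyA : y * A * y⁻¹ = A * B)
    (hAp : A ^ p = 1) (hBp : B ^ p = 1) (hB1 : B ≠ 1) (hAB : A ∉ Subgroup.zpowers B) {m : ℕ} (hym : y ^ p = B ^ m)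
    {E : Subgroup V} (hAE : A ∈ E) (hBE : B ∈ E) (hyE : y ∉ E) {C : Subgroup V} (hC : ∀ c ∈ C, ∀ u : V, c * u = u * c)
    (hCexp : ∀ c ∈ C, c ^ p = 1)
    (hmeet : ∀ z ∈ heisSub hBy hBA hyA (isOfFinOrder_of_finite y) (isOfFinOrder_of_finite A) (isOfFinOrder_of_finite B), z ∈ C → z = 1)
    (hgen : ∀ u : V, ∃ h ∈ heisSub hBy hBA hyA (isOfFinOrder_of_finite y) (isOfFinOrder_of_finite A) (isOfFinOrder_of_finite B),
      ∃ c ∈ C, u = h * c)
    (h2 : p = 2 → ¬ ∃ (A : Type) (_ : CommGroup A), (∀ a : A, a ^ 2 = 1) ∧ Nonempty (V ≃* DihedralGroup 4 × A))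
    (hodd : p ≠ 2 → ¬ ∃ (E : Type) (_ : Group E) (A : Type) (_ : CommGroup A), Cfsg.IsExtraspecial p E ∧ Nat.card E = p ^ 3 ∧
      Monoid.exponent E = p ∧ (∀ a : A, a ^ p = 1) ∧ Nonempty (V ≃* E × A))
    (hy1 : p ≠ 2 → y ^ p = 1) : False := by
  have hpp := hp.out
  have hcard := card_heisSub hV hBy hBA hyA hAp hBp hB1 hAB hym hAE hBE hyE
  obtain ⟨e⟩ := exists_split hC hmeet hgen
  letI : CommGroup C := { (inferInstance : Group C) with
    mul_comm := fun a b => Subtype.ext (hC a a.2 b) }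
  obtain ⟨A', _, ⟨e₂⟩⟩ := exists_type_commGroup C
  have hA' : ∀ a : A', a ^ p = 1 := by
    intro a
    have h1 := hCexp _ (e₂.symm a).2
    have h3 : (e₂.symm a) ^ p = 1 := Subtype.ext h1
    have h4 := congrArg e₂ h3
    rwa [map_pow, MulEquiv.apply_symm_apply, map_one] at h4
  by_cases hp2 : p = 2
  · subst hp2
    obtain ⟨e₃⟩ := heis_d8 hBy hBA hyA hAp hBp hB1 hAB hym hAE hBE hyE hcard
    exact h2 rfl ⟨A', inferInstance, hA', ⟨e.trans (MulEquiv.prodCongr e₃ e₂)⟩⟩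
  · obtain ⟨E', _, ⟨e₃⟩⟩ := exists_type_group
      (heisSub hBy hBA hyA (isOfFinOrder_of_finite y) (isOfFinOrder_of_finite A) (isOfFinOrder_of_finite B))
    have hcE : Nat.card E' = p ^ 3 := by
      rw [← Nat.card_congr e₃.toEquiv]
      exact hcard
    haveI : Finite E' := Nat.finite_of_card_ne_zero (by
      rw [hcE]
      exact (pow_pos hpp.pos 3).ne')
    have hnc : ¬ ∀ x y : E', x * y = y * x := by
      intro hc
      apply hB1
      let y' : heisSub hBy hBA hyA (isOfFinOrder_of_finite y) (isOfFinOrder_of_finite A) (isOfFinOrder_of_finite B) := ⟨y, 0, 1, 0, by simp⟩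
      let A' : heisSub hBy hBA hyA (isOfFinOrder_of_finite y) (isOfFinOrder_of_finite A) (isOfFinOrder_of_finite B) := ⟨A, 1, 0, 0, by simp⟩
      have h3 : y' * A' = A' * y' := by
        apply e₃.injective
        rw [map_mul, map_mul, hc]
      have h4 : y * A = A * y := congrArg Subtype.val h3
      have h5 : A * B = A := by
        rw [← hyA, h4]
        group
      exact mul_left_cancel (h5.trans (mul_one A).symm)
    have hext := isExtraspecial_of_card_p3 (p := p) hcE hnc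
    have hexp : Monoid.exponent E' = p := by
      haveI : Nontrivial E' := by
        rw [← Finite.one_lt_card_iff_nontrivial, hcE]
        exact Nat.one_lt_pow (by norm_num) hpp.one_lt
      rw [Monoid.exponent_eq_prime_iff hpp]
      intro g hg
      refine orderOf_eq_prime ?_ hg
      obtain ⟨⟨_, v, i, w, rfl⟩, rfl⟩ := e₃.surjective g
      rw [← map_pow]
      have h3 := heis_exp hp2 hBy hBA hyA hAp hBp (hy1 hp2) v i w
      have h4 : (⟨_, v, i, w, rfl⟩ : heisSub hBy hBA hyA (isOfFinOrder_of_finite y) (isOfFinOrder_of_finite A) (isOfFinOrder_of_finite B)) ^ p = 1 :=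
        Subtype.ext h3
      rw [h4, map_one]
    exact hodd hp2 ⟨E', inferInstance, A', inferInstance, hext, hcE, hexp, hA', ⟨e.trans (MulEquiv.prodCongr e₃ e₂)⟩⟩

end Final

end Cfsg.Agent.Lib.Fusion2
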