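/-
Finite `Γ`-sets and their fixed point counts: equal marks give an equivariant bijection, equal marks above
a normal subgroup give a congruence, and products over the cycles of a permutation.
-/
import Mathlib

set_option autoImplicit false

namespace Cfsg.Agent.Lib.Fusion2

section Burnside

variable {Γ Y Y' : Type*} [Group Γ] [MulAction Γ Y] [MulAction Γ Y']

/-- The points of `s` fixed by `L`. -/
def fixIn (L : Subgroup Γ) (s : Set Y) : Set Y := {y | y ∈ s ∧ ∀ g ∈ L, g • y = y}

theorem fixIn_bot (s : Set Y) : fixIn (⊥ : Subgroup Γ) s = s := by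
  ext y
  simp [fixIn]

theorem smul_mem_orbit_iff {y x : Y} (g : Γ) : g • x ∈ MulAction.orbit Γ y ↔ x ∈ MulAction.orbit Γ y := by
  constructor
  · rintro ⟨a, ha⟩
    refine ⟨g⁻¹ * a, ?_⟩
    show (g⁻¹ * a) • y = x
    rw [mul_smul]
    have : a • y = g • x := ha
    rw [this, inv_smul_smul]
  · rintro ⟨a, rfl⟩
    exact ⟨g * a, mul_smul _ _ _⟩

/-- The equivariant map between two orbits with the same stabilizer. -/
theorem exists_orbit_map [Nonempty Y'] {y : Y} {z : Y'} (hst : MulAction.stabilizer Γ y = MulAction.stabilizer Γ z) :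
    ∃ e : Y → Y', Set.BijOn e (MulAction.orbit Γ y) (MulAction.orbit Γ z) ∧
      ∀ g : Γ, ∀ x ∈ MulAction.orbit Γ y, e (g • x) = g • e x := by
  classical
  let c : Y → Γ := fun x => if h : ∃ a : Γ, a • y = x then h.choose else 1
  have hc : ∀ a : Γ, c (a • y) • y = a • y := by
    intro a
    have h : ∃ b : Γ, b • y = a • y := ⟨a, rfl⟩
    show (if h : ∃ b : Γ, b • y = a • y then h.choose else 1) • y = a • y
    rw [dif_pos h]
    exact h.choose_spec
  have key : ∀ a b : Γ, a • y = b • y ↔ a • z = b • z := by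
    intro a b
    have h1 : a • y = b • y ↔ b⁻¹ * a ∈ MulAction.stabilizer Γ y := by
      rw [MulAction.mem_stabilizer_iff, mul_smul, inv_smul_eq_iff]
    have h2 : a • z = b • z ↔ b⁻¹ * a ∈ MulAction.stabilizer Γ z := by
      rw [MulAction.mem_stabilizer_iff, mul_smul, inv_smul_eq_iff]
    rw [h1, h2, hst]
  let e : Y → Y' := fun x => c x • z
  have he : ∀ a : Γ, e (a • y) = a • z := fun a => (key _ _).1 (hc a)
  refine ⟨e, ⟨?_, ?_, ?_⟩, ?_⟩
  · rintro _ ⟨a, rfl⟩
    show e (a • y) ∈ _
    rw [he]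
    exact ⟨a, rfl⟩
  · rintro _ ⟨a, rfl⟩ _ ⟨b, rfl⟩ hab
    have h1 : e (a • y) = e (b • y) := hab
    rw [he, he] at h1
    exact (key _ _).2 h1
  · rintro _ ⟨a, rfl⟩
    exact ⟨a • y, ⟨a, rfl⟩, he a⟩
  · rintro g _ ⟨a, rfl⟩
    have h1 : g • ((fun m : Γ => m • y) a) = (g * a) • y := (mul_smul _ _ _).symm
    show e (g • (a • y)) = g • e (a • y)
    have h2 : g • a • y = (g * a) • y := (mul_smul _ _ _).symm
    rw [h2, he, he, mul_smul]

variable [Finite Γ]

/-- A point with a stabilizer of largest order. -/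
theorem exists_max_stab [Finite Y] {s : Set Y} (hs : s.Nonempty) :
    ∃ y ∈ s, ∀ z ∈ s, Nat.card (MulAction.stabilizer Γ z) ≤ Nat.card (MulAction.stabilizer Γ y) :=
  Set.exists_max_image s (fun z => Nat.card (MulAction.stabilizer Γ z)) (Set.toFinite s) hs

variable [Finite Y] [Finite Y']

/-- Equal marks on invariant sets: an equivariant bijection. -/
theorem exists_bijOn_of_marks [Nonempty Y'] : ∀ (n : ℕ) (s : Set Y) (s' : Set Y'), s.ncard = n →
    (∀ g : Γ, ∀ y ∈ s, g • y ∈ s) → (∀ g : Γ, ∀ y ∈ s', g • y ∈ s') →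
    (∀ L : Subgroup Γ, (fixIn L s).ncard = (fixIn L s').ncard) →
    ∃ e : Y → Y', Set.BijOn e s s' ∧ ∀ g : Γ, ∀ y ∈ s, e (g • y) = g • e y := by
  intro n
  induction n using Nat.strong_induction_on with
  | _ n ih =>
  intro s s' hn hs hs' hm
  have hcard : s.ncard = s'.ncard := by
    have := hm ⊥
    rwa [fixIn_bot, fixIn_bot] at this
  rcases s.eq_empty_or_nonempty with rfl | hne
  · have h0 : s' = ∅ := by
      rw [Set.ncard_empty] at hcard
      exact (Set.ncard_eq_zero (Set.toFinite s')).1 hcard.symm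
    subst h0
    refine ⟨fun _ => Classical.arbitrary Y', Set.bijOn_empty _, fun g y hy => hy.elim⟩
  have hne' : s'.Nonempty := by
    rw [← Set.ncard_pos (Set.toFinite s'), ← hcard, Set.ncard_pos (Set.toFinite s)]
    exact hne
  obtain ⟨y, hy, hymax⟩ := exists_max_stab (Γ := Γ) hne
  obtain ⟨y', hy', hy'max⟩ := exists_max_stab (Γ := Γ) hne'
  -- a point of `s'` with the stabilizer of `y`
  have hfix : ∃ z ∈ s', MulAction.stabilizer Γ y ≤ MulAction.stabilizer Γ z := by
    have h1 : (fixIn (MulAction.stabilizer Γ y) s).Nonempty := ⟨y, hy, fun g hg => hg⟩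
    rw [← Set.ncard_pos (Set.toFinite _), hm, Set.ncard_pos (Set.toFinite _)] at h1
    obtain ⟨z, hz, hzf⟩ := h1
    exact ⟨z, hz, hzf⟩
  have hfix' : ∃ w ∈ s, MulAction.stabilizer Γ y' ≤ MulAction.stabilizer Γ w := by
    have h1 : (fixIn (MulAction.stabilizer Γ y') s').Nonempty := ⟨y', hy', fun g hg => hg⟩
    rw [← Set.ncard_pos (Set.toFinite _), ← hm, Set.ncard_pos (Set.toFinite _)] at h1
    obtain ⟨z, hz, hzf⟩ := h1
    exact ⟨z, hz, hzf⟩
  obtain ⟨z, hz, hzst⟩ := hfix
  obtain ⟨w, hw, hwst⟩ := hfix'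
  have h1 : Nat.card (MulAction.stabilizer Γ y') ≤ Nat.card (MulAction.stabilizer Γ y) :=
    (Subgroup.card_le_of_le hwst).trans (hymax w hw)
  have h2 : Nat.card (MulAction.stabilizer Γ z) ≤ Nat.card (MulAction.stabilizer Γ y) :=
    (hy'max z hz).trans h1
  have hst : MulAction.stabilizer Γ y = MulAction.stabilizer Γ z :=
    Subgroup.eq_of_le_of_card_ge hzst h2
  obtain ⟨e₁, he₁, he₁g⟩ := exists_orbit_map hst
  -- the orbits
  set O := MulAction.orbit Γ y with hO
  set O' := MulAction.orbit Γ z with hO'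
  have hOs : O ⊆ s := by
    rintro _ ⟨a, rfl⟩
    exact hs a y hy
  have hOs' : O' ⊆ s' := by
    rintro _ ⟨a, rfl⟩
    exact hs' a z hz
  have hyO : y ∈ O := MulAction.mem_orbit_self y
  have hlt : (s \ O).ncard < n := by
    rw [← hn]
    apply Set.ncard_lt_ncard _ (Set.toFinite s)
    refine ⟨Set.diff_subset, fun h => (h hy).2 hyO⟩
  have hinv : ∀ g : Γ, ∀ x ∈ s \ O, g • x ∈ s \ O := by
    intro g x hx
    exact ⟨hs g x hx.1, fun h => hx.2 ((smul_mem_orbit_iff g).1 h)⟩
  have hinv' : ∀ g : Γ, ∀ x ∈ s' \ O', g • x ∈ s' \ O' := by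
    intro g x hx
    exact ⟨hs' g x hx.1, fun h => hx.2 ((smul_mem_orbit_iff g).1 h)⟩
  have hfixO : ∀ L : Subgroup Γ, (fixIn L O).ncard = (fixIn L O').ncard := by
    intro L
    have hB : Set.BijOn e₁ (fixIn L O) (fixIn L O') := by
      refine ⟨?_, he₁.injOn.mono (fun x hx => hx.1), ?_⟩
      · rintro x ⟨hx, hxf⟩
        refine ⟨he₁.mapsTo hx, fun g hg => ?_⟩
        rw [← he₁g g x hx, hxf g hg]
      · rintro x ⟨hx, hxf⟩
        obtain ⟨v, hv, rfl⟩ := he₁.surjOn hx
        refine ⟨v, ⟨hv, fun g hg => ?_⟩, rfl⟩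
        have h3 : e₁ (g • v) = e₁ v := by rw [he₁g g v hv, hxf g hg]
        exact he₁.injOn ((smul_mem_orbit_iff g).2 hv) hv h3
    exact hB.ncard_eq
  have hmarks : ∀ L : Subgroup Γ, (fixIn L (s \ O)).ncard = (fixIn L (s' \ O')).ncard := by
    intro L
    have e1 : fixIn L (s \ O) = fixIn L s \ fixIn L O := by
      ext x
      constructor
      · rintro ⟨⟨h1, h2⟩, h3⟩
        exact ⟨⟨h1, h3⟩, fun h => h2 h.1⟩
      · rintro ⟨⟨h1, h3⟩, h2⟩
        exact ⟨⟨h1, fun h => h2 ⟨h, h3⟩⟩, h3⟩
    have e2 : fixIn L (s' \ O') = fixIn L s' \ fixIn L O' := by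
      ext x
      constructor
      · rintro ⟨⟨h1, h2⟩, h3⟩
        exact ⟨⟨h1, h3⟩, fun h => h2 h.1⟩
      · rintro ⟨⟨h1, h3⟩, h2⟩
        exact ⟨⟨h1, fun h => h2 ⟨h, h3⟩⟩, h3⟩
    have d1 : fixIn L O ⊆ fixIn L s := fun x hx => ⟨hOs hx.1, hx.2⟩
    have d2 : fixIn L O' ⊆ fixIn L s' := fun x hx => ⟨hOs' hx.1, hx.2⟩
    rw [e1, e2, Set.ncard_diff d1 (Set.toFinite _), Set.ncard_diff d2 (Set.toFinite _), hm, hfixO]
  obtain ⟨e₂, he₂, he₂g⟩ := ih _ hlt (s \ O) (s' \ O') rfl hinv hinv' hmarks
  classical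
  refine ⟨fun x => if x ∈ O then e₁ x else e₂ x, ⟨?_, ?_, ?_⟩, ?_⟩
  · intro x hx
    by_cases hxO : x ∈ O
    · simp only [if_pos hxO]
      exact hOs' (he₁.mapsTo hxO)
    · simp only [if_neg hxO]
      exact (he₂.mapsTo ⟨hx, hxO⟩).1
  · intro a ha b hb hab
    by_cases haO : a ∈ O <;> by_cases hbO : b ∈ O
    · simp only [if_pos haO, if_pos hbO] at hab
      exact he₁.injOn haO hbO hab
    · simp only [if_pos haO, if_neg hbO] at hab
      exact absurd (he₁.mapsTo haO) (hab ▸ (he₂.mapsTo ⟨hb, hbO⟩).2)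
    · simp only [if_neg haO, if_pos hbO] at hab
      exact absurd (he₁.mapsTo hbO) (hab.symm ▸ (he₂.mapsTo ⟨ha, haO⟩).2)
    · simp only [if_neg haO, if_neg hbO] at hab
      exact he₂.injOn ⟨ha, haO⟩ ⟨hb, hbO⟩ hab
  · intro v hv
    by_cases hvO : v ∈ O'
    · obtain ⟨x, hx, rfl⟩ := he₁.surjOn hvO
      exact ⟨x, hOs hx, by simp only [if_pos hx]⟩
    · obtain ⟨x, hx, rfl⟩ := he₂.surjOn (⟨hv, hvO⟩ : v ∈ s' \ O')
      exact ⟨x, hx.1, by simp only [if_neg hx.2]⟩
  · intro g x hx
    by_cases hxO : x ∈ O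
    · have h3 : g • x ∈ O := (smul_mem_orbit_iff g).2 hxO
      simp only [if_pos hxO, if_pos h3]
      exact he₁g g x hxO
    · have h3 : g • x ∉ O := fun h => hxO ((smul_mem_orbit_iff g).1 h)
      simp only [if_neg hxO, if_neg h3]
      exact he₂g g x ⟨hx, hxO⟩

omit [Finite Γ] [Finite Y] in
theorem ncard_fixIn_univ {Z : Type*} [MulAction Γ Z] (L : Subgroup Γ) : (fixIn L (Set.univ : Set Z)).ncard =
    Nat.card {y : Z // ∀ g ∈ L, g • y = y} := by
  have : fixIn L (Set.univ : Set Z) = {y : Z | ∀ g ∈ L, g • y = y} := by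
    ext y
    simp [fixIn]
  rw [this]
  rfl

/-- **Burnside's theorem on marks**: finite `Γ`-sets with the same fixed point counts are isomorphic. -/
theorem exists_equiv_of_marks
    (h : ∀ L : Subgroup Γ, Nat.card {y : Y // ∀ g ∈ L, g • y = y} = Nat.card {y : Y' // ∀ g ∈ L, g • y = y}) :
    ∃ e : Y ≃ Y', ∀ (g : Γ) (y : Y), e (g • y) = g • e y := by
  by_cases hY' : Nonempty Y'
  · obtain ⟨e, he, heg⟩ := exists_bijOn_of_marks (Γ := Γ) _ (Set.univ : Set Y) (Set.univ : Set Y') rfl
      (fun _ _ _ => trivial) (fun _ _ _ => trivial) (fun L => by rw [ncard_fixIn_univ, ncard_fixIn_univ, h])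
    refine ⟨Equiv.ofBijective e ⟨?_, ?_⟩, fun g y => heg g y trivial⟩
    · exact fun a b hab => he.injOn trivial trivial hab
    · intro b
      obtain ⟨a, -, ha⟩ := he.surjOn (Set.mem_univ b)
      exact ⟨a, ha⟩
  · have h0 : IsEmpty Y' := not_nonempty_iff.1 hY'
    have h1 := h ⊥
    have h2 : Nat.card {y : Y' // ∀ g ∈ (⊥ : Subgroup Γ), g • y = y} = 0 := Nat.card_of_isEmpty
    rw [h2] at h1
    have h3 : IsEmpty {y : Y // ∀ g ∈ (⊥ : Subgroup Γ), g • y = y} := (Nat.card_eq_zero.1 h1).resolve_right (by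
      simp only [not_infinite_iff_finite]
      infer_instance)
    have h4 : IsEmpty Y := ⟨fun y => h3.false ⟨y, fun g hg => by
      rw [Subgroup.mem_bot.1 hg, one_smul]⟩⟩
    exact ⟨Equiv.equivOfIsEmpty Y Y', fun g y => (h4.false y).elim⟩

end Burnside

section Congruence

variable {N Y Y₀ : Type*} [Group N] [Finite N] [MulAction N Y] [MulAction N Y₀]

/-- The number of points with exact stabilizer `L`. -/
noncomputable def typeCount (Y : Type*) [MulAction N Y] (L : Subgroup N) : ℕ :=
  Nat.card {y : Y // MulAction.stabilizer N y = L}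

open scoped Classical in
theorem mark_eq_sum [Finite Y] [Fintype (Subgroup N)] (L : Subgroup N) :
    Nat.card {y : Y // ∀ g ∈ L, g • y = y} = ∑ L' ∈ Finset.univ.filter (fun L' : Subgroup N => L ≤ L'), typeCount Y L' := by
  classical
  letI := Fintype.ofFinite Y
  rw [Nat.card_eq_fintype_card, Fintype.card_subtype]
  rw [Finset.card_eq_sum_card_fiberwise (f := fun y : Y => MulAction.stabilizer N y)
    (t := Finset.univ.filter (fun L' : Subgroup N => L ≤ L'))]
  · refine Finset.sum_congr rfl (fun L' hL' => ?_)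
    have hLL' : L ≤ L' := (Finset.mem_filter.1 hL').2
    rw [typeCount, Nat.card_eq_fintype_card, Fintype.card_subtype]
    congr 1
    ext y
    simp only [Finset.mem_filter, Finset.mem_univ, true_and]
    constructor
    · exact fun h => h.2
    · intro h
      refine ⟨fun g hg => ?_, h⟩
      have : g ∈ MulAction.stabilizer N y := by rw [h]; exact hLL' hg
      exact this
  · intro y hy
    have hy' : ∀ g ∈ L, g • y = y := (Finset.mem_filter.1 hy).2
    exact Finset.mem_coe.2 (Finset.mem_filter.2 ⟨Finset.mem_univ _, fun g hg => hy' g hg⟩)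

open scoped Classical in
theorem mark_eq_add_sum [Finite Y] [Fintype (Subgroup N)] (L : Subgroup N) :
    Nat.card {y : Y // ∀ g ∈ L, g • y = y} =
      typeCount Y L + ∑ L' ∈ Finset.univ.filter (fun L' : Subgroup N => L < L'), typeCount Y L' := by
  classical
  rw [mark_eq_sum]
  have : Finset.univ.filter (fun L' : Subgroup N => L ≤ L') =
      insert L (Finset.univ.filter (fun L' : Subgroup N => L < L')) := by
    ext L'
    simp only [Finset.mem_filter, Finset.mem_univ, true_and, Finset.mem_insert]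
    constructor
    · intro h
      rcases eq_or_lt_of_le h with h | h
      · exact Or.inl h.symm
      · exact Or.inr h
    · rintro (rfl | h)
      · exact le_rfl
      · exact h.le
  rw [this, Finset.sum_insert (by simp)]

/-- A normal subgroup which is the stabilizer of the points counted: its index divides the count. -/
theorem index_dvd_typeCount [Finite Y] (D : Subgroup N) [D.Normal] : D.index ∣ typeCount Y D := by
  classical
  letI := Fintype.ofFinite Y
  rw [typeCount, Nat.card_eq_fintype_card, Fintype.card_subtype]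
  let A : Finset Y := Finset.univ.filter (fun y : Y => MulAction.stabilizer N y = D)
  show D.index ∣ A.card
  have hinv : ∀ (g : N) (y : Y), y ∈ A → g • y ∈ A := by
    intro g y hy
    have hy' : MulAction.stabilizer N y = D := (Finset.mem_filter.1 hy).2
    refine Finset.mem_filter.2 ⟨Finset.mem_univ _, ?_⟩
    ext a
    rw [MulAction.mem_stabilizer_iff]
    have h1 : a • g • y = g • y ↔ (g⁻¹ * a * g) • y = y := by
      rw [mul_smul, mul_smul, inv_smul_eq_iff]
    rw [h1]
    have h2 : (g⁻¹ * a * g) • y = y ↔ g⁻¹ * a * g ∈ MulAction.stabilizer N y := Iff.rfl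
    rw [h2, hy']
    have hn := ‹D.Normal›
    constructor
    · intro h
      have := hn.conj_mem _ h g
      simpa [mul_assoc] using this
    · intro h
      have := hn.conj_mem _ h g⁻¹
      simpa [mul_assoc] using this
  rw [Finset.card_eq_sum_card_fiberwise (f := fun y : Y => (Quotient.mk'' y : MulAction.orbitRel.Quotient N Y))
    (t := A.image (fun y : Y => (Quotient.mk'' y : MulAction.orbitRel.Quotient N Y)))
    (fun y hy => Finset.mem_coe.2 (Finset.mem_image_of_mem _ hy))]
  refine Finset.dvd_sum (fun q hq => ?_)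
  obtain ⟨y, hy, rfl⟩ := Finset.mem_image.1 hq
  have hy' : MulAction.stabilizer N y = D := (Finset.mem_filter.1 hy).2
  have hfib : A.filter (fun z : Y => (Quotient.mk'' z : MulAction.orbitRel.Quotient N Y) = Quotient.mk'' y) =
      (Set.toFinite (MulAction.orbit N y)).toFinset := by
    ext z
    simp only [Finset.mem_filter, Set.Finite.mem_toFinset]
    rw [Quotient.eq'']
    constructor
    · rintro ⟨-, h⟩
      exact (MulAction.orbitRel_apply).1 h
    · intro h
      refine ⟨?_, (MulAction.orbitRel_apply).2 h⟩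
      obtain ⟨g, rfl⟩ := h
      exact hinv g y hy
  rw [hfib, ← Set.ncard_eq_toFinset_card, ← MulAction.index_stabilizer, hy']

/-- Equal marks above a normal subgroup acting trivially: a congruence modulo its index. -/
theorem dvd_card_sub_of_marks [Finite Y] [Finite Y₀] (D : Subgroup N) [D.Normal]
    (hD : ∀ d ∈ D, ∀ y : Y, d • y = y) (hD₀ : ∀ d ∈ D, ∀ y : Y₀, d • y = y)
    (hm : ∀ L : Subgroup N, D < L → Nat.card {y : Y // ∀ g ∈ L, g • y = y} = Nat.card {y : Y₀ // ∀ g ∈ L, g • y = y}) :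
    (D.index : ℤ) ∣ (Nat.card Y : ℤ) - (Nat.card Y₀ : ℤ) := by
  classical
  letI := Fintype.ofFinite (Subgroup N)
  have key : ∀ L : Subgroup N, D < L → typeCount Y L = typeCount Y₀ L := by
    intro L
    induction L using WellFoundedGT.induction with
    | _ L ih =>
    intro hL
    have h1 := mark_eq_add_sum (Y := Y) L
    have h2 := mark_eq_add_sum (Y := Y₀) L
    have h3 : ∑ L' ∈ Finset.univ.filter (fun L' : Subgroup N => L < L'), typeCount Y L' =
        ∑ L' ∈ Finset.univ.filter (fun L' : Subgroup N => L < L'), typeCount Y₀ L' := by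
      refine Finset.sum_congr rfl (fun L' hL' => ?_)
      have hLL' : L < L' := (Finset.mem_filter.1 hL').2
      exact ih L' hLL' (hL.trans hLL')
    have h4 := hm L hL
    omega
  have hcard : ∀ (Z : Type _) [MulAction N Z] , (∀ d ∈ D, ∀ y : Z, d • y = y) →
      Nat.card Z = Nat.card {y : Z // ∀ g ∈ D, g • y = y} := by
    intro Z _ hZ
    exact Nat.card_congr ((Equiv.subtypeUnivEquiv (fun y => fun g hg => hZ g hg y)).symm)
  have hcard₀ : Nat.card Y₀ = Nat.card {y : Y₀ // ∀ g ∈ D, g • y = y} :=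
    Nat.card_congr ((Equiv.subtypeUnivEquiv (fun y => fun g hg => hD₀ g hg y)).symm)
  have hY : Nat.card Y = Nat.card {y : Y // ∀ g ∈ D, g • y = y} := hcard Y hD
  have h1 := mark_eq_add_sum (Y := Y) D
  have h2 := mark_eq_add_sum (Y := Y₀) D
  have h3 : ∑ L' ∈ Finset.univ.filter (fun L' : Subgroup N => D < L'), typeCount Y L' =
      ∑ L' ∈ Finset.univ.filter (fun L' : Subgroup N => D < L'), typeCount Y₀ L' :=
    Finset.sum_congr rfl (fun L' hL' => key L' (Finset.mem_filter.1 hL').2)
  have e : (Nat.card Y : ℤ) - (Nat.card Y₀ : ℤ) = (typeCount Y D : ℤ) - (typeCount Y₀ D : ℤ) := by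
    rw [hY, hcard₀, h1, h2, h3]
    push_cast
    ring
  rw [e]
  exact dvd_sub (Int.natCast_dvd_natCast.2 (index_dvd_typeCount D)) (Int.natCast_dvd_natCast.2 (index_dvd_typeCount D))

end Congruence

section Cycles

variable {B A : Type*} [CommMonoid A]

/-- Products over a permutation are products over its cycles. -/
theorem prod_eq_of_cycle [Fintype B] (π : B → B) (hπ : Function.Injective π) (G G' : B → A)
    (hc : ∀ b, ∏ j ∈ Finset.range (Function.minimalPeriod π b), G (π^[j] b) =
      ∏ j ∈ Finset.range (Function.minimalPeriod π b), G' (π^[j] b)) : ∏ b, G b = ∏ b, G' b := by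
  classical
  have key : ∀ s : Finset B, (∀ b ∈ s, π b ∈ s) → ∏ b ∈ s, G b = ∏ b ∈ s, G' b := by
    intro s
    induction s using Finset.strongInduction with
    | _ s ih =>
    intro hs
    rcases s.eq_empty_or_nonempty with rfl | ⟨b, hb⟩
    · simp
    set k := Function.minimalPeriod π b with hk
    have hkpos : 0 < k := Function.minimalPeriod_pos_of_mem_periodicPts (hπ.mem_periodicPts b)
    have hper : π^[k] b = b := Function.iterate_minimalPeriod
    let C : Finset B := (Finset.range k).image (fun j => π^[j] b)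
    have hiter : ∀ j, π^[j] b ∈ s := by
      intro j
      induction j with
      | zero => exact hb
      | succ j ihj =>
        rw [Function.iterate_succ_apply']
        exact hs _ ihj
    have hCs : C ⊆ s := by
      intro x hx
      obtain ⟨j, -, rfl⟩ := Finset.mem_image.1 hx
      exact hiter j
    have hbC : b ∈ C := Finset.mem_image.2 ⟨0, Finset.mem_range.2 hkpos, rfl⟩
    have hlt : s \ C ⊂ s := by
      refine Finset.ssubset_iff_subset_ne.2 ⟨Finset.sdiff_subset, fun h => ?_⟩
      have : b ∈ s \ C := by rw [h]; exact hb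
      exact (Finset.mem_sdiff.1 this).2 hbC
    have hinv : ∀ x ∈ s \ C, π x ∈ s \ C := by
      intro x hx
      obtain ⟨hxs, hxC⟩ := Finset.mem_sdiff.1 hx
      refine Finset.mem_sdiff.2 ⟨hs x hxs, fun hC => hxC ?_⟩
      obtain ⟨j, hj, hjx⟩ := Finset.mem_image.1 hC
      have hj' : j < k := Finset.mem_range.1 hj
      rcases Nat.eq_zero_or_pos j with rfl | hjpos
      · -- `π x = b = π (π^[k-1] b)`
        have h1 : π x = π (π^[k - 1] b) := by
          rw [← Function.iterate_succ_apply' π (k - 1) b, Nat.succ_eq_add_one, Nat.sub_add_cancel hkpos, hper]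
          exact hjx.symm
        rw [hπ h1]
        exact Finset.mem_image.2 ⟨k - 1, Finset.mem_range.2 (by omega), rfl⟩
      · have h1 : π x = π (π^[j - 1] b) := by
          rw [← Function.iterate_succ_apply' π (j - 1) b, Nat.succ_eq_add_one, Nat.sub_add_cancel hjpos]
          exact hjx.symm
        rw [hπ h1]
        exact Finset.mem_image.2 ⟨j - 1, Finset.mem_range.2 (by omega), rfl⟩
    have hCprod : ∀ W : B → A, ∏ x ∈ C, W x = ∏ j ∈ Finset.range k, W (π^[j] b) := by
      intro W
      refine Finset.prod_image ?_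
      intro i hi j hj hij
      exact Function.iterate_injOn_Iio_minimalPeriod (Set.mem_Iio.2 (Finset.mem_range.1 (Finset.mem_coe.1 hi)))
        (Set.mem_Iio.2 (Finset.mem_range.1 (Finset.mem_coe.1 hj))) hij
    rw [← Finset.prod_sdiff hCs, ← Finset.prod_sdiff hCs, ih _ hlt hinv, hCprod, hCprod, hc b]
  exact key Finset.univ (fun _ _ => Finset.mem_univ _)

end Cycles

end Cfsg.Agent.Lib.Fusion2
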