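/-
The transfer attached to a biset which is free on the right.
-/
import Cfsg.Agent.Lib.Fusion2.Marks

set_option autoImplicit false

namespace Cfsg.Agent.Lib.Fusion2

section Biset

variable {H X : Type*} [Group H] [MulAction (H × H) X]

theorem pp (a b c d : H) (x : X) : (a, b) • (c, d) • x = (a * c, b * d) • x := by
  rw [smul_smul]
  rfl

/-- The value of the cocycle. -/
def hh (ξ : X → H) (u : H) (x : X) : H := ξ ((u, (1 : H)) • x)

/-- The point of the right orbit of `u x` where `ξ` is trivial. -/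
def pii (ξ : X → H) (u : H) (x : X) : X := ((1 : H), hh ξ u x) • (u, (1 : H)) • x

variable {ξ : X → H} (hξ : ∀ (x : X) (s : H), ξ (((1 : H), s) • x) = ξ x * s⁻¹)

include hξ

theorem xi_pii (u : H) (x : X) : ξ (pii ξ u x) = 1 := by
  rw [pii, hξ, hh, mul_inv_cancel]

omit hξ in
theorem smul_eq_pii (u : H) (x : X) : (u, (1 : H)) • x = ((1 : H), (hh ξ u x)⁻¹) • pii ξ u x := by
  simp only [pii, pp, one_mul, mul_one, inv_mul_cancel]

theorem hh_mul (u v : H) (x : X) : hh ξ (u * v) x = hh ξ u (pii ξ v x) * hh ξ v x := by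
  have h1 : (u * v, (1 : H)) • x = ((1 : H), (hh ξ v x)⁻¹) • (u, (1 : H)) • pii ξ v x := by
    simp only [pii, pp, one_mul, mul_one, inv_mul_cancel]
  rw [hh, h1, hξ, inv_inv]
  rfl

theorem pii_mul (u v : H) (x : X) : pii ξ (u * v) x = pii ξ u (pii ξ v x) := by
  have e1 : pii ξ u (pii ξ v x) = ((1 : H), hh ξ u (pii ξ v x)) • (u, (1 : H)) • ((1 : H), hh ξ v x) • (v, (1 : H)) • x := rfl
  rw [e1, pii, hh_mul hξ]
  simp only [pp, one_mul, mul_one]

theorem pii_of_sec {b : X} (hb : ξ b = 1) : pii ξ 1 b = b := by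
  have h1 : hh ξ 1 b = 1 := by
    have : ((1 : H), (1 : H)) • b = b := one_smul (H × H) b
    rw [hh, this, hb]
  rw [pii, h1]
  have : ((1 : H), (1 : H)) • b = b := one_smul (H × H) b
  rw [this, this]

/-- The action of `H` on the section. -/
def secAct : MulAction H {x : X // ξ x = 1} where
  smul u b := ⟨pii ξ u b, xi_pii hξ u b⟩
  one_smul b := Subtype.ext (pii_of_sec hξ b.2)
  mul_smul u v b := Subtype.ext (pii_mul hξ u v b)

/-- If `(u, w)` fixes a point of the section then `u` fixes it in the section and `w` is the cocycle value. -/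
theorem hh_of_fix {b : X} {u w : H} (h : (u, w) • b = b) (hb : ξ b = 1) : hh ξ u b = w ∧ pii ξ u b = b := by
  have h1 : (u, (1 : H)) • b = ((1 : H), w⁻¹) • b := by
    have h2 : ((1 : H), w⁻¹) • (u, w) • b = ((1 : H), w⁻¹) • b := by rw [h]
    rw [pp] at h2
    simpa only [one_mul, inv_mul_cancel] using h2
  have h3 : hh ξ u b = w := by
    rw [hh, h1, hξ, hb, one_mul, inv_inv]
  refine ⟨h3, ?_⟩
  rw [pii, h3, h1, pp]
  simp only [mul_one, mul_inv_cancel]
  exact one_smul (H × H) b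

/-- Conversely a fixed point in the section gives a fixed point of the biset. -/
theorem fix_of_pii {b : X} {u : H} (h : pii ξ u b = b) : (u, hh ξ u b) • b = b := by
  have h1 := smul_eq_pii (ξ := ξ) u b
  rw [h] at h1
  have h2 : (u, hh ξ u b) • b = ((1 : H), hh ξ u b) • (u, (1 : H)) • b := by
    rw [pp]
    simp only [one_mul, mul_one]
  rw [h2, h1, pp]
  simp only [mul_inv_cancel, mul_one]
  exact one_smul (H × H) b

omit hξ in
/-- Reindexing along the action on the section. -/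
theorem prod_sec_smul {A : Type*} [CommMonoid A] [Fintype {x : X // ξ x = 1}] (hξ : ∀ (x : X) (s : H), ξ (((1 : H), s) • x) = ξ x * s⁻¹)
    (v : H) (G : {x : X // ξ x = 1} → A) :
    ∏ b : {x : X // ξ x = 1}, G ⟨pii ξ v b, xi_pii hξ v b⟩ = ∏ b, G b := by
  letI := secAct hξ
  exact Equiv.prod_comp (MulAction.toPerm v) G

section Transfer

variable {A : Type*} [CommGroup A] (T : Subgroup H) [hTn : T.Normal] (fh : H → A)
  (hf₁ : ∀ a ∈ T, ∀ b ∈ T, fh (a * b) = fh a * fh b) (hf₂ : ∀ s, ∀ t ∈ T, fh (s * t * s⁻¹) = fh t)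
  (hT : ∀ (u : H) (b : X), ξ b = 1 → hh ξ u b * u⁻¹ ∈ T)

include hf₁

omit hξ in
theorem fh_one : fh 1 = 1 := by
  have := hf₁ 1 T.one_mem 1 T.one_mem
  rw [one_mul] at this
  exact (mul_eq_left.1 this.symm)

omit hξ in
theorem fh_inv {a : H} (ha : a ∈ T) : fh a⁻¹ = (fh a)⁻¹ := by
  have := hf₁ a ha a⁻¹ (T.inv_mem ha)
  rw [mul_inv_cancel, fh_one T fh hf₁] at this
  exact eq_inv_of_mul_eq_one_right this.symm

omit hξ in
theorem fh_div {a b : H} (ha : a ∈ T) (hb : b ∈ T) : fh (a * b⁻¹) = fh a * (fh b)⁻¹ := by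
  rw [hf₁ a ha _ (T.inv_mem hb), fh_inv T fh hf₁ hb]

include hT hξ hf₂

theorem hh_mem {u : H} (hu : u ∈ T) {b : X} (hb : ξ b = 1) : hh ξ u b ∈ T := by
  have h1 := T.mul_mem (hT u b hb) hu
  simpa using h1

/-- The step of the multiplicativity of the main homomorphism. -/
theorem fh_step (u v : H) {b : X} (hb : ξ b = 1) :
    fh (hh ξ (u * v) b * (u * v)⁻¹) = fh (hh ξ u (pii ξ v b) * u⁻¹) * fh (hh ξ v b * v⁻¹) := by
  have e : hh ξ (u * v) b * (u * v)⁻¹ = (hh ξ u (pii ξ v b) * u⁻¹) * (u * (hh ξ v b * v⁻¹) * u⁻¹) := by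
    rw [hh_mul hξ]
    group
  have h1 := hT u (pii ξ v b) (xi_pii hξ v b)
  have h2 := hT v b hb
  rw [e, hf₁ _ h1 _ (hTn.conj_mem _ h2 u), hf₂ _ _ h2]

/-- The cycle formula for the cocycle: powers. -/
theorem prod_cycle {u : H} (hu : u ∈ T) {b : X} (hb : ξ b = 1) (k : ℕ) :
    ∏ j ∈ Finset.range k, fh (hh ξ u (pii ξ (u ^ j) b)) = fh (hh ξ (u ^ k) b) := by
  induction k with
  | zero =>
    have h1 : hh ξ 1 b = 1 := by
      have : ((1 : H), (1 : H)) • b = b := one_smul (H × H) b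
      rw [hh, this, hb]
    rw [Finset.prod_range_zero, pow_zero, h1, fh_one T fh hf₁]
  | succ k ih =>
    rw [Finset.prod_range_succ, ih, pow_succ', hh_mul hξ, hf₁ _ (hh_mem hξ T fh hf₁ hf₂ hT hu (xi_pii hξ _ b)) _
      (hh_mem hξ T fh hf₁ hf₂ hT (T.pow_mem hu k) hb), mul_comm]

variable [Fintype {x : X // ξ x = 1}]

/-- The main homomorphism is multiplicative. -/
theorem dd_mul (u v : H) : ∏ b : {x : X // ξ x = 1}, fh (hh ξ (u * v) b * (u * v)⁻¹) =
    (∏ b : {x : X // ξ x = 1}, fh (hh ξ u b * u⁻¹)) * ∏ b : {x : X // ξ x = 1}, fh (hh ξ v b * v⁻¹) := by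
  have h1 : ∀ b : {x : X // ξ x = 1}, fh (hh ξ (u * v) b * (u * v)⁻¹) =
      (fun c : {x : X // ξ x = 1} => fh (hh ξ u c * u⁻¹)) ⟨pii ξ v b, xi_pii hξ v b⟩ * fh (hh ξ v b * v⁻¹) :=
    fun b => fh_step hξ T fh hf₁ hf₂ hT u v b.2
  rw [Finset.prod_congr rfl (fun b _ => h1 b), Finset.prod_mul_distrib]
  congr 1
  exact prod_sec_smul hξ v (fun c : {x : X // ξ x = 1} => fh (hh ξ u c * u⁻¹))

/-- On `T` the main homomorphism is the transfer divided by a power. -/
theorem dd_of_mem {u : H} (hu : u ∈ T) : ∏ b : {x : X // ξ x = 1}, fh (hh ξ u b * u⁻¹) =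
    (∏ b : {x : X // ξ x = 1}, fh (hh ξ u b)) * ((fh u) ^ Fintype.card {x : X // ξ x = 1})⁻¹ := by
  have h1 : ∀ b : {x : X // ξ x = 1}, fh (hh ξ u b * u⁻¹) = fh (hh ξ u b) * (fh u)⁻¹ :=
    fun b => fh_div T fh hf₁ (hh_mem hξ T fh hf₁ hf₂ hT hu b.2) hu
  rw [Finset.prod_congr rfl (fun b _ => h1 b), Finset.prod_mul_distrib, Finset.prod_const, Finset.card_univ, inv_pow]

/-- The transfer is multiplicative on `T`. -/
theorem DD_mul {u v : H} (hu : u ∈ T) (hv : v ∈ T) : ∏ b : {x : X // ξ x = 1}, fh (hh ξ (u * v) b) =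
    (∏ b : {x : X // ξ x = 1}, fh (hh ξ u b)) * ∏ b : {x : X // ξ x = 1}, fh (hh ξ v b) := by
  have h1 := dd_mul hξ T fh hf₁ hf₂ hT u v
  rw [dd_of_mem hξ T fh hf₁ hf₂ hT (T.mul_mem hu hv), dd_of_mem hξ T fh hf₁ hf₂ hT hu, dd_of_mem hξ T fh hf₁ hf₂ hT hv,
    hf₁ _ hu _ hv, mul_pow] at h1
  have key : ∀ x y z a c : A, x * (a * c)⁻¹ = y * a⁻¹ * (z * c⁻¹) → x = y * z := by
    intro x y z a c h
    have h3 : y * a⁻¹ * (z * c⁻¹) = y * z * (a * c)⁻¹ := by
      rw [mul_inv, mul_mul_mul_comm]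
    rw [h3] at h
    exact mul_right_cancel h
  exact key _ _ _ _ _ h1

/-- The transfer on `T` in terms of a constant on cycles. -/
theorem DD_pow {u : H} (hu : u ∈ T) (a : A)
    (ha : ∀ (b : X) (k : ℕ), ξ b = 1 → pii ξ (u ^ k) b = b → fh (hh ξ (u ^ k) b) = a ^ k) :
    ∏ b : {x : X // ξ x = 1}, fh (hh ξ u b) = a ^ Fintype.card {x : X // ξ x = 1} := by
  letI := secAct hξ
  have hinj : Function.Injective (fun b : {x : X // ξ x = 1} => u • b) := MulAction.injective u
  have := prod_eq_of_cycle (fun b : {x : X // ξ x = 1} => u • b) hinj (fun b => fh (hh ξ u b)) (fun _ => a) (fun b => ?_)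
  · rw [this, Finset.prod_const, Finset.card_univ]
  · have hiter : ∀ j, (fun b : {x : X // ξ x = 1} => u • b)^[j] b = u ^ j • b := fun j => congrFun (smul_iterate u j) b
    have hper : u ^ (Function.minimalPeriod (fun b : {x : X // ξ x = 1} => u • b) b) • b = b := by
      rw [← hiter]
      exact Function.iterate_minimalPeriod
    have h1 : ∏ j ∈ Finset.range (Function.minimalPeriod (fun b : {x : X // ξ x = 1} => u • b) b),
        fh (hh ξ u ((fun b : {x : X // ξ x = 1} => u • b)^[j] b : {x : X // ξ x = 1})) =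
        ∏ j ∈ Finset.range (Function.minimalPeriod (fun b : {x : X // ξ x = 1} => u • b) b),
        fh (hh ξ u (pii ξ (u ^ j) b)) :=
      Finset.prod_congr rfl (fun j _ => by rw [hiter]; rfl)
    rw [h1, prod_cycle hξ T fh hf₁ hf₂ hT hu b.2, ha b _ b.2 (congrArg Subtype.val hper), Finset.prod_const, Finset.card_range]

/-- Stability of the transfer along an isomorphism of bisets. -/
theorem DD_stable {u u' : H} (hu : u ∈ T) (hu' : u' ∈ T) (g : X → X) (hginj : Function.Injective g)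
    (hg₁ : ∀ (x : X) (s : H), g (((1 : H), s) • x) = ((1 : H), s) • g x)
    (hg₂ : ∀ x : X, g ((u, (1 : H)) • x) = (u', (1 : H)) • g x) :
    ∏ b : {x : X // ξ x = 1}, fh (hh ξ u' b) = ∏ b : {x : X // ξ x = 1}, fh (hh ξ u b) := by
  letI := secAct hξ
  -- the normalization
  let nn : X → X := fun x => ((1 : H), ξ x) • x
  have hnn : ∀ x, ξ (nn x) = 1 := fun x => by
    show ξ (((1 : H), ξ x) • x) = 1
    rw [hξ, mul_inv_cancel]
  have hnnr : ∀ (x : X) (s : H), nn (((1 : H), s) • x) = nn x := by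
    intro x s
    show ((1 : H), ξ (((1 : H), s) • x)) • ((1 : H), s) • x = ((1 : H), ξ x) • x
    rw [hξ, pp]
    simp only [one_mul, inv_mul_cancel_right]
  have hpn : ∀ (v : H) (y : X), pii ξ v (nn y) = nn ((v, (1 : H)) • y) := by
    intro v y
    have h1 : (v, (1 : H)) • nn y = ((1 : H), ξ y) • (v, (1 : H)) • y := by
      show (v, (1 : H)) • ((1 : H), ξ y) • y = ((1 : H), ξ y) • (v, (1 : H)) • y
      simp only [pp, one_mul, mul_one]
    have h2 : hh ξ v (nn y) = ξ ((v, (1 : H)) • y) * (ξ y)⁻¹ := by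
      rw [hh, h1, hξ]
    rw [pii, h2, h1, pp]
    simp only [one_mul, inv_mul_cancel_right]
    rfl
  let gb : {x : X // ξ x = 1} → {x : X // ξ x = 1} := fun b => ⟨nn (g b), hnn _⟩
  have hgbinj : Function.Injective gb := by
    intro a b hab
    have h1 : nn (g a) = nn (g b) := congrArg Subtype.val hab
    have h2 : ((1 : H), ξ (g a)) • g a = ((1 : H), ξ (g b)) • g b := h1
    have h3 : g (((1 : H), (ξ (g b))⁻¹ * ξ (g a)) • (a : X)) = g b := by
      rw [hg₁]
      have h4 : ((1 : H), (ξ (g b))⁻¹) • ((1 : H), ξ (g a)) • g a = ((1 : H), (ξ (g b))⁻¹) • ((1 : H), ξ (g b)) • g b := by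
        rw [h2]
      simp only [pp, one_mul, inv_mul_cancel] at h4
      rw [h4]
      exact one_smul (H × H) _
    have h5 := hginj h3
    have h6 := congrArg ξ h5
    rw [hξ, a.2, b.2, one_mul, inv_eq_one] at h6
    rw [h6] at h5
    exact Subtype.ext ((one_smul (H × H) _).symm.trans h5)
  have hgbb : Function.Bijective gb := ⟨hgbinj, Finite.surjective_of_injective hgbinj⟩
  have hint : ∀ b : {x : X // ξ x = 1}, gb (u • b) = u' • gb b := by
    intro b
    apply Subtype.ext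
    show nn (g (pii ξ u b)) = pii ξ u' (nn (g b))
    rw [hpn, pii, hg₁, hnnr, hg₂]
  have hintj : ∀ (j : ℕ) (b : {x : X // ξ x = 1}), gb (u ^ j • b) = u' ^ j • gb b := by
    intro j
    induction j with
    | zero => intro b; simp
    | succ j ih =>
      intro b
      rw [pow_succ', mul_smul, hint, ih, pow_succ', mul_smul]
  have hgpow : ∀ (j : ℕ) (x : X), g ((u ^ j, (1 : H)) • x) = (u' ^ j, (1 : H)) • g x := by
    intro j
    induction j with
    | zero =>
      intro x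
      simp only [pow_zero]
      have h1 : ((1 : H), (1 : H)) • x = x := one_smul (H × H) x
      have h2 : ((1 : H), (1 : H)) • g x = g x := one_smul (H × H) (g x)
      rw [h1, h2]
    | succ j ih =>
      intro x
      have e1 : (u ^ (j + 1), (1 : H)) • x = (u, (1 : H)) • (u ^ j, (1 : H)) • x := by
        rw [pp, pow_succ', one_mul]
      have e2 : (u' ^ (j + 1), (1 : H)) • g x = (u', (1 : H)) • (u' ^ j, (1 : H)) • g x := by
        rw [pp, pow_succ', one_mul]
      rw [e1, e2, hg₂, ih]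
  -- the comparison
  have hinj : Function.Injective (fun b : {x : X // ξ x = 1} => u • b) := MulAction.injective u
  have key := prod_eq_of_cycle (fun b : {x : X // ξ x = 1} => u • b) hinj (fun b => fh (hh ξ u b))
    (fun b => fh (hh ξ u' (gb b))) (fun b => ?_)
  · rw [key]
    exact (Function.Bijective.prod_comp hgbb (fun b => fh (hh ξ u' b))).symm
  · have hiter : ∀ j, (fun b : {x : X // ξ x = 1} => u • b)^[j] b = u ^ j • b := fun j => congrFun (smul_iterate u j) b
    set k := Function.minimalPeriod (fun b : {x : X // ξ x = 1} => u • b) b with hk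
    have hper : u ^ k • b = b := by
      rw [← hiter]
      exact Function.iterate_minimalPeriod
    have h1 : ∏ j ∈ Finset.range k, fh (hh ξ u ((fun b : {x : X // ξ x = 1} => u • b)^[j] b : {x : X // ξ x = 1})) =
        ∏ j ∈ Finset.range k, fh (hh ξ u (pii ξ (u ^ j) b)) :=
      Finset.prod_congr rfl (fun j _ => by rw [hiter]; rfl)
    have h2 : ∏ j ∈ Finset.range k, fh (hh ξ u' (gb ((fun b : {x : X // ξ x = 1} => u • b)^[j] b))) =
        ∏ j ∈ Finset.range k, fh (hh ξ u' (pii ξ (u' ^ j) (gb b))) :=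
      Finset.prod_congr rfl (fun j _ => by rw [hiter, hintj]; rfl)
    show ∏ j ∈ Finset.range k, fh (hh ξ u ((fun b : {x : X // ξ x = 1} => u • b)^[j] b : {x : X // ξ x = 1})) =
      ∏ j ∈ Finset.range k, fh (hh ξ u' (gb ((fun b : {x : X // ξ x = 1} => u • b)^[j] b)))
    rw [h1, h2, prod_cycle hξ T fh hf₁ hf₂ hT hu b.2, prod_cycle hξ T fh hf₁ hf₂ hT hu' (gb b).2]
    -- the fixed point
    have hperval : pii ξ (u ^ k) (b : X) = b := congrArg Subtype.val hper
    have hfixb := fix_of_pii hξ hperval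
    set w := hh ξ (u ^ k) (b : X) with hw
    have hfixy : (u' ^ k, w) • g b = g b := by
      have e1 : (u ^ k, w) • (b : X) = ((1 : H), w) • (u ^ k, (1 : H)) • (b : X) := by
        rw [pp]
        simp only [one_mul, mul_one]
      have e2 := congrArg g hfixb
      rw [e1, hg₁, hgpow, pp] at e2
      simpa only [one_mul, mul_one] using e2
    have hfixc : (u' ^ k, ξ (g b) * w * (ξ (g b))⁻¹) • nn (g b) = nn (g b) := by
      show (u' ^ k, ξ (g b) * w * (ξ (g b))⁻¹) • ((1 : H), ξ (g b)) • g b = ((1 : H), ξ (g b)) • g b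
      have e : ((1 : H), ξ (g b)) • g b = ((1 : H), ξ (g b)) • (u' ^ k, w) • g b := by rw [hfixy]
      refine Eq.trans ?_ e.symm
      simp only [pp, one_mul, mul_one, inv_mul_cancel_right]
    have h3 := (hh_of_fix hξ hfixc (hnn _)).1
    have h4 : hh ξ (u' ^ k) (gb b : X) = ξ (g b) * w * (ξ (g b))⁻¹ := h3
    rw [h4, hf₂ _ _ (hh_mem hξ T fh hf₁ hf₂ hT (T.pow_mem hu k) b.2)]

end Transfer


omit hξ in
/-- A map to the group adapted to a normal subgroup. -/
theorem exists_xi (T : Subgroup H) [hTn : T.Normal] (hfree : ∀ (x : X) (s : H), ((1 : H), s) • x = x → s = 1)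
    (hC : ∀ x : X, ∃ g : H, ∀ v w : H, (v, w) • x = x → g * w * g⁻¹ * v⁻¹ ∈ T) :
    ∃ ξ : X → H, (∀ (x : X) (s : H), ξ (((1 : H), s) • x) = ξ x * s⁻¹) ∧
      ∀ (u : H) (b : X), ξ b = 1 → hh ξ u b * u⁻¹ ∈ T := by
  classical
  -- orbit representatives
  let base : X → X := fun x => (Quotient.mk'' x : MulAction.orbitRel.Quotient (H × H) X).out
  have hbase : ∀ x, ∃ a : H × H, a • base x = x := by
    intro x
    have h : (Quotient.mk'' (base x) : MulAction.orbitRel.Quotient (H × H) X) = Quotient.mk'' x := Quotient.out_eq _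
    rw [Quotient.eq''] at h
    obtain ⟨a, ha⟩ := (MulAction.orbitRel_apply).1 h
    refine ⟨a⁻¹, ?_⟩
    have ha' : a • x = base x := ha
    rw [← ha', inv_smul_smul]
  have hbase_inv : ∀ (a : H × H) (x : X), base (a • x) = base x := by
    intro a x
    have h : (Quotient.mk'' (a • x) : MulAction.orbitRel.Quotient (H × H) X) = Quotient.mk'' x := by
      rw [Quotient.eq'']
      exact (MulAction.orbitRel_apply).2 ⟨a, rfl⟩
    show Quotient.out _ = Quotient.out _
    rw [h]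
  choose gg hgg using hC
  choose cx hcx using hbase
  let ρ : X → H ⧸ T := fun x => (((cx x).1 * gg (base x) * ((cx x).2)⁻¹ : H) : H ⧸ T)
  have hwd : ∀ (y : X) (a a' : H × H), a • y = a' • y →
      ((a.1 * gg y * (a.2)⁻¹ : H) : H ⧸ T) = ((a'.1 * gg y * (a'.2)⁻¹ : H) : H ⧸ T) := by
    intro y a a' h
    rw [QuotientGroup.eq]
    have h1 : (a⁻¹ * a') • y = y := by
      rw [mul_smul, ← h, inv_smul_smul]
    have h2 := hgg y (a⁻¹ * a').1 (a⁻¹ * a').2 h1
    have h3 : (a⁻¹ * a').1 = (a.1)⁻¹ * a'.1 := rfl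
    have h4 : (a⁻¹ * a').2 = (a.2)⁻¹ * a'.2 := rfl
    rw [h3, h4] at h2
    have h5 := hTn.conj_mem _ (T.inv_mem h2) (a.2 * (gg y)⁻¹)
    have e : (a.1 * gg y * (a.2)⁻¹)⁻¹ * (a'.1 * gg y * (a'.2)⁻¹) =
        a.2 * (gg y)⁻¹ * (gg y * ((a.2)⁻¹ * a'.2) * (gg y)⁻¹ * ((a.1)⁻¹ * a'.1)⁻¹)⁻¹ * (a.2 * (gg y)⁻¹)⁻¹ := by
      group
    rw [e]
    exact h5
  have hρ : ∀ (a : H × H) (x : X), ρ (a • x) = (a.1 : H ⧸ T) * ρ x * ((a.2 : H) : H ⧸ T)⁻¹ := by
    intro a x
    have h1 : cx (a • x) • base x = (a * cx x) • base x := by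
      have h2 := hcx (a • x)
      rw [hbase_inv] at h2
      rw [h2, mul_smul, hcx]
    have h2 := hwd (base x) _ _ h1
    show (((cx (a • x)).1 * gg (base (a • x)) * ((cx (a • x)).2)⁻¹ : H) : H ⧸ T) = _
    rw [hbase_inv, h2]
    show ((((a * cx x).1 * gg (base x) * ((a * cx x).2)⁻¹ : H)) : H ⧸ T) =
      (a.1 : H ⧸ T) * (((cx x).1 * gg (base x) * ((cx x).2)⁻¹ : H) : H ⧸ T) * ((a.2 : H) : H ⧸ T)⁻¹
    have e1 : (a * cx x).1 = a.1 * (cx x).1 := rfl
    have e2 : (a * cx x).2 = a.2 * (cx x).2 := rfl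
    rw [e1, e2, ← QuotientGroup.mk_inv, ← QuotientGroup.mk_mul, ← QuotientGroup.mk_mul]
    congr 1
    group
  -- right orbit representatives
  let Rr : Setoid X :=
    { r := fun x x' => ∃ s : H, ((1 : H), s) • x = x'
      iseqv := ⟨fun x => ⟨1, one_smul (H × H) x⟩, fun {x y} ⟨s, hs⟩ => ⟨s⁻¹, by
          rw [← hs, pp]
          simp only [one_mul, inv_mul_cancel]
          exact one_smul (H × H) x⟩, fun {x y z} ⟨s, hs⟩ ⟨t, ht⟩ => ⟨t * s, by
          rw [← ht, ← hs, pp]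
          simp only [one_mul]⟩⟩ }
  let rb : X → X := fun x => (Quotient.mk Rr x).out
  have hrb : ∀ x, ∃ s : H, ((1 : H), s) • rb x = x := by
    intro x
    have h : Quotient.mk Rr (rb x) = Quotient.mk Rr x := Quotient.out_eq _
    exact Quotient.exact h
  have hrb_inv : ∀ (t : H) (x : X), rb (((1 : H), t) • x) = rb x := by
    intro t x
    have h : Quotient.mk Rr (((1 : H), t) • x) = Quotient.mk Rr x := by
      apply Quotient.sound
      exact (Rr.iseqv.symm ⟨t, rfl⟩)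
    show Quotient.out _ = Quotient.out _
    rw [h]
  choose ss hss using hrb
  let e : H ⧸ T → H := Quotient.out
  have he : ∀ q : H ⧸ T, ((e q : H) : H ⧸ T) = q := fun q => Quotient.out_eq' q
  let ξ : X → H := fun x => e (ρ (rb x)) * (ss x)⁻¹
  have hss' : ∀ (t : H) (x : X), ss (((1 : H), t) • x) = t * ss x := by
    intro t x
    have h1 := hss (((1 : H), t) • x)
    rw [hrb_inv] at h1
    have h2 := hss x
    have h3 : ((1 : H), (t * ss x)⁻¹ * ss (((1 : H), t) • x)) • rb x = rb x := by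
      have h4 : ((1 : H), (t * ss x)⁻¹) • ((1 : H), ss (((1 : H), t) • x)) • rb x = ((1 : H), (t * ss x)⁻¹) • ((1 : H), t) • ((1 : H), ss x) • rb x := by
        rw [h1, h2]
      simp only [pp, one_mul, mul_one] at h4
      rw [h4]
      simp only [mul_inv_rev, mul_assoc, inv_mul_cancel_left, inv_mul_cancel]
      exact one_smul (H × H) _
    have h5 := hfree _ _ h3
    exact (inv_mul_eq_one.1 h5).symm
  have hξ' : ∀ (x : X) (s : H), ξ (((1 : H), s) • x) = ξ x * s⁻¹ := by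
    intro x s
    show e (ρ (rb (((1 : H), s) • x))) * (ss (((1 : H), s) • x))⁻¹ = e (ρ (rb x)) * (ss x)⁻¹ * s⁻¹
    rw [hrb_inv, hss', mul_inv_rev, mul_assoc]
  have hmk : ∀ x, ((ξ x : H) : H ⧸ T) = ρ x := by
    intro x
    conv_rhs => rw [← hss x]
    rw [hρ]
    show ((e (ρ (rb x)) * (ss x)⁻¹ : H) : H ⧸ T) = ((1 : H) : H ⧸ T) * ρ (rb x) * ((ss x : H) : H ⧸ T)⁻¹
    rw [QuotientGroup.mk_mul, he, QuotientGroup.mk_inv, QuotientGroup.mk_one, one_mul]
  refine ⟨ξ, hξ', fun u b hb => ?_⟩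
  rw [← QuotientGroup.eq_one_iff, QuotientGroup.mk_mul, hh, hmk, hρ, QuotientGroup.mk_inv, ← hmk b, hb]
  simp

end Biset

end Cfsg.Agent.Lib.Fusion2
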