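/-
Finite `G`-sets built from orbits with prescribed multiplicities, and adjusting marks one level at a time.
-/
import Cfsg.Agent.Lib.Fusion2.Marks

set_option autoImplicit false

namespace Cfsg.Agent.Lib.Fusion2

section GSets

variable {G : Type*} [Group G]

/-- Number of fixed points of `L` on `G/K`. -/
noncomputable def fp (K L : Subgroup G) : ℕ := Nat.card {y : G ⧸ K // ∀ g ∈ L, g • y = y}

/-- The conjugate `g K g⁻¹`. -/
def cj (g : G) (K : Subgroup G) : Subgroup G := K.map (MulAut.conj g).toMonoidHom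

theorem mem_cj {g x : G} {K : Subgroup G} : x ∈ cj g K ↔ g⁻¹ * x * g ∈ K := by
  constructor
  · rintro ⟨y, hy, rfl⟩
    simpa [mul_assoc] using hy
  · intro h
    exact ⟨_, h, by simp [mul_assoc]⟩

theorem cj_one (K : Subgroup G) : cj 1 K = K := by
  ext x
  simp [mem_cj]

theorem cj_mul (g h : G) (K : Subgroup G) : cj (g * h) K = cj g (cj h K) := by
  ext x
  simp only [mem_cj, mul_inv_rev, mul_assoc]

theorem cj_inv_cj (g : G) (K : Subgroup G) : cj g⁻¹ (cj g K) = K := by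
  rw [← cj_mul, inv_mul_cancel, cj_one]

theorem cj_cj_inv (g : G) (K : Subgroup G) : cj g (cj g⁻¹ K) = K := by
  rw [← cj_mul, mul_inv_cancel, cj_one]

theorem card_cj (g : G) (K : Subgroup G) : Nat.card (cj g K) = Nat.card K :=
  Nat.card_congr (K.equivMapOfInjective _ (MulAut.conj g).injective).toEquiv.symm

theorem smul_fix_iff {K L : Subgroup G} (x : G) :
    (∀ g ∈ L, g • ((x : G) : G ⧸ K) = ((x : G) : G ⧸ K)) ↔ L ≤ cj x K := by
  constructor
  · intro h g hg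
    have h1 := h g hg
    have h2 : ((g * x : G) : G ⧸ K) = (x : G) := h1
    rw [QuotientGroup.eq] at h2
    rw [mem_cj]
    have h3 : (g * x)⁻¹ * x ∈ K := h2
    have h4 : x⁻¹ * g * x = ((g * x)⁻¹ * x)⁻¹ := by group
    rw [h4]
    exact K.inv_mem h3
  · intro h g hg
    have h1 := mem_cj.1 (h hg)
    show ((g * x : G) : G ⧸ K) = (x : G)
    rw [QuotientGroup.eq]
    have h4 : (g * x)⁻¹ * x = (x⁻¹ * g * x)⁻¹ := by group
    rw [h4]
    exact K.inv_mem h1

/-- The number of fixed points of `L` on `X`. -/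
noncomputable def mk (X : Type*) [MulAction G X] (L : Subgroup G) : ℕ := Nat.card {x : X // ∀ g ∈ L, g • x = x}

theorem mk_cj (X : Type*) [MulAction G X] (L : Subgroup G) (g : G) : mk X (cj g L) = mk X L := by
  refine Nat.card_congr ((MulAction.toPerm g⁻¹ : Equiv.Perm X).subtypeEquiv ?_)
  intro y
  constructor
  · intro h a ha
    have h1 := h (g * a * g⁻¹) (mem_cj.2 (by simpa [mul_assoc] using ha))
    simp only [MulAction.toPerm_apply]
    have h2 : (g * a * g⁻¹) • y = g • a • g⁻¹ • y := by simp [mul_smul]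
    rw [h2] at h1
    exact (smul_eq_iff_eq_inv_smul g).1 h1
  · intro h a ha
    have h1 := h (g⁻¹ * a * g) (mem_cj.1 ha)
    simp only [MulAction.toPerm_apply] at h1
    have h2 : (g⁻¹ * a * g) • g⁻¹ • y = g⁻¹ • a • y := by
      simp [mul_smul]
    rw [h2] at h1
    exact smul_left_cancel _ h1

theorem fp_cj_right (K L : Subgroup G) (g : G) : fp K (cj g L) = fp K L := mk_cj _ L g

variable [Finite G]

theorem fp_pos_iff {K L : Subgroup G} : 0 < fp K L ↔ ∃ x : G, L ≤ cj x K := by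
  rw [fp, Nat.card_pos_iff]
  constructor
  · rintro ⟨⟨⟨y, hy⟩⟩, -⟩
    obtain ⟨x, rfl⟩ := QuotientGroup.mk_surjective y
    exact ⟨x, (smul_fix_iff x).1 hy⟩
  · rintro ⟨x, hx⟩
    exact ⟨⟨⟨(x : G ⧸ K), (smul_fix_iff x).2 hx⟩⟩, inferInstance⟩

theorem fp_self (K : Subgroup G) : fp K K = (K.subgroupOf (Subgroup.normalizer (K : Set G))).index := by
  have h1 := Nat.card_congr (Sylow.fixedPointsMulLeftCosetsEquivQuotient K)
  rw [Subgroup.index]
  have e : {y : G ⧸ K // ∀ g ∈ K, g • y = y} ≃ MulAction.fixedPoints K (G ⧸ K) :=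
    Equiv.subtypeEquivRight (fun y => ⟨fun h a => h a a.2, fun h g hg => h ⟨g, hg⟩⟩)
  exact (Nat.card_congr e).trans h1

theorem fp_self_pos (K : Subgroup G) : 0 < fp K K := fp_pos_iff.2 ⟨1, by rw [cj_one]⟩

/-- The `G`-set with `m K` copies of `G/K`. -/
abbrev XS (m : Subgroup G → ℕ) : Type _ := Σ i : (Σ K : Subgroup G, Fin (m K)), G ⧸ i.1

instance (m : Subgroup G → ℕ) : Finite (XS m) := by
  haveI : Finite (Σ K : Subgroup G, Fin (m K)) := inferInstance
  exact inferInstance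

theorem mk_XS [Fintype (Subgroup G)] (m : Subgroup G → ℕ) (L : Subgroup G) :
    mk (XS m) L = ∑ K, m K * fp K L := by
  classical
  have e : {x : XS m // ∀ g ∈ L, g • x = x} ≃ Σ i : (Σ K : Subgroup G, Fin (m K)), {y : G ⧸ i.1 // ∀ g ∈ L, g • y = y} :=
    { toFun := fun x => ⟨x.1.1, x.1.2, fun g hg => by
        obtain ⟨⟨i, y⟩, hx⟩ := x
        have h : (⟨i, g • y⟩ : XS m) = ⟨i, y⟩ := hx g hg
        simpa using h⟩
      invFun := fun x => ⟨⟨x.1, x.2.1⟩, fun g hg => by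
        show (⟨x.1, g • x.2.1⟩ : XS m) = _
        rw [x.2.2 g hg]⟩
      left_inv := fun x => rfl
      right_inv := fun x => rfl }
  rw [mk, Nat.card_congr e, Nat.card_sigma, Fintype.sum_sigma]
  refine Finset.sum_congr rfl (fun K _ => ?_)
  calc _ = ∑ _y : Fin (m K), fp K L := rfl
    _ = _ := by simp

/-- The stabilizers of the `G`-set. -/
theorem stab_XS {m : Subgroup G → ℕ} (x : XS m) :
    ∃ K g, m K ≠ 0 ∧ MulAction.stabilizer G x = cj g K := by
  obtain ⟨⟨K, j⟩, y⟩ := x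
  obtain ⟨g, rfl⟩ := QuotientGroup.mk_surjective y
  refine ⟨K, g, fun h => ?_, ?_⟩
  · have : j.val < m K := j.isLt
    omega
  · ext a
    rw [MulAction.mem_stabilizer_iff, mem_cj]
    have : a • (⟨⟨K, j⟩, (g : G ⧸ K)⟩ : XS m) = ⟨⟨K, j⟩, ((a * g : G) : G ⧸ K)⟩ := rfl
    rw [this]
    constructor
    · intro h
      have h1 : ((a * g : G) : G ⧸ K) = (g : G) := by
        have := congrArg (fun z : XS m => z) h
        simpa using h
      rw [QuotientGroup.eq] at h1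
      have h4 : g⁻¹ * a * g = ((a * g)⁻¹ * g)⁻¹ := by group
      rw [h4]
      exact K.inv_mem h1
    · intro h
      have h1 : ((a * g : G) : G ⧸ K) = (g : G) := by
        rw [QuotientGroup.eq]
        have h4 : (a * g)⁻¹ * g = (g⁻¹ * a * g)⁻¹ := by group
        rw [h4]
        exact K.inv_mem h
      rw [h1]

/-- Conjugacy of subgroups. -/
def cjSetoid (G : Type*) [Group G] : Setoid (Subgroup G) where
  r K K' := ∃ g, K' = cj g K
  iseqv := ⟨fun K => ⟨1, (cj_one K).symm⟩, fun {K K'} ⟨g, h⟩ => ⟨g⁻¹, by rw [h, cj_inv_cj]⟩,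
    fun {K K' K''} ⟨g, h⟩ ⟨g', h'⟩ => ⟨g' * g, by rw [h', h, cj_mul]⟩⟩

/-- A representative of a conjugacy class of subgroups. -/
noncomputable def rep (K : Subgroup G) : Subgroup G := Quotient.out (Quotient.mk (cjSetoid G) K)

theorem rep_rel (K : Subgroup G) : ∃ g, rep K = cj g K := by
  have h : Quotient.mk (cjSetoid G) (rep K) = Quotient.mk (cjSetoid G) K := Quotient.out_eq _
  obtain ⟨g, hg⟩ := Quotient.exact h
  obtain ⟨g', hg'⟩ := (cjSetoid G).iseqv.symm ⟨g, hg⟩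
  exact ⟨g', hg'⟩

theorem rep_cj (g : G) (K : Subgroup G) : rep (cj g K) = rep K := by
  have h : Quotient.mk (cjSetoid G) (cj g K) = Quotient.mk (cjSetoid G) K :=
    Quotient.sound ((cjSetoid G).iseqv.symm ⟨g, rfl⟩)
  rw [rep, rep, h]

theorem rep_rep (K : Subgroup G) : rep (rep K) = rep K := by
  obtain ⟨g, hg⟩ := rep_rel K
  have h := rep_cj g K
  rwa [← hg] at h

/-- **Adjusting marks on a conjugation invariant family of subgroups of equal order.** -/
theorem exists_step (m : Subgroup G → ℕ) (𝓛 : Set (Subgroup G)) (c : ℕ) (hc : ∀ K ∈ 𝓛, Nat.card K = c)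
    (h𝓛 : ∀ K ∈ 𝓛, ∀ g, cj g K ∈ 𝓛) (T : Subgroup G → ℕ) (hTcj : ∀ K ∈ 𝓛, ∀ g, T (cj g K) = T K)
    (hT : ∀ K ∈ 𝓛, mk (XS m) K ≤ T K ∧ fp K K ∣ T K - mk (XS m) K) :
    ∃ m' : Subgroup G → ℕ, (∀ K, K ∉ 𝓛 → m' K = m K) ∧ (∀ K ∈ 𝓛, mk (XS m') K = T K) ∧
      ∀ L : Subgroup G, c < Nat.card L → mk (XS m') L = mk (XS m) L := by
  classical
  letI : Fintype (Subgroup G) := Fintype.ofFinite _
  let cnt : Subgroup G → ℕ := fun K => if K ∈ 𝓛 ∧ rep K = K then (T K - mk (XS m) K) / fp K K else 0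
  have hadd : ∀ L, mk (XS (fun K => m K + cnt K)) L = mk (XS m) L + ∑ K, cnt K * fp K L := by
    intro L
    rw [mk_XS, mk_XS, ← Finset.sum_add_distrib]
    refine Finset.sum_congr rfl (fun K _ => ?_)
    ring
  have hcnt : ∀ K, cnt K ≠ 0 → K ∈ 𝓛 ∧ rep K = K := by
    intro K hK
    by_contra h
    exact hK (if_neg h)
  refine ⟨fun K => m K + cnt K, ?_, ?_, ?_⟩
  · intro K hK
    have : cnt K = 0 := if_neg (fun h => hK h.1)
    simp [this]
  · intro L hL
    rw [hadd]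
    set K₀ := rep L with hK₀
    obtain ⟨g, hg⟩ := rep_rel L
    have hK₀𝓛 : K₀ ∈ 𝓛 := by rw [hK₀, hg]; exact h𝓛 L hL g
    have hrep : rep K₀ = K₀ := rep_rep L
    have hsum : ∑ K, cnt K * fp K L = cnt K₀ * fp K₀ L := by
      refine Finset.sum_eq_single K₀ (fun K _ hne => ?_) (fun h => (h (Finset.mem_univ _)).elim)
      by_contra hne'
      have h1 : cnt K ≠ 0 := fun h => hne' (by rw [h, zero_mul])
      have h2 : fp K L ≠ 0 := fun h => hne' (by rw [h, mul_zero])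
      obtain ⟨hK𝓛, hKrep⟩ := hcnt K h1
      obtain ⟨x, hx⟩ := fp_pos_iff.1 (Nat.pos_of_ne_zero h2)
      have hcard : Nat.card (cj x K) ≤ Nat.card L := by
        rw [card_cj, hc K hK𝓛, hc L hL]
      have hLK : L = cj x K := Subgroup.eq_of_le_of_card_ge hx hcard
      apply hne
      rw [← hKrep, hK₀, hLK, rep_cj]
    rw [hsum]
    have hK₀g : K₀ = cj g L := hg
    have hfp : fp K₀ L = fp K₀ K₀ := by
      calc fp K₀ L = fp K₀ (cj g L) := (fp_cj_right K₀ L g).symm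
        _ = fp K₀ K₀ := by rw [← hK₀g]
    have hc₀ : cnt K₀ = (T K₀ - mk (XS m) K₀) / fp K₀ K₀ := if_pos ⟨hK₀𝓛, hrep⟩
    rw [hfp, hc₀, Nat.div_mul_cancel (hT K₀ hK₀𝓛).2]
    have h1 : T K₀ = T L := by rw [hK₀g]; exact hTcj L hL g
    have h2 : mk (XS m) K₀ = mk (XS m) L := by rw [hK₀g]; exact mk_cj _ L g
    have h3 := (hT L hL).1
    rw [h1, h2]
    omega
  · intro L hL
    rw [hadd]
    have : ∑ K, cnt K * fp K L = 0 := by
      refine Finset.sum_eq_zero (fun K _ => ?_)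
      by_contra hne'
      have h1 : cnt K ≠ 0 := fun h => hne' (by rw [h, zero_mul])
      have h2 : fp K L ≠ 0 := fun h => hne' (by rw [h, mul_zero])
      obtain ⟨hK𝓛, -⟩ := hcnt K h1
      obtain ⟨x, hx⟩ := fp_pos_iff.1 (Nat.pos_of_ne_zero h2)
      have hcard : Nat.card L ≤ Nat.card (cj x K) := Subgroup.card_le_of_le hx
      rw [card_cj, hc K hK𝓛] at hcard
      omega
    rw [this, add_zero]

end GSets

section Dvd

variable {G : Type*} [Group G] {X : Type*} [MulAction G X]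

/-- The action of `N` on the fixed points of `K`. -/
def fixAct {N : Type*} [Group N] (ρ : N →* G) (K : Subgroup G) (h : ∀ (g : N), ∀ k ∈ K, ρ g * k * (ρ g)⁻¹ ∈ K) :
    MulAction N {x : X // ∀ k ∈ K, k • x = x} where
  smul g x := ⟨ρ g • x.1, fun k hk => by
    have h1 : ρ g⁻¹ * k * (ρ g⁻¹)⁻¹ ∈ K := h g⁻¹ k hk
    have h2 := x.2 _ h1
    have h3 : (ρ g⁻¹ * k * (ρ g⁻¹)⁻¹) • x.1 = (ρ g)⁻¹ • k • ρ g • x.1 := by
      rw [map_inv, inv_inv, mul_smul, mul_smul]
    rw [h3] at h2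
    exact (inv_smul_eq_iff.1 h2)⟩
  one_smul x := Subtype.ext (by
    show ρ 1 • x.1 = x.1
    rw [map_one, one_smul])
  mul_smul a b x := Subtype.ext (by
    show ρ (a * b) • x.1 = ρ a • ρ b • x.1
    rw [map_mul, mul_smul])

theorem card_fix_fixAct {N : Type*} [Group N] (ρ : N →* G) (K : Subgroup G) (h : ∀ (g : N), ∀ k ∈ K, ρ g * k * (ρ g)⁻¹ ∈ K)
    (L' : Subgroup N) (hL : ∀ k ∈ K, k ∈ L'.map ρ) :
    letI := fixAct (X := X) ρ K h
    Nat.card {y : {x : X // ∀ k ∈ K, k • x = x} // ∀ g ∈ L', g • y = y} = mk X (L'.map ρ) := by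
  letI := fixAct (X := X) ρ K h
  have hs : ∀ (g : N) (y : {x : X // ∀ k ∈ K, k • x = x}), ((g • y : {x : X // ∀ k ∈ K, k • x = x}) : X) = ρ g • (y : X) := fun _ _ => rfl
  refine Nat.card_congr
    { toFun := fun y => ⟨y.1.1, ?_⟩
      invFun := fun x => ⟨⟨x.1, fun k hk => x.2 k (hL k hk)⟩, fun g hg => Subtype.ext ?_⟩
      left_inv := fun y => rfl
      right_inv := fun y => rfl }
  · rintro _ ⟨g, hg, rfl⟩
    have := congrArg Subtype.val (y.2 g hg)
    simpa [hs] using this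
  · rw [hs]
    exact x.2 _ ⟨g, hg, rfl⟩

variable [Finite G] [Finite X]

/-- The congruence for marks along a map of normalizers. -/
theorem dvd_marks (K K₀ : Subgroup G) (τ : Subgroup.normalizer (K : Set G) →* G)
    (hK : ∀ k ∈ K₀, ∃ g : Subgroup.normalizer (K : Set G), (g : G) ∈ K ∧ τ g = k)
    (hKτ : ∀ g : Subgroup.normalizer (K : Set G), (g : G) ∈ K → τ g ∈ K₀)
    (hN : ∀ g, ∀ k ∈ K₀, τ g * k * (τ g)⁻¹ ∈ K₀)
    (hm : ∀ L' : Subgroup (Subgroup.normalizer (K : Set G)), K.subgroupOf _ < L' →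
      mk X (L'.map (Subgroup.normalizer (K : Set G)).subtype) = mk X (L'.map τ)) :
    ((K.subgroupOf (Subgroup.normalizer (K : Set G))).index : ℤ) ∣ (mk X K : ℤ) - (mk X K₀ : ℤ) := by
  have h₁ : ∀ (g : Subgroup.normalizer (K : Set G)), ∀ k ∈ K,
      (Subgroup.normalizer (K : Set G)).subtype g * k * ((Subgroup.normalizer (K : Set G)).subtype g)⁻¹ ∈ K := by
    intro g k hk
    exact (Subgroup.mem_normalizer_iff.1 g.2 k).1 hk
  letI a₁ := fixAct (X := X) (Subgroup.normalizer (K : Set G)).subtype K h₁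
  letI a₂ := fixAct (X := X) τ K₀ hN
  haveI hD : (K.subgroupOf (Subgroup.normalizer (K : Set G))).Normal := Subgroup.normal_in_normalizer
  have key := dvd_card_sub_of_marks (N := Subgroup.normalizer (K : Set G)) (Y := {x : X // ∀ k ∈ K, k • x = x})
    (Y₀ := {x : X // ∀ k ∈ K₀, k • x = x}) (K.subgroupOf (Subgroup.normalizer (K : Set G)))
    (fun d hd y => Subtype.ext (y.2 _ hd)) (fun d hd y => Subtype.ext (y.2 _ (hKτ d hd)))
    (fun L hL => ?_)
  · exact key
  · rw [card_fix_fixAct _ K h₁ L ?_, card_fix_fixAct τ K₀ hN L ?_]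
    · exact hm L hL
    · intro k hk
      obtain ⟨g, hg, rfl⟩ := hK k hk
      exact ⟨g, hL.le hg, rfl⟩
    · intro k hk
      have hkN : k ∈ Subgroup.normalizer (K : Set G) := Subgroup.le_normalizer hk
      exact ⟨⟨k, hkN⟩, hL.le hk, rfl⟩

end Dvd

end Cfsg.Agent.Lib.Fusion2
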