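/-
Graphs of the maps of a fusion system, as subgroups of `S × S`.
-/
import Cfsg.Agent.Lib.Fusion.Saturation
import Cfsg.Agent.Lib.Fusion2.GSets

set_option autoImplicit false

namespace Cfsg.Agent.Lib.Fusion2

open Cfsg Cfsg.FusionSystem Cfsg.Agent.Lib.Fusion

variable {Ω : Type*} [Group Ω] {S : Subgroup Ω} {F : FusionSystem S}

/-- The graph of a map. -/
def gr (S P : Subgroup Ω) (φ : P →* Ω) : Subgroup (↥S × ↥S) where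
  carrier := {g | ∃ h : (g.1 : Ω) ∈ P, φ ⟨g.1, h⟩ = g.2}
  mul_mem' := by
    rintro a b ⟨ha, ha'⟩ ⟨hb, hb'⟩
    refine ⟨P.mul_mem ha hb, ?_⟩
    have : (⟨((a * b).1 : Ω), P.mul_mem ha hb⟩ : P) = ⟨a.1, ha⟩ * ⟨b.1, hb⟩ := rfl
    rw [this, map_mul, ha', hb']
    rfl
  one_mem' := ⟨P.one_mem, map_one φ⟩
  inv_mem' := by
    rintro a ⟨ha, ha'⟩
    refine ⟨P.inv_mem ha, ?_⟩
    have : (⟨((a⁻¹).1 : Ω), P.inv_mem ha⟩ : P) = (⟨a.1, ha⟩ : P)⁻¹ := rfl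
    rw [this, map_inv, ha']
    rfl

theorem mem_gr {P : Subgroup Ω} {φ : P →* Ω} {g : ↥S × ↥S} : g ∈ gr S P φ ↔ ∃ h : (g.1 : Ω) ∈ P, φ ⟨g.1, h⟩ = g.2 :=
  Iff.rfl

/-- The subgroup is the graph of a map of the system. -/
def IsG (F : FusionSystem S) (K : Subgroup (↥S × ↥S)) : Prop := ∃ (P : Subgroup Ω) (φ : P →* Ω), φ ∈ F.Hom P ∧ K = gr S P φ

/-- The element of the graph above a point. -/
def grPt {P : Subgroup Ω} {φ : P →* Ω} (hφ : φ ∈ F.Hom P) (x : P) : ↥S × ↥S :=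
  (⟨x, le_of_hom hφ x.2⟩, ⟨φ x, val_mem hφ x⟩)

theorem grPt_mem {P : Subgroup Ω} {φ : P →* Ω} (hφ : φ ∈ F.Hom P) (x : P) : grPt hφ x ∈ gr S P φ :=
  ⟨x.2, rfl⟩

theorem exists_grPt {P : Subgroup Ω} {φ : P →* Ω} (hφ : φ ∈ F.Hom P) {g : ↥S × ↥S} (hg : g ∈ gr S P φ) :
    ∃ x : P, g = grPt hφ x := by
  obtain ⟨h, h'⟩ := hg
  refine ⟨⟨g.1, h⟩, Prod.ext rfl (Subtype.ext h'.symm)⟩

theorem card_gr {P : Subgroup Ω} {φ : P →* Ω} (hφ : φ ∈ F.Hom P) : Nat.card (gr S P φ) = Nat.card P := by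
  refine Nat.card_congr (Equiv.symm (Equiv.ofBijective (fun x : P => (⟨grPt hφ x, grPt_mem hφ x⟩ : gr S P φ)) ⟨?_, ?_⟩))
  · intro a b hab
    have : grPt hφ a = grPt hφ b := congrArg Subtype.val hab
    exact Subtype.ext (congrArg (fun g : ↥S × ↥S => (g.1 : Ω)) this)
  · rintro ⟨g, hg⟩
    obtain ⟨x, rfl⟩ := exists_grPt hφ hg
    exact ⟨x, rfl⟩

/-- A subgroup of a graph is a graph. -/
theorem isG_of_le {K L : Subgroup (↥S × ↥S)} (hK : IsG F K) (hL : L ≤ K) : IsG F L := by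
  obtain ⟨P, φ, hφ, rfl⟩ := hK
  let R : Subgroup Ω := (L.map (MonoidHom.fst ↥S ↥S)).map S.subtype
  have hRP : R ≤ P := by
    rintro _ ⟨_, ⟨g, hg, rfl⟩, rfl⟩
    exact (hL hg).1
  refine ⟨R, φ.comp (Subgroup.inclusion hRP), restrict_mem hφ hRP, ?_⟩
  ext g
  constructor
  · intro hg
    obtain ⟨h1, h2⟩ := hL hg
    refine ⟨⟨_, ⟨g, hg, rfl⟩, rfl⟩, h2⟩
  · rintro ⟨⟨_, ⟨g', hg', rfl⟩, hgg⟩, h2⟩
    obtain ⟨h3, h4⟩ := hL hg'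
    have h5 : (g'.1 : Ω) = g.1 := hgg
    have h6 : g = g' := by
      refine Prod.ext (Subtype.ext h5.symm) (Subtype.ext ?_)
      rw [← h2, ← h4]
      show φ _ = φ _
      congr 1
      exact Subtype.ext h5.symm
    rw [h6]
    exact hg'

/-- `L` is obtained from `L₀` by a pair of maps. -/
structure Twist {A B : Subgroup Ω} (α : A →* Ω) (β : B →* Ω) (L₀ L : Subgroup (↥S × ↥S)) : Prop where
  h1 : ∀ g ∈ L₀, ∃ (ha : (g.1 : Ω) ∈ A) (hb : (g.2 : Ω) ∈ B), ∃ g' ∈ L, (g'.1 : Ω) = α ⟨g.1, ha⟩ ∧ (g'.2 : Ω) = β ⟨g.2, hb⟩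
  h2 : ∀ g' ∈ L, ∃ g ∈ L₀, ∃ (ha : (g.1 : Ω) ∈ A) (hb : (g.2 : Ω) ∈ B), (g'.1 : Ω) = α ⟨g.1, ha⟩ ∧ (g'.2 : Ω) = β ⟨g.2, hb⟩

/-- `L` is obtained from `L₀` by a pair of maps of the system. -/
def Tw (F : FusionSystem S) (L₀ L : Subgroup (↥S × ↥S)) : Prop :=
  ∃ (A B : Subgroup Ω) (α : A →* Ω) (β : B →* Ω), α ∈ F.Hom A ∧ β ∈ F.Hom B ∧ Twist α β L₀ L

/-- Twisting a graph gives a graph with a conjugate source. -/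
theorem Tw.isG {L₀ L : Subgroup (↥S × ↥S)} (h : Tw F L₀ L) {R : Subgroup Ω} {χ : R →* Ω} (hχ : χ ∈ F.Hom R)
    (hL₀ : L₀ = gr S R χ) : ∃ (R' : Subgroup Ω) (χ' : R' →* Ω), χ' ∈ F.Hom R' ∧ L = gr S R' χ' ∧ F.IsConj R R' := by
  subst hL₀
  obtain ⟨A, B, α, β, hα, hβ, hT⟩ := h
  have hRS : R ≤ S := le_of_hom hχ
  have hRA : R ≤ A := by
    intro x hx
    obtain ⟨ha, -⟩ := hT.h1 _ (grPt_mem hχ ⟨x, hx⟩)
    exact ha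
  have hχB : ∀ x : R, χ x ∈ B := by
    intro x
    obtain ⟨-, hb, -⟩ := hT.h1 _ (grPt_mem hχ x)
    exact hb
  let ρ : R →* Ω := α.comp (Subgroup.inclusion hRA)
  have hρ : ρ ∈ F.Hom R := restrict_mem hα hRA
  obtain ⟨ι, hι, hιx⟩ := F.inv_mem hρ
  have hιR : ∀ y : ρ.range, ι y ∈ R := by
    rintro ⟨_, x, rfl⟩
    rw [hιx]
    exact x.2
  let χ₁ : ρ.range →* Ω := χ.comp (ι.codRestrict R hιR)
  have hχ₁ : χ₁ ∈ F.Hom ρ.range := F.comp_mem hι hχ hιR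
  have hχ₁x : ∀ x : R, χ₁ ⟨ρ x, ⟨x, rfl⟩⟩ = χ x := by
    intro x
    show χ (ι.codRestrict R hιR ⟨ρ x, ⟨x, rfl⟩⟩) = χ x
    congr 1
    exact Subtype.ext (hιx x)
  have hχ₁B : ∀ y : ρ.range, χ₁ y ∈ B := by
    rintro ⟨_, x, rfl⟩
    rw [hχ₁x]
    exact hχB x
  let χ' : ρ.range →* Ω := β.comp (χ₁.codRestrict B hχ₁B)
  have hχ' : χ' ∈ F.Hom ρ.range := F.comp_mem hχ₁ hβ hχ₁B
  have hχ'x : ∀ x : R, χ' ⟨ρ x, ⟨x, rfl⟩⟩ = β ⟨χ x, hχB x⟩ := by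
    intro x
    show β (χ₁.codRestrict B hχ₁B ⟨ρ x, ⟨x, rfl⟩⟩) = _
    congr 1
    exact Subtype.ext (hχ₁x x)
  refine ⟨ρ.range, χ', hχ', ?_, ρ, hρ, rfl⟩
  ext g
  constructor
  · intro hg
    obtain ⟨g₀, hg₀, ha, hb, h1, h2⟩ := hT.h2 g hg
    obtain ⟨x, rfl⟩ := exists_grPt hχ hg₀
    have h3 : (g.1 : Ω) = ρ x := h1
    refine ⟨⟨x, h3.symm⟩, ?_⟩
    have h4 : (⟨(g.1 : Ω), ⟨x, h3.symm⟩⟩ : ρ.range) = ⟨ρ x, ⟨x, rfl⟩⟩ := Subtype.ext h3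
    rw [h4, hχ'x, h2]
    rfl
  · rintro ⟨⟨x, hx⟩, h2⟩
    obtain ⟨ha, hb, g', hg', h3, h4⟩ := hT.h1 _ (grPt_mem hχ x)
    have h5 : (g.1 : Ω) = ρ x := hx.symm
    have h6 : (⟨(g.1 : Ω), ⟨x, hx⟩⟩ : ρ.range) = ⟨ρ x, ⟨x, rfl⟩⟩ := Subtype.ext h5
    rw [h6, hχ'x] at h2
    have h7 : g = g' := by
      refine Prod.ext (Subtype.ext (h5.trans h3.symm)) (Subtype.ext ?_)
      rw [← h2, h4]
      rfl
    rw [h7]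
    exact hg'

/-- The relation is symmetric. -/
theorem Tw.symm {L₀ L : Subgroup (↥S × ↥S)} (h : Tw F L₀ L) : Tw F L L₀ := by
  obtain ⟨A, B, α, β, hα, hβ, hT⟩ := h
  obtain ⟨ι, hι, hιx⟩ := F.inv_mem hα
  obtain ⟨κ, hκ, hκx⟩ := F.inv_mem hβ
  refine ⟨α.range, β.range, ι, κ, hι, hκ, ?_, ?_⟩
  · intro g' hg'
    obtain ⟨g, hg, ha, hb, h1, h2⟩ := hT.h2 g' hg'
    have h3 : (g'.1 : Ω) ∈ α.range := ⟨⟨g.1, ha⟩, h1.symm⟩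
    have h4 : (g'.2 : Ω) ∈ β.range := ⟨⟨g.2, hb⟩, h2.symm⟩
    refine ⟨h3, h4, g, hg, ?_, ?_⟩
    · have e : (⟨(g'.1 : Ω), h3⟩ : α.range) = ⟨α ⟨g.1, ha⟩, ⟨_, rfl⟩⟩ := Subtype.ext h1
      rw [e, hιx]
    · have e : (⟨(g'.2 : Ω), h4⟩ : β.range) = ⟨β ⟨g.2, hb⟩, ⟨_, rfl⟩⟩ := Subtype.ext h2
      rw [e, hκx]
  · intro g hg
    obtain ⟨ha, hb, g', hg', h1, h2⟩ := hT.h1 g hg
    have h3 : (g'.1 : Ω) ∈ α.range := ⟨⟨g.1, ha⟩, h1.symm⟩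
    have h4 : (g'.2 : Ω) ∈ β.range := ⟨⟨g.2, hb⟩, h2.symm⟩
    refine ⟨g', hg', h3, h4, ?_, ?_⟩
    · have e : (⟨(g'.1 : Ω), h3⟩ : α.range) = ⟨α ⟨g.1, ha⟩, ⟨_, rfl⟩⟩ := Subtype.ext h1
      rw [e, hιx]
    · have e : (⟨(g'.2 : Ω), h4⟩ : β.range) = ⟨β ⟨g.2, hb⟩, ⟨_, rfl⟩⟩ := Subtype.ext h2
      rw [e, hκx]

/-- Conjugation is a twist. -/
theorem tw_cj (L : Subgroup (↥S × ↥S)) (g : ↥S × ↥S) : Tw F L (cj g L) := by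
  refine ⟨S, S, conjHom S g.1, conjHom S g.2, F.conj_mem le_rfl g.1.2, F.conj_mem le_rfl g.2.2, ?_, ?_⟩
  · intro a ha
    refine ⟨a.1.2, a.2.2, g * a * g⁻¹, mem_cj.2 (by simpa [mul_assoc] using ha), rfl, rfl⟩
  · intro a ha
    refine ⟨g⁻¹ * a * g, mem_cj.1 ha, (g⁻¹ * a * g).1.2, (g⁻¹ * a * g).2.2, ?_, ?_⟩
    · show (a.1 : Ω) = (g.1 : Ω) * (g⁻¹ * a * g).1 * (g.1 : Ω)⁻¹
      have : (g⁻¹ * a * g).1 = (g.1)⁻¹ * a.1 * g.1 := rfl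
      rw [this]
      simp [mul_assoc]
    · show (a.2 : Ω) = (g.2 : Ω) * (g⁻¹ * a * g).2 * (g.2 : Ω)⁻¹
      have : (g⁻¹ * a * g).2 = (g.2)⁻¹ * a.2 * g.2 := rfl
      rw [this]
      simp [mul_assoc]

theorem isG_cj {K : Subgroup (↥S × ↥S)} (hK : IsG F K) (g : ↥S × ↥S) : IsG F (cj g K) := by
  obtain ⟨P, φ, hφ, rfl⟩ := hK
  obtain ⟨R', χ', hχ', h, -⟩ := (tw_cj (F := F) (gr S P φ) g).isG hφ rfl
  exact ⟨R', χ', hχ', h⟩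

/-- Marks of a `G`-set all of whose stabilizers are graphs. -/
theorem isG_of_mk_ne_zero {X : Type*} [MulAction (↥S × ↥S) X] (hX : ∀ x : X, IsG F (MulAction.stabilizer (↥S × ↥S) x))
    {L : Subgroup (↥S × ↥S)} (h : mk X L ≠ 0) : IsG F L := by
  have : Nonempty {x : X // ∀ g ∈ L, g • x = x} := by
    by_contra hne
    rw [not_nonempty_iff] at hne
    exact h Nat.card_of_isEmpty
  obtain ⟨⟨x, hx⟩⟩ := this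
  exact isG_of_le (hX x) (fun g hg => hx g hg)

/-- Twisted subgroups of a graph-stabilizer `G`-set: equal marks reduce to graphs. -/
theorem mk_eq_of_tw {X : Type*} [MulAction (↥S × ↥S) X] (hX : ∀ x : X, IsG F (MulAction.stabilizer (↥S × ↥S) x))
    {L₀ L : Subgroup (↥S × ↥S)} (hT : Tw F L₀ L)
    (hst : ∀ (R R' : Subgroup Ω) (χ : R →* Ω) (χ' : R' →* Ω), χ ∈ F.Hom R → χ' ∈ F.Hom R' → L₀ = gr S R χ → L = gr S R' χ' →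
      F.IsConj R R' → mk X L₀ = mk X L) : mk X L₀ = mk X L := by
  by_cases hG : IsG F L₀
  · obtain ⟨R, χ, hχ, rfl⟩ := hG
    obtain ⟨R', χ', hχ', rfl, hc⟩ := hT.isG hχ rfl
    exact hst R R' χ χ' hχ hχ' rfl rfl hc
  · have h0 : mk X L₀ = 0 := by
      by_contra h
      exact hG (isG_of_mk_ne_zero hX h)
    have h1 : ¬ IsG F L := by
      rintro ⟨R, χ, hχ, rfl⟩
      obtain ⟨R', χ', hχ', h2, -⟩ := hT.symm.isG hχ rfl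
      exact hG ⟨R', χ', hχ', h2⟩
    have h2 : mk X L = 0 := by
      by_contra h
      exact h1 (isG_of_mk_ne_zero hX h)
    rw [h0, h2]

section Key

variable [Finite S] {p : ℕ} [hp : Fact p.Prime]

/-- The transport of the normalizer of a graph to the normalizer of a diagonal on a fully normalized subgroup. -/
theorem exists_tau (hS : IsPGroup p S) (hF : F.IsSaturated p) {P P₀ : Subgroup Ω} {φ : P →* Ω} (hφ : φ ∈ F.Hom P)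
    (hP₀ : F.IsFullyNormalized P₀) (hc : F.IsConj P P₀) :
    ∃ τ : Subgroup.normalizer ((gr S P φ : Subgroup (↥S × ↥S)) : Set (↥S × ↥S)) →* (↥S × ↥S),
      Function.Injective τ ∧
      (∀ k ∈ gr S P₀ P₀.subtype, ∃ g : Subgroup.normalizer ((gr S P φ : Subgroup (↥S × ↥S)) : Set (↥S × ↥S)),
        (g : ↥S × ↥S) ∈ gr S P φ ∧ τ g = k) ∧
      (∀ g : Subgroup.normalizer ((gr S P φ : Subgroup (↥S × ↥S)) : Set (↥S × ↥S)),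
        (g : ↥S × ↥S) ∈ gr S P φ → τ g ∈ gr S P₀ P₀.subtype) ∧
      (∀ g, ∀ k ∈ gr S P₀ P₀.subtype, τ g * k * (τ g)⁻¹ ∈ gr S P₀ P₀.subtype) ∧
      (∀ L' : Subgroup (Subgroup.normalizer ((gr S P φ : Subgroup (↥S × ↥S)) : Set (↥S × ↥S))),
        Tw F (L'.map (Subgroup.normalizer ((gr S P φ : Subgroup (↥S × ↥S)) : Set (↥S × ↥S))).subtype) (L'.map τ)) := by
  have hPS : P ≤ S := le_of_hom hφ
  have hP₀S : P₀ ≤ S := hP₀.1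
  obtain ⟨αt, hαt, hαtN, hαtP⟩ := exists_ext_of_fullyNormalized hS hF hP₀ hc
  have hPN : P ≤ normalizerIn S P := le_normalizerIn hPS
  let α₀ : P →* Ω := αt.comp (Subgroup.inclusion hPN)
  have hα₀ : α₀ ∈ F.Hom P := restrict_mem hαt hPN
  have hα₀r : ∀ y, y ∈ P₀ ↔ ∃ x : P, α₀ x = y := by
    intro y
    rw [← hαtP]
    constructor
    · rintro ⟨⟨x, hxN⟩, hx, rfl⟩
      exact ⟨⟨x, hx⟩, rfl⟩
    · rintro ⟨x, rfl⟩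
      exact ⟨⟨x, hPN x.2⟩, x.2, rfl⟩
  obtain ⟨ι, hι, hιx⟩ := F.inv_mem hφ
  have hιP : ∀ y : φ.range, ι y ∈ P := by
    rintro ⟨_, x, rfl⟩
    rw [hιx]
    exact x.2
  let β : φ.range →* Ω := α₀.comp (ι.codRestrict P hιP)
  have hβ : β ∈ F.Hom φ.range := F.comp_mem hι hα₀ hιP
  have hβx : ∀ x : P, β ⟨φ x, ⟨x, rfl⟩⟩ = α₀ x := by
    intro x
    show α₀ (ι.codRestrict P hιP ⟨φ x, ⟨x, rfl⟩⟩) = _
    congr 1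
    exact Subtype.ext (hιx x)
  have hβr : β.range = P₀ := by
    ext y
    rw [hα₀r]
    constructor
    · rintro ⟨⟨_, x, rfl⟩, rfl⟩
      exact ⟨x, (hβx x).symm⟩
    · rintro ⟨x, rfl⟩
      exact ⟨⟨φ x, ⟨x, rfl⟩⟩, hβx x⟩
  obtain ⟨-, hrec⟩ := receptive_of_fullyNormalized hS hF hP₀
  obtain ⟨ψ, hψ, hψx⟩ := hrec φ.range β hβ hβr
  set N := Subgroup.normalizer ((gr S P φ : Subgroup (↥S × ↥S)) : Set (↥S × ↥S)) with hN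
  -- the facts on the normalizer
  have hNf : ∀ (g : N) (x : P), ∃ h : (g.1.1 : Ω) * x * (g.1.1 : Ω)⁻¹ ∈ P,
      φ ⟨(g.1.1 : Ω) * x * (g.1.1 : Ω)⁻¹, h⟩ = (g.1.2 : Ω) * φ x * (g.1.2 : Ω)⁻¹ := by
    intro g x
    have h1 := (Subgroup.mem_normalizer_iff.1 g.2 (grPt hφ x)).1 (grPt_mem hφ x)
    exact h1
  have hmemA : ∀ g : N, (g.1.1 : Ω) ∈ normalizerIn S P := by
    intro g
    refine ⟨g.1.1.2, mem_normalizer_of_conj_mem hPS (fun x hx => ?_)⟩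
    exact (hNf g ⟨x, hx⟩).1
  have hφr : φ.range ≤ S := by
    rintro _ ⟨x, rfl⟩
    exact val_mem hφ x
  have hbn : ∀ g : N, (g.1.2 : Ω) ∈ Subgroup.normalizer ((φ.range : Subgroup Ω) : Set Ω) := by
    intro g
    refine mem_normalizer_of_conj_mem hφr ?_
    rintro _ ⟨x, rfl⟩
    obtain ⟨h, h'⟩ := hNf g x
    exact ⟨_, h'⟩
  have hconj : ∀ (g : N) (x : P) (h : (g.1.1 : Ω) * x * (g.1.1 : Ω)⁻¹ ∈ P),
      α₀ ⟨(g.1.1 : Ω) * x * (g.1.1 : Ω)⁻¹, h⟩ = αt ⟨g.1.1, hmemA g⟩ * α₀ x * (αt ⟨g.1.1, hmemA g⟩)⁻¹ := by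
    intro g x h
    have e : (Subgroup.inclusion hPN ⟨(g.1.1 : Ω) * x * (g.1.1 : Ω)⁻¹, h⟩ : normalizerIn S P) =
        ⟨g.1.1, hmemA g⟩ * Subgroup.inclusion hPN x * (⟨g.1.1, hmemA g⟩)⁻¹ := rfl
    show αt _ = _
    rw [e, map_mul, map_mul, map_inv]
    rfl
  have hmemB : ∀ g : N, (g.1.2 : Ω) ∈ extender S φ.range β := by
    intro g
    refine mem_extender_of (h := αt ⟨g.1.1, hmemA g⟩) g.1.2.2 (hbn g) (val_mem hαt _) ?_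
    rintro ⟨_, x, rfl⟩
    obtain ⟨h, h'⟩ := hNf g x
    have e : (⟨(g.1.2 : Ω) * φ x * (g.1.2 : Ω)⁻¹, conj_mem_of_normalizer (hbn g) ⟨x, rfl⟩⟩ : φ.range) =
        ⟨φ ⟨(g.1.1 : Ω) * x * (g.1.1 : Ω)⁻¹, h⟩, ⟨_, rfl⟩⟩ := Subtype.ext h'.symm
    rw [e, hβx, hβx, hconj g x h]
  let τ : N →* (↥S × ↥S) := MonoidHom.mk'
    (fun g => (⟨αt ⟨g.1.1, hmemA g⟩, val_mem hαt _⟩, ⟨ψ ⟨g.1.2, hmemB g⟩, val_mem hψ _⟩)) (by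
      intro a b
      refine Prod.ext (Subtype.ext ?_) (Subtype.ext ?_)
      · show αt (⟨a.1.1, hmemA a⟩ * ⟨b.1.1, hmemA b⟩) = _
        rw [map_mul]
        rfl
      · show ψ (⟨a.1.2, hmemB a⟩ * ⟨b.1.2, hmemB b⟩) = _
        rw [map_mul]
        rfl)
  have hτ1 : ∀ g : N, ((τ g).1 : Ω) = αt ⟨g.1.1, hmemA g⟩ := fun g => rfl
  have hτ2 : ∀ g : N, ((τ g).2 : Ω) = ψ ⟨g.1.2, hmemB g⟩ := fun g => rfl
  have hKN : ∀ x : P, grPt hφ x ∈ N := fun x => Subgroup.le_normalizer (grPt_mem hφ x)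
  have hψφ : ∀ x : P, ∀ h, ψ ⟨φ x, h⟩ = α₀ x := by
    intro x h
    rw [hψx _ ⟨x, rfl⟩ h, hβx]
  refine ⟨τ, ?_, ?_, ?_, ?_, ?_⟩
  · intro a b hab
    have h1 := congrArg (fun g : ↥S × ↥S => (g.1 : Ω)) hab
    have h2 := congrArg (fun g : ↥S × ↥S => (g.2 : Ω)) hab
    simp only [hτ1, hτ2] at h1 h2
    have h3 := inj hαt h1
    have h4 := inj hψ h2
    refine Subtype.ext (Prod.ext (Subtype.ext ?_) (Subtype.ext ?_))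
    · exact Subtype.mk.inj h3
    · exact Subtype.mk.inj h4
  · rintro k ⟨hk1, hk2⟩
    obtain ⟨x, hx⟩ := (hα₀r _).1 hk1
    refine ⟨⟨grPt hφ x, hKN x⟩, grPt_mem hφ x, Prod.ext (Subtype.ext ?_) (Subtype.ext ?_)⟩
    · exact hx
    · have h2 : ((τ ⟨grPt hφ x, hKN x⟩).2 : Ω) = α₀ x := hψφ x (le_extender hβ ⟨x, rfl⟩)
      rw [h2, hx]
      exact hk2
  · rintro ⟨g, hgN⟩ hg
    obtain ⟨x, rfl⟩ := exists_grPt hφ hg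
    have h1 : ((τ ⟨grPt hφ x, hgN⟩).1 : Ω) = α₀ x := rfl
    have h2 : ((τ ⟨grPt hφ x, hgN⟩).2 : Ω) = α₀ x := hψφ x (le_extender hβ ⟨x, rfl⟩)
    have hmem : α₀ x ∈ P₀ := (hα₀r _).2 ⟨x, rfl⟩
    refine ⟨by rw [h1]; exact hmem, ?_⟩
    show ((τ ⟨grPt hφ x, hgN⟩).1 : Ω) = _
    exact h1.trans h2.symm
  · rintro g k ⟨hk1, hk2⟩
    obtain ⟨x, hx⟩ := (hα₀r _).1 hk1
    obtain ⟨h, h'⟩ := hNf g x
    have hk2' : (k.2 : Ω) = α₀ x := hk2.symm.trans hx.symm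
    have e1 : ((τ g * k * (τ g)⁻¹).1 : Ω) = α₀ ⟨(g.1.1 : Ω) * x * (g.1.1 : Ω)⁻¹, h⟩ := by
      rw [hconj g x h, hx]
      rfl
    have hψb : ψ ⟨g.1.2, hmemB g⟩ * α₀ x * (ψ ⟨g.1.2, hmemB g⟩)⁻¹ = α₀ ⟨(g.1.1 : Ω) * x * (g.1.1 : Ω)⁻¹, h⟩ := by
      have h5 : (φ x) ∈ extender S φ.range β := le_extender hβ ⟨x, rfl⟩
      have h6 : φ ⟨(g.1.1 : Ω) * x * (g.1.1 : Ω)⁻¹, h⟩ ∈ extender S φ.range β := le_extender hβ ⟨_, rfl⟩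
      have e2 : (⟨φ ⟨(g.1.1 : Ω) * x * (g.1.1 : Ω)⁻¹, h⟩, h6⟩ : extender S φ.range β) =
          ⟨g.1.2, hmemB g⟩ * ⟨φ x, h5⟩ * (⟨g.1.2, hmemB g⟩)⁻¹ := Subtype.ext h'
      rw [← hψφ _ h6, e2, map_mul, map_mul, map_inv, hψφ]
    have e3 : ((τ g * k * (τ g)⁻¹).2 : Ω) = α₀ ⟨(g.1.1 : Ω) * x * (g.1.1 : Ω)⁻¹, h⟩ := by
      rw [← hψb, ← hk2']
      rfl
    refine ⟨?_, ?_⟩
    · rw [e1]
      exact (hα₀r _).2 ⟨_, rfl⟩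
    · show ((τ g * k * (τ g)⁻¹).1 : Ω) = _
      rw [e1, e3]
  · intro L'
    refine ⟨normalizerIn S P, extender S φ.range β, αt, ψ, hαt, hψ, ?_, ?_⟩
    · rintro _ ⟨g, hg, rfl⟩
      exact ⟨hmemA g, hmemB g, τ g, ⟨g, hg, rfl⟩, rfl, rfl⟩
    · rintro _ ⟨g, hg, rfl⟩
      exact ⟨g.1, ⟨g, hg, rfl⟩, hmemA g, hmemB g, rfl, rfl⟩

end Key

end Cfsg.Agent.Lib.Fusion2
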