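/-
The multiplicities of a characteristic biset of a saturated fusion system.
-/
import Cfsg.Agent.Lib.Fusion2.Graphs

set_option autoImplicit false

namespace Cfsg.Agent.Lib.Fusion2

open Cfsg Cfsg.FusionSystem Cfsg.Agent.Lib.Fusion

section Index

variable {G : Type*} [Group G] [Finite G] {p : ℕ} [hp : Fact p.Prime]

theorem fp_dvd_fp (hG : IsPGroup p G) {K K₀ : Subgroup G} (τ : Subgroup.normalizer (K : Set G) →* G)
    (hτ : Function.Injective τ) (hcard : Nat.card K = Nat.card K₀) (hN : ∀ g, ∀ k ∈ K₀, τ g * k * (τ g)⁻¹ ∈ K₀) :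
    fp K K ∣ fp K₀ K₀ := by
  have hpp : p.Prime := hp.out
  have hmemN : ∀ g, τ g ∈ Subgroup.normalizer (K₀ : Set G) := fun g =>
    mem_normalizer_of_conj_mem (S := ⊤) le_top (hN g)
  have hle : Nat.card (Subgroup.normalizer (K : Set G)) ≤ Nat.card (Subgroup.normalizer (K₀ : Set G)) :=
    Nat.card_le_card_of_injective (fun g => (⟨τ g, hmemN g⟩ : Subgroup.normalizer (K₀ : Set G)))
      (fun a b hab => hτ (congrArg Subtype.val hab))
  have hcardK : ∀ L : Subgroup G, Nat.card L * fp L L = Nat.card (Subgroup.normalizer (L : Set G)) := by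
    intro L
    rw [fp_self, ← Subgroup.card_mul_index (L.subgroupOf (Subgroup.normalizer (L : Set G)))]
    congr 1
    exact (Nat.card_congr (Subgroup.subgroupOfEquivOfLe Subgroup.le_normalizer).toEquiv).symm
  have hpow : ∀ L : Subgroup G, ∃ u, fp L L = p ^ u := by
    intro L
    obtain ⟨n, hn⟩ := IsPGroup.iff_card.1 hG
    have h1 : fp L L ∣ Nat.card G := by
      refine Dvd.dvd.trans ?_ (Subgroup.card_subgroup_dvd_card (Subgroup.normalizer (L : Set G)))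
      exact ⟨Nat.card L, by rw [← hcardK L, mul_comm]⟩
    rw [hn] at h1
    obtain ⟨u, -, hu⟩ := (Nat.dvd_prime_pow hpp).1 h1
    exact ⟨u, hu⟩
  obtain ⟨u, hu⟩ := hpow K
  obtain ⟨v, hv⟩ := hpow K₀
  have h1 : fp K K ≤ fp K₀ K₀ := by
    have h2 := hcardK K
    have h3 := hcardK K₀
    rw [← hcard] at h3
    have hpos : 0 < Nat.card K := Nat.card_pos
    have h4 : Nat.card K * fp K K ≤ Nat.card K * fp K₀ K₀ := by rw [h2, h3]; exact hle
    exact Nat.le_of_mul_le_mul_left h4 hpos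
  rw [hu, hv] at h1 ⊢
  exact pow_dvd_pow p ((Nat.pow_le_pow_iff_right hpp.one_lt).1 h1)

end Index

variable {Ω : Type*} [Group Ω] {S : Subgroup Ω} {F : FusionSystem S}

/-- Stability of marks on graphs with a source of order at least `n`. -/
def StableAt (F : FusionSystem S) (X : Type*) [MulAction (↥S × ↥S) X] (n : ℕ) : Prop :=
  ∀ (P P' : Subgroup Ω) (φ : P →* Ω) (φ' : P' →* Ω), φ ∈ F.Hom P → φ' ∈ F.Hom P' → F.IsConj P P' → n ≤ Nat.card P →
    mk X (gr S P φ) = mk X (gr S P' φ')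

variable [Finite S]

theorem isG_stab_XS {m : Subgroup (↥S × ↥S) → ℕ} (hm : ∀ K, m K ≠ 0 → IsG F K) (x : XS m) :
    IsG F (MulAction.stabilizer (↥S × ↥S) x) := by
  obtain ⟨K, g, hK, h⟩ := stab_XS x
  rw [h]
  exact isG_cj (hm K hK) g

variable {p : ℕ} [hp : Fact p.Prime]

theorem isPGroup_prod (hS : IsPGroup p S) : IsPGroup p (↥S × ↥S) := by
  rw [IsPGroup.iff_card]
  obtain ⟨n, hn⟩ := IsPGroup.iff_card.1 hS
  exact ⟨n + n, by rw [Nat.card_prod, hn, pow_add]⟩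

/-- The key congruence. -/
theorem key_congr (hS : IsPGroup p S) (hF : F.IsSaturated p) {X : Type*} [MulAction (↥S × ↥S) X] [Finite X]
    (hX : ∀ x : X, IsG F (MulAction.stabilizer (↥S × ↥S) x)) {n : ℕ} (hst : StableAt F X (n + 1))
    {P P₀ : Subgroup Ω} {φ : P →* Ω} (hφ : φ ∈ F.Hom P) (hcard : Nat.card P = n) (hP₀ : F.IsFullyNormalized P₀)
    (hc : F.IsConj P P₀) :
    (fp (gr S P φ) (gr S P φ) : ℤ) ∣ (mk X (gr S P φ) : ℤ) - (mk X (gr S P₀ P₀.subtype) : ℤ) ∧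
      fp (gr S P φ) (gr S P φ) ∣ fp (gr S P₀ P₀.subtype) (gr S P₀ P₀.subtype) := by
  obtain ⟨τ, hτ, hK, hKτ, hN, hTw⟩ := exists_tau hS hF hφ hP₀ hc
  have hid : P₀.subtype ∈ F.Hom P₀ := subtype_mem F hP₀.1
  constructor
  · rw [fp_self]
    refine dvd_marks (gr S P φ) (gr S P₀ P₀.subtype) τ hK hKτ hN (fun L' hL' => ?_)
    refine mk_eq_of_tw hX (hTw L') (fun R R' χ χ' hχ hχ' h1 h2 hcc => ?_)
    rw [h1, h2]
    refine hst R R' χ χ' hχ hχ' hcc ?_
    -- the order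
    have hle : gr S P φ ≤ L'.map (Subgroup.normalizer ((gr S P φ : Subgroup (↥S × ↥S)) : Set (↥S × ↥S))).subtype := by
      intro k hk
      exact ⟨⟨k, Subgroup.le_normalizer hk⟩, hL'.le hk, rfl⟩
    rw [h1] at hle
    have hcard2 : Nat.card (gr S P φ) < Nat.card (gr S R χ) := by
      refine lt_of_le_of_ne (Subgroup.card_le_of_le hle) (fun h => hL'.not_ge ?_)
      have heq : gr S P φ = gr S R χ := Subgroup.eq_of_le_of_card_ge hle h.ge
      intro g hg
      have : (g : ↥S × ↥S) ∈ L'.map (Subgroup.normalizer ((gr S P φ : Subgroup (↥S × ↥S)) : Set (↥S × ↥S))).subtype :=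
        ⟨g, hg, rfl⟩
      rw [h1, ← heq] at this
      exact this
    rw [card_gr hφ, card_gr hχ, hcard] at hcard2
    exact hcard2
  · refine fp_dvd_fp (isPGroup_prod hS) τ hτ ?_ hN
    rw [card_gr hφ, card_gr hid]
    exact isConj_card_eq hc

/-- The source of a subgroup of `S × S`. -/
def srcOf (K : Subgroup (↥S × ↥S)) : Subgroup Ω := (K.map (MonoidHom.fst ↥S ↥S)).map S.subtype

theorem src_gr {P : Subgroup Ω} {φ : P →* Ω} (hφ : φ ∈ F.Hom P) : srcOf (gr S P φ) = P := by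
  ext x
  constructor
  · rintro ⟨_, ⟨g, hg, rfl⟩, rfl⟩
    exact hg.1
  · intro hx
    exact ⟨_, ⟨grPt hφ ⟨x, hx⟩, grPt_mem hφ _, rfl⟩, rfl⟩

/-- The class of a subgroup. -/
def clOf (F : FusionSystem S) (P : Subgroup Ω) : Set (Subgroup Ω) := {Q | F.IsConj P Q}

open scoped Classical in
/-- A fully normalized member of a set of subgroups. -/
noncomputable def pickFN (F : FusionSystem S) (A : Set (Subgroup Ω)) : Subgroup Ω :=
  if h : ∃ Q ∈ A, F.IsFullyNormalized Q then h.choose else ⊥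

theorem pickFN_spec {A : Set (Subgroup Ω)} (h : ∃ Q ∈ A, F.IsFullyNormalized Q) :
    pickFN F A ∈ A ∧ F.IsFullyNormalized (pickFN F A) := by
  rw [pickFN, dif_pos h]
  exact h.choose_spec

theorem clOf_eq {P P' : Subgroup Ω} (h : F.IsConj P P') : clOf F P = clOf F P' := by
  ext Q
  exact ⟨fun hQ => isConj_trans (isConj_symm h) hQ, fun hQ => isConj_trans h hQ⟩

/-- The step between two levels. -/
theorem exists_level (hS : IsPGroup p S) (hF : F.IsSaturated p) (m : Subgroup (↥S × ↥S) → ℕ) (hm : ∀ K, m K ≠ 0 → IsG F K)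
    (n : ℕ) (hst : StableAt F (XS m) (n + 1)) :
    ∃ m' : Subgroup (↥S × ↥S) → ℕ, (∀ K, m' K ≠ 0 → IsG F K) ∧ StableAt F (XS m') n ∧
      ∀ L : Subgroup (↥S × ↥S), n < Nat.card L → mk (XS m') L = mk (XS m) L := by
  classical
  set X := XS m with hXdef
  have hX : ∀ x : X, IsG F (MulAction.stabilizer (↥S × ↥S) x) := isG_stab_XS hm
  let 𝓛 : Set (Subgroup (↥S × ↥S)) := {K | ∃ (P : Subgroup Ω) (φ : P →* Ω), φ ∈ F.Hom P ∧ K = gr S P φ ∧ Nat.card P = n}
  let g₁ : Set (Subgroup Ω) → ℕ := fun A =>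
    mk X (gr S (pickFN F A) (pickFN F A).subtype) +
      Nat.card X * fp (gr S (pickFN F A) (pickFN F A).subtype) (gr S (pickFN F A) (pickFN F A).subtype)
  let T : Subgroup (↥S × ↥S) → ℕ := fun K => g₁ (clOf F (srcOf K))
  have hTval : ∀ (P : Subgroup Ω) (φ : P →* Ω), φ ∈ F.Hom P → T (gr S P φ) = g₁ (clOf F P) := by
    intro P φ hφ
    show g₁ (clOf F (srcOf (gr S P φ))) = _
    rw [src_gr hφ]
  have hmkle : ∀ L : Subgroup (↥S × ↥S), mk X L ≤ Nat.card X := fun L =>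
    Nat.card_le_card_of_injective (fun x : {x : X // ∀ g ∈ L, g • x = x} => x.1) Subtype.val_injective
  obtain ⟨m', h1, h2, h3⟩ := exists_step m 𝓛 n
    (by
      rintro K ⟨P, φ, hφ, rfl, hcard⟩
      rw [card_gr hφ, hcard])
    (by
      rintro K ⟨P, φ, hφ, rfl, hcard⟩ g
      obtain ⟨R', χ', hχ', h, hc⟩ := (tw_cj (F := F) (gr S P φ) g).isG hφ rfl
      exact ⟨R', χ', hχ', h, by rw [← isConj_card_eq hc, hcard]⟩)
    T
    (by
      rintro K ⟨P, φ, hφ, rfl, hcard⟩ g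
      obtain ⟨R', χ', hχ', h, hc⟩ := (tw_cj (F := F) (gr S P φ) g).isG hφ rfl
      rw [h, hTval _ _ hχ', hTval _ _ hφ, clOf_eq hc])
    (by
      rintro K ⟨P, φ, hφ, rfl, hcard⟩
      obtain ⟨Q, hPQ, hQ⟩ := exists_fullyNormalized_conj (F := F) (le_of_hom hφ)
      obtain ⟨hpick, hpickFN⟩ := pickFN_spec (F := F) (A := clOf F P) ⟨Q, hPQ, hQ⟩
      have hc : F.IsConj P (pickFN F (clOf F P)) := hpick
      obtain ⟨hd1, hd2⟩ := key_congr hS hF hX hst hφ hcard hpickFN hc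
      rw [hTval _ _ hφ]
      have hfpos := fp_self_pos (gr S (pickFN F (clOf F P)) (pickFN F (clOf F P)).subtype)
      have hle : mk X (gr S P φ) ≤ g₁ (clOf F P) := by
        show _ ≤ _ + _
        have h1 := hmkle (gr S P φ)
        have h2 : Nat.card X ≤ Nat.card X * fp (gr S (pickFN F (clOf F P)) (pickFN F (clOf F P)).subtype)
            (gr S (pickFN F (clOf F P)) (pickFN F (clOf F P)).subtype) := Nat.le_mul_of_pos_right _ hfpos
        omega
      refine ⟨hle, ?_⟩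
      rw [← Int.natCast_dvd_natCast, Nat.cast_sub hle]
      show (fp (gr S P φ) (gr S P φ) : ℤ) ∣ ((mk X (gr S (pickFN F (clOf F P)) (pickFN F (clOf F P)).subtype) +
        Nat.card X * fp (gr S (pickFN F (clOf F P)) (pickFN F (clOf F P)).subtype)
          (gr S (pickFN F (clOf F P)) (pickFN F (clOf F P)).subtype) : ℕ) : ℤ) - (mk X (gr S P φ) : ℤ)
      push_cast
      have e : (mk X (gr S (pickFN F (clOf F P)) (pickFN F (clOf F P)).subtype) : ℤ) +
          (Nat.card X : ℤ) * (fp (gr S (pickFN F (clOf F P)) (pickFN F (clOf F P)).subtype)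
            (gr S (pickFN F (clOf F P)) (pickFN F (clOf F P)).subtype) : ℤ) - (mk X (gr S P φ) : ℤ) =
          (Nat.card X : ℤ) * (fp (gr S (pickFN F (clOf F P)) (pickFN F (clOf F P)).subtype)
            (gr S (pickFN F (clOf F P)) (pickFN F (clOf F P)).subtype) : ℤ) -
          ((mk X (gr S P φ) : ℤ) - (mk X (gr S (pickFN F (clOf F P)) (pickFN F (clOf F P)).subtype) : ℤ)) := by ring
      rw [e]
      exact dvd_sub (Dvd.dvd.mul_left (Int.natCast_dvd_natCast.2 hd2) _) hd1)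
  refine ⟨m', ?_, ?_, h3⟩
  · intro K hK
    by_cases hK𝓛 : K ∈ 𝓛
    · obtain ⟨P, φ, hφ, hKeq, -⟩ := hK𝓛
      exact ⟨P, φ, hφ, hKeq⟩
    · rw [h1 K hK𝓛] at hK
      exact hm K hK
  · intro P P' φ φ' hφ hφ' hc hle
    have hcc := isConj_card_eq hc
    rcases eq_or_lt_of_le hle with heq | hlt
    · have hP1 : gr S P φ ∈ 𝓛 := ⟨P, φ, hφ, rfl, heq.symm⟩
      have hP2 : gr S P' φ' ∈ 𝓛 := ⟨P', φ', hφ', rfl, by rw [← hcc, ← heq]⟩
      rw [h2 _ hP1, h2 _ hP2, hTval _ _ hφ, hTval _ _ hφ', clOf_eq hc]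
    · rw [h3 _ (by rwa [card_gr hφ]), h3 _ (by rwa [card_gr hφ', ← hcc])]
      exact hst P P' φ φ' hφ hφ' hc hlt

/-- The index of the graph of an automorphism of `S` in its normalizer. -/
theorem fp_top {ψ : ↥S →* Ω} (hψ : ψ ∈ F.Hom S) : fp (gr S S ψ) (gr S S ψ) = Nat.card (Subgroup.center ↥S) := by
  classical
  let ψ' : ↥S →* ↥S := ψ.codRestrict S (val_mem hψ)
  have hinj : Function.Injective ψ' := fun a b h => inj hψ (congrArg Subtype.val h)
  have hsurj : Function.Surjective ψ' := Finite.surjective_of_injective hinj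
  have hmem : ∀ g : ↥S × ↥S, g ∈ gr S S ψ ↔ ψ' g.1 = g.2 := by
    intro g
    constructor
    · rintro ⟨h, h'⟩
      exact Subtype.ext h'
    · intro h
      exact ⟨g.1.2, congrArg Subtype.val h⟩
  have hcomm : ∀ (g : Subgroup.normalizer ((gr S S ψ : Subgroup (↥S × ↥S)) : Set (↥S × ↥S))) (y : ↥S),
      y * ((g.1.2)⁻¹ * ψ' g.1.1) = ((g.1.2)⁻¹ * ψ' g.1.1) * y := by
    intro g y
    obtain ⟨x, rfl⟩ := hsurj y
    have h1 : ((x, ψ' x) : ↥S × ↥S) ∈ gr S S ψ := (hmem _).2 rfl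
    have h2 := (Subgroup.mem_normalizer_iff.1 g.2 (x, ψ' x)).1 h1
    have h3 := (hmem _).1 h2
    have h4 : ψ' (g.1.1 * x * (g.1.1)⁻¹) = g.1.2 * ψ' x * (g.1.2)⁻¹ := h3
    rw [map_mul, map_mul, map_inv] at h4
    have h5 : ψ' x * ((g.1.2)⁻¹ * ψ' g.1.1) = (g.1.2)⁻¹ * (g.1.2 * ψ' x * (g.1.2)⁻¹) * ψ' g.1.1 := by group
    rw [h5, ← h4]
    group
  let f : Subgroup.normalizer ((gr S S ψ : Subgroup (↥S × ↥S)) : Set (↥S × ↥S)) →* Subgroup.center ↥S := MonoidHom.mk'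
    (fun g => ⟨(g.1.2)⁻¹ * ψ' g.1.1, Subgroup.mem_center_iff.2 (fun y => hcomm g y)⟩) (by
      intro a b
      apply Subtype.ext
      show ((a * b).1.2)⁻¹ * ψ' (a * b).1.1 = ((a.1.2)⁻¹ * ψ' a.1.1) * ((b.1.2)⁻¹ * ψ' b.1.1)
      have h1 : (a * b).1.2 = a.1.2 * b.1.2 := rfl
      have h2 : (a * b).1.1 = a.1.1 * b.1.1 := rfl
      rw [h1, h2, map_mul, mul_inv_rev]
      have h3 := hcomm a (b.1.2)⁻¹
      calc (b.1.2)⁻¹ * (a.1.2)⁻¹ * (ψ' a.1.1 * ψ' b.1.1) = ((b.1.2)⁻¹ * ((a.1.2)⁻¹ * ψ' a.1.1)) * ψ' b.1.1 := by group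
        _ = _ := by rw [h3]; group)
  have hf : ∀ g, ((f g : Subgroup.center ↥S) : ↥S) = (g.1.2)⁻¹ * ψ' g.1.1 := fun g => rfl
  have hker : (gr S S ψ).subgroupOf (Subgroup.normalizer ((gr S S ψ : Subgroup (↥S × ↥S)) : Set (↥S × ↥S))) = f.ker := by
    ext g
    rw [Subgroup.mem_subgroupOf, MonoidHom.mem_ker, hmem]
    constructor
    · intro h
      apply Subtype.ext
      rw [hf]
      show (g.1.2)⁻¹ * ψ' g.1.1 = 1
      rw [h, inv_mul_cancel]
    · intro h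
      have h1 := congrArg Subtype.val h
      rw [hf] at h1
      have h2 : (g.1.2)⁻¹ * ψ' g.1.1 = 1 := h1
      exact (inv_mul_eq_one.1 h2).symm
  have hfs : Function.Surjective f := by
    rintro ⟨z, hz⟩
    have hzc := Subgroup.mem_center_iff.1 hz
    have hN : ((1, z⁻¹) : ↥S × ↥S) ∈ Subgroup.normalizer ((gr S S ψ : Subgroup (↥S × ↥S)) : Set (↥S × ↥S)) := by
      rw [Subgroup.mem_normalizer_iff]
      intro k
      have e : ((1, z⁻¹) : ↥S × ↥S) * k * ((1, z⁻¹) : ↥S × ↥S)⁻¹ = k := by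
        refine Prod.ext ?_ ?_
        · show 1 * k.1 * 1⁻¹ = k.1
          simp
        · show z⁻¹ * k.2 * (z⁻¹)⁻¹ = k.2
          rw [inv_inv, mul_assoc, hzc k.2, inv_mul_cancel_left]
      rw [e]
    refine ⟨⟨(1, z⁻¹), hN⟩, Subtype.ext ?_⟩
    rw [hf]
    show (z⁻¹)⁻¹ * ψ' 1 = z
    rw [inv_inv, map_one, mul_one]
  rw [fp_self, hker, Subgroup.index_ker, MonoidHom.range_eq_top.2 hfs]
  exact Nat.card_congr Subgroup.topEquiv.toEquiv

/-- A source of the order of `S` is `S`. -/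
theorem eq_S_of_card {P : Subgroup Ω} (hP : P ≤ S) (h : Nat.card S ≤ Nat.card P) : P = S :=
  eq_of_le_of_card_le hP le_rfl h

/-- **The multiplicities of a characteristic biset.** -/
theorem exists_marks (hS : IsPGroup p S) (hF : F.IsSaturated p) :
    ∃ m : Subgroup (↥S × ↥S) → ℕ, (∀ K, m K ≠ 0 → IsG F K) ∧ StableAt F (XS m) 0 ∧
      ∀ ψ ∈ F.Hom S, mk (XS m) (gr S S ψ) = Nat.card (Subgroup.center ↥S) := by
  classical
  have key : ∀ k, k ≤ Nat.card S → ∃ m : Subgroup (↥S × ↥S) → ℕ, (∀ K, m K ≠ 0 → IsG F K) ∧ StableAt F (XS m) (Nat.card S - k) ∧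
      ∀ ψ ∈ F.Hom S, mk (XS m) (gr S S ψ) = Nat.card (Subgroup.center ↥S) := by
    intro k
    induction k with
    | zero =>
      intro _
      let 𝓛 : Set (Subgroup (↥S × ↥S)) := {K | ∃ ψ : ↥S →* Ω, ψ ∈ F.Hom S ∧ K = gr S S ψ}
      obtain ⟨m₁, h1, h2, -⟩ := exists_step (fun _ => 0) 𝓛 (Nat.card S)
        (by
          rintro K ⟨ψ, hψ, rfl⟩
          exact card_gr hψ)
        (by
          rintro K ⟨ψ, hψ, rfl⟩ g
          obtain ⟨R', χ', hχ', h, hc⟩ := (tw_cj (F := F) (gr S S ψ) g).isG hψ rfl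
          have hR' : R' = S := eq_S_of_card (isConj_le_right hc) (isConj_card_eq hc).le
          subst hR'
          exact ⟨χ', hχ', h⟩)
        (fun _ => Nat.card (Subgroup.center ↥S)) (fun _ _ _ => rfl)
        (by
          rintro K ⟨ψ, hψ, rfl⟩
          have h0 : mk (XS (fun _ : Subgroup (↥S × ↥S) => 0)) (gr S S ψ) = 0 := by
            letI : Fintype (Subgroup (↥S × ↥S)) := Fintype.ofFinite _
            rw [mk_XS]
            simp
          rw [h0, fp_top hψ]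
          exact ⟨Nat.zero_le _, by simp⟩)
      refine ⟨m₁, ?_, ?_, ?_⟩
      · intro K hK
        by_cases hK𝓛 : K ∈ 𝓛
        · obtain ⟨ψ, hψ, rfl⟩ := hK𝓛
          exact ⟨S, ψ, hψ, rfl⟩
        · rw [h1 K hK𝓛] at hK
          exact (hK rfl).elim
      · intro P P' φ φ' hφ hφ' hc hle
        have hP : P = S := eq_S_of_card (le_of_hom hφ) hle
        subst hP
        have hP' : P' = P := eq_S_of_card (le_of_hom hφ') (by rw [← isConj_card_eq hc])
        subst hP'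
        rw [h2 _ ⟨φ, hφ, rfl⟩, h2 _ ⟨φ', hφ', rfl⟩]
      · intro ψ hψ
        exact h2 _ ⟨ψ, hψ, rfl⟩
    | succ k ih =>
      intro hk
      obtain ⟨m, hm, hst, htop⟩ := ih (by omega)
      have hn : Nat.card S - (k + 1) + 1 = Nat.card S - k := by omega
      obtain ⟨m', h1, h2, h3⟩ := exists_level hS hF m hm (Nat.card S - (k + 1)) (by rwa [hn])
      refine ⟨m', h1, h2, fun ψ hψ => ?_⟩
      rw [h3 _ (by rw [card_gr hψ]; omega), htop ψ hψ]
  obtain ⟨m, h1, h2, h3⟩ := key (Nat.card S) le_rfl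
  refine ⟨m, h1, ?_, h3⟩
  rwa [Nat.sub_self] at h2

end Cfsg.Agent.Lib.Fusion2
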