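/-
Characteristic bisets of saturated fusion systems and the transfer they define.
-/
import Cfsg.Agent.Lib.Fusion2.MarksExist
import Cfsg.Agent.Lib.Fusion2.BisetTr
import Cfsg.Agent.Lib.Fusion.Generation
import Cfsg.Agent.Lib.Fusion.Dihedral

set_option autoImplicit false

namespace Cfsg.Agent.Lib.Fusion2

open Cfsg Cfsg.FusionSystem Cfsg.Agent.Lib.Fusion

section Tws

variable {Γ G X : Type*} [Group Γ] [Group G] [MulAction G X]

/-- `X` seen as a `Γ`-set along `f`. -/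
def TwS (f : Γ →* G) (X : Type*) : Type _ := X

noncomputable instance (f : Γ →* G) : MulAction Γ (TwS f X) := MulAction.compHom X f

instance (f : Γ →* G) [Finite X] : Finite (TwS f X) := ‹Finite X›

theorem mk_tws (f : Γ →* G) (L : Subgroup Γ) :
    Nat.card {y : TwS f X // ∀ γ ∈ L, γ • y = y} = mk X (L.map f) := by
  refine Nat.card_congr (Equiv.subtypeEquivRight (p := fun y : TwS f X => ∀ γ ∈ L, γ • y = y)
    (q := fun x : X => ∀ g ∈ L.map f, g • x = x) (fun y => ?_))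
  constructor
  · rintro h _ ⟨γ, hγ, rfl⟩
    exact h γ hγ
  · intro h γ hγ
    exact h _ ⟨γ, hγ, rfl⟩

end Tws

section Abstract

variable {H X : Type*} [Group H] [MulAction (H × H) X]

/-- The order of the biset in terms of the section. -/
theorem card_eq_sec {ξ : X → H} (hξ : ∀ (x : X) (s : H), ξ (((1 : H), s) • x) = ξ x * s⁻¹) :
    Nat.card X = Nat.card {x : X // ξ x = 1} * Nat.card H := by
  rw [← Nat.card_prod]
  refine Nat.card_congr
    { toFun := fun x => (⟨((1 : H), ξ x) • x, by rw [hξ, mul_inv_cancel]⟩, ξ x)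
      invFun := fun y => ((1 : H), y.2⁻¹) • (y.1 : X)
      left_inv := fun x => ?_
      right_inv := fun y => ?_ }
  · show ((1 : H), (ξ x)⁻¹) • ((1 : H), ξ x) • x = x
    rw [pp]
    simp only [one_mul, inv_mul_cancel]
    exact one_smul (H × H) x
  · refine Prod.ext (Subtype.ext ?_) ?_
    · show ((1 : H), ξ (((1 : H), y.2⁻¹) • (y.1 : X))) • ((1 : H), y.2⁻¹) • (y.1 : X) = y.1
      rw [hξ, y.1.2, pp]
      simp only [one_mul, inv_inv, mul_inv_cancel]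
      exact one_smul (H × H) _
    · show ξ (((1 : H), y.2⁻¹) • (y.1 : X)) = y.2
      rw [hξ, y.1.2, one_mul, inv_inv]

end Abstract

variable {Ω : Type*} [Group Ω] {S : Subgroup Ω} {F : FusionSystem S}

/-- The properties of a characteristic biset. -/
structure IsCharBiset (F : FusionSystem S) (X : Type*) [MulAction (↥S × ↥S) X] : Prop where
  hG : ∀ x : X, ∃ (P : Subgroup Ω) (φ : P →* Ω), φ ∈ F.Hom P ∧ MulAction.stabilizer (↥S × ↥S) x = gr S P φ
  hst : StableAt F X 0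
  htop : ∀ ψ ∈ F.Hom S, mk X (gr S S ψ) = Nat.card (Subgroup.center ↥S)

theorem exists_isCharBiset [Finite S] {p : ℕ} [Fact p.Prime] (hS : IsPGroup p S) (hF : F.IsSaturated p) :
    ∃ m : Subgroup (↥S × ↥S) → ℕ, IsCharBiset F (XS m) := by
  obtain ⟨m, h1, h2, h3⟩ := exists_marks hS hF
  refine ⟨m, ⟨fun x => ?_, h2, h3⟩⟩
  obtain ⟨P, φ, hφ, h⟩ := isG_stab_XS h1 x
  exact ⟨P, φ, hφ, h⟩

namespace IsCharBiset

variable {X : Type*} [MulAction (↥S × ↥S) X] (hX : IsCharBiset F X)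

include hX

theorem isG (x : X) : IsG F (MulAction.stabilizer (↥S × ↥S) x) := by
  obtain ⟨P, φ, hφ, h⟩ := hX.hG x
  exact ⟨P, φ, hφ, h⟩

theorem free (x : X) (s : ↥S) (h : ((1 : ↥S), s) • x = x) : s = 1 := by
  obtain ⟨P, φ, hφ, hst⟩ := hX.hG x
  have h1 : ((1 : ↥S), s) ∈ gr S P φ := by
    rw [← hst]
    exact h
  obtain ⟨h2, h3⟩ := h1
  have h4 : (⟨((1 : ↥S) : Ω), h2⟩ : P) = 1 := rfl
  rw [h4, map_one] at h3
  exact Subtype.ext h3.symm

/-- The biset is isomorphic to its twist along a map of the system. -/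
theorem exists_twist_iso [Finite X] [Finite S] {P : Subgroup Ω} {φ : P →* Ω} (hφ : φ ∈ F.Hom P) :
    ∃ g : X ≃ X, (∀ (x : X) (s : ↥S), g (((1 : ↥S), s) • x) = ((1 : ↥S), s) • g x) ∧
      ∀ (v : P) (x : X), g (((⟨v, le_of_hom hφ v.2⟩ : ↥S), (1 : ↥S)) • x) = ((⟨φ v, val_mem hφ v⟩ : ↥S), (1 : ↥S)) • g x := by
  have hPS : P ≤ S := le_of_hom hφ
  haveI : Finite P := finite_of_le hPS
  let ι₁ : ↥P × ↥S →* ↥S × ↥S := MonoidHom.prodMap (Subgroup.inclusion hPS) (MonoidHom.id ↥S)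
  let ι₂ : ↥P × ↥S →* ↥S × ↥S := MonoidHom.prodMap (φ.codRestrict S (val_mem hφ)) (MonoidHom.id ↥S)
  have hmarks : ∀ L : Subgroup (↥P × ↥S), Nat.card {y : TwS ι₁ X // ∀ γ ∈ L, γ • y = y} =
      Nat.card {y : TwS ι₂ X // ∀ γ ∈ L, γ • y = y} := by
    intro L
    rw [mk_tws, mk_tws]
    refine mk_eq_of_tw hX.isG ⟨P, S, φ, S.subtype, hφ, subtype_mem F le_rfl, ?_, ?_⟩ ?_
    · rintro _ ⟨γ, hγ, rfl⟩
      exact ⟨γ.1.2, γ.2.2, ι₂ γ, ⟨γ, hγ, rfl⟩, rfl, rfl⟩
    · rintro _ ⟨γ, hγ, rfl⟩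
      exact ⟨ι₁ γ, ⟨γ, hγ, rfl⟩, γ.1.2, γ.2.2, rfl, rfl⟩
    · intro R R' χ χ' hχ hχ' h1 h2 hc
      rw [h1, h2]
      exact hX.hst R R' χ χ' hχ hχ' hc (Nat.zero_le _)
  obtain ⟨e, he⟩ := exists_equiv_of_marks hmarks
  refine ⟨e, fun x s => ?_, fun v x => ?_⟩
  · let e' : X ≃ X := e
    have h3 : e' (((1 : ↥S), s) • x) = ι₂ ((1 : ↥P), s) • e' x := he ((1 : ↥P), s) x
    have e2 : ι₂ ((1 : ↥P), s) = ((1 : ↥S), s) := Prod.ext (Subtype.ext (map_one φ)) rfl
    rw [e2] at h3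
    exact h3
  · have := he (v, (1 : ↥S)) x
    exact this

/-- Maps adapted to a normal subgroup containing all the `g φ(x) g⁻¹ x⁻¹`. -/
theorem exists_xi_of (T : Subgroup ↥S) [T.Normal]
    (hC : ∀ (P : Subgroup Ω) (φ : P →* Ω), φ ∈ F.Hom P → ∃ g : ↥S, ∀ x : P, (g : Ω) * φ x * (g : Ω)⁻¹ * (x : Ω)⁻¹ ∈ T.map S.subtype) :
    ∃ ξ : X → ↥S, (∀ (x : X) (s : ↥S), ξ (((1 : ↥S), s) • x) = ξ x * s⁻¹) ∧
      ∀ (u : ↥S) (b : X), ξ b = 1 → hh ξ u b * u⁻¹ ∈ T := by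
  refine exists_xi T hX.free (fun x => ?_)
  obtain ⟨P, φ, hφ, hst⟩ := hX.hG x
  obtain ⟨g, hg⟩ := hC P φ hφ
  refine ⟨g, fun v w hvw => ?_⟩
  have h1 : (v, w) ∈ gr S P φ := by
    rw [← hst]
    exact hvw
  obtain ⟨h2, h3⟩ := h1
  have h4 := hg ⟨v, h2⟩
  rw [h3] at h4
  obtain ⟨t, ht, hte⟩ := h4
  have h5 : t = g * w * g⁻¹ * v⁻¹ := Subtype.ext hte
  rwa [← h5]

/-- The number attached to the biset. -/
noncomputable def num (X : Type*) (S : Subgroup Ω) : ℕ := Nat.card X / Nat.card ↥S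

omit hX in
theorem card_sec_eq_num [Finite S] {ξ : X → ↥S} (hξ : ∀ (x : X) (s : ↥S), ξ (((1 : ↥S), s) • x) = ξ x * s⁻¹) :
    Nat.card {x : X // ξ x = 1} = num X S := by
  rw [num, card_eq_sec hξ, Nat.mul_div_cancel _ Nat.card_pos]

/-- **The transfer attached to a characteristic biset.** -/
theorem transfer [Finite X] [Finite S] (T : Subgroup ↥S) [hTn : T.Normal]
    (hC : ∀ (P : Subgroup Ω) (φ : P →* Ω), φ ∈ F.Hom P → ∃ g : ↥S, ∀ x : P, (g : Ω) * φ x * (g : Ω)⁻¹ * (x : Ω)⁻¹ ∈ T.map S.subtype)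
    {A : Type*} [CommGroup A] (f : T →* A) (hf : ∀ (s : ↥S) (t : T), f ⟨s * t * s⁻¹, hTn.conj_mem _ t.2 s⟩ = f t) :
    ∃ (D : T →* A) (d : ↥S →* A), (∀ t : T, d t = D t * (f t ^ num X S)⁻¹) ∧
      (∀ (P : Subgroup Ω) (φ : P →* Ω) (hφ : φ ∈ F.Hom P) (x : P) (hx : (⟨x, le_of_hom hφ x.2⟩ : ↥S) ∈ T)
        (hx' : (⟨φ x, val_mem hφ x⟩ : ↥S) ∈ T), D ⟨_, hx'⟩ = D ⟨_, hx⟩) ∧
      (∀ (t : T) (a : A) (K : Subgroup A), (∀ (k : ℕ) (P : Subgroup Ω) (φ : P →* Ω) (hφ : φ ∈ F.Hom P) (hk : (((t : ↥S) : Ω)) ^ k ∈ P)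
        (hk' : (⟨φ ⟨_, hk⟩, val_mem hφ _⟩ : ↥S) ∈ T), f ⟨_, hk'⟩ * (a ^ k)⁻¹ ∈ K) → D t * (a ^ num X S)⁻¹ ∈ K) := by
  classical
  obtain ⟨ξ, hξ, hT⟩ := hX.exists_xi_of T hC
  letI : Fintype {x : X // ξ x = 1} := Fintype.ofFinite _
  have hcardn : Fintype.card {x : X // ξ x = 1} = num X S := by
    rw [← Nat.card_eq_fintype_card, card_sec_eq_num hξ]
  let fh : ↥S → A := fun s => if h : s ∈ T then f ⟨s, h⟩ else 1
  have hfh : ∀ (s : ↥S) (h : s ∈ T), fh s = f ⟨s, h⟩ := fun s h => dif_pos h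
  have hf₁ : ∀ a ∈ T, ∀ b ∈ T, fh (a * b) = fh a * fh b := by
    intro a ha b hb
    rw [hfh _ (T.mul_mem ha hb), hfh _ ha, hfh _ hb, ← map_mul]
    rfl
  have hf₂ : ∀ (s t : ↥S), t ∈ T → fh (s * t * s⁻¹) = fh t := by
    intro s t ht
    rw [hfh _ (hTn.conj_mem _ ht s), hfh _ ht]
    exact hf s ⟨t, ht⟩
  let d : ↥S →* A := MonoidHom.mk' (fun u => ∏ b : {x : X // ξ x = 1}, fh (hh ξ u b * u⁻¹))
    (fun u v => dd_mul hξ T fh hf₁ hf₂ hT u v)
  let D : T →* A := MonoidHom.mk' (fun u => ∏ b : {x : X // ξ x = 1}, fh (hh ξ (u : ↥S) b))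
    (fun u v => DD_mul hξ T fh hf₁ hf₂ hT u.2 v.2)
  refine ⟨D, d, fun t => ?_, ?_, ?_⟩
  · show ∏ b : {x : X // ξ x = 1}, fh (hh ξ (t : ↥S) b * (t : ↥S)⁻¹) = _
    rw [dd_of_mem hξ T fh hf₁ hf₂ hT t.2, hcardn, hfh _ t.2]
    rfl
  · intro P φ hφ x hx hx'
    obtain ⟨g, hg₁, hg₂⟩ := hX.exists_twist_iso hφ
    exact DD_stable hξ T fh hf₁ hf₂ hT hx hx' g g.injective hg₁ (hg₂ x)
  · intro t a K ha
    let q : A →* A ⧸ K := QuotientGroup.mk' K
    have hq : ∀ x y : A, x * y⁻¹ ∈ K → q x = q y := by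
      intro x y h
      have : q (x * y⁻¹) = 1 := (QuotientGroup.eq_one_iff _).2 h
      rw [map_mul, map_inv, mul_inv_eq_one] at this
      exact this
    let fh' : ↥S → A ⧸ K := fun s => q (fh s)
    have hf₁' : ∀ a ∈ T, ∀ b ∈ T, fh' (a * b) = fh' a * fh' b := by
      intro a ha b hb
      show q (fh (a * b)) = q (fh a) * q (fh b)
      rw [hf₁ a ha b hb, map_mul]
    have hf₂' : ∀ (s t : ↥S), t ∈ T → fh' (s * t * s⁻¹) = fh' t := by
      intro s t ht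
      show q (fh (s * t * s⁻¹)) = q (fh t)
      rw [hf₂ s t ht]
    have key : ∏ b : {x : X // ξ x = 1}, fh' (hh ξ (t : ↥S) b) = (q a) ^ Fintype.card {x : X // ξ x = 1} := by
      refine DD_pow hξ T fh' hf₁' hf₂' hT t.2 (q a) (fun b k hb hk => ?_)
      have hfix := fix_of_pii hξ hk
      obtain ⟨P, φ, hφ, hst⟩ := hX.hG b
      have h1 : ((t : ↥S) ^ k, hh ξ ((t : ↥S) ^ k) b) ∈ gr S P φ := by
        rw [← hst]
        exact hfix
      obtain ⟨h2, h3⟩ := h1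
      have h2' : (((t : ↥S) : Ω)) ^ k ∈ P := by
        have : (((t : ↥S) ^ k : ↥S) : Ω) = (((t : ↥S) : Ω)) ^ k := rfl
        rwa [this] at h2
      have hmem := hh_mem hξ T fh hf₁ hf₂ hT (T.pow_mem t.2 k) hb
      have e1 : (⟨φ ⟨_, h2'⟩, val_mem hφ _⟩ : ↥S) = hh ξ ((t : ↥S) ^ k) b := Subtype.ext h3
      have hk' : (⟨φ ⟨_, h2'⟩, val_mem hφ _⟩ : ↥S) ∈ T := by rw [e1]; exact hmem
      have := hq _ _ (ha k P φ hφ h2' hk')
      show q (fh (hh ξ ((t : ↥S) ^ k) b)) = (q a) ^ k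
      rw [hfh _ hmem, ← map_pow, ← this]
      congr 2
      exact Subtype.ext e1.symm
    have h5 : q (D t) = q (a ^ num X S) := by
      show q (∏ b : {x : X // ξ x = 1}, fh (hh ξ (t : ↥S) b)) = _
      rw [map_prod, map_pow, ← hcardn]
      exact key
    have h6 : q (D t * (a ^ num X S)⁻¹) = 1 := by
      rw [map_mul, map_inv, h5, mul_inv_cancel]
    exact (QuotientGroup.eq_one_iff _).1 h6

/-- The points whose stabilizer has source `S`: count through the section. -/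
theorem card_top_sec [Finite X] [Finite S] {ξ : X → ↥S} (hξ : ∀ (x : X) (s : ↥S), ξ (((1 : ↥S), s) • x) = ξ x * s⁻¹) :
    letI := secAct hξ
    Nat.card {x : X // ∀ u : ↥S, ∃ w : ↥S, (u, w) • x = x} =
      Nat.card (MulAction.fixedPoints ↥S {x : X // ξ x = 1}) * Nat.card ↥S := by
  letI := secAct hξ
  rw [← Nat.card_prod]
  have hN : ∀ x : X, ξ (((1 : ↥S), ξ x) • x) = 1 := fun x => by rw [hξ, mul_inv_cancel]
  refine Nat.card_congr
    { toFun := fun x => (⟨⟨((1 : ↥S), ξ x) • (x : X), hN x⟩, fun u => Subtype.ext ?_⟩, ξ x)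
      invFun := fun y => ⟨((1 : ↥S), y.2⁻¹) • (y.1.1 : X), fun u => ?_⟩
      left_inv := fun x => Subtype.ext ?_
      right_inv := fun y => Prod.ext (Subtype.ext (Subtype.ext ?_)) ?_ }
  · obtain ⟨w, hw⟩ := x.2 u
    have h1 : (u, ξ x * w * (ξ x)⁻¹) • ((1 : ↥S), ξ x) • (x : X) = ((1 : ↥S), ξ x) • (x : X) := by
      have e : ((1 : ↥S), ξ x) • (x : X) = ((1 : ↥S), ξ x) • (u, w) • (x : X) := by rw [hw]
      refine Eq.trans ?_ e.symm
      simp only [pp, one_mul, mul_one, inv_mul_cancel_right]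
    exact (hh_of_fix hξ h1 (hN x)).2
  · have hb : u • (y.1 : {x : X // ξ x = 1}) = y.1 := y.1.2 u
    have h1 : pii ξ u (y.1.1 : X) = y.1.1 := congrArg Subtype.val hb
    have h2 := fix_of_pii hξ h1
    refine ⟨y.2⁻¹ * hh ξ u (y.1.1 : X) * y.2, ?_⟩
    have e : ((1 : ↥S), y.2⁻¹) • (y.1.1 : X) = ((1 : ↥S), y.2⁻¹) • (u, hh ξ u (y.1.1 : X)) • (y.1.1 : X) := by rw [h2]
    simp only [pp, one_mul, mul_one]
    refine Eq.trans ?_ e.symm
    simp only [pp, one_mul, mul_one, mul_inv_cancel_right]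
  · show ((1 : ↥S), (ξ x)⁻¹) • ((1 : ↥S), ξ x) • (x : X) = x
    rw [pp]
    simp only [one_mul, inv_mul_cancel]
    exact one_smul (↥S × ↥S) _
  · show ((1 : ↥S), ξ (((1 : ↥S), y.2⁻¹) • (y.1.1 : X))) • ((1 : ↥S), y.2⁻¹) • (y.1.1 : X) = y.1.1
    rw [hξ, y.1.1.2, pp]
    simp only [one_mul, inv_inv, mul_inv_cancel]
    exact one_smul (↥S × ↥S) _
  · show ξ (((1 : ↥S), y.2⁻¹) • (y.1.1 : X)) = y.2
    rw [hξ, y.1.1.2, one_mul, inv_inv]

/-- The points whose stabilizer has source `S`: count through `Aut_F(S)`. -/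
theorem card_top_aut [Finite X] [Finite S] :
    Nat.card {x : X // ∀ u : ↥S, ∃ w : ↥S, (u, w) • x = x} = Nat.card (F.autGroup S) * Nat.card (Subgroup.center ↥S) := by
  classical
  have hex : ∀ x : {x : X // ∀ u : ↥S, ∃ w : ↥S, (u, w) • x = x}, ∃ α : F.autGroup S, ∀ u : ↥S, (u, (α : MulAut ↥S) u) • (x : X) = x := by
    rintro ⟨x, hx⟩
    obtain ⟨P, φ, hφ, hst⟩ := hX.hG x
    have hmem : ∀ (u w : ↥S), (u, w) • x = x → ∃ h : (u : Ω) ∈ P, φ ⟨u, h⟩ = w := by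
      intro u w h
      have h1 : (u, w) ∈ gr S P φ := by
        rw [← hst]
        exact h
      exact h1
    have hPS : P = S := le_antisymm (le_of_hom hφ) (fun u hu => by
      obtain ⟨w, hw⟩ := hx ⟨u, hu⟩
      exact (hmem _ _ hw).1)
    subst hPS
    have hinj : Function.Injective (φ.codRestrict P (val_mem hφ)) := fun a b h => inj hφ (congrArg Subtype.val h)
    let α : MulAut ↥P := MulEquiv.ofBijective (φ.codRestrict P (val_mem hφ)) ⟨hinj, Finite.surjective_of_injective hinj⟩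
    have hα : α ∈ F.autGroup P := mem_autGroup_of_isIso (isIso_of_forall hφ α (fun x => rfl))
    refine ⟨⟨α, hα⟩, fun u => ?_⟩
    obtain ⟨w, hw⟩ := hx u
    obtain ⟨h, h'⟩ := hmem _ _ hw
    have : α u = w := Subtype.ext h'
    show (u, α u) • x = x
    rw [this]
    exact hw
  choose f hf using hex
  have huniq : ∀ (x : X) (a b : ↥S) (u : ↥S), (u, a) • x = x → (u, b) • x = x → a = b := by
    intro x a b u ha hb
    have h1 : ((1 : ↥S), a * b⁻¹) • x = x := by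
      have e : (u, a) • x = ((1 : ↥S), a * b⁻¹) • (u, b) • x := by
        simp only [pp, one_mul, inv_mul_cancel_right]
      rw [hb, ha] at e
      exact e.symm
    have := hX.free x _ h1
    exact mul_inv_eq_one.1 this
  letI : Fintype (F.autGroup S) := Fintype.ofFinite _
  have hfib : ∀ α : F.autGroup S, Nat.card {x : {x : X // ∀ u : ↥S, ∃ w : ↥S, (u, w) • x = x} // f x = α} =
      Nat.card (Subgroup.center ↥S) := by
    intro α
    have hα : S.subtype.comp (α : MulAut ↥S).toMonoidHom ∈ F.Hom S := (mem_autGroup_iff le_rfl).1 α.2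
    rw [← hX.htop _ hα, Cfsg.Agent.Lib.Fusion2.mk]
    refine Nat.card_congr
      { toFun := fun x => ⟨x.1.1, fun g hg => ?_⟩
        invFun := fun x => ⟨⟨x.1, fun u => ⟨(α : MulAut ↥S) u, x.2 _ ⟨u.2, rfl⟩⟩⟩, ?_⟩
        left_inv := fun x => rfl
        right_inv := fun x => rfl }
    · obtain ⟨h, h'⟩ := hg
      have h1 : g.2 = (α : MulAut ↥S) g.1 := Subtype.ext h'.symm
      have h2 := hf x.1 g.1
      rw [x.2] at h2
      have e : g = (g.1, (α : MulAut ↥S) g.1) := Prod.ext rfl h1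
      rw [e]
      exact h2
    · apply Subtype.ext
      apply MulEquiv.ext
      intro u
      have h1 := hf ⟨x.1, fun u => ⟨(α : MulAut ↥S) u, x.2 _ ⟨u.2, rfl⟩⟩⟩ u
      have h2 : (u, (α : MulAut ↥S) u) • (x.1 : X) = x.1 := x.2 _ ⟨u.2, rfl⟩
      exact huniq _ _ _ u h1 h2
  rw [Nat.card_congr (Equiv.sigmaFiberEquiv f).symm, Nat.card_sigma, Finset.sum_congr rfl (fun α _ => hfib α),
    Finset.sum_const, Finset.card_univ, smul_eq_mul, Nat.card_eq_fintype_card (α := F.autGroup S)]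

/-- **The number of a characteristic biset is prime to `p`.** -/
theorem coprime_num {p : ℕ} [hp : Fact p.Prime] [Finite X] [Finite S] (hS : IsPGroup p S) (hF : F.IsSaturated p) :
    (num X S).Coprime p := by
  classical
  have hpp : p.Prime := hp.out
  obtain ⟨ξ, hξ, -⟩ := hX.exists_xi_of (⊤ : Subgroup ↥S) (fun P φ hφ => ⟨1, fun x => ⟨⟨_, by
    exact S.mul_mem (S.mul_mem (S.mul_mem S.one_mem (val_mem hφ x)) (S.inv_mem S.one_mem)) (S.inv_mem (le_of_hom hφ x.2))⟩, trivial, rfl⟩⟩)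
  letI := secAct hξ
  have h1 := card_top_sec hX hξ
  have h2 := hX.card_top_aut
  have hmod := IsPGroup.card_modEq_card_fixedPoints hS {x : X // ξ x = 1}
  rw [card_sec_eq_num hξ] at hmod
  -- Sylow
  obtain ⟨-, R, hR⟩ := (fullyNormalized_spec hS hF (fullyNormalized_self (F := F))).2
  have hidx : ¬ p ∣ (R : Subgroup (F.autGroup S)).index := R.not_dvd_index
  have hcardA : Nat.card (F.autGroup S) = Nat.card (R : Subgroup (F.autGroup S)) * (R : Subgroup (F.autGroup S)).index :=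
    (Subgroup.card_mul_index _).symm
  have hcardR : Nat.card (R : Subgroup (F.autGroup S)) = Nat.card (Inn ↥S) := by
    rw [hR]
    have hle : autInducedBy S S ≤ F.autGroup S := autInducedBy_le_autGroup le_rfl
    have e1 := Subgroup.subgroupOfEquivOfLe hle
    rw [Nat.card_congr e1.toEquiv, inn_eq_autInducedBy_top]
  have hinn : Nat.card (Inn ↥S) * Nat.card (Subgroup.center ↥S) = Nat.card ↥S := by
    have hker : (MulAut.conj (G := ↥S)).ker = Subgroup.center ↥S := by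
      ext g
      rw [MonoidHom.mem_ker, Subgroup.mem_center_iff]
      constructor
      · intro h u
        have := congrArg (fun a : MulAut ↥S => a u) h
        simp only [MulAut.conj_apply, MulAut.one_apply] at this
        rw [mul_inv_eq_iff_eq_mul] at this
        exact this.symm
      · intro h
        apply MulEquiv.ext
        intro u
        simp only [MulAut.conj_apply, MulAut.one_apply]
        rw [mul_inv_eq_iff_eq_mul]
        exact (h u).symm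
    have h3 := Subgroup.card_mul_index (MulAut.conj (G := ↥S)).ker
    rw [Subgroup.index_ker, hker] at h3
    rw [mul_comm]
    exact h3
  have hkey : Nat.card (MulAction.fixedPoints ↥S {x : X // ξ x = 1}) = (R : Subgroup (F.autGroup S)).index := by
    have hpos : 0 < Nat.card ↥S := Nat.card_pos
    apply Nat.eq_of_mul_eq_mul_right hpos
    rw [← h1, h2, hcardA, hcardR]
    rw [← hinn]
    ring
  rw [hkey] at hmod
  rw [Nat.coprime_comm, Nat.Prime.coprime_iff_not_dvd hpp]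
  intro hd
  exact hidx ((Nat.modEq_zero_iff_dvd.1 (hmod.symm.trans (Nat.modEq_zero_iff_dvd.2 hd))))

end IsCharBiset

end Cfsg.Agent.Lib.Fusion2
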