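/-
Consequences of the transfer of a characteristic biset: the focal subgroup, the hyperfocal subgroup.
-/
import Cfsg.Agent.Lib.Fusion2.CharBiset
import Cfsg.Agent.Lib.Fusion.NormalBasics

set_option autoImplicit false

namespace Cfsg.Agent.Lib.Fusion2

open Cfsg Cfsg.FusionSystem Cfsg.Agent.Lib.Fusion

variable {Ω : Type*} [Group Ω] {S : Subgroup Ω} {F : FusionSystem S} {p : ℕ}

/-- The centre of the system is central in it. -/
theorem isCentral_center [Finite S] : F.IsCentral F.center :=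
  sSup_mem_of_closed (S := S) {Q | F.IsCentral Q} (fun Q hQ => hQ.1) isCentral_bot (fun _ hA _ hB => isCentral_sup hA hB)

/-- Elements of the centre are fixed by all maps of the system. -/
theorem center_fix [Finite S] {z : Ω} (hz : z ∈ F.center) {P : Subgroup Ω} {φ : P →* Ω} (hφ : φ ∈ F.Hom P) (hzP : z ∈ P) :
    φ ⟨z, hzP⟩ = z := by
  obtain ⟨ψ, -, h1, h2⟩ := (isCentral_center (F := F)).2 P φ hφ
  have h3 := h1 ⟨z, hzP⟩
  have h4 := h2 ⟨z, hz⟩
  have e : (Subgroup.inclusion (le_sup_left : P ≤ P ⊔ F.center) ⟨z, hzP⟩) = Subgroup.inclusion le_sup_right ⟨z, hz⟩ := rfl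
  rw [← h3, e, h4]

/-- An inverse of `n` on groups of exponent dividing `p ^ e`. -/
theorem exists_pow_inverse [hp : Fact p.Prime] {n : ℕ} (hn : n.Coprime p) (e : ℕ) :
    ∃ n' : ℕ, ∀ {A : Type*} [Monoid A] (a : A), a ^ p ^ e = 1 → (a ^ n) ^ n' = a := by
  have h1 : 1 < p ^ (e + 1) := Nat.one_lt_pow (Nat.succ_ne_zero _) hp.out.one_lt
  obtain ⟨m, hm⟩ := Nat.exists_mul_mod_eq_one_of_coprime (hn.pow_right (e + 1)) h1
  refine ⟨m, fun a ha => ?_⟩
  have h2 : a ^ p ^ (e + 1) = 1 := by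
    rw [pow_succ, pow_mul, ha, one_pow]
  rw [← pow_mul, pow_eq_pow_mod _ h2, hm.2, pow_one]

/-- The transfer for homomorphisms on all of `S`. -/
theorem exists_top_transfer [Finite S] [hp : Fact p.Prime] (hS : IsPGroup p S) (hF : F.IsSaturated p)
    {A : Type*} [CommGroup A] (f : ↥S →* A) :
    ∃ (n : ℕ) (D : ↥S →* A), n.Coprime p ∧ (∀ x : ↥S, (x : Ω) ∈ F.focalSubgroup → D x = 1) ∧
      ∀ (t : ↥S) (a : A) (K : Subgroup A), (∀ (k : ℕ) (P : Subgroup Ω) (φ : P →* Ω) (hφ : φ ∈ F.Hom P) (hk : (t : Ω) ^ k ∈ P),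
        f ⟨φ ⟨_, hk⟩, val_mem hφ _⟩ * (a ^ k)⁻¹ ∈ K) → D t * (a ^ n)⁻¹ ∈ K := by
  obtain ⟨m, hX⟩ := exists_isCharBiset hS hF
  have hfin : Finite (XS m) := inferInstance
  let f' : (⊤ : Subgroup ↥S) →* A := f.comp (⊤ : Subgroup ↥S).subtype
  obtain ⟨D, d, -, h2, h3⟩ := hX.transfer (⊤ : Subgroup ↥S) (fun P φ hφ => ⟨1, fun x => ⟨⟨_, by
      exact S.mul_mem (S.mul_mem (S.mul_mem S.one_mem (val_mem hφ x)) (S.inv_mem S.one_mem)) (S.inv_mem (le_of_hom hφ x.2))⟩, trivial, rfl⟩⟩)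
    f' (fun s t => by
      show f (s * t * s⁻¹) = f t
      rw [map_mul, map_mul, map_inv, mul_comm (f s), mul_assoc, mul_inv_cancel, mul_one])
  let D₀ : ↥S →* A := MonoidHom.mk' (fun x => D ⟨x, trivial⟩) (fun a b => by
    rw [← map_mul]; rfl)
  refine ⟨_, D₀, hX.coprime_num hS hF, ?_, ?_⟩
  · -- the kernel
    have hker : F.focalSubgroup ≤ (D₀.ker).map S.subtype := by
      rw [focalSubgroup, Subgroup.closure_le]
      rintro _ ⟨P, φ, x, hφ, rfl⟩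
      refine ⟨⟨_, S.mul_mem (S.inv_mem (le_of_hom hφ x.2)) (val_mem hφ x)⟩, ?_, rfl⟩
      have h4 := h2 P φ hφ x trivial trivial
      have e : (⟨(x : Ω)⁻¹ * φ x, S.mul_mem (S.inv_mem (le_of_hom hφ x.2)) (val_mem hφ x)⟩ : ↥S) =
          (⟨x, le_of_hom hφ x.2⟩ : ↥S)⁻¹ * ⟨φ x, val_mem hφ x⟩ := rfl
      rw [SetLike.mem_coe, MonoidHom.mem_ker, e, map_mul, map_inv]
      show (D ⟨_, trivial⟩)⁻¹ * D ⟨_, trivial⟩ = 1
      rw [h4, inv_mul_cancel]
    intro x hx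
    obtain ⟨y, hy, hyx⟩ := hker hx
    have : y = x := Subtype.ext hyx
    rw [← this]
    exact hy
  · intro t a K ha
    exact h3 ⟨t, trivial⟩ a K (fun k P φ hφ hk hk' => ha k P φ hφ hk)

/-- **Focal subgroup and centre.** -/
theorem focal_inf_center [Finite S] [hp : Fact p.Prime] (hS : IsPGroup p S) (hF : F.IsSaturated p) :
    F.focalSubgroup ⊓ F.center = ⁅(S : Subgroup Ω), (S : Subgroup Ω)⁆ ⊓ F.center := by
  apply le_antisymm
  · rintro z ⟨hz₁, hz₂⟩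
    refine ⟨?_, hz₂⟩
    have hzS : z ∈ S := (isCentral_center (F := F)).1 hz₂
    obtain ⟨n, D, hn, h1, h2⟩ := exists_top_transfer hS hF (Abelianization.of (G := ↥S))
    have h3 : D ⟨z, hzS⟩ = 1 := h1 _ hz₁
    have h4 := h2 ⟨z, hzS⟩ (Abelianization.of ⟨z, hzS⟩) ⊥ (fun k P φ hφ hk => by
      have hzk : z ^ k ∈ F.center := Subgroup.pow_mem _ hz₂ k
      have e : (⟨φ ⟨_, hk⟩, val_mem hφ _⟩ : ↥S) = (⟨z, hzS⟩ : ↥S) ^ k := Subtype.ext (center_fix hzk hφ hk)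
      rw [e, map_pow, mul_inv_cancel]
      exact Subgroup.one_mem _)
    rw [h3, one_mul, Subgroup.mem_bot, inv_eq_one] at h4
    have hcard : (Abelianization.of (⟨z, hzS⟩ : ↥S)) ^ Nat.card ↥S = 1 := by
      rw [← map_pow, pow_card_eq_one', map_one]
    obtain ⟨a, ha⟩ := IsPGroup.iff_card.1 hS
    rw [ha] at hcard
    have h5 : orderOf (Abelianization.of (⟨z, hzS⟩ : ↥S)) = 1 := by
      have h6 := orderOf_dvd_of_pow_eq_one h4
      have h7 := orderOf_dvd_of_pow_eq_one hcard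
      exact Nat.Coprime.eq_one_of_dvd (Nat.Coprime.coprime_dvd_left h6 (hn.pow_right a)) h7
    rw [orderOf_eq_one_iff, ← MonoidHom.mem_ker, Abelianization.ker_of] at h5
    rw [← Subgroup.map_subtype_commutator]
    exact ⟨_, h5, rfl⟩
  · rintro z ⟨hz₁, hz₂⟩
    refine ⟨?_, hz₂⟩
    rw [focal_eq_hyp_sup hS hF]
    exact Subgroup.mem_sup_right hz₁

end Cfsg.Agent.Lib.Fusion2
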