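/-
Extending homomorphisms from the hyperfocal subgroup.
-/
import Cfsg.Agent.Lib.Fusion2.Focal

set_option autoImplicit false

namespace Cfsg.Agent.Lib.Fusion2

open Cfsg Cfsg.FusionSystem Cfsg.Agent.Lib.Fusion

variable {Ω : Type*} [Group Ω] {S : Subgroup Ω} {F : FusionSystem S} {p : ℕ}

/-- Every map of the system is a conjugation modulo the hyperfocal subgroup. -/
theorem conj_mod_hyp [Finite S] [Fact p.Prime] (hS : IsPGroup p S) (hF : F.IsSaturated p) {P : Subgroup Ω} {φ : P →* Ω} (hφ : φ ∈ F.Hom P) :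
    ∃ g ∈ S, ∀ x : P, g * φ x * g⁻¹ * (x : Ω)⁻¹ ∈ F.hyperfocalSubgroup p := by
  refine alperin_induction (Φ := fun P φ => ∃ g ∈ S, ∀ x : P, g * φ x * g⁻¹ * (x : Ω)⁻¹ ∈ F.hyperfocalSubgroup p) hS hF ?_ ?_ ?_ ?_ hφ
  · intro P g hP hg
    refine ⟨g⁻¹, S.inv_mem hg, fun x => ?_⟩
    have : g⁻¹ * conjHom P g x * g⁻¹⁻¹ * (x : Ω)⁻¹ = 1 := by
      rw [conjHom_apply]; group
    rw [this]
    exact Subgroup.one_mem _
  · rintro P Q φ ψ - - ⟨g₁, hg₁, h₁⟩ ⟨g₂, hg₂, h₂⟩ h
    refine ⟨g₁ * g₂, S.mul_mem hg₁ hg₂, fun x => ?_⟩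
    have u2 := conj_mem_hyp hg₁ (h₂ ⟨φ x, h x⟩)
    have u3 := Subgroup.mul_mem _ u2 (h₁ x)
    have e : g₁ * (g₂ * ψ ⟨φ x, h x⟩ * g₂⁻¹ * ((⟨φ x, h x⟩ : Q) : Ω)⁻¹) * g₁⁻¹ * (g₁ * φ x * g₁⁻¹ * (x : Ω)⁻¹) =
        g₁ * g₂ * ψ ⟨φ x, h x⟩ * (g₁ * g₂)⁻¹ * (x : Ω)⁻¹ := by
      simp only [mul_inv_rev]
      group
    rw [e] at u3
    exact u3
  · rintro P φ ψ - - hψ ⟨g, hg, h⟩
    refine ⟨g⁻¹, S.inv_mem hg, ?_⟩
    rintro ⟨_, x, rfl⟩
    have h1 := conj_mem_hyp (S.inv_mem hg) (Subgroup.inv_mem _ (h x))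
    have e : g⁻¹ * (g * φ x * g⁻¹ * (x : Ω)⁻¹)⁻¹ * g⁻¹⁻¹ = g⁻¹ * (x : Ω) * g⁻¹⁻¹ * (φ x)⁻¹ := by
      group
    rw [e] at h1
    show g⁻¹ * ψ ⟨φ x, ⟨x, rfl⟩⟩ * g⁻¹⁻¹ * (φ x)⁻¹ ∈ _
    rw [hψ x]
    exact h1
  · intro P hP α hα
    have hPa := (fullyNormalized_spec hS hF (fullyNormalized_of_mem P hP)).2
    obtain ⟨u, v, huv, hu, hv⟩ := exists_autS_mul_pResidual hPa ⟨α, hα⟩
    have hαe : α = (u : MulAut P) * (v : MulAut P) := congrArg Subtype.val huv
    obtain ⟨s, hs, hsu⟩ := mem_autInducedBy_iff.1 hu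
    refine ⟨s⁻¹, S.inv_mem hs, fun x => ?_⟩
    have h1 : (x : Ω)⁻¹ * (((v : MulAut P) x : P) : Ω) ∈ F.hyperfocalSubgroup p := mem_hyp_of hPa.1 hv x
    have h2 := conj_mem_hyp (hPa.1 x.2) h1
    have e : (x : Ω) * ((x : Ω)⁻¹ * (((v : MulAut P) x : P) : Ω)) * (x : Ω)⁻¹ = (((v : MulAut P) x : P) : Ω) * (x : Ω)⁻¹ := by
      group
    rw [e] at h2
    show s⁻¹ * (((α x : P) : Ω)) * s⁻¹⁻¹ * (x : Ω)⁻¹ ∈ _
    rw [hαe]
    have e2 : (((((u : MulAut P) * (v : MulAut P)) x : P) : Ω)) = s * (((v : MulAut P) x : P) : Ω) * s⁻¹ := hsu _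
    rw [e2]
    have e3 : s⁻¹ * (s * (((v : MulAut P) x : P) : Ω) * s⁻¹) * s⁻¹⁻¹ * (x : Ω)⁻¹ = (((v : MulAut P) x : P) : Ω) * (x : Ω)⁻¹ := by
      group
    rw [e3]
    exact h2

/-- The hyperfocal subgroup, in `S`, is normal. -/
theorem hyp_subgroupOf_normal [Finite S] [Fact p.Prime] : ((F.hyperfocalSubgroup p).subgroupOf S).Normal := by
  constructor
  intro t ht s
  rw [Subgroup.mem_subgroupOf] at ht ⊢
  exact conj_mem_hyp s.2 ht

/-- **Extension from the hyperfocal subgroup**: every `S`-invariant homomorphism from `hyp(F)` to an abelian `p`-group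
extends to `S`. -/
theorem extend_of_hyp [Finite S] [hp : Fact p.Prime] (hS : IsPGroup p S) (hF : F.IsSaturated p)
    {A : Type*} [CommGroup A] {e : ℕ} (hA : ∀ a : A, a ^ p ^ e = 1)
    [hTn : ((F.hyperfocalSubgroup p).subgroupOf S).Normal]
    (f : (F.hyperfocalSubgroup p).subgroupOf S →* A)
    (hf : ∀ (s : ↥S) (t : (F.hyperfocalSubgroup p).subgroupOf S), f ⟨s * t * s⁻¹, hTn.conj_mem _ t.2 s⟩ = f t) :
    ∃ g : ↥S →* A, ∀ t : (F.hyperfocalSubgroup p).subgroupOf S, g t = f t := by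
  classical
  obtain ⟨m, hX⟩ := exists_isCharBiset hS hF
  have hfin : Finite (XS m) := inferInstance
  have hTmap : ((F.hyperfocalSubgroup p).subgroupOf S).map S.subtype = F.hyperfocalSubgroup p := by
    rw [Subgroup.subgroupOf_map_subtype]
    exact inf_eq_left.2 hyp_le_S
  obtain ⟨D, d, h1, h2, -⟩ := hX.transfer ((F.hyperfocalSubgroup p).subgroupOf S) (fun P φ hφ => by
      obtain ⟨g, hg, h⟩ := conj_mod_hyp hS hF hφ
      refine ⟨⟨g, hg⟩, fun x => ?_⟩
      rw [hTmap]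
      exact h x) f hf
  have hn := hX.coprime_num hS hF
  -- the transfer on the hyperfocal subgroup, as a function on `Ω`
  let DD : Ω → A := fun w => if h : w ∈ F.hyperfocalSubgroup p then D ⟨⟨w, hyp_le_S h⟩, h⟩ else 1
  have hDD : ∀ w (h : w ∈ F.hyperfocalSubgroup p), DD w = D ⟨⟨w, hyp_le_S h⟩, h⟩ := fun w h => dif_pos h
  have hDDmul : ∀ a ∈ F.hyperfocalSubgroup p, ∀ b ∈ F.hyperfocalSubgroup p, DD (a * b) = DD a * DD b := by
    intro a ha b hb
    rw [hDD _ (Subgroup.mul_mem _ ha hb), hDD _ ha, hDD _ hb, ← map_mul]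
    rfl
  have hDDinv : ∀ a ∈ F.hyperfocalSubgroup p, DD a⁻¹ = (DD a)⁻¹ := by
    intro a ha
    rw [hDD _ (Subgroup.inv_mem _ ha), hDD _ ha, ← map_inv]
    rfl
  have hDDone : DD 1 = 1 := by
    rw [hDD _ (Subgroup.one_mem _)]
    exact map_one D
  -- the kernel
  have hgen : ∀ (P : Subgroup Ω) (hP : P ≤ S) (α : F.autGroup P), α ∈ pResidual p (F.autGroup P) → ∀ x : P,
      DD ((x : Ω)⁻¹ * (((α : MulAut P) x : P) : Ω)) = 1 := by
    intro P hP α hα
    have hmem : ∀ (β : F.autGroup P), β ∈ pResidual p (F.autGroup P) → ∀ x : P,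
        (x : Ω)⁻¹ * (((β : MulAut P) x : P) : Ω) ∈ F.hyperfocalSubgroup p := fun β hβ x => mem_hyp_of hP hβ x
    rw [pResidual] at hα
    induction hα using Subgroup.closure_induction with
    | mem β hβ =>
      intro x
      have hβres : β ∈ pResidual p (F.autGroup P) := Subgroup.subset_closure hβ
      set y : P := x⁻¹ * ((β : MulAut P) x) with hy
      have hyh : (y : Ω) ∈ F.hyperfocalSubgroup p := hmem β hβres x
      have hstep : ∀ i : ℕ, DD ((x : Ω)⁻¹ * ((((β ^ i : F.autGroup P) : MulAut P) x : P) : Ω)) = (DD y) ^ i := by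
        intro i
        induction i with
        | zero =>
          simp only [pow_zero, OneMemClass.coe_one, MulAut.one_apply, inv_mul_cancel]
          exact hDDone
        | succ i ih =>
          have hbi : β ^ i ∈ pResidual p (F.autGroup P) := Subgroup.pow_mem _ hβres i
          have hφi : P.subtype.comp ((β ^ i : F.autGroup P) : MulAut P).toMonoidHom ∈ F.Hom P :=
            (mem_autGroup_iff hP).1 (β ^ i).2
          have hyi : (((β ^ i : F.autGroup P) : MulAut P) y : Ω) ∈ F.hyperfocalSubgroup p := by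
            have h3 := hmem (β ^ i * β * (β ^ i)⁻¹) (Subgroup.mul_mem _ (Subgroup.mul_mem _ hbi hβres) (Subgroup.inv_mem _ hbi)) (((β ^ i : F.autGroup P) : MulAut P) x)
            have h4 : ((β ^ i * β * (β ^ i)⁻¹ : F.autGroup P) : MulAut P) (((β ^ i : F.autGroup P) : MulAut P) x) =
                ((β ^ i : F.autGroup P) : MulAut P) ((β : MulAut P) x) := by
              show (((β ^ i : F.autGroup P) : MulAut P) * (β : MulAut P) * ((β ^ i : F.autGroup P) : MulAut P)⁻¹) (((β ^ i : F.autGroup P) : MulAut P) x) = _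
              simp [MulAut.mul_apply]
            rw [h4] at h3
            have h5 : ((((β ^ i : F.autGroup P) : MulAut P) y : P) : Ω) = ((((β ^ i : F.autGroup P) : MulAut P) x : P) : Ω)⁻¹ * (((β ^ i : F.autGroup P) : MulAut P) ((β : MulAut P) x) : P) := by
              rw [hy, map_mul, map_inv]
              rfl
            rw [h5]
            exact h3
          have hst := h2 P _ hφi y hyh hyi
          have hyDD : DD ((((β ^ i : F.autGroup P) : MulAut P) y : P) : Ω) = DD y := by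
            rw [hDD _ hyi, hDD _ hyh]
            exact hst
          have e1 : (x : Ω)⁻¹ * ((((β ^ (i + 1) : F.autGroup P) : MulAut P) x : P) : Ω) =
              ((x : Ω)⁻¹ * ((((β ^ i : F.autGroup P) : MulAut P) x : P) : Ω)) * ((((β ^ i : F.autGroup P) : MulAut P) y : P) : Ω) := by
            have e2 : ((((β ^ i : F.autGroup P) : MulAut P) y : P) : Ω) = ((((β ^ i : F.autGroup P) : MulAut P) x : P) : Ω)⁻¹ * (((β ^ i : F.autGroup P) : MulAut P) ((β : MulAut P) x) : P) := by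
              rw [hy, map_mul, map_inv]
              rfl
            have e3 : ((((β ^ (i + 1) : F.autGroup P) : MulAut P) x : P) : Ω) = (((β ^ i : F.autGroup P) : MulAut P) ((β : MulAut P) x) : P) := rfl
            rw [e2, e3]
            group
          rw [e1, hDDmul _ (hmem _ hbi x) _ hyi, ih, hyDD, pow_succ]
      have horder := hstep (orderOf β)
      rw [pow_orderOf_eq_one] at horder
      simp only [OneMemClass.coe_one, MulAut.one_apply, inv_mul_cancel] at horder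
      rw [hDDone] at horder
      have h5 : orderOf (DD y) = 1 := by
        have h6 := orderOf_dvd_of_pow_eq_one horder.symm
        have h7 := orderOf_dvd_of_pow_eq_one (hA (DD y))
        exact Nat.Coprime.eq_one_of_dvd (Nat.Coprime.coprime_dvd_left h6 (Nat.Coprime.pow_right e hβ)) h7
      rw [orderOf_eq_one_iff] at h5
      exact h5
    | one =>
      intro x
      simp only [OneMemClass.coe_one, MulAut.one_apply, inv_mul_cancel]
      exact hDDone
    | mul a b ha hb iha ihb =>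
      intro x
      have e1 : (x : Ω)⁻¹ * (((((a * b : F.autGroup P) : MulAut P)) x : P) : Ω) =
          ((x : Ω)⁻¹ * (((b : MulAut P) x : P) : Ω)) * ((((b : MulAut P) x : P) : Ω)⁻¹ * (((a : MulAut P) ((b : MulAut P) x) : P) : Ω)) := by
        have : (((((a * b : F.autGroup P) : MulAut P)) x : P) : Ω) = (((a : MulAut P) ((b : MulAut P) x) : P) : Ω) := rfl
        rw [this]
        group
      rw [e1, hDDmul _ (hmem b hb x) _ (hmem a ha _), ihb, iha, one_mul]
    | inv a ha iha =>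
      intro x
      have h3 := iha (((a⁻¹ : F.autGroup P) : MulAut P) x)
      have e1 : (x : Ω)⁻¹ * ((((a⁻¹ : F.autGroup P) : MulAut P) x : P) : Ω) =
          ((((((a⁻¹ : F.autGroup P) : MulAut P) x : P) : Ω))⁻¹ * (((a : MulAut P) (((a⁻¹ : F.autGroup P) : MulAut P) x) : P) : Ω))⁻¹ := by
        have : (((a : MulAut P) (((a⁻¹ : F.autGroup P) : MulAut P) x) : P) : Ω) = x := by
          have : (a : MulAut P) (((a⁻¹ : F.autGroup P) : MulAut P) x) = x := by
            show ((a : MulAut P) * (a : MulAut P)⁻¹) x = x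
            simp
          rw [this]
        rw [this]
        group
      rw [e1, hDDinv _ (hmem a ha _), h3, inv_one]
  have hDker : ∀ w ∈ F.hyperfocalSubgroup p, DD w = 1 := by
    intro w hw
    let L : Subgroup Ω :=
      { carrier := {w | w ∈ F.hyperfocalSubgroup p ∧ DD w = 1}
        mul_mem' := fun {a b} ha hb => ⟨Subgroup.mul_mem _ ha.1 hb.1, by rw [hDDmul _ ha.1 _ hb.1, ha.2, hb.2, one_mul]⟩
        one_mem' := ⟨Subgroup.one_mem _, hDDone⟩
        inv_mem' := fun {a} ha => ⟨Subgroup.inv_mem _ ha.1, by rw [hDDinv _ ha.1, ha.2, inv_one]⟩ }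
    have hL : F.hyperfocalSubgroup p ≤ L := by
      rw [hyperfocalSubgroup, Subgroup.closure_le]
      rintro _ ⟨P, α, x, hP, hα, rfl⟩
      exact ⟨mem_hyp_of hP hα x, hgen P hP α hα x⟩
    exact (hL hw).2
  have hD : ∀ t : (F.hyperfocalSubgroup p).subgroupOf S, D t = 1 := by
    intro t
    have := hDker _ t.2
    rw [hDD _ t.2] at this
    exact this
  obtain ⟨n', hn'⟩ := exists_pow_inverse hn e
  refine ⟨(powMonoidHom n').comp (invMonoidHom.comp d), fun t => ?_⟩
  show ((d t)⁻¹) ^ n' = f t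
  rw [h1, hD, one_mul, inv_inv]
  exact hn' _ (hA _)

end Cfsg.Agent.Lib.Fusion2
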