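import Cfsg.Agent.Lib.Fusion2.AbelIdx3
import Cfsg.Agent.Lib.Fusion2.Focal
import Cfsg.Agent.Lib.Fusion2.P3
import Cfsg.Agent.Lib.Fusion2.Heis

/-!
# Centre of index at most `p²`: the structure of the essential subgroups, and the case `p` odd
-/

set_option autoImplicit false
set_option linter.unusedSectionVars false

namespace Cfsg.Agent.Lib.Fusion2.AbelIdx

open Cfsg Cfsg.FusionSystem Cfsg.Agent.Lib.Fusion
open scoped commutatorElement

variable {Ω : Type*} [Group Ω] {S A : Subgroup Ω} {p : ℕ} [hp : Fact p.Prime]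

theorem mem_center_iff_Zc {z : ↥S} : z ∈ Subgroup.center ↥S ↔ (z : Ω) ∈ Zc S := by
  rw [Subgroup.mem_center_iff, mem_Zc]
  constructor
  · intro h
    exact ⟨z.2, fun s hs => congrArg Subtype.val (h ⟨s, hs⟩)⟩
  · rintro ⟨-, h⟩ g
    exact Subtype.ext (h g g.2)

theorem subgroupOf_Zc : (Zc S).subgroupOf S = Subgroup.center ↥S := by
  ext z
  rw [Subgroup.mem_subgroupOf, mem_center_iff_Zc]

/-- A relation between powers. -/
theorem pow_pow_rel {x a ζ : Ω} (h : x * a = ζ * a * x) (hx : ζ * x = x * ζ) (ha : ζ * a = a * ζ) (j k : ℕ) :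
    x ^ j * a ^ k = ζ ^ (j * k) * a ^ k * x ^ j := by
  have h1 : ∀ j : ℕ, x ^ j * a = ζ ^ j * a * x ^ j := by
    intro j
    induction j with
    | zero => simp
    | succ j ih =>
      have hc : Commute x (ζ ^ j) := ((Commute.refl ζ).pow_left j |>.symm.symm) |> fun _ => (Commute.pow_right (show Commute x ζ from hx.symm) j)
      calc x ^ (j + 1) * a = x ^ j * (x * a) := by rw [pow_succ]; group
        _ = x ^ j * (ζ * a * x) := by rw [h]
        _ = (x ^ j * ζ) * a * x := by group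
        _ = (ζ * x ^ j) * a * x := by rw [(Commute.pow_left (show Commute x ζ from hx.symm) j).eq]
        _ = ζ * (x ^ j * a) * x := by group
        _ = ζ * (ζ ^ j * a * x ^ j) * x := by rw [ih]
        _ = ζ ^ (j + 1) * a * x ^ (j + 1) := by rw [pow_succ ζ, pow_succ x, ← mul_assoc, ← mul_assoc, ← mul_assoc]; rw [(Commute.pow_right (show Commute ζ ζ from Commute.refl ζ) j).eq]
  induction k with
  | zero => simp
  | succ k ih =>
    have hc : Commute a (ζ ^ j) := Commute.pow_right (show Commute a ζ from ha.symm) j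
    calc x ^ j * a ^ (k + 1) = (x ^ j * a ^ k) * a := by rw [pow_succ]; group
      _ = ζ ^ (j * k) * a ^ k * (x ^ j * a) := by rw [ih]; group
      _ = ζ ^ (j * k) * a ^ k * (ζ ^ j * a * x ^ j) := by rw [h1]
      _ = ζ ^ (j * k) * (a ^ k * ζ ^ j) * a * x ^ j := by group
      _ = ζ ^ (j * k) * (ζ ^ j * a ^ k) * a * x ^ j := by rw [(Commute.pow_left hc k).eq]
      _ = ζ ^ (j * (k + 1)) * a ^ (k + 1) * x ^ j := by
        rw [mul_add, mul_one, pow_add ζ, pow_succ a]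
        group

section Basic

variable [Finite S] {F : FusionSystem S}

theorem index_Zc (hS : IsPGroup p S) (hna : ¬ IsMulCommutative ↥S) (hZ : (Subgroup.center ↥S).index ≤ p ^ 2) :
    ((Zc S).subgroupOf S).index = p ^ 2 := by
  rw [subgroupOf_Zc]
  obtain ⟨k, hk⟩ := IsPGroup.index hS (Subgroup.center ↥S)
  rw [hk] at hZ ⊢
  have hk2 : k ≤ 2 := (Nat.pow_le_pow_iff_right hp.out.one_lt).1 hZ
  have hk0 : k ≠ 0 := by
    rintro rfl
    apply hna
    rw [pow_zero, Subgroup.index_eq_one] at hk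
    refine ⟨⟨fun a b => ?_⟩⟩
    have : a ∈ Subgroup.center ↥S := by
      rw [hk]
      trivial
    exact (Subgroup.mem_center_iff.1 this b).symm
  have hk1 : k ≠ 1 := by
    rintro rfl
    apply hna
    rw [pow_one, Subgroup.index_eq_card] at hk
    haveI : Fact (Nat.card (↥S ⧸ Subgroup.center ↥S)).Prime := ⟨by rw [hk]; exact hp.out⟩
    haveI : IsCyclic (↥S ⧸ Subgroup.center ↥S) := isCyclic_of_prime_card rfl
    exact ⟨⟨(commGroupOfCyclicCenterQuotient (G' := ↥S ⧸ Subgroup.center ↥S) (QuotientGroup.mk' _) (by rw [QuotientGroup.ker_mk'])).mul_comm⟩⟩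
  congr 1
  omega

/-- The structure of an essential subgroup. -/
structure Ess (S E : Subgroup Ω) (p : ℕ) : Prop where
  hES : E ≤ S
  hCc : centralizerIn S E ≤ E
  hZE : Zc S ≤ E
  hab : ∀ u ∈ E, ∀ v ∈ E, u * v = v * u
  hsetE : Setup S E p
  hsetZ : Setup E (Zc S) p
  hx : ∃ x ∈ E, x ∉ Zc S
  ha : ∃ a ∈ S, a ∉ E

theorem Zc_comm : IsMulCommutative ↥(Zc S) :=
  ⟨⟨fun a b => Subtype.ext ((mem_Zc.1 b.2).2 a (mem_Zc.1 a.2).1)⟩⟩

theorem ess_struct (hS : IsPGroup p S) (hF : F.IsSaturated p) (hidx : ((Zc S).subgroupOf S).index = p ^ 2) {E : Subgroup Ω}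
    (hE : F.IsEssential p E) : Ess S E p := by
  have hES : E ≤ S := hE.1.1
  have hCc : centralizerIn S E ≤ E := hE.1.2 E ⟨E.subtype, subtype_mem F hES, E.range_subtype⟩
  have hZE : Zc S ≤ E := by
    intro z hz
    apply hCc
    refine ⟨(mem_Zc.1 hz).1, ?_⟩
    show z ∈ Subgroup.centralizer (E : Set Ω)
    rw [Subgroup.mem_centralizer_iff]
    intro u hu
    exact ((mem_Zc.1 hz).2 u (hES hu))
  have hne : E ≠ S := essential_ne hS hF hE
  have hZne : ¬ E ≤ Zc S := by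
    intro hle
    apply hne
    apply le_antisymm hES
    intro s hs
    apply hCc
    refine ⟨hs, ?_⟩
    show s ∈ Subgroup.centralizer (E : Set Ω)
    rw [Subgroup.mem_centralizer_iff]
    intro u hu
    exact ((mem_Zc.1 (hle hu)).2 s hs).symm
  have hZS : Zc S ≤ S := inf_le_left
  have hmul := Subgroup.relIndex_mul_relIndex (Zc S) E S hZE hES
  have hn1 : E.relIndex S ≠ 1 := by
    intro h
    rw [Subgroup.relIndex_eq_one] at h
    exact hne (le_antisymm hES h)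
  have hm1 : (Zc S).relIndex E ≠ 1 := by
    intro h
    rw [Subgroup.relIndex_eq_one] at h
    exact hZne h
  change (Zc S).relIndex S = p ^ 2 at hidx
  rw [hidx] at hmul
  obtain ⟨i, hi, hie⟩ := (Nat.dvd_prime_pow hp.out).1 (Dvd.intro _ hmul)
  obtain ⟨j, hj, hje⟩ := (Nat.dvd_prime_pow hp.out).1 (Dvd.intro_left _ hmul)
  rw [hie, hje, ← pow_add] at hmul
  have hij : i + j = 2 := Nat.pow_right_injective hp.out.two_le hmul
  have hi0 : i ≠ 0 := by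
    rintro rfl
    exact hm1 (by simpa using hie)
  have hj0 : j ≠ 0 := by
    rintro rfl
    exact hn1 (by simpa using hje)
  have hi1 : i = 1 := by omega
  have hj1 : j = 1 := by omega
  rw [hi1, pow_one] at hie
  rw [hj1, pow_one] at hje
  haveI := finite_of_le hES
  have hEp : IsPGroup p E := hS.to_le hES
  have hsetZ : Setup E (Zc S) p := setup_of hEp hZE Zc_comm hie
  obtain ⟨x, hxE, hxZ⟩ := SetLike.not_le_iff_exists.1 hZne
  have hab : ∀ u ∈ E, ∀ v ∈ E, u * v = v * u := by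
    intro u hu v hv
    obtain ⟨i, z, hz, rfl⟩ := hsetZ.hgen x hxE hxZ u hu
    obtain ⟨j, w, hw, rfl⟩ := hsetZ.hgen x hxE hxZ v hv
    have h1 := (mem_Zc.1 hz).2
    have h2 := (mem_Zc.1 hw).2
    have hxS := hES hxE
    have c1 : Commute (x ^ i) (x ^ j) := Commute.pow_pow_self x i j
    have c2 : Commute (x ^ i) w := h2 _ (S.pow_mem hxS i)
    have c3 : Commute z (x ^ j) := (h1 _ (S.pow_mem hxS j)).symm
    have c4 : Commute z w := (h1 w (mem_Zc.1 hw).1).symm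
    exact ((c1.mul_right c2).mul_left (c3.mul_right c4)).eq
  have hEc : IsMulCommutative ↥E := ⟨⟨fun a b => Subtype.ext (hab a a.2 b b.2)⟩⟩
  have hsetE : Setup S E p := setup_of hS hES hEc hje
  obtain ⟨a, ha, haE⟩ := SetLike.not_le_iff_exists.1 (fun h : S ≤ E => hne (le_antisymm hES h))
  exact ⟨hES, hCc, hZE, hab, hsetE, hsetZ, ⟨x, hxE, hxZ⟩, ⟨a, ha, haE⟩⟩

/-- `p`-th powers are central. -/
theorem Ess.pow_mem {E : Subgroup Ω} (hE : Ess S E p) {s : Ω} (hs : s ∈ S) : s ^ p ∈ Zc S := by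
  by_cases hsE : s ∈ E
  · exact hE.hsetZ.hpow s hsE
  · refine mem_Zc.2 ⟨S.pow_mem hs p, fun t ht => ?_⟩
    obtain ⟨i, e, he, rfl⟩ := hE.hsetE.hgen s hs hsE t ht
    have h1 := hE.hab _ he _ (hE.hsetE.hpow s hs)
    calc s ^ i * e * s ^ p = s ^ i * (e * s ^ p) := by group
      _ = s ^ i * (s ^ p * e) := by rw [h1]
      _ = (s ^ i * s ^ p) * e := by group
      _ = (s ^ p * s ^ i) * e := by rw [(Commute.pow_pow_self s i p).eq]
      _ = s ^ p * (s ^ i * e) := by group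

/-- Another abelian subgroup of index `p`. -/
theorem other_setup (hS : IsPGroup p S) (hidx : ((Zc S).subgroupOf S).index = p ^ 2) {a : Ω} (ha : a ∈ S) (haZ : a ∉ Zc S)
    (hap : a ^ p ∈ Zc S) : Setup S (Zc S ⊔ Subgroup.zpowers a) p := by
  have hAS : Zc S ⊔ Subgroup.zpowers a ≤ S := sup_le inf_le_left ((Subgroup.zpowers_le).2 ha)
  have hZA : Zc S ≤ Zc S ⊔ Subgroup.zpowers a := le_sup_left
  have haA : a ∈ Zc S ⊔ Subgroup.zpowers a := Subgroup.mem_sup_right (Subgroup.mem_zpowers a)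
  have hdec : ∀ u ∈ Zc S ⊔ Subgroup.zpowers a, ∃ j : ℤ, ∃ z ∈ Zc S, u = z * a ^ j := by
    intro u hu
    have hle : Subgroup.zpowers a ≤ Subgroup.normalizer ((Zc S : Subgroup Ω) : Set Ω) := by
      rw [Subgroup.zpowers_le]
      rw [Subgroup.mem_normalizer_iff]
      intro z
      constructor
      · intro hz
        have hz' : z ∈ Zc S := hz
        rw [(mem_Zc.1 hz').2 a ha]
        simpa using hz
      · intro hz
        have hz' : a * z * a⁻¹ ∈ Zc S := hz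
        have h1 := (mem_Zc.1 hz').2 a⁻¹ (S.inv_mem ha)
        have h2 : z = a⁻¹ * (a * z * a⁻¹) * a := by group
        rw [h2]
        rw [h1]
        simpa using hz'
    rw [sup_comm] at hu
    obtain ⟨w, hw, z, hz, rfl⟩ := exists_mul_of_mem_sup hle hu
    obtain ⟨j, rfl⟩ := Subgroup.mem_zpowers_iff.1 hw
    exact ⟨j, z, hz, (mem_Zc.1 hz).2 _ (S.zpow_mem ha j)⟩
  have hc : IsMulCommutative ↥(Zc S ⊔ Subgroup.zpowers a) := by
    refine ⟨⟨fun u v => Subtype.ext ?_⟩⟩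
    obtain ⟨j, z, hz, hu⟩ := hdec u u.2
    obtain ⟨k, w, hw, hv⟩ := hdec v v.2
    show (u : Ω) * v = v * u
    rw [hu, hv]
    have h1 := (mem_Zc.1 hz).2
    have h2 := (mem_Zc.1 hw).2
    have c1 : Commute (a ^ j) (a ^ k) := Commute.zpow_zpow_self a j k
    have c2 : Commute (a ^ j) w := h2 _ (S.zpow_mem ha j)
    have c3 : Commute z (a ^ k) := (h1 _ (S.zpow_mem ha k)).symm
    have c4 : Commute z w := (h1 w (mem_Zc.1 hw).1).symm
    exact ((c4.mul_right c3).mul_left (c2.mul_right c1)).eq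
  have hi1 : ((Zc S).subgroupOf (Zc S ⊔ Subgroup.zpowers a)).index = p := by
    refine index_eq_of_gen (p := p) hZA ?_ haA haZ hap ?_
    · intro n hn u hu
      rw [(mem_Zc.1 hu).2 n (hAS hn)]
      simpa using hu
    · intro n hn
      exact hdec n hn
  have hmul := Subgroup.relIndex_mul_relIndex (Zc S) _ S hZA hAS
  change (Zc S).relIndex S = p ^ 2 at hidx
  change ((Zc S).relIndex _ = p) at hi1
  rw [hidx, hi1, sq] at hmul
  have hi2 : (Zc S ⊔ Subgroup.zpowers a).relIndex S = p := Nat.eq_of_mul_eq_mul_left hp.out.pos hmul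
  exact setup_of hS hAS hc hi2

/-- Data obtained for an essential subgroup. -/
theorem ess_case (hS : IsPGroup p S) (hF : F.IsSaturated p) (hna : ∃ s ∈ S, ∃ s' ∈ S, s * s' ≠ s' * s)
    (hidx : ((Zc S).subgroupOf S).index = p ^ 2) {E : Subgroup Ω} (hE : F.IsEssential p E) :
    ∃ A : Subgroup Ω, Setup S A p ∧ E ≠ A ∧ Zc S ≤ A := by
  have hess := ess_struct hS hF hidx hE
  obtain ⟨a, haS, haE⟩ := hess.ha
  have haZ : a ∉ Zc S := fun h => haE (hess.hZE h)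
  refine ⟨_, other_setup hS hidx haS haZ (hess.pow_mem haS), ?_, le_sup_left⟩
  intro h
  apply haE
  rw [h]
  exact Subgroup.mem_sup_right (Subgroup.mem_zpowers a)

/-- The commutator subgroup. -/
theorem comm_gen (hS : IsPGroup p S) (hF : F.IsSaturated p) (hna : ∃ s ∈ S, ∃ s' ∈ S, s * s' ≠ s' * s)
    (hidx : ((Zc S).subgroupOf S).index = p ^ 2) {E : Subgroup Ω} (hE : F.IsEssential p E) :
    ∃ ζ ∈ Zc S, ζ ≠ 1 ∧ ζ ^ p = 1 ∧ (commutator ↥S).map S.subtype = Subgroup.zpowers ζ := by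
  have hess := ess_struct hS hF hidx hE
  obtain ⟨A, hA, hEA, hZA⟩ := ess_case hS hF hna hidx hE
  obtain ⟨x, hxP, hxA, hform, hPZ, a, haA, haZ, haN, hap, hζa, hcase, -⟩ := abelian_case hS hF hA hna hE hEA hess.hab
  have haS := hA.hAS haA
  have hxS := hess.hES hxP
  have haE : a ∉ E := fun h => haZ (hPZ a h haA)
  have hxZ : x ∉ Zc S := fun h => hxA (hZA h)
  obtain ⟨ζ, hζ⟩ : ∃ ζ, ζ = x * a * x⁻¹ * a⁻¹ := ⟨_, rfl⟩
  rw [← hζ] at hζa
  have hzc := (mem_Zc.1 hζa).2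
  have hxa : x * a = ζ * a * x := by
    rw [hζ]
    group
  have hrel := pow_pow_rel hxa (hzc x hxS).symm (hzc a haS).symm
  have hdec : ∀ s ∈ S, ∃ i j : ℕ, ∃ z ∈ Zc S, s = a ^ i * (x ^ j * z) := by
    intro s hs
    obtain ⟨i, e, he, rfl⟩ := hess.hsetE.hgen a haS haE s hs
    obtain ⟨j, z, hz, rfl⟩ := hess.hsetZ.hgen x hxP hxZ e he
    exact ⟨i, j, z, hz, rfl⟩
  have hprod : ∀ (i j k l : ℕ), ∀ z ∈ Zc S, ∀ w ∈ Zc S, a ^ i * (x ^ j * z) * (a ^ k * (x ^ l * w)) =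
      ζ ^ (j * k) * (a ^ (i + k) * x ^ (j + l) * (z * w)) := by
    intro i j k l z hz w hw
    have h1 := (mem_Zc.1 hz).2
    have h2 := (Subgroup.pow_mem _ hζa (j * k) : ζ ^ (j * k) ∈ Zc S)
    calc a ^ i * (x ^ j * z) * (a ^ k * (x ^ l * w)) = a ^ i * x ^ j * (z * a ^ k) * (x ^ l * w) := by group
      _ = a ^ i * x ^ j * (a ^ k * z) * (x ^ l * w) := by rw [h1 _ (S.pow_mem haS k)]
      _ = a ^ i * (x ^ j * a ^ k) * (z * x ^ l) * w := by group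
      _ = a ^ i * (ζ ^ (j * k) * a ^ k * x ^ j) * (x ^ l * z) * w := by rw [hrel, h1 _ (S.pow_mem hxS l)]
      _ = (a ^ i * ζ ^ (j * k)) * a ^ k * x ^ j * x ^ l * z * w := by group
      _ = (ζ ^ (j * k) * a ^ i) * a ^ k * x ^ j * x ^ l * z * w := by rw [(mem_Zc.1 h2).2 _ (S.pow_mem haS i)]
      _ = _ := by rw [pow_add, pow_add]; group
  have hζS : ζ ∈ S := (mem_Zc.1 hζa).1
  have hζ1 : ζ ≠ 1 := by
    intro h1
    have h2 : x * a = a * x := by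
      rw [hxa, h1, one_mul]
    have h3 : a ∈ Zc S := by
      refine mem_Zc.2 ⟨haS, fun s hs => ?_⟩
      obtain ⟨i, e, he, rfl⟩ := hess.hsetE.hgen a haS haE s hs
      obtain ⟨j, z, hz, rfl⟩ := hess.hsetZ.hgen x hxP hxZ e he
      have h4 : x ^ j * a = a * x ^ j := Commute.pow_left h2 j
      calc a ^ i * (x ^ j * z) * a = a ^ i * (x ^ j * (z * a)) := by group
        _ = a ^ i * (x ^ j * (a * z)) := by rw [(mem_Zc.1 hz).2 a haS]
        _ = a ^ i * (x ^ j * a) * z := by group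
        _ = a ^ i * (a * x ^ j) * z := by rw [h4]
        _ = a * (a ^ i * (x ^ j * z)) := by rw [← mul_assoc, ← pow_succ, pow_succ']; group
    exact haZ h3
  have hζp : ζ ^ p = 1 := by
    have h1 := hrel p 1
    have h2 := hess.pow_mem hxS
    rw [pow_one, mul_one, ← (mem_Zc.1 h2).2 a haS] at h1
    exact mul_eq_right.1 (mul_right_cancel h1).symm
  refine ⟨ζ, hζa, hζ1, hζp, le_antisymm ?_ ?_⟩
  · rintro _ ⟨c, hc, rfl⟩
    have hle : commutator ↥S ≤ (Subgroup.zpowers ζ).comap S.subtype := by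
      rw [commutator_def, Subgroup.commutator_le]
      rintro ⟨s, hs⟩ - ⟨t, ht⟩ -
      rw [Subgroup.mem_comap]
      obtain ⟨i, j, z, hz, rfl⟩ := hdec s hs
      obtain ⟨k, l, w, hw, rfl⟩ := hdec t ht
      show (⁅(⟨_, hs⟩ : ↥S), (⟨_, ht⟩ : ↥S)⁆ : ↥S).1 ∈ Subgroup.zpowers ζ
      rw [commutatorElement_def]
      show _ * _ * _⁻¹ * _⁻¹ ∈ Subgroup.zpowers ζ
      have h1 := hprod i j k l z hz w hw
      have h2 := hprod k l i j w hw z hz
      have h3 := (mem_Zc.1 hz).2 w (mem_Zc.1 hw).1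
      have e1 : ∀ s t : Ω, s * t * s⁻¹ * t⁻¹ = (s * t) * (t * s)⁻¹ := by intro s t; group
      rw [e1, h1, h2, add_comm k i, add_comm l j, h3]
      have e2 : ζ ^ (j * k) * (a ^ (i + k) * x ^ (j + l) * (z * w)) * (ζ ^ (l * i) * (a ^ (i + k) * x ^ (j + l) * (z * w)))⁻¹ = ζ ^ (j * k) * (ζ ^ (l * i))⁻¹ := by
        group
      rw [e2]
      exact Subgroup.mul_mem _ (Subgroup.pow_mem _ (Subgroup.mem_zpowers ζ) _) (Subgroup.inv_mem _ (Subgroup.pow_mem _ (Subgroup.mem_zpowers ζ) _))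
    exact hle hc
  · rw [Subgroup.zpowers_le]
    refine ⟨⁅(⟨x, hxS⟩ : ↥S), (⟨a, haS⟩ : ↥S)⁆, ?_, ?_⟩
    · rw [commutator_def]
      exact Subgroup.commutator_mem_commutator (Subgroup.mem_top _) (Subgroup.mem_top _)
    · rw [hζ]
      rfl

/-- Extension to `S` from a maximal subgroup. -/
theorem exists_ext_aut (hS : IsPGroup p S) (hF : F.IsSaturated p) {P : Subgroup Ω} (hfn : F.IsFullyNormalized P) (hset : Setup S P p)
    {n : MulAut P} (hn : n ∈ F.autGroup P) {a : Ω} (haS : a ∈ S) (haP : a ∉ P) (han : a ∈ Subgroup.normalizer (P : Set Ω))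
    (hconj : n * autOfNormalizer han * n⁻¹ ∈ autInducedBy S P) :
    ∃ h ∈ F.autGroup S, ∀ u : P, fn h u = (n u : Ω) := by
  obtain ⟨ψ, hψ, hψv, hay⟩ := exists_ext_over hS hF hfn hn haS han hconj
  have hle := le_extender (F := F) (autGroup_hom hfn.1 hn)
  have hext : extender S P (P.subtype.comp n.toMonoidHom) = S := by
    apply le_antisymm ((extender_le_normalizerIn P _).trans inf_le_left)
    intro s hs
    obtain ⟨i, e, he, rfl⟩ := hset.hgen a haS haP s hs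
    exact Subgroup.mul_mem _ (Subgroup.pow_mem _ hay i) (hle he)
  have key : ∀ (R : Subgroup Ω) (_ : R = S) (ψ' : R →* Ω) (_ : ψ' ∈ F.Hom R) (hle' : P ≤ R) (_ : ∀ x : P, ψ' ⟨x, hle' x.2⟩ = n x),
      ∃ h ∈ F.autGroup S, ∀ u : P, fn h u = (n u : Ω) := by
    rintro R rfl ψ' hψ' hle' hv
    refine ⟨isoOfHom hψ' (range_eq_of_top hψ'), mem_autGroup_of_isIso (isoOfHom_isIso _ _), fun u => ?_⟩
    exact (fn_of_mem (isoOfHom hψ' (range_eq_of_top hψ')) (hle' u.2)).trans (hv u)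
  exact key _ hext ψ hψ hle hψv

theorem abel_data2 (hS : IsPGroup p S) (hF : F.IsSaturated p) (hp2 : p ≠ 2) (hA : Setup S A p) (hna : ∃ s ∈ S, ∃ s' ∈ S, s * s' ≠ s' * s)
    {P : Subgroup Ω} (hP : F.IsEssential p P) (hEA : P ≠ A)
    (hab : ∀ u ∈ P, ∀ v ∈ P, u * v = v * u) (hsetP : Setup S P p) (hcardZ₀ : Nat.card ↥(Zc S ⊓ (commutator ↥S).map S.subtype) = p)
    {H : Subgroup (MulAut P)} (hH : H ≤ F.autGroup P)
    (hHs : ∀ w ∈ autInducedBy S P, w ∉ Inn P → ∀ x ∈ F.autGroup P, x * w * x⁻¹ ∈ autInducedBy S P → x ∈ H)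
    {g : MulAut P} (hg : g ∈ F.autGroup P) (hgH : g ∉ H) :
    ∃ h ∈ F.autGroup S, (∀ z ∈ Zc S ⊓ (commutator ↥S).map S.subtype, fn h z = z⁻¹) ∧
      (∀ z ∈ Zc S, z⁻¹ * fn h z ∈ Zc S ⊓ (commutator ↥S).map S.subtype) ∧
      (∀ z ∈ Zc S, fn h z = z ↔ fn g⁻¹ z ∈ Zc S) ∧ ∃ a' ∈ P, a' ∉ Zc S ∧ a' ^ p = 1 := by
  classical
  obtain ⟨x, hxP, hxA, hform, hPZ, a, haA, haZ, haN, hap, hζa, hcase, -⟩ := abelian_case hS hF hA hna hP hEA hab
  obtain ⟨hPS, hCc, hZP, -, -⟩ := ess_basic hS hF hA hP hEA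
  have hfn := hP.2.1
  have hxS := hPS hxP
  haveI := finite_of_le hPS
  have hZA : Zc S ≤ A := fun z hz => mem_of_central hA hna (mem_Zc.1 hz).1 (mem_Zc.1 hz).2
  have haP : a ∉ P := fun h => haZ (hPZ a h haA)
  have hdec : ∀ u ∈ P, ∃ i : ℕ, ∃ z ∈ Zc S, u = x ^ i * z := by
    intro u hu
    obtain ⟨i, b, hb, rfl⟩ := hA.hgen x hxS hxA u (hPS hu)
    refine ⟨i, b, hPZ b ?_ hb, rfl⟩
    have := P.mul_mem (P.inv_mem (P.pow_mem hxP i)) hu
    simpa using this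
  have hzb : ∀ b ∈ A, b ∈ normalizerIn S P → x * b * x⁻¹ * b⁻¹ ∈ Zc S := by
    intro b hbA hbN
    refine hPZ _ ?_ (comm_mem hA hxS hbA)
    have h1 : b * x⁻¹ * b⁻¹ ∈ P := conj_mem_of_normalizer hbN.2 (P.inv_mem hxP)
    have := P.mul_mem hxP h1
    simpa [mul_assoc] using this
  have hcl1 := abel_claim hS hF hA hfn hPS hCc hZP hZA hxS hdec hzb hH hHs hg hgH a haA haN haP
  have hcl2 := abel_claim hS hF hA hfn hPS hCc hZP hZA hxS hdec hzb hH hHs (Subgroup.inv_mem _ hg) (fun h => hgH (by simpa using H.inv_mem h)) a haA haN haP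
  rw [inv_inv] at hcl2
  obtain ⟨ζ, hζdef⟩ : ∃ ζ, ζ = x * a * x⁻¹ * a⁻¹ := ⟨_, rfl⟩
  rw [← hζdef] at hcl1 hcl2 hζa
  have hζP := hZP hζa
  have hcomm : ∀ u v : P, u * v = v * u := fun u v => Subtype.ext (hab u u.2 v v.2)
  -- the transvection `τ`
  obtain ⟨τ, hτ⟩ : ∃ τ, τ = autOfNormalizer haN.2 := ⟨_, rfl⟩
  have hτv : ∀ u : P, ((τ u : P) : Ω) = a * u * a⁻¹ := fun u => by rw [hτ]; rfl
  obtain ⟨a₀, ha₀⟩ : ∃ a₀ : P, (a₀ : Ω) = ζ⁻¹ := ⟨⟨ζ⁻¹, P.inv_mem hζP⟩, rfl⟩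
  have hζp : ζ ^ p = 1 := by
    have h1 := comm_pow hA hxS haA p
    rw [← hζdef] at h1
    rw [← h1, (mem_Zc.1 hap).2 x hxS]
    group
  have ha₀p : a₀ ^ p = 1 := by
    apply Subtype.ext
    rw [Subgroup.coe_pow, ha₀, inv_pow, hζp, inv_one]
    rfl
  have h1 : ∀ u : P, ∃ k : ℕ, τ u = u * a₀ ^ k := by
    intro u
    obtain ⟨i, z, hz, hu⟩ := hdec u u.2
    refine ⟨i, Subtype.ext ?_⟩
    have h2 := abel_act hA hxS hZA haA (hζdef ▸ hζa) i hz
    rw [← hu, ← hζdef] at h2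
    rw [hτv, Subgroup.coe_mul, Subgroup.coe_pow, ha₀, ← h2]
    group
  have hfixZ : ∀ u : P, (u : Ω) ∈ Zc S → τ u = u := by
    intro u hu
    apply Subtype.ext
    rw [hτv, (mem_Zc.1 hu).2 a haN.1]
    group
  have h1a : τ a₀ = a₀ := hfixZ a₀ (by rw [ha₀]; exact (Zc S).inv_mem hζa)
  have ha₀1 : a₀ ≠ 1 := by
    intro h
    have h2 : ζ = 1 := by
      have h3 : (a₀ : Ω) = 1 := by rw [h]; rfl
      rw [ha₀] at h3
      exact inv_eq_one.1 h3
    apply hcl1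
    rw [h2, fn_map_one']
    exact (Zc S).one_mem
  have hxpZ : x ^ p ∈ Zc S := hPZ _ (P.pow_mem hxP p) (hA.hpow x hxS)
  have hfixZ' : ∀ u : P, τ u = u → (u : Ω) ∈ Zc S := by
    intro u hu
    obtain ⟨i, z, hz, hue⟩ := hdec u u.2
    have h2 := abel_act hA hxS hZA haA (hζdef ▸ hζa) i hz
    rw [← hue, ← hζdef, ← hτv, hu, inv_mul_cancel] at h2
    have h3 : a₀ ^ i = 1 := by
      apply Subtype.ext
      rw [Subgroup.coe_pow, ha₀]
      exact h2.symm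
    have h4 : orderOf a₀ = p := orderOf_eq_prime ha₀p ha₀1
    have h5 : p ∣ i := by
      rw [← h4]
      exact orderOf_dvd_of_pow_eq_one h3
    obtain ⟨m, rfl⟩ := h5
    rw [hue, pow_mul]
    exact (Zc S).mul_mem ((Zc S).pow_mem hxpZ m) hz
  obtain ⟨a', ha'⟩ : ∃ a' : P, a' = g a₀ := ⟨_, rfl⟩
  obtain ⟨t', ht'⟩ : ∃ t', t' = g * τ * g⁻¹ := ⟨_, rfl⟩
  have ht'v : ∀ u, t' u = g (τ (g⁻¹ u)) := fun u => by rw [ht']; rfl
  have ha'p : a' ^ p = 1 := by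
    rw [ha', ← map_pow, ha₀p, map_one]
  have h2 : ∀ u : P, ∃ k : ℕ, t' u = u * a' ^ k := by
    intro u
    obtain ⟨k, hk⟩ := h1 (g⁻¹ u)
    refine ⟨k, ?_⟩
    rw [ht'v, hk, map_mul, map_pow, MulAut.apply_inv_self, ha']
  have h2a : t' a' = a' := by
    rw [ht'v, ha', MulAut.inv_apply_self, h1a]
  have hgfn : ∀ (c : MulAut P) (u : P), fn c (u : Ω) = ((c u : P) : Ω) := fun c u => fn_coe c u
  have h3 : τ a' ≠ a' := by
    intro h
    have h4 := hfixZ' a' h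
    rw [ha', ← hgfn, ha₀, fn_map_inv g hζP] at h4
    have h5 := (Zc S).inv_mem h4
    rw [inv_inv] at h5
    exact hcl2 h5
  have h4 : t' a₀ ≠ a₀ := by
    intro h
    rw [ht'v] at h
    have h5 : τ (g⁻¹ a₀) = g⁻¹ a₀ := by
      have h6 := congrArg (g⁻¹ : MulAut P) h
      rwa [MulAut.inv_apply_self] at h6
    have h6 := hfixZ' _ h5
    rw [← hgfn, ha₀, fn_map_inv g⁻¹ hζP] at h6
    have h7 := (Zc S).inv_mem h6
    rw [inv_inv] at h7
    exact hcl1 h7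
  obtain ⟨b, j, ⟨k₁, hk₁⟩, ⟨k₂, hk₂⟩, hta, hd, hsb, hsa⟩ := transvection_pair' hcomm ha₀p ha'p h1 h1a h2 h2a h3 h4
  obtain ⟨s, hs⟩ : ∃ s, s = τ * t' ^ j * τ := ⟨_, rfl⟩
  rw [← hs] at hsb hsa
  have hτb : τ b = b := by
    rw [hk₁, map_pow, h1a]
  have hbp : b ^ p = 1 := by
    rw [hk₁, ← pow_mul, mul_comm, pow_mul, ha₀p, one_pow]
  have hb1 : b ≠ 1 := by
    rintro rfl
    apply ha₀1
    rw [hk₂, one_pow]
  have hbord : orderOf b = p := orderOf_eq_prime hbp hb1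
  have hbZ : (b : Ω) ∈ Zc S := hfixZ' b hτb
  have hζcomm : ζ ∈ (commutator ↥S).map S.subtype := by
    refine ⟨⁅(⟨x, hxS⟩ : ↥S), (⟨a, hA.hAS haA⟩ : ↥S)⁆, ?_, ?_⟩
    · rw [commutator_def]
      exact Subgroup.commutator_mem_commutator (Subgroup.mem_top _) (Subgroup.mem_top _)
    · rw [hζdef]
      rfl
  have hbcomm : (b : Ω) ∈ (commutator ↥S).map S.subtype := by
    rw [hk₁, Subgroup.coe_pow, ha₀]
    exact Subgroup.pow_mem _ (Subgroup.inv_mem _ hζcomm) _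
  have hbZ₀ : (b : Ω) ∈ Zc S ⊓ (commutator ↥S).map S.subtype := ⟨hbZ, hbcomm⟩
  have hτ'pow : ∀ (n : ℕ) (c : P), t' c = c → (t' ^ n) c = c := by
    intro n c hc
    induction n with
    | zero => rfl
    | succ n ih => rw [pow_succ', MulAut.mul_apply, ih, hc]
  have hsc : ∀ c : P, τ c = c → t' c = c → s c = c := by
    intro c h5 h6
    rw [hs, MulAut.mul_apply, MulAut.mul_apply, h5, hτ'pow j c h6, h5]
  obtain ⟨ν, hν⟩ : ∃ ν, ν = s * s := ⟨_, rfl⟩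
  have hνv : ∀ y, ν y = s (s y) := fun y => by rw [hν]; rfl
  have hνc : ∀ c : P, τ c = c → t' c = c → ν c = c := fun c h5 h6 => by rw [hνv, hsc c h5 h6, hsc c h5 h6]
  have hνb : ν b = b⁻¹ := by rw [hνv, hsb, map_inv, hsa]
  have hνa : ν a' = a'⁻¹ := by rw [hνv, hsa, hsb]
  have hτmem : τ ∈ F.autGroup P := by
    rw [hτ]
    exact autOfNormalizer_mem_autGroup hPS haN
  have ht'mem : t' ∈ F.autGroup P := by
    rw [ht']
    exact Subgroup.mul_mem _ (Subgroup.mul_mem _ hg hτmem) (Subgroup.inv_mem _ hg)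
  have hsmem : s ∈ F.autGroup P := by
    rw [hs]
    exact Subgroup.mul_mem _ (Subgroup.mul_mem _ hτmem (Subgroup.pow_mem _ ht'mem j)) hτmem
  have hνmem : ν ∈ F.autGroup P := by
    rw [hν]
    exact Subgroup.mul_mem _ hsmem hsmem
  have hνcomm : ν * τ = τ * ν := by
    ext y
    obtain ⟨c, u, v, h5, h6, rfl⟩ := hd y
    have h7 : (a' * b)⁻¹ = a'⁻¹ * b⁻¹ := by
      rw [mul_inv_rev, hcomm]
    show ((ν (τ (c * b ^ u * a' ^ v)) : P) : Ω) = ((τ (ν (c * b ^ u * a' ^ v)) : P) : Ω)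
    congr 1
    simp only [map_mul, map_pow, h5, hτb, hta, hνc c h5 h6, hνb, hνa, map_inv]
    rw [h7]
  have hconj : ν * autOfNormalizer haN.2 * ν⁻¹ ∈ autInducedBy S P := by
    rw [← hτ, hνcomm, mul_inv_cancel_right, hτ]
    exact autOfNormalizer_mem_autInducedBy haN.2 haN.1
  obtain ⟨h, hh, hv⟩ := exists_ext_aut hS hF hfn hsetP hνmem haN.1 haP haN.2 hconj
  have hhν : ∀ z (hz : z ∈ Zc S), fn h z = ((ν ⟨z, hZP hz⟩ : P) : Ω) := fun z hz => hv ⟨z, hZP hz⟩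
  -- decomposition of the centre
  have hdz : ∀ z (hz : z ∈ Zc S), ∃ (c : P) (u : ℕ), τ c = c ∧ t' c = c ∧ (⟨z, hZP hz⟩ : P) = c * b ^ u := by
    intro z hz
    obtain ⟨c, u, v, h5, h6, he⟩ := hd ⟨z, hZP hz⟩
    refine ⟨c, u, h5, h6, ?_⟩
    have h7 := hfixZ ⟨z, hZP hz⟩ hz
    rw [he] at h7
    simp only [map_mul, map_pow, h5, hτb, hta] at h7
    have hcab : Commute a' b := hcomm a' b
    rw [hcab.mul_pow, ← mul_assoc] at h7
    have h8 : b ^ v = 1 := mul_eq_left.1 h7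
    have h9 : p ∣ v := by
      rw [← hbord]
      exact orderOf_dvd_of_pow_eq_one h8
    obtain ⟨m, rfl⟩ := h9
    rw [he, pow_mul, ha'p, one_pow, mul_one]
  have hcardZ₀' := hcardZ₀
  refine ⟨h, hh, ?_, ?_, ?_, a', a'.2, ?_, ?_⟩
  · intro z hz
    rw [hhν z hz.1]
    have hne : (⟨(b : Ω), hbZ₀⟩ : ↥(Zc S ⊓ (commutator ↥S).map S.subtype)) ≠ 1 := by
      intro h5
      apply hb1
      have h6 : (b : Ω) = 1 := congrArg Subtype.val h5
      exact Subtype.ext h6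
    obtain ⟨n, hn⟩ := Subgroup.mem_zpowers_iff.1 (mem_zpowers_of_prime_card (p := p) hcardZ₀ (g' := ⟨z, hz⟩) hne)
    have hn' : (b : Ω) ^ n = z := congrArg Subtype.val hn
    have e : (⟨z, hZP hz.1⟩ : P) = b ^ n := by
      apply Subtype.ext
      rw [Subgroup.coe_zpow]
      exact hn'.symm
    rw [e, map_zpow, hνb, inv_zpow, Subgroup.coe_inv, Subgroup.coe_zpow, hn']
  · intro z hz
    rw [hhν z hz]
    obtain ⟨c, u, h5, h6, he⟩ := hdz z hz
    rw [he]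
    have h7 : ν (c * b ^ u) = c * (b⁻¹) ^ u := by
      rw [map_mul, map_pow, hνc c h5 h6, hνb]
    rw [h7]
    have h8 : z = (c : Ω) * (b : Ω) ^ u := by
      have := congrArg Subtype.val he
      simpa using this
    have h9 : z⁻¹ * ((c * (b⁻¹) ^ u : P) : Ω) = ((b : Ω)⁻¹) ^ u * ((b : Ω)⁻¹) ^ u := by
      rw [h8]
      simp only [Subgroup.coe_mul, Subgroup.coe_pow, Subgroup.coe_inv, mul_inv_rev, inv_pow]
      group
    rw [h9]
    have hi := Subgroup.inv_mem _ hbZ₀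
    exact Subgroup.mul_mem _ (Subgroup.pow_mem _ hi u) (Subgroup.pow_mem _ hi u)
  · intro z hz
    rw [hhν z hz]
    have hzfn : fn g⁻¹ z = (((g⁻¹ : MulAut P) ⟨z, hZP hz⟩ : P) : Ω) := fn_of_mem _ (hZP hz)
    constructor
    · intro h5
      obtain ⟨c, u, h6, h7, he⟩ := hdz z hz
      have h8 : ν ⟨z, hZP hz⟩ = ⟨z, hZP hz⟩ := Subtype.ext h5
      rw [he, map_mul, map_pow, hνc c h6 h7, hνb] at h8
      have h9 : (b⁻¹) ^ u = b ^ u := mul_left_cancel h8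
      have h10 : b ^ (2 * u) = 1 := by
        rw [two_mul, pow_add]
        nth_rewrite 1 [← h9]
        rw [inv_pow, inv_mul_cancel]
      have h11 : p ∣ 2 * u := by
        rw [← hbord]
        exact orderOf_dvd_of_pow_eq_one h10
      have h12 : p ∣ u := by
        rcases (Nat.Prime.dvd_mul hp.out).1 h11 with h13 | h13
        · exact absurd ((Nat.prime_dvd_prime_iff_eq hp.out Nat.prime_two).1 h13) hp2
        · exact h13
      obtain ⟨m, rfl⟩ := h12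
      have h14 : (⟨z, hZP hz⟩ : P) = c := by
        rw [he, pow_mul, hbp, one_pow, mul_one]
      rw [hzfn, h14]
      apply hfixZ'
      have h15 := congrArg (g⁻¹ : MulAut P) (show t' c = c from h7)
      rw [ht'v, MulAut.inv_apply_self] at h15
      exact h15
    · intro h5
      rw [hzfn] at h5
      have h6 := hfixZ _ h5
      have h7 : t' ⟨z, hZP hz⟩ = ⟨z, hZP hz⟩ := by
        rw [ht'v, h6, MulAut.apply_inv_self]
      have h8 := hνc ⟨z, hZP hz⟩ (hfixZ _ hz) h7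
      rw [h8]
  · intro h5
    exact h3 (hfixZ a' h5)
  · have := congrArg Subtype.val ha'p
    simpa using this

/-- The centre for odd `p`. -/
theorem center_odd (hS : IsPGroup p S) (hF : F.IsSaturated p) (hp2 : p ≠ 2) (hna' : ∃ s ∈ S, ∃ s' ∈ S, s * s' ≠ s' * s)
    (hidx : ((Zc S).subgroupOf S).index = p ^ 2) (hcore : F.core = ⊥) :
    Nat.card ↥(Zc S) = p ∧ (∃ P, F.IsEssential p P) ∧ ∀ P, F.IsEssential p P → ∃ a' ∈ P, a' ∉ Zc S ∧ a' ^ p = 1 := by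
  classical
  have hbot : ∀ Q, F.IsNormal Q → Q = ⊥ := by
    intro Q hQ
    have h1 : Q ≤ F.core := le_sSup hQ
    rw [hcore] at h1
    exact le_bot_iff.1 h1
  have hZne : Zc S ≠ ⊥ := by
    obtain ⟨s, hs, s', hs', hss⟩ := hna'
    haveI : Nontrivial ↥S := by
      refine ⟨⟨⟨s, hs⟩, 1, fun h => hss ?_⟩⟩
      have h1 : s = 1 := congrArg Subtype.val h
      rw [h1]
      group
    haveI hnt := hS.center_nontrivial
    obtain ⟨⟨z, hz⟩, hz1⟩ := exists_ne (1 : Subgroup.center ↥S)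
    intro hbot
    apply hz1
    have h2 : (z : Ω) ∈ Zc S := mem_center_iff_Zc.1 hz
    rw [hbot, Subgroup.mem_bot] at h2
    apply Subtype.ext
    exact Subtype.ext h2
  have hessS : ∀ P, F.IsEssential p P → Ess S P p := fun P hP => ess_struct hS hF hidx hP
  have hZPe : ∀ P : Subgroup Ω, F.IsEssential p P → Zc S ≤ P := fun P hP => (hessS P hP).hZE
  have hex : ∃ P₀, F.IsEssential p P₀ := by
    by_contra hcon
    push Not at hcon
    apply hZne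
    apply hbot
    refine isNormal_of_fn_inv hS hF le_rfl hZPe (fun P hP α _ z hz => ?_)
    rcases hP with rfl | hP
    · exact fn_Zc α hz
    · exact (hcon P hP).elim
  obtain ⟨P₀, hP₀⟩ := hex
  obtain ⟨ζ, hζZ, hζ1, hζp, hcomm⟩ := comm_gen hS hF hna' hidx hP₀
  obtain ⟨Z₀, hZ₀⟩ : ∃ Z₀, Z₀ = Zc S ⊓ (commutator ↥S).map S.subtype := ⟨_, rfl⟩
  have hZ₀Z : Z₀ ≤ Zc S := by
    rw [hZ₀]
    exact inf_le_left
  have hZ₀eq : Z₀ = Subgroup.zpowers ζ := by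
    rw [hZ₀, hcomm]
    exact inf_eq_right.2 ((Subgroup.zpowers_le).2 hζZ)
  have hZ₀card : Nat.card Z₀ = p := by
    rw [hZ₀eq, Nat.card_zpowers]
    exact orderOf_eq_prime hζp hζ1
  have hZ₀p : ∀ z ∈ Z₀, z ^ p = 1 := by
    intro z hz
    have h1 : (⟨z, hz⟩ : Z₀) ^ p = 1 := by
      rw [← hZ₀card]
      exact pow_card_eq_one'
    exact congrArg Subtype.val h1
  have hZS : ∀ z ∈ Zc S, z ∈ S := fun z hz => (mem_Zc.1 hz).1
  have hZ₀fn : ∀ h : MulAut S, ∀ z ∈ Z₀, fn h z ∈ Z₀ := by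
    intro h z hz
    rw [hZ₀] at hz ⊢
    refine ⟨fn_Zc h hz.1, ?_⟩
    obtain ⟨y, hy, hye⟩ := hz.2
    refine ⟨h y, ?_, ?_⟩
    · have h1 := (inferInstance : (commutator ↥S).Characteristic).fixed h⁻¹
      have h2 : h y ∈ (commutator ↥S).comap (h⁻¹).toMonoidHom := by
        rw [Subgroup.mem_comap]
        show h⁻¹ (h y) ∈ commutator ↥S
        rwa [MulAut.inv_apply_self]
      rwa [h1] at h2
    · rw [← hye]
      exact (fn_coe h y).symm
  have hU : ∀ h₁ ∈ F.autGroup S, ∀ h₂ ∈ F.autGroup S, (∀ z ∈ Z₀, fn h₁ z = z⁻¹) → (∀ z ∈ Zc S, z⁻¹ * fn h₁ z ∈ Z₀) →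
      (∀ z ∈ Z₀, fn h₂ z = z⁻¹) → (∀ z ∈ Zc S, z⁻¹ * fn h₂ z ∈ Z₀) → ∀ z ∈ Zc S, fn h₁ z = fn h₂ z := by
    intro h₁ hh₁ h₂ hh₂ h1a h1b h2a h2b z hz
    have h3 := U_lemma hS hF hZ₀p hZ₀Z (θ := h₁⁻¹ * h₂) (Subgroup.mul_mem _ (Subgroup.inv_mem _ hh₁) hh₂) ?_ ?_ z hz
    · rw [fn_mul _ _ (hZS z hz)] at h3
      have h4 := congrArg (fn h₁) h3
      rw [fn_fn_inv h₁ (fn_mem h₂ (hZS z hz))] at h4
      exact h4.symm
    · intro y hy
      have hyS := hZS y (hZ₀Z hy)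
      rw [fn_mul _ _ hyS, h2a y hy, ← h1a y hy, fn_inv_fn h₁ hyS]
    · intro y hy
      have hyS := hZS y hy
      rw [fn_mul _ _ hyS]
      obtain ⟨u, hu⟩ : ∃ u, u = fn h₁⁻¹ (fn h₂ y) := ⟨_, rfl⟩
      rw [← hu]
      have huZ : u ∈ Zc S := hu ▸ fn_Zc _ (fn_Zc _ hy)
      have h4 := h1b u huZ
      rw [hu, fn_fn_inv h₁ (fn_mem h₂ hyS), ← hu] at h4
      have h5 := h2b y hy
      have h6 := Z₀.mul_mem h5 (Z₀.inv_mem h4)
      have e : y⁻¹ * fn h₂ y * (u⁻¹ * fn h₂ y)⁻¹ = y⁻¹ * u := by group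
      rwa [e] at h6
  have habd : ∀ P, F.IsEssential p P → ∀ {H : Subgroup (MulAut P)}, H ≤ F.autGroup P →
      (∀ w ∈ autInducedBy S P, w ∉ Inn P → ∀ x ∈ F.autGroup P, x * w * x⁻¹ ∈ autInducedBy S P → x ∈ H) →
      ∀ {g : MulAut P}, g ∈ F.autGroup P → g ∉ H →
      ∃ h ∈ F.autGroup S, (∀ z ∈ Z₀, fn h z = z⁻¹) ∧ (∀ z ∈ Zc S, z⁻¹ * fn h z ∈ Z₀) ∧
        (∀ z ∈ Zc S, fn h z = z ↔ fn g⁻¹ z ∈ Zc S) ∧ ∃ a' ∈ P, a' ∉ Zc S ∧ a' ^ p = 1 := by
    intro P hP H hH hHs g hg hgH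
    obtain ⟨A, hA, hEA, -⟩ := ess_case hS hF hna' hidx hP
    rw [hZ₀]
    rw [hZ₀] at hZ₀card
    exact abel_data2 hS hF hp2 hA hna' hP hEA (hessS P hP).hab (hessS P hP).hsetE hZ₀card hH hHs hg hgH
  -- the reference automorphism
  obtain ⟨H₀, hH₀, ⟨g₀, hg₀, hg₀H⟩, hH₀s⟩ := essential_spec hS hF hP₀
  obtain ⟨h₀, hh₀, hh₀a, hh₀b, -⟩ := habd P₀ hP₀ hH₀ hH₀s hg₀ hg₀H
  let Q : Subgroup Ω :=
    { carrier := {z | z ∈ Zc S ∧ fn h₀ z = z}
      mul_mem' := by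
        rintro a b ⟨ha1, ha2⟩ ⟨hb1, hb2⟩
        exact ⟨(Zc S).mul_mem ha1 hb1, by rw [fn_map_mul h₀ (hZS a ha1) (hZS b hb1), ha2, hb2]⟩
      one_mem' := ⟨(Zc S).one_mem, fn_map_one' h₀⟩
      inv_mem' := by
        rintro a ⟨ha1, ha2⟩
        exact ⟨(Zc S).inv_mem ha1, by rw [fn_map_inv h₀ (hZS a ha1), ha2]⟩ }
  have hQm : ∀ z, z ∈ Q ↔ z ∈ Zc S ∧ fn h₀ z = z := fun z => Iff.rfl
  have hQS : ∀ h ∈ F.autGroup S, ∀ z ∈ Q, fn h z ∈ Q := by
    intro h hh z hz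
    obtain ⟨hz1, hz2⟩ := (hQm z).1 hz
    refine (hQm _).2 ⟨fn_Zc h hz1, ?_⟩
    have h1 := hU h₀ hh₀ (h * h₀ * h⁻¹) (Subgroup.mul_mem _ (Subgroup.mul_mem _ hh hh₀) (Subgroup.inv_mem _ hh)) hh₀a hh₀b ?_ ?_ (fn h z) (fn_Zc h hz1)
    · rw [h1, fn_mul _ _ (fn_mem h (hZS z hz1)), fn_mul _ _ (fn_mem _ (fn_mem h (hZS z hz1))), fn_inv_fn h (hZS z hz1), hz2]
    · intro y hy
      have hyS := hZS y (hZ₀Z hy)
      rw [fn_mul _ _ hyS, fn_mul _ _ (fn_mem _ hyS), hh₀a _ (hZ₀fn h⁻¹ y hy), fn_map_inv h (fn_mem _ hyS), fn_fn_inv h hyS]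
    · intro y hy
      have hyS := hZS y hy
      rw [fn_mul _ _ hyS, fn_mul _ _ (fn_mem _ hyS)]
      have h2 := hZ₀fn h _ (hh₀b _ (fn_Zc h⁻¹ hy))
      rw [fn_map_mul h (S.inv_mem (fn_mem _ hyS)) (fn_mem _ (fn_mem _ hyS)), fn_map_inv h (fn_mem _ hyS), fn_fn_inv h hyS] at h2
      exact h2
  -- essential subgroups
  have hQab : ∀ P, F.IsEssential p P → ∀ α ∈ F.autGroup P, ∀ z ∈ Q, fn α z ∈ Q := by
    intro P hP
    obtain ⟨H, hH, ⟨g, hg, hgH⟩, hHs⟩ := essential_spec hS hF hP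
    have hZP := hZPe P hP
    have hdata : ∀ c ∈ F.autGroup P, c ∉ H → ∀ z ∈ Zc S, z ∈ Q ↔ fn c⁻¹ z ∈ Zc S := by
      intro c hc hcH z hz
      obtain ⟨h, hh, hha, hhb, hhc, -⟩ := habd P hP hH hHs hc hcH
      have h1 := hU h₀ hh₀ h hh hh₀a hh₀b hha hhb z hz
      rw [← hhc z hz, ← h1]
      exact ⟨fun h2 => ((hQm z).1 h2).2, fun h2 => (hQm z).2 ⟨hz, h2⟩⟩
    have hout : ∀ c ∈ F.autGroup P, c ∉ H → ∀ z ∈ Q, fn c z ∈ Q := by
      intro c hc hcH z hz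
      have hzZ := ((hQm z).1 hz).1
      have hc' : c⁻¹ ∉ H := fun h => hcH (by simpa using H.inv_mem h)
      have h1 := (hdata c⁻¹ (Subgroup.inv_mem _ hc) hc' z hzZ).1 hz
      rw [inv_inv] at h1
      refine (hdata c hc hcH _ h1).2 ?_
      rw [fn_inv_fn c (hZP hzZ)]
      exact hzZ
    intro α hα z hz
    by_cases hαH : α ∈ H
    · have hg' : g⁻¹ ∉ H := fun h => hgH (by simpa using H.inv_mem h)
      have h1 := hout g⁻¹ (Subgroup.inv_mem _ hg) hg' z hz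
      have hαg : α * g ∉ H := fun h => hgH (by simpa using H.mul_mem (H.inv_mem hαH) h)
      have h2 := hout (α * g) (Subgroup.mul_mem _ hα hg) hαg _ h1
      have hzP := hZP ((hQm z).1 hz).1
      rwa [fn_mul _ _ (fn_mem _ hzP), fn_fn_inv g hzP] at h2
    · exact hout α hα hαH z hz
  have hQnorm : F.IsNormal Q := by
    refine isNormal_of_fn_inv hS hF (fun z hz => ((hQm z).1 hz).1) hZPe (fun P hP α hα z hz => ?_)
    rcases hP with rfl | hP
    · exact hQS α hα z hz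
    · exact hQab P hP α hα z hz
  have hQbot : Q = ⊥ := hbot Q hQnorm
  -- the centre
  have hZle : Zc S ≤ Z₀ := by
    intro z hz
    have hzS := hZS z hz
    have hd := hh₀b z hz
    have hdZ := hZ₀Z hd
    have hfz : fn h₀ z = z * (z⁻¹ * fn h₀ z) := by group
    have h2 : fn h₀ (fn h₀ z) = z := by
      have h3 : fn h₀ (z * (z⁻¹ * fn h₀ z)) = fn h₀ z * (z⁻¹ * fn h₀ z)⁻¹ := by
        rw [fn_map_mul h₀ hzS (hZS _ hdZ), hh₀a _ hd]
      rw [← hfz] at h3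
      rw [h3]
      group
    have h4 : z * fn h₀ z ∈ Q := by
      refine (hQm _).2 ⟨(Zc S).mul_mem hz (fn_Zc h₀ hz), ?_⟩
      rw [fn_map_mul h₀ hzS (fn_mem h₀ hzS), h2]
      exact (mem_Zc.1 hz).2 _ (fn_mem h₀ hzS) |>.symm ▸ rfl
    rw [hQbot, Subgroup.mem_bot] at h4
    have h5 : fn h₀ z = z⁻¹ := eq_inv_of_mul_eq_one_right h4
    rw [h5] at hd
    have h6 : z ^ 2 ∈ Z₀ := by
      have h7 := Z₀.inv_mem hd
      have e : (z⁻¹ * z⁻¹)⁻¹ = z ^ 2 := by group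
      rwa [e] at h7
    have hzo : Nat.Coprime 2 (orderOf z) := by
      obtain ⟨k, hk⟩ := (IsPGroup.iff_orderOf.1 hS) ⟨z, hzS⟩
      have h8 : orderOf z = p ^ k := by
        rw [← hk, Subgroup.orderOf_mk]
      rw [h8]
      exact Nat.Coprime.pow_right _ ((Nat.coprime_primes Nat.prime_two hp.out).2 (Ne.symm hp2))
    obtain ⟨m, hm⟩ := exists_pow_eq_self_of_coprime hzo
    rw [← hm]
    exact Z₀.pow_mem h6 m
  refine ⟨?_, ⟨P₀, hP₀⟩, fun P hP => ?_⟩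
  · rw [← hZ₀card]
    exact congrArg (fun K : Subgroup Ω => Nat.card K) (le_antisymm hZle hZ₀Z)
  · obtain ⟨H, hH, ⟨g, hg, hgH⟩, hHs⟩ := essential_spec hS hF hP
    obtain ⟨-, -, -, -, -, h⟩ := habd P hP hH hHs hg hgH
    exact h

/-- The case `p` odd. -/
theorem main_odd (hS : IsPGroup p S) (hF : F.IsSaturated p) (hp2 : p ≠ 2) (hna' : ∃ s ∈ S, ∃ s' ∈ S, s * s' ≠ s' * s)
    (hidx : ((Zc S).subgroupOf S).index = p ^ 2) (hcore : F.core = ⊥) :
    Nat.card S = p ^ 3 ∧ ∀ s ∈ S, s ^ p = 1 := by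
  classical
  obtain ⟨hcardZ, ⟨P₀, hP₀⟩, hel⟩ := center_odd hS hF hp2 hna' hidx hcore
  have hbot : ∀ Q, F.IsNormal Q → Q = ⊥ := by
    intro Q hQ
    have h1 : Q ≤ F.core := le_sSup hQ
    rw [hcore] at h1
    exact le_bot_iff.1 h1
  have hcS : Nat.card S = p ^ 3 := by
    have h1 := Subgroup.card_mul_index ((Zc S).subgroupOf S)
    rw [card_subgroupOf_inf, inf_eq_left.2 inf_le_left, hcardZ, hidx] at h1
    rw [← h1]
    ring
  refine ⟨hcS, ?_⟩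
  have hessS : ∀ P, F.IsEssential p P → Ess S P p := fun P hP => ess_struct hS hF hidx hP
  have hZp : ∀ z ∈ Zc S, z ^ p = 1 := by
    intro z hz
    have h1 : (⟨z, hz⟩ : Zc S) ^ p = 1 := by
      rw [← hcardZ]
      exact pow_card_eq_one'
    exact congrArg Subtype.val h1
  have hEel : ∀ P, F.IsEssential p P → ∀ u ∈ P, u ^ p = 1 := by
    intro P hP u hu
    obtain ⟨a', ha', ha'Z, ha'p⟩ := hel P hP
    obtain ⟨i, z, hz, rfl⟩ := (hessS P hP).hsetZ.hgen a' ha' ha'Z u hu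
    have hc : Commute (a' ^ i) z := ((mem_Zc.1 hz).2 _ (S.pow_mem ((hessS P hP).hES ha') i))
    rw [hc.mul_pow, ← pow_mul, mul_comm, pow_mul, ha'p, one_pow, one_mul, hZp z hz]
  by_contra hcon
  push Not at hcon
  obtain ⟨s₀, hs₀, hs₀p⟩ := hcon
  obtain ⟨ζ, hζZ, hζ1, hζp, hcomm⟩ := comm_gen hS hF hna' hidx hP₀
  have hcm : ∀ X ∈ S, ∀ Y ∈ S, Y⁻¹ * (X * Y * X⁻¹) ∈ Subgroup.zpowers ζ := by
    intro X hX Y hY
    rw [← hcomm]
    refine ⟨⁅(⟨Y, hY⟩ : ↥S)⁻¹, (⟨X, hX⟩ : ↥S)⁆, ?_, ?_⟩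
    · rw [commutator_def]
      exact Subgroup.commutator_mem_commutator (Subgroup.mem_top _) (Subgroup.mem_top _)
    · show _ = _
      simp [commutatorElement_def, mul_assoc]
  have hzζ : ∀ c ∈ Subgroup.zpowers ζ, c ∈ Zc S ∧ c ^ p = 1 := by
    rintro c ⟨k, rfl⟩
    refine ⟨Subgroup.zpow_mem _ hζZ k, ?_⟩
    show (ζ ^ k) ^ p = 1
    rw [← zpow_natCast, zpow_comm, zpow_natCast, hζp, one_zpow]
  have hhom : ∀ u ∈ S, ∀ v ∈ S, (u * v) ^ p = u ^ p * v ^ p := by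
    intro u hu v hv
    obtain ⟨hc1, hc2⟩ := hzζ _ (hcm u hu v hv)
    refine class2_pow_p hp2 ((mem_Zc.1 hc1).2 u hu) ((mem_Zc.1 hc1).2 v hv) ?_ hc2
    group
  let K : Subgroup Ω :=
    { carrier := {u | u ∈ S ∧ u ^ p = 1}
      mul_mem' := by
        rintro a b ⟨ha1, ha2⟩ ⟨hb1, hb2⟩
        exact ⟨S.mul_mem ha1 hb1, by rw [hhom a ha1 b hb1, ha2, hb2, one_mul]⟩
      one_mem' := ⟨S.one_mem, one_pow _⟩
      inv_mem' := by
        rintro a ⟨ha1, ha2⟩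
        exact ⟨S.inv_mem ha1, by rw [inv_pow, ha2, inv_one]⟩ }
  have hKm : ∀ u, u ∈ K ↔ u ∈ S ∧ u ^ p = 1 := fun u => Iff.rfl
  have hKS : K ≤ S := fun u hu => ((hKm u).1 hu).1
  have hPK : ∀ P, F.IsEssential p P → P = K := by
    intro P hP
    have hess := hessS P hP
    apply le_antisymm (fun u hu => (hKm u).2 ⟨hess.hES hu, hEel P hP u hu⟩)
    intro k hk
    by_contra hkP
    apply hs₀p
    obtain ⟨i, e, he, rfl⟩ := hess.hsetE.hgen k (hKS hk) hkP s₀ hs₀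
    exact ((hKm _).1 (K.mul_mem (K.pow_mem hk i) ((hKm e).2 ⟨hess.hES he, hEel P hP e he⟩))).2
  have hnorm : F.IsNormal K := by
    refine isNormal_of_forall_aut hS hF hKS (fun s hs => mem_normalizer_of_conj_mem hKS (fun u hu => ?_)) (fun P hP => ?_)
    · obtain ⟨hu1, hu2⟩ := (hKm u).1 hu
      refine (hKm _).2 ⟨S.mul_mem (S.mul_mem hs hu1) (S.inv_mem hs), ?_⟩
      rw [conj_pow, hu2]
      group
    · rcases hP with rfl | hP
      · refine ⟨hKS, fun α hα => ?_⟩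
        ext u
        rw [mem_img]
        constructor
        · rintro ⟨hu, h⟩
          obtain ⟨h1, h2⟩ := (hKm _).1 h
          refine (hKm _).2 ⟨hu, ?_⟩
          have h3 := congrArg (fn α) h2
          rw [fn_map_pow' α h1, fn_fn_inv α hu, fn_map_one'] at h3
          exact h3
        · intro hu
          obtain ⟨h1, h2⟩ := (hKm _).1 hu
          refine ⟨h1, (hKm _).2 ⟨fn_mem _ h1, ?_⟩⟩
          rw [← fn_map_pow' _ h1, h2, fn_map_one']
      · have e := hPK P hP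
        subst e
        refine ⟨le_rfl, fun α hα => ?_⟩
        ext u
        rw [mem_img]
        exact ⟨fun h => h.1, fun h => ⟨h, fn_mem _ h⟩⟩
  have hKbot := hbot K hnorm
  obtain ⟨x, hxP, hxZ⟩ := (hessS P₀ hP₀).hx
  rw [hPK P₀ hP₀, hKbot, Subgroup.mem_bot] at hxP
  apply hxZ
  rw [hxP]
  exact (Zc S).one_mem

end Basic

end Cfsg.Agent.Lib.Fusion2.AbelIdx
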