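/-
Criterion for normality: a strongly closed subgroup `Q` such that each map between subgroups of `Q` is the restriction of an
element of `Aut_F(Q)` is normal in a saturated fusion system.
-/
import Cfsg.Agent.Lib.Fusion2.NormalAPI
import Cfsg.Agent.Lib.Fusion.NormalChar

set_option autoImplicit false

namespace Cfsg.Agent.Lib.Fusion2

open Cfsg Cfsg.FusionSystem Cfsg.Agent.Lib.Fusion

variable {Ω : Type*} [Group Ω] {S : Subgroup Ω} {F : FusionSystem S} {p : ℕ} [Fact p.Prime]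

/-- Elements of `Aut_F(U)` preserve `R ∩ U`, for `R` strongly closed. -/
theorem autGroup_mem_of_stronglyClosed {R U : Subgroup Ω} (hUS : U ≤ S) (hR : F.StronglyClosed R) {α : MulAut U}
    (hα : α ∈ F.autGroup U) {x : U} (hx : (x : Ω) ∈ R) : ((α x : U) : Ω) ∈ R := by
  have hφ := (mem_autGroup_iff hUS).1 hα
  have hRU : R ⊓ U ≤ U := inf_le_right
  exact hR.2 (R ⊓ U) inf_le_left _ (restrict_mem hφ hRU) ⟨x, hx, x.2⟩

/-- The subgroup `K` of `Aut_F(U)` acting trivially on `U / (U ∩ Q)` and as `Aut_Q(U ∩ Q)` on `U ∩ Q`. -/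
def autQStab (F : FusionSystem S) (Q U : Subgroup Ω) (hUS : U ≤ S) (hQ : F.StronglyClosed Q) :
    Subgroup (MulAut U) where
  carrier := {β | β ∈ F.autGroup U ∧ (∀ x : U, (x : Ω)⁻¹ * β x ∈ Q) ∧
    ∃ q ∈ Q, ∀ x : U, (x : Ω) ∈ Q → ((β x : U) : Ω) = q * x * q⁻¹}
  one_mem' := by
    refine ⟨Subgroup.one_mem _, fun x => ?_, 1, Q.one_mem, fun x _ => ?_⟩
    · have : (x : Ω)⁻¹ * ((1 : MulAut U) x : U) = 1 := by
        show (x : Ω)⁻¹ * x = 1
        group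
      rw [this]
      exact Q.one_mem
    · show (x : Ω) = 1 * x * 1⁻¹
      group
  mul_mem' := by
    rintro a b ⟨ha, ha', qa, hqa, haq⟩ ⟨hb, hb', qb, hqb, hbq⟩
    refine ⟨Subgroup.mul_mem _ ha hb, fun x => ?_, qa * qb, Q.mul_mem hqa hqb, fun x hx => ?_⟩
    · have h1 := ha' (b x)
      have h2 := hb' x
      have h3 : (x : Ω)⁻¹ * ((a * b) x : U) = ((x : Ω)⁻¹ * (b x : U)) * (((b x : U) : Ω)⁻¹ * (a (b x) : U)) := by
        show (x : Ω)⁻¹ * (a (b x) : U) = _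
        group
      rw [h3]
      exact Q.mul_mem h2 h1
    · have h1 : ((b x : U) : Ω) ∈ Q := autGroup_mem_of_stronglyClosed hUS hQ hb hx
      show ((a (b x) : U) : Ω) = _
      rw [haq _ h1, hbq x hx]
      group
  inv_mem' := by
    rintro a ⟨ha, ha', q, hq, haq⟩
    refine ⟨Subgroup.inv_mem _ ha, fun x => ?_, q⁻¹, Q.inv_mem hq, fun x hx => ?_⟩
    · have h1 := ha' (a⁻¹ x)
      have h2 : ((a (a⁻¹ x) : U) : Ω) = x := by simp
      rw [h2] at h1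
      have h3 := Q.inv_mem h1
      have h4 : (x : Ω)⁻¹ * ((a⁻¹ x : U) : Ω) = (((a⁻¹ x : U) : Ω)⁻¹ * x)⁻¹ := by group
      rw [h4]
      exact h3
    · have h1 : ((a⁻¹ x : U) : Ω) ∈ Q := autGroup_mem_of_stronglyClosed hUS hQ (Subgroup.inv_mem _ ha) hx
      have h2 := haq _ h1
      have h3 : ((a (a⁻¹ x) : U) : Ω) = x := by simp
      rw [h3] at h2
      rw [h2]
      group

/-- A strongly closed subgroup `Q` each of whose maps (between subgroups of `Q`) is the restriction of an element of `Aut_F(Q)` lies in every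
centric radical subgroup. -/
theorem le_of_frattini [Finite S] (hS : IsPGroup p S) {Q U : Subgroup Ω} (hQ : F.StronglyClosed Q)
    (hfrat : ∀ (P : Subgroup Ω) (hP : P ≤ Q) (φ : P →* Ω), φ ∈ F.Hom P → ∃ γ ∈ F.autGroup Q, ∀ x : P,
      φ x = ((γ ⟨x, hP x.2⟩ : Q) : Ω))
    (hUS : U ≤ S) (hUc : centralizerIn S U ≤ U) (hr : F.IsRadical p U) : Q ≤ U := by
  have hQS := hQ.1
  have hfU : Finite U := finite_of_le hUS
  have hUp : IsPGroup p U := hS.to_le hUS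
  let K := autQStab F Q U hUS hQ
  have hKA : K ≤ F.autGroup U := fun β hβ => hβ.1
  -- normality
  have hKnorm : (K.subgroupOf (F.autGroup U)).Normal := by
    constructor
    rintro ⟨β, hβA⟩ ⟨-, hβ1, q, hq, hβq⟩ ⟨α, hα⟩
    have hαi : α⁻¹ ∈ F.autGroup U := Subgroup.inv_mem _ hα
    refine ⟨Subgroup.mul_mem _ (Subgroup.mul_mem _ hα hβA) hαi, fun x => ?_, ?_⟩
    · -- trivial on `U / (U ∩ Q)`
      have h1 := hβ1 (α⁻¹ x)
      have h3 := autGroup_mem_of_stronglyClosed hUS hQ hα (x := ((α⁻¹ x : U)⁻¹ * β (α⁻¹ x))) h1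
      have h4 : ((α ((α⁻¹ x : U)⁻¹ * β (α⁻¹ x)) : U) : Ω) = (x : Ω)⁻¹ * ((α * β * α⁻¹) x : U) := by
        rw [map_mul, map_inv]
        simp [MulAut.mul_apply]
      rwa [h4] at h3
    · -- on `U ∩ Q`: transport along an element of `Aut_F(Q)`
      have hres : (((U.subtype.comp α.toMonoidHom).comp (Subgroup.inclusion (inf_le_right : Q ⊓ U ≤ U)))) ∈ F.Hom (Q ⊓ U) :=
        restrict_mem ((mem_autGroup_iff hUS).1 hα) inf_le_right
      obtain ⟨γ, hγ, hγx⟩ := hfrat (Q ⊓ U) inf_le_left _ hres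
      refine ⟨γ ⟨q, hq⟩, (γ ⟨q, hq⟩).2, fun x hx => ?_⟩
      have hy : ((α⁻¹ x : U) : Ω) ∈ Q := autGroup_mem_of_stronglyClosed hUS hQ hαi hx
      have hβy : ((β (α⁻¹ x) : U) : Ω) ∈ Q := autGroup_mem_of_stronglyClosed hUS hQ hβA hy
      -- `α (β y) = γ (β y)` and `x = α y = γ y`
      have h1 := hγx ⟨(β (α⁻¹ x) : U), hβy, (β (α⁻¹ x)).2⟩
      have h2 := hγx ⟨(α⁻¹ x : U), hy, (α⁻¹ x).2⟩
      have h3 : ((α (β (α⁻¹ x)) : U) : Ω) = ((γ ⟨(β (α⁻¹ x) : U), hβy⟩ : Q) : Ω) := h1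
      have h4 : ((α (α⁻¹ x) : U) : Ω) = ((γ ⟨(α⁻¹ x : U), hy⟩ : Q) : Ω) := h2
      have h5 : ((α (α⁻¹ x) : U) : Ω) = x := by simp
      rw [h5] at h4
      have h6 : (⟨(β (α⁻¹ x) : U), hβy⟩ : Q) = ⟨q, hq⟩ * ⟨(α⁻¹ x : U), hy⟩ * (⟨q, hq⟩ : Q)⁻¹ :=
        Subtype.ext (hβq _ hy)
      show ((α (β (α⁻¹ x)) : U) : Ω) = _
      rw [h3, h6, map_mul, map_mul, map_inv]
      show ((γ ⟨q, hq⟩ : Q) : Ω) * ((γ ⟨(α⁻¹ x : U), hy⟩ : Q) : Ω) * ((γ ⟨q, hq⟩ : Q) : Ω)⁻¹ = _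
      rw [← h4]
  -- `p`-group
  have hKp : IsPGroup p K := by
    rintro ⟨β, hβA, hβ1, q, hq, hβq⟩
    obtain ⟨a, ha⟩ := hS ⟨q, hQS hq⟩
    have ha' : q ^ p ^ a = 1 := congrArg Subtype.val ha
    have hfixQ : ∀ n : ℕ, ∀ x : U, (x : Ω) ∈ Q → (((β ^ n) x : U) : Ω) = q ^ n * x * (q ^ n)⁻¹ := by
      intro n
      induction n with
      | zero =>
        intro x _
        simp
      | succ n ih =>
        intro x hx
        rw [pow_succ, MulAut.mul_apply, ih _ (autGroup_mem_of_stronglyClosed hUS hQ hβA hx), hβq x hx, pow_succ]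
        group
    obtain ⟨b, hb⟩ := exists_pow_fix_step (W := Q.subgroupOf U) (W' := ⊤) (a := a) hUp (β := β) (fun _ _ => trivial)
      (fun x _ => hβ1 x) (fun x hx => by
        apply Subtype.ext
        rw [hfixQ _ x hx, ha']
        simp)
    refine ⟨b, Subtype.ext ?_⟩
    ext x
    exact congrArg Subtype.val (hb x trivial)
  have hle : K.subgroupOf (F.autGroup U) ≤ pCore p (F.autGroup U) :=
    Cfsg.Agent.Lib.Basic.le_pCore hKnorm hKp.comap_subtype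
  refine le_of_inn hS hUS hUc hQS (normalizer_of_stronglyClosed hQ) (fun g hg hgn => ?_)
  have hcA : autOfNormalizer hgn ∈ F.autGroup U := autOfNormalizer_mem_autGroup hUS ⟨hQS hg, hgn⟩
  have hcK : autOfNormalizer hgn ∈ K := by
    refine ⟨hcA, fun x => ?_, g, hg, fun x _ => rfl⟩
    exact normal_in_S_commutator hQ hg (hUS x.2)
  rw [← hr.2]
  exact ⟨⟨_, hcA⟩, hle hcK, rfl⟩

/-- Normality criterion. -/
theorem isNormal_of_frattini [Finite S] (hS : IsPGroup p S) (hF : F.IsSaturated p) {Q : Subgroup Ω}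
    (hQ : F.StronglyClosed Q)
    (hfrat : ∀ (P : Subgroup Ω) (hP : P ≤ Q) (φ : P →* Ω), φ ∈ F.Hom P → ∃ γ ∈ F.autGroup Q, ∀ x : P,
      φ x = ((γ ⟨x, hP x.2⟩ : Q) : Ω)) : F.IsNormal Q :=
  isNormal_of_essential_le hS hF hQ (fun U hU =>
    le_of_frattini hS hQ hfrat hU.1.1 (hU.1.2 U (isConj_refl hU.1.1)) (isRadical_of_essential hS hU))

end Cfsg.Agent.Lib.Fusion2
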