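import Cfsg.Agent.Lib.Fusion.GTMaps
import Cfsg.Agent.Lib.Fusion.Realized
import Cfsg.Agent.Lib.Fusion.Generation
import Cfsg.Agent.Lib.LocalEven.Basic

/-!
# Extremely sparse fusion systems
-/

set_option autoImplicit false
set_option linter.unusedSectionVars false

namespace Cfsg.Agent.Lib.Fusion2.Sparse

open Cfsg Cfsg.FusionSystem Cfsg.Agent.Lib.Fusion Cfsg.Agent.Lib.Fusion.GT

variable {Ω : Type*} [Group Ω]

/-- The system of the semidirect product of `T` by a group `K` of automorphisms. -/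
noncomputable def semiSys (T : Subgroup Ω) (K : Subgroup (MulAut T)) : FusionSystem T where
  Hom R := {φ | ∃ hR : R ≤ T, ∃ (t : T), ∃ k ∈ K, ∀ x : R, φ x = ((t * k ⟨x, hR x.2⟩ * t⁻¹ : T) : Ω)}
  le_of_mem := by
    rintro P φ ⟨hR, t, k, hk, hv⟩
    exact ⟨hR, fun x => by rw [hv]; exact Subtype.coe_prop _⟩
  injective_of_mem := by
    rintro P φ ⟨hR, t, k, hk, hv⟩ a b hab
    rw [hv, hv] at hab
    have h1 := Subtype.ext hab
    have h2 : k ⟨a, hR a.2⟩ = k ⟨b, hR b.2⟩ := by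
      simpa using h1
    have h3 := k.injective h2
    exact Subtype.ext (by simpa using congrArg (fun w : T => (w : Ω)) h3)
  conj_mem := by
    intro P g hP hg
    exact ⟨hP, ⟨g, hg⟩, 1, K.one_mem, fun x => rfl⟩
  comp_mem := by
    rintro P Q φ ψ ⟨hP, t, k, hk, hv⟩ ⟨hQ, t', k', hk', hv'⟩ h
    refine ⟨hP, t' * k' t, k' * k, K.mul_mem hk' hk, fun x => ?_⟩
    show ψ ⟨φ x, h x⟩ = _
    rw [hv' ⟨φ x, h x⟩]
    have e : (⟨φ x, hQ (h x)⟩ : T) = t * k ⟨x, hP x.2⟩ * t⁻¹ := Subtype.ext (hv x)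
    have e2 : (⟨((⟨φ x, h x⟩ : Q) : Ω), hQ (h x)⟩ : T) = t * k ⟨x, hP x.2⟩ * t⁻¹ := e
    rw [e2]
    simp only [map_mul, map_inv, MulAut.mul_apply, mul_inv_rev]
    congr 1
    group
  inv_mem := by
    rintro P φ ⟨hP, t, k, hk, hv⟩
    have hrT : φ.range ≤ T := by
      rintro _ ⟨x, rfl⟩
      rw [hv]
      exact Subtype.coe_prop _
    refine ⟨T.subtype.comp ((k⁻¹).toMonoidHom.comp ((MulAut.conj t⁻¹).toMonoidHom.comp (Subgroup.inclusion hrT))), ⟨hrT, k⁻¹ t⁻¹, k⁻¹, K.inv_mem hk, fun y => ?_⟩, fun x => ?_⟩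
    · show (((k⁻¹) (t⁻¹ * Subgroup.inclusion hrT y * t⁻¹⁻¹) : T) : Ω) = _
      have e : Subgroup.inclusion hrT y = (⟨y, hrT y.2⟩ : T) := rfl
      rw [e]
      simp only [map_mul, map_inv, inv_inv]
    · show (((k⁻¹) (t⁻¹ * Subgroup.inclusion hrT ⟨φ x, ⟨x, rfl⟩⟩ * t⁻¹⁻¹) : T) : Ω) = x
      have e : Subgroup.inclusion hrT ⟨φ x, ⟨x, rfl⟩⟩ = t * k ⟨x, hP x.2⟩ * t⁻¹ := Subtype.ext (hv x)
      rw [e]
      have e2 : t⁻¹ * (t * k ⟨x, hP x.2⟩ * t⁻¹) * t⁻¹⁻¹ = k ⟨x, hP x.2⟩ := by group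
      rw [e2, MulAut.inv_apply_self]

theorem semiSys_realized (T : Subgroup Ω) (K : Subgroup (MulAut T)) :
    (semiSys T K).IsRealizedBy (SemidirectProduct.inl : T →* T ⋊[K.subtype] K) := by
  refine ⟨SemidirectProduct.inl_injective, fun P hP φ hφ => ⟨?_, ?_⟩⟩
  · rintro ⟨hR, t, k, hk, hv⟩
    refine ⟨SemidirectProduct.inl t * SemidirectProduct.inr ⟨k, hk⟩, fun x => ?_⟩
    have e : (⟨φ x, hφ x⟩ : T) = t * k ⟨x, hR x.2⟩ * t⁻¹ := Subtype.ext (hv x)
    rw [e, mul_inv_rev, ← map_inv SemidirectProduct.inl t, map_mul, map_mul, map_inv SemidirectProduct.inl t]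
    have e2 : SemidirectProduct.inl (k ⟨x, hP x.2⟩) = (SemidirectProduct.inr ⟨k, hk⟩ * SemidirectProduct.inl ⟨x, hP x.2⟩ * SemidirectProduct.inr (⟨k, hk⟩ : K)⁻¹ : T ⋊[K.subtype] K) :=
      SemidirectProduct.inl_aut (φ := K.subtype) ⟨k, hk⟩ ⟨x, hP x.2⟩
    rw [e2, map_inv SemidirectProduct.inr]
    group
  · rintro ⟨g, hg⟩
    refine ⟨hP, g.left, g.right, g.right.2, fun x => ?_⟩
    have h1 := hg x
    have h2 : g = SemidirectProduct.inl g.left * SemidirectProduct.inr g.right := (SemidirectProduct.inl_left_mul_inr_right g).symm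
    rw [h2] at h1
    have e2 := SemidirectProduct.inl_aut (φ := K.subtype) g.right ⟨x, hP x.2⟩
    have e3 : (SemidirectProduct.inl ⟨φ x, hφ x⟩ : T ⋊[K.subtype] K) = SemidirectProduct.inl (g.left * (g.right : MulAut T) ⟨x, hP x.2⟩ * g.left⁻¹) := by
      rw [h1, map_mul, map_mul, map_inv SemidirectProduct.inl g.left]
      have e4 : SemidirectProduct.inl ((g.right : MulAut T) ⟨x, hP x.2⟩) = (SemidirectProduct.inr g.right * SemidirectProduct.inl ⟨x, hP x.2⟩ * SemidirectProduct.inr g.right⁻¹ : T ⋊[K.subtype] K) := e2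
      rw [e4, mul_inv_rev, map_inv SemidirectProduct.inr]
      simp only [mul_assoc]
    have h3 := SemidirectProduct.inl_injective e3
    exact congrArg Subtype.val h3

variable {p : ℕ} [hp : Fact p.Prime]

theorem semiSys_saturated {T : Subgroup Ω} [Finite T] (hT : IsPGroup p T) {K : Subgroup (MulAut T)} (hK : (Nat.card K).Coprime p) :
    (semiSys T K).IsSaturated p := by
  have hfin : Finite (T ⋊[K.subtype] K) := by
    let e : (T ⋊[K.subtype] K) ≃ T × K := SemidirectProduct.equivProd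
    exact Finite.of_equiv _ e.symm
  have hP : IsPGroup p (SemidirectProduct.inl : T →* T ⋊[K.subtype] K).range :=
    hT.of_surjective (MonoidHom.rangeRestrict _) (MonoidHom.rangeRestrict_surjective _)
  have hidx : (SemidirectProduct.inl : T →* T ⋊[K.subtype] K).range.index = Nat.card K := by
    rw [SemidirectProduct.range_inl_eq_ker_rightHom, Subgroup.index_ker, MonoidHom.range_eq_top.2 SemidirectProduct.rightHom_surjective]
    exact Nat.card_congr Subgroup.topEquiv.toEquiv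
  refine isSaturated_of_realized (semiSys_realized T K) ⟨hP.toSylow ?_, IsPGroup.toSylow_coe _ _⟩
  rw [hidx]
  rw [Nat.coprime_comm, Nat.Prime.coprime_iff_not_dvd hp.out] at hK
  exact hK

variable {S : Subgroup Ω} [Finite S] {F : FusionSystem S}

/-- The system of a semidirect product inside `F`. -/
theorem semiSys_le {T : Subgroup Ω} (hTS : T ≤ S) {K : Subgroup (MulAut T)}
    (hK : ∀ k ∈ K, IsMapOn F T (fn k)) : (semiSys T K).IsSubsystemOf F := by
  rintro P φ ⟨hP, t, k, hk, hv⟩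
  have h1 : IsMapOn F P (fun x => (t : Ω) * fn k x * (t : Ω)⁻¹) :=
    ((hK k hk).mono hP).comp (isMapOn_conj hTS (hTS t.2)) (fun x hx => fn_mem k (hP hx) |> fun h => h)
  obtain ⟨ψ, hψ, hψv⟩ := h1.congr (g := toFun φ) (fun x hx => by
    rw [toFun_of_mem φ hx, hv ⟨x, hx⟩, fn_of_mem k (hP hx)]
    rfl)
  have : ψ = φ := by
    ext x
    rw [hψv, toFun_coe]
  rwa [← this]

/-- The element `t k` on all of `T` gives maps which are not inner if `k` has order prime to `p`. -/
theorem semiSys_not_inner {T : Subgroup Ω} [Finite T] (hT : IsPGroup p T) {K : Subgroup (MulAut T)} {β : MulAut T} (hβ : β ∈ K)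
    {q : ℕ} (hq : q.Prime) (hqp : q ≠ p) (hord : orderOf β = q) :
    ¬ ∀ P : Subgroup Ω, (semiSys T K).Hom P = (innerFusionSystem T).Hom P := by
  intro h
  have h1 : T.subtype.comp β.toMonoidHom ∈ (semiSys T K).Hom T := ⟨le_rfl, 1, β, hβ, fun x => by
    simp⟩
  rw [h T] at h1
  obtain ⟨-, g, hg, hv⟩ := h1
  have h2 : β = MulAut.conj (⟨g, hg⟩ : T) := by
    ext x
    exact hv x
  obtain ⟨k, hk⟩ := hT ⟨g, hg⟩
  have h3 : β ^ p ^ k = 1 := by
    rw [h2, ← map_pow, hk, map_one]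
  have h4 : q ∣ p ^ k := by
    rw [← hord]
    exact orderOf_dvd_of_pow_eq_one h3
  exact hqp ((Nat.prime_dvd_prime_iff_eq hq hp.out).1 (hq.dvd_of_dvd_pow h4))

theorem main (hS : IsPGroup p S) (hF : F.IsSaturated p)
    (hxs : ¬ (∀ P : Subgroup Ω, F.Hom P = (innerFusionSystem S).Hom P) ∧ ∀ (T : Subgroup Ω) (E : FusionSystem T), E.IsSaturated p →
      E.IsSubsystemOf F → (T = S ∧ ∀ P : Subgroup Ω, E.Hom P = F.Hom P) ∨ (∀ P : Subgroup Ω, E.Hom P = (innerFusionSystem T).Hom P)) :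
    F.IsNormal S ∧ F.focalSubgroup = S ∧ F.hyperfocalSubgroup p = S ∧ ∃ (q : ℕ) (β : MulAut ↥S), q.Prime ∧ q ≠ p ∧ β ∈ F.autGroup S ∧
      orderOf β = q ∧ (F.autGroup S : Subgroup (MulAut ↥S)) = Inn ↥S ⊔ Subgroup.zpowers β := by
  classical
  obtain ⟨hni, hmin⟩ := hxs
  -- an element of prime order prime to `p`
  have hnP : ¬ AllP p F := fun h => hni (hom_eq_inner_of_allP hS hF h)
  unfold AllP at hnP
  push Not at hnP
  obtain ⟨R, f, hf, hfI, hfp⟩ := hnP
  obtain ⟨c, hc, hcv⟩ := exists_aut_of_map hf hfI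
  have hRS := hf.le
  haveI := finite_of_le hRS
  have hRp : IsPGroup p R := hS.to_le hRS
  have hn0 : orderOf c ≠ 0 := (orderOf_pos c).ne'
  obtain ⟨q, hq, hqdvd, hqp⟩ : ∃ q, q.Prime ∧ q ∣ orderOf c ∧ q ≠ p := by
    by_contra hcon
    push Not at hcon
    have h1 := Nat.eq_prime_pow_of_unique_prime_dvd hn0 (fun {d} hd hdvd => hcon d hd hdvd)
    apply hfp
    refine ⟨(orderOf c).primeFactorsList.length, fun x hx => ?_⟩
    have h2 : ∀ n : ℕ, f^[n] x = fn (c ^ n) x := by
      intro n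
      rw [← fn_iter c n hx]
      have h3 : ∀ (n : ℕ) (y : Ω), y ∈ R → f^[n] y = (fn c)^[n] y := by
        intro n
        induction n with
        | zero => intro y _; rfl
        | succ n ih =>
          intro y hy
          rw [Function.iterate_succ_apply, Function.iterate_succ_apply, ← hcv y hy]
          exact ih _ (fn_mem c hy)
      exact h3 n x hx
    rw [h2, ← h1, pow_orderOf_eq_one, fn_one hx]
  have hβord : orderOf (c ^ (orderOf c / q)) = q := orderOf_pow_orderOf_div hn0 hqdvd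
  obtain ⟨β, hβdef⟩ : ∃ β, β = c ^ (orderOf c / q) := ⟨_, rfl⟩
  rw [← hβdef] at hβord
  have hβA : β ∈ F.autGroup R := hβdef ▸ (F.autGroup R).pow_mem hc _
  have hKcard : (Nat.card (Subgroup.zpowers β)).Coprime p := by
    rw [Nat.card_zpowers, hβord]
    exact (Nat.coprime_primes hq hp.out).2 hqp
  have hKmap : ∀ {T : Subgroup Ω}, T ≤ S → ∀ {a : MulAut T}, a ∈ F.autGroup T → ∀ k ∈ Subgroup.zpowers a, IsMapOn F T (fn k) := by
    intro T hTS a ha k hk
    exact isMapOn_fn hTS ((Subgroup.zpowers_le.2 ha) hk)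
  have hE := hmin R (semiSys R (Subgroup.zpowers β)) (semiSys_saturated hRp hKcard) (semiSys_le hRS (hKmap hRS hβA))
  rcases hE with ⟨rfl, hEF⟩ | hE
  swap
  · exact (semiSys_not_inner hRp (Subgroup.mem_zpowers β) hq hqp hβord hE).elim
  -- the structure of `F`
  have hFv : ∀ (P : Subgroup Ω) (φ : P →* Ω), φ ∈ F.Hom P → ∃ hR : P ≤ R, ∃ (t : R), ∃ k ∈ Subgroup.zpowers β, ∀ x : P, φ x = ((t * k ⟨x, hR x.2⟩ * t⁻¹ : R) : Ω) := by
    intro P φ hφ
    rw [← hEF P] at hφ
    exact hφ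
  have hfocle : F.focalSubgroup ≤ R := by
    rw [focalSubgroup, Subgroup.closure_le]
    rintro _ ⟨P, φ, x, hφ, rfl⟩
    have hPR := F.le_of_mem hφ
    exact R.mul_mem (R.inv_mem (le_of_hom hφ x.2)) (val_mem hφ x)
  have hhypfoc : F.hyperfocalSubgroup p ≤ F.focalSubgroup := by
    rw [hyperfocalSubgroup, Subgroup.closure_le]
    rintro _ ⟨P, α, x, hP, -, rfl⟩
    have h1 := (mem_autGroup_iff hP).1 α.2
    exact Subgroup.subset_closure ⟨P, _, x, h1, rfl⟩
  -- the commutators with `β` generate `R`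
  have hRhyp : R ≤ F.hyperfocalSubgroup p := by
    obtain ⟨T₀, hT₀⟩ : ∃ T₀ : Subgroup Ω, T₀ = Subgroup.closure {y : Ω | ∃ x : R, y = (x : Ω)⁻¹ * ((β x : R) : Ω)} := ⟨_, rfl⟩
    have hT₀R : T₀ ≤ R := by
      rw [hT₀, Subgroup.closure_le]
      rintro _ ⟨x, rfl⟩
      exact R.mul_mem (R.inv_mem x.2) (β x).2
    have hgen : ∀ x : R, (x : Ω)⁻¹ * ((β x : R) : Ω) ∈ T₀ := by
      intro x
      rw [hT₀]
      exact Subgroup.subset_closure ⟨x, rfl⟩
    have hT₀hyp : T₀ ≤ F.hyperfocalSubgroup p := by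
      rw [hT₀, Subgroup.closure_le]
      rintro _ ⟨x, rfl⟩
      have hres : (⟨β, hβA⟩ : F.autGroup R) ∈ pResidual p (F.autGroup R) := by
        apply Subgroup.subset_closure
        show (orderOf (⟨β, hβA⟩ : F.autGroup R)).Coprime p
        rw [Subgroup.orderOf_mk, hβord]
        exact (Nat.coprime_primes hq hp.out).2 hqp
      exact mem_hyp_of le_rfl hres x
    -- `β` on `T₀`
    have hmap : IsMapOn F T₀ (fn β) := (isMapOn_fn le_rfl hβA).mono hT₀R
    have hinv : ∀ y ∈ T₀, fn β y ∈ T₀ := by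
      let K : Subgroup Ω :=
        { carrier := {y | y ∈ R ∧ fn β y ∈ T₀}
          mul_mem' := fun {a b} ha hb => ⟨R.mul_mem ha.1 hb.1, by
            rw [fn_map_mul β ha.1 hb.1]
            exact T₀.mul_mem ha.2 hb.2⟩
          one_mem' := ⟨R.one_mem, by
            have h1 := fn_map_inv β R.one_mem
            have h2 := fn_map_mul β R.one_mem R.one_mem
            rw [mul_one] at h2
            have h3 : fn β 1 = 1 := by
              have := mul_eq_left.1 h2.symm
              exact this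
            rw [h3]
            exact T₀.one_mem⟩
          inv_mem' := fun {a} ha => ⟨R.inv_mem ha.1, by
            rw [fn_map_inv β ha.1]
            exact T₀.inv_mem ha.2⟩ }
      have hle : T₀ ≤ K := by
        conv_lhs => rw [hT₀]
        rw [Subgroup.closure_le]
        rintro _ ⟨x, rfl⟩
        refine ⟨R.mul_mem (R.inv_mem x.2) (β x).2, ?_⟩
        have h1 : fn β ((x : Ω)⁻¹ * ((β x : R) : Ω)) = ((β x : R) : Ω)⁻¹ * ((β (β x) : R) : Ω) := by
          rw [fn_of_mem β (R.mul_mem (R.inv_mem x.2) (β x).2)]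
          have e : (⟨(x : Ω)⁻¹ * ((β x : R) : Ω), R.mul_mem (R.inv_mem x.2) (β x).2⟩ : R) = x⁻¹ * β x := rfl
          rw [e]
          simp
        rw [h1]
        exact hgen (β x)
      exact fun y hy => (hle hy).2
    haveI : Finite T₀ := finite_of_le (hT₀R.trans hRS)
    have hTp : IsPGroup p T₀ := hRp.to_le hT₀R
    have hiter : ∀ n : ℕ, ∀ y ∈ T₀, (fn β)^[n] y ∈ T₀ := by
      intro n
      induction n with
      | zero => exact fun y hy => hy
      | succ n ih =>
        intro y hy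
        rw [Function.iterate_succ_apply']
        exact hinv _ (ih y hy)
    have hqfix : ∀ y ∈ R, (fn β)^[q] y = y := by
      intro y hy
      rw [fn_iter β q hy, ← hβord, pow_orderOf_eq_one, fn_one hy]
    have himg : IsImage (fn β) T₀ T₀ := by
      intro y
      constructor
      · intro hy
        refine ⟨(fn β)^[q - 1] y, hiter _ y hy, ?_⟩
        have h1 : fn β ((fn β)^[q - 1] y) = (fn β)^[q] y := by
          rw [← Function.iterate_succ_apply' (fn β) (q - 1) y]
          congr 2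
          have := hq.one_lt
          omega
        rw [h1, hqfix y (hT₀R hy)]
      · rintro ⟨x, hx, rfl⟩
        exact hinv x hx
    obtain ⟨c₀, hc₀, hc₀v⟩ := exists_aut_of_map hmap himg
    have hc₀iter : ∀ n : ℕ, ∀ y ∈ T₀, (fn c₀)^[n] y = (fn β)^[n] y := by
      intro n
      induction n with
      | zero => exact fun y _ => rfl
      | succ n ih =>
        intro y hy
        rw [Function.iterate_succ_apply', Function.iterate_succ_apply', ih y hy, hc₀v _ (hiter n y hy)]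
    have hc₀q : c₀ ^ q = 1 := by
      apply fn_ext
      intro x hx
      rw [← fn_iter c₀ q hx, hc₀iter q x hx, hqfix x (hT₀R hx), fn_one hx]
    have hc₀ne : c₀ ≠ 1 := by
      rintro rfl
      -- `β` fixes `T₀` pointwise
      have hfix : ∀ y ∈ T₀, fn β y = y := by
        intro y hy
        rw [← hc₀v y hy, fn_one hy]
      have hpow : ∀ (x : R) (n : ℕ), (fn β)^[n] (x : Ω) = (x : Ω) * ((x : Ω)⁻¹ * ((β x : R) : Ω)) ^ n := by
        intro x n
        induction n with
        | zero => simp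
        | succ n ih =>
          rw [Function.iterate_succ_apply', ih]
          have ht := hgen x
          have h1 : ((x : Ω)⁻¹ * ((β x : R) : Ω)) ^ n ∈ R := hT₀R (T₀.pow_mem ht n)
          rw [fn_map_mul β x.2 h1, fn_coe]
          have h2 : fn β (((x : Ω)⁻¹ * ((β x : R) : Ω)) ^ n) = ((x : Ω)⁻¹ * ((β x : R) : Ω)) ^ n := hfix _ (T₀.pow_mem ht n)
          rw [h2, pow_succ', ← mul_assoc, mul_inv_cancel_left]
      have hone : ∀ x : R, β x = x := by
        intro x
        have h1 := hpow x q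
        rw [hqfix _ x.2] at h1
        have h2 : ((x : Ω)⁻¹ * ((β x : R) : Ω)) ^ q = 1 := by
          have := mul_eq_left.1 h1.symm
          exact this
        obtain ⟨t, ht⟩ : ∃ t : R, (t : Ω) = (x : Ω)⁻¹ * ((β x : R) : Ω) := ⟨x⁻¹ * β x, rfl⟩
        have h3 : t ^ q = 1 := by
          apply Subtype.ext
          rw [Subgroup.coe_pow, ht, h2]
          rfl
        obtain ⟨k, hk⟩ := hRp t
        have h4 : t = 1 := by
          have h5 : orderOf t ∣ q := orderOf_dvd_of_pow_eq_one h3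
          have h6 : orderOf t ∣ p ^ k := orderOf_dvd_of_pow_eq_one hk
          have h7 : orderOf t = 1 := by
            have h8 : Nat.Coprime q (p ^ k) := Nat.Coprime.pow_right _ ((Nat.coprime_primes hq hp.out).2 hqp)
            exact Nat.eq_one_of_dvd_coprimes h8 h5 h6
          exact orderOf_eq_one_iff.1 h7
        rw [h4] at ht
        apply Subtype.ext
        have h9 : (1 : Ω) = (x : Ω)⁻¹ * ((β x : R) : Ω) := ht
        rw [eq_comm, inv_mul_eq_one] at h9
        exact h9.symm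
      have h1 : β = 1 := by
        ext x
        rw [hone x]
        rfl
      rw [h1, orderOf_one] at hβord
      exact hq.one_lt.ne hβord
    have hord₀ : orderOf c₀ = q := by
      haveI : Fact q.Prime := ⟨hq⟩
      exact orderOf_eq_prime hc₀q hc₀ne
    have hK₀ : (Nat.card (Subgroup.zpowers c₀)).Coprime p := by
      rw [Nat.card_zpowers, hord₀]
      exact (Nat.coprime_primes hq hp.out).2 hqp
    have hE₀ := hmin T₀ (semiSys T₀ (Subgroup.zpowers c₀)) (semiSys_saturated hTp hK₀) (semiSys_le (hT₀R.trans hRS) (hKmap (hT₀R.trans hRS) hc₀))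
    rcases hE₀ with ⟨hT₀eq, -⟩ | hE₀
    · exact hT₀eq.ge.trans hT₀hyp
    · exact (semiSys_not_inner hTp (Subgroup.mem_zpowers c₀) hq hqp hord₀ hE₀).elim
  refine ⟨?_, ?_, ?_, q, β, hq, hqp, hβA, hβord, ?_⟩
  · -- normality
    refine ⟨le_rfl, fun P φ hφ => ?_⟩
    obtain ⟨hP, t, k, hk, hv⟩ := hFv P φ hφ
    have hψ₀ : R.subtype.comp ((MulAut.conj t).toMonoidHom.comp k.toMonoidHom) ∈ F.Hom R := by
      rw [← hEF R]
      exact ⟨le_rfl, t, k, hk, fun x => rfl⟩
    have hle : P ⊔ R ≤ R := sup_le hP le_rfl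
    refine ⟨_, restrict_mem hψ₀ hle, fun x => ?_, ?_⟩
    · rw [hv]
      rfl
    · ext y
      constructor
      · rintro ⟨x, hx, rfl⟩
        exact Subtype.coe_prop _
      · intro hy
        refine ⟨⟨k⁻¹ (t⁻¹ * ⟨y, hy⟩ * t), Subgroup.mem_sup_right (Subtype.coe_prop _)⟩, Subtype.coe_prop _, ?_⟩
        show (((MulAut.conj t) (k (k⁻¹ (t⁻¹ * ⟨y, hy⟩ * t))) : R) : Ω) = y
        rw [MulAut.apply_inv_self, MulAut.conj_apply]
        simp [mul_assoc]
  · -- the focal subgroup
    exact le_antisymm hfocle (hRhyp.trans hhypfoc)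
  · exact le_antisymm hyp_le_S hRhyp
  · -- the automizer
    apply le_antisymm
    · intro α hα
      have h1 := (mem_autGroup_iff le_rfl).1 hα
      obtain ⟨hR', t, k, hk, hv⟩ := hFv R _ h1
      have h2 : α = MulAut.conj t * k := by
        ext x
        exact hv x
      rw [h2]
      refine Subgroup.mul_mem _ (Subgroup.mem_sup_left ⟨t, rfl⟩) (Subgroup.mem_sup_right hk)
    · exact sup_le (inn_le_autGroup le_rfl) (Subgroup.zpowers_le.2 hβA)

end Cfsg.Agent.Lib.Fusion2.Sparse
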