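/-
Supersoluble fusion systems: invariant chains with cyclic sections.
-/
import Cfsg.Agent.Lib.Fusion2.MetaOdd
import Cfsg.Agent.Lib.Fusion2.GES
import Cfsg.Agent.Lib.Fusion2.Sparse
import Cfsg.Agent.Lib.Fusion2.NormalCore
import Cfsg.Agent.Lib.Fusion.Saturation
import Cfsg.Agent.Lib.Fusion.Placement
import Cfsg.Agent.Lib.Fusion.Dihedral

set_option autoImplicit false
set_option linter.unusedSectionVars false

namespace Cfsg.Agent.Lib.Fusion2.SuperSol

open Cfsg Cfsg.FusionSystem Cfsg.Agent.Lib.Fusion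

section Section

theorem exists_quotHom {T L : Type*} [Group T] [Group L] (c : Subgroup T) [c.Normal] (σ : L →* MulAut T)
    (hc : ∀ l, ∀ x ∈ c, σ l x ∈ c) :
    ∃ ρ : L →* MulAut (T ⧸ c), ∀ l (x : T), ρ l (x : T ⧸ c) = ((σ l x : T) : T ⧸ c) := by
  have hm : ∀ l, c.map (σ l).toMonoidHom = c := by
    intro l
    refine le_antisymm ?_ ?_
    · rintro _ ⟨x, hx, rfl⟩
      exact hc l x hx
    · intro x hx
      refine ⟨σ l⁻¹ x, hc _ x hx, ?_⟩
      show σ l (σ l⁻¹ x) = x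
      rw [map_inv]
      simp
  have hv : ∀ l (x : T), (QuotientGroup.congr c c (σ l) (hm l)) (x : T ⧸ c) = ((σ l x : T) : T ⧸ c) := fun l x => rfl
  refine ⟨MonoidHom.mk' (fun l => QuotientGroup.congr c c (σ l) (hm l)) ?_, fun l x => rfl⟩
  intro a b
  ext q
  induction q using QuotientGroup.induction_on with
  | H x =>
    show (QuotientGroup.congr c c (σ (a * b)) (hm _)) (x : T ⧸ c) =
      (QuotientGroup.congr c c (σ a) (hm _)) ((QuotientGroup.congr c c (σ b) (hm _)) (x : T ⧸ c))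
    rw [hv, hv, hv, map_mul, MulAut.mul_apply]

theorem exists_resHom {U L : Type*} [Group U] [Group L] (B : Subgroup U) (σ : L →* MulAut U)
    (hB : ∀ l, ∀ x ∈ B, σ l x ∈ B) :
    ∃ ρ : L →* MulAut B, ∀ l (x : B), ((ρ l x : B) : U) = σ l x := by
  let r : L → MulAut B := fun l =>
    { toFun := fun x => ⟨σ l x, hB l x x.2⟩
      invFun := fun x => ⟨σ l⁻¹ x, hB l⁻¹ x x.2⟩
      left_inv := fun x => Subtype.ext (by
        show σ l⁻¹ (σ l x) = x
        rw [map_inv]; simp)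
      right_inv := fun x => Subtype.ext (by
        show σ l (σ l⁻¹ x) = x
        rw [map_inv]; simp)
      map_mul' := fun x y => Subtype.ext (by simp) }
  refine ⟨MonoidHom.mk' r ?_, fun l x => rfl⟩
  intro a b
  ext x
  show σ (a * b) x = σ a (σ b x)
  rw [map_mul, MulAut.mul_apply]

theorem mulAut_comm_of_cyclic {Y : Type*} [Group Y] [IsCyclic Y] (a b : MulAut Y) : a * b = b * a := by
  apply (IsCyclic.mulAutMulEquiv Y).injective
  rw [map_mul, map_mul, mul_comm]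

/-- Restricted chain invariants -/
theorem section_props {U : Type*} [Group U] [Finite U] {p : ℕ} [hp : Fact p.Prime] (hU : IsPGroup p U) {A B : Subgroup U}
    (hnorm : ∀ a ∈ B, ∀ x ∈ A, a * x * a⁻¹ ∈ A) {y : U} (hy : y ∈ B)
    (hcyc : ∀ z ∈ B, ∃ k : ℤ, z * (y ^ k)⁻¹ ∈ A)
    {G : Subgroup (MulAut U)} (hA : ∀ g ∈ G, ∀ x ∈ A, g x ∈ A) (hB : ∀ g ∈ G, ∀ x ∈ B, g x ∈ B) :
    (∀ a ∈ G, ∀ b ∈ G, ∀ x ∈ B, x⁻¹ * (a * b * a⁻¹ * b⁻¹) x ∈ A) ∧
    (∀ a ∈ G, (orderOf a).Coprime p → ∀ x ∈ B, x⁻¹ * (a ^ (p - 1)) x ∈ A) := by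
  have hpp := hp.out
  haveI hN : (A.subgroupOf B).Normal := by
    constructor
    intro n hn g
    rw [Subgroup.mem_subgroupOf] at hn ⊢
    exact hnorm _ g.2 _ hn
  obtain ⟨ρ₁, hρ₁⟩ := exists_resHom (L := G) B G.subtype (fun l x hx => hB _ l.2 x hx)
  obtain ⟨ρ₂, hρ₂⟩ := exists_quotHom (L := G) (A.subgroupOf B) ρ₁ (fun l x hx => by
    rw [Subgroup.mem_subgroupOf] at hx ⊢
    rw [hρ₁]
    exact hA _ l.2 _ hx)
  haveI hcy : IsCyclic (B ⧸ A.subgroupOf B) := by
    refine ⟨⟨((⟨y, hy⟩ : B) : B ⧸ A.subgroupOf B), fun q => ?_⟩⟩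
    induction q using QuotientGroup.induction_on with
    | H z =>
      obtain ⟨k, hk⟩ := hcyc z z.2
      refine ⟨k, ?_⟩
      show ((⟨y, hy⟩ : B) : B ⧸ A.subgroupOf B) ^ k = _
      rw [← QuotientGroup.mk_zpow, QuotientGroup.eq]
      rw [Subgroup.mem_subgroupOf]
      have : ((((⟨y, hy⟩ : B) ^ k)⁻¹ * z : B) : U) = (y ^ k)⁻¹ * z := by simp
      rw [this]
      have h2 := hnorm ((y ^ k)⁻¹) (B.inv_mem (B.zpow_mem hy k)) _ hk
      convert h2 using 1
      group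
  have htriv : ∀ g : G, ρ₂ g = 1 → ∀ x ∈ B, x⁻¹ * (g : MulAut U) x ∈ A := by
    intro g hg x hx
    have h1 := hρ₂ g ⟨x, hx⟩
    rw [hg, MulAut.one_apply] at h1
    have h2 := QuotientGroup.eq.1 h1
    rw [Subgroup.mem_subgroupOf] at h2
    simpa [hρ₁] using h2
  refine ⟨fun a ha b hb x hx => ?_, fun a ha hc x hx => ?_⟩
  · have h : ρ₂ ⟨a * b * a⁻¹ * b⁻¹, G.mul_mem (G.mul_mem (G.mul_mem ha hb) (G.inv_mem ha)) (G.inv_mem hb)⟩ = 1 := by
      have e : (⟨a * b * a⁻¹ * b⁻¹, G.mul_mem (G.mul_mem (G.mul_mem ha hb) (G.inv_mem ha)) (G.inv_mem hb)⟩ : G)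
        = ⟨a, ha⟩ * ⟨b, hb⟩ * ⟨a, ha⟩⁻¹ * ⟨b, hb⟩⁻¹ := rfl
      rw [e, map_mul, map_mul, map_mul, map_inv, map_inv]
      rw [mulAut_comm_of_cyclic (ρ₂ ⟨a, ha⟩) (ρ₂ ⟨b, hb⟩)]
      group
    exact htriv _ h x hx
  · have h : ρ₂ ⟨a ^ (p - 1), G.pow_mem ha _⟩ = 1 := by
      have e : (⟨a ^ (p - 1), G.pow_mem ha _⟩ : G) = ⟨a, ha⟩ ^ (p - 1) := rfl
      rw [e, map_pow]
      have h1 : orderOf (ρ₂ ⟨a, ha⟩) ∣ orderOf a := by
        have := orderOf_map_dvd ρ₂ (⟨a, ha⟩ : G)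
        rwa [Subgroup.orderOf_mk] at this
      have hYp : IsPGroup p (B ⧸ A.subgroupOf B) := (hU.to_subgroup B).to_quotient _
      haveI : Finite (B ⧸ A.subgroupOf B) := inferInstance
      obtain ⟨e, he⟩ := IsPGroup.iff_card.1 hYp
      have h2 : orderOf (ρ₂ ⟨a, ha⟩) ∣ Nat.card (MulAut (B ⧸ A.subgroupOf B)) := orderOf_dvd_natCard _
      rw [IsCyclic.card_mulAut, he] at h2
      have h3 : (orderOf (ρ₂ ⟨a, ha⟩)).Coprime p := Nat.Coprime.coprime_dvd_left h1 hc
      apply orderOf_dvd_iff_pow_eq_one.1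
      rcases Nat.eq_zero_or_pos e with rfl | he0
      · have : orderOf (ρ₂ ⟨a, ha⟩) = 1 := by
          simpa using h2
        rw [this]
        exact one_dvd _
      · rw [Nat.totient_prime_pow hpp he0] at h2
        exact (Nat.Coprime.pow_right _ h3).dvd_of_dvd_mul_left h2
    exact htriv _ h x hx

end Section

section Chain

variable {U : Type*} [Group U] [Finite U] {p : ℕ} [hp : Fact p.Prime]

theorem aut_of_chain (hU : IsPGroup p U) (W : ℕ → Subgroup U) (n : ℕ)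
    (hmono : ∀ i < n, W i ≤ W (i + 1))
    (hnorm : ∀ i < n, ∀ a ∈ W (i + 1), ∀ x ∈ W i, a * x * a⁻¹ ∈ W i)
    (hcyc : ∀ i < n, ∃ y ∈ W (i + 1), ∀ z ∈ W (i + 1), ∃ k : ℤ, z * (y ^ k)⁻¹ ∈ W i)
    {G : Subgroup (MulAut U)} (hinv : ∀ g ∈ G, ∀ i ≤ n, ∀ x ∈ W i, g x ∈ W i) :
    (∀ a ∈ G, ∀ b ∈ G, a * b * a⁻¹ * b⁻¹ ∈ stabChain W n hmono) ∧
    (∀ a ∈ G, (orderOf a).Coprime p → a ^ (p - 1) ∈ stabChain W n hmono) := by
  refine ⟨fun a ha b hb i hi x hx => ?_, fun a ha hc i hi x hx => ?_⟩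
  · obtain ⟨y, hy, hz⟩ := hcyc i hi
    exact (section_props hU (hnorm i hi) hy hz (fun g hg x hx => hinv g hg i (by omega) x hx)
      (fun g hg x hx => hinv g hg (i + 1) (by omega) x hx)).1 a ha b hb x hx
  · obtain ⟨y, hy, hz⟩ := hcyc i hi
    exact (section_props hU (hnorm i hi) hy hz (fun g hg x hx => hinv g hg i (by omega) x hx)
      (fun g hg x hx => hinv g hg (i + 1) (by omega) x hx)).2 a ha hc x hx

/-- A `p'`-group preserving a chain with cyclic sections. -/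
theorem p'_of_chain (hU : IsPGroup p U) (W : ℕ → Subgroup U) (n : ℕ) (h0 : W 0 = ⊥) (htop : W n = ⊤)
    (hmono : ∀ i < n, W i ≤ W (i + 1))
    (hnorm : ∀ i < n, ∀ a ∈ W (i + 1), ∀ x ∈ W i, a * x * a⁻¹ ∈ W i)
    (hcyc : ∀ i < n, ∃ y ∈ W (i + 1), ∀ z ∈ W (i + 1), ∃ k : ℤ, z * (y ^ k)⁻¹ ∈ W i)
    {G : Subgroup (MulAut U)} (hinv : ∀ g ∈ G, ∀ i ≤ n, ∀ x ∈ W i, g x ∈ W i) (hG : (Nat.card G).Coprime p) :
    (∀ a ∈ G, ∀ b ∈ G, a * b = b * a) ∧ ∀ a ∈ G, a ^ (p - 1) = 1 := by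
  obtain ⟨h1, h2⟩ := aut_of_chain hU W n hmono hnorm hcyc hinv
  have htriv : ∀ g ∈ G, g ∈ stabChain W n hmono → g = 1 := by
    intro g hg hs
    obtain ⟨k, hk⟩ := stabChain_isPGroup hU W n h0 hmono htop ⟨g, hs⟩
    have h3 : g ^ p ^ k = 1 := congrArg Subtype.val hk
    have h4 : orderOf g ∣ p ^ k := orderOf_dvd_of_pow_eq_one h3
    have h5 : orderOf g ∣ Nat.card G := by
      have := orderOf_dvd_natCard (⟨g, hg⟩ : G)
      rwa [Subgroup.orderOf_mk] at this
    have h6 : (orderOf g).Coprime (p ^ k) := Nat.Coprime.pow_right _ (Nat.Coprime.coprime_dvd_left h5 hG)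
    have h7 : orderOf g = 1 := Nat.Coprime.eq_one_of_dvd h6 h4
    exact orderOf_eq_one_iff.1 h7
  refine ⟨fun a ha b hb => ?_, fun a ha => ?_⟩
  · have := htriv _ (G.mul_mem (G.mul_mem (G.mul_mem ha hb) (G.inv_mem ha)) (G.inv_mem hb)) (h1 a ha b hb)
    have e : a * b = a * b * a⁻¹ * b⁻¹ * (b * a) := by group
    rw [e, this, one_mul]
  · refine htriv _ (G.pow_mem ha _) (h2 a ha ?_)
    have h5 : orderOf a ∣ Nat.card G := by
      have := orderOf_dvd_natCard (⟨a, ha⟩ : G)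
      rwa [Subgroup.orderOf_mk] at this
    exact Nat.Coprime.coprime_dvd_left h5 hG

/-- A chain element in a `p`-group of automorphisms preserving a chain with cyclic sections: it lies
in the `p`-core. -/
theorem pElement_mem_pCore (hU : IsPGroup p U) (W : ℕ → Subgroup U) (n : ℕ) (h0 : W 0 = ⊥) (htop : W n = ⊤)
    (hmono : ∀ i < n, W i ≤ W (i + 1))
    (hnorm : ∀ i < n, ∀ a ∈ W (i + 1), ∀ x ∈ W i, a * x * a⁻¹ ∈ W i)
    (hcyc : ∀ i < n, ∃ y ∈ W (i + 1), ∀ z ∈ W (i + 1), ∃ k : ℤ, z * (y ^ k)⁻¹ ∈ W i)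
    {G : Subgroup (MulAut U)} (hinv : ∀ g ∈ G, ∀ i ≤ n, ∀ x ∈ W i, g x ∈ W i) {τ : MulAut U} (hτ : τ ∈ G)
    (hτp : ∃ k : ℕ, τ ^ p ^ k = 1) : τ ∈ (Cfsg.pCore p G).map G.subtype := by
  obtain ⟨h1, -⟩ := aut_of_chain hU W n hmono hnorm hcyc hinv
  let K : Subgroup (MulAut U) := stabChain W n hmono
  have hKp : IsPGroup p K := stabChain_isPGroup hU W n h0 hmono htop
  have hconj : ∀ g ∈ G, ∀ b ∈ K, g * b * g⁻¹ ∈ K := by
    intro g hg b hb i hi x hx
    have h1 : g⁻¹ x ∈ W (i + 1) := hinv g⁻¹ (G.inv_mem hg) (i + 1) (by omega) x hx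
    have h2 := hb i hi _ h1
    have h3 := hinv g hg i (by omega) _ h2
    simp only [map_mul, map_inv, MulAut.apply_inv_self] at h3
    simpa [MulAut.mul_apply] using h3
  have hnK : (⊤ : Subgroup (MulAut U)) ⊓ G ≤ Subgroup.normalizer (K : Set (MulAut U)) := by
    intro g hg
    exact Cfsg.Agent.Lib.PGroups.mem_normalizer_of_conj_le' _ _ (fun x hx => hconj g hg.2 x hx)
  have hZ : IsPGroup p (Subgroup.zpowers τ) := by
    obtain ⟨k, hk⟩ := hτp
    have h2 : orderOf τ ∣ p ^ k := orderOf_dvd_of_pow_eq_one hk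
    obtain ⟨j, -, hj⟩ := (Nat.dvd_prime_pow hp.out).1 h2
    apply IsPGroup.iff_card.2
    exact ⟨j, by rw [Nat.card_zpowers, hj]⟩
  let Q : Subgroup (MulAut U) := Subgroup.zpowers τ ⊔ K
  have hQp : IsPGroup p Q := IsPGroup.to_sup_of_normal_right' hZ hKp (by
    rw [Subgroup.zpowers_le]
    exact hnK ⟨trivial, hτ⟩)
  have hQn : (Q.subgroupOf G).Normal := by
    constructor
    rintro ⟨n, hn⟩ hn' ⟨g, hg⟩
    rw [Subgroup.mem_subgroupOf] at hn' ⊢
    show g * n * g⁻¹ ∈ Q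
    have h2 : Q ≤ Q.comap (MulAut.conj g).toMonoidHom := by
      refine sup_le ?_ ?_
      · rw [Subgroup.zpowers_le]
        show g * τ * g⁻¹ ∈ Q
        have e : g * τ * g⁻¹ = (g * τ * g⁻¹ * τ⁻¹) * τ := by group
        rw [e]
        exact Q.mul_mem (Subgroup.mem_sup_right (h1 g hg τ hτ)) (Subgroup.mem_sup_left (Subgroup.mem_zpowers τ))
      · intro b hb
        exact Subgroup.mem_sup_right (hconj g hg b hb)
    exact h2 hn'
  exact ⟨⟨τ, hτ⟩, Cfsg.Agent.Lib.Basic.le_pCore hQn (hQp.comap_subtype) (by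
    rw [Subgroup.mem_subgroupOf]
    exact Subgroup.mem_sup_left (Subgroup.mem_zpowers τ)), rfl⟩

end Chain

section Eigen

variable {Y : Type*} [Group Y] [Finite Y] {p : ℕ} [hp : Fact p.Prime]

theorem exists_eigen_one (hcomm : ∀ x y : Y, x * y = y * x) (hexp : ∀ y : Y, y ^ p = 1) (a : Y →* Y)
    (ha : ∀ y, a^[p] y = a y) (ht : ∃ y : Y, y ≠ 1) : ∃ u : Y, u ≠ 1 ∧ ∃ r : ℕ, a u = u ^ r := by
  classical
  letI : CommGroup Y := { (inferInstance : Group Y) with mul_comm := hcomm }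
  have hnV : ∀ x : Additive Y, p • x = 0 := fun x => by
    exact (congrArg Additive.ofMul (hexp (Additive.toMul x)))
  letI : Module (ZMod p) (Additive Y) := AddCommGroup.zmodModule (n := p) hnV
  let f : Module.End (ZMod p) (Additive Y) := (MonoidHom.toAdditive a).toZModLinearMap p
  have hf : ∀ k (v : Additive Y), (f ^ k) v = Additive.ofMul (a^[k] (Additive.toMul v)) := by
    intro k
    induction k with
    | zero => intro v; rfl
    | succ k ih =>
      intro v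
      rw [pow_succ, Module.End.mul_apply, ih, Function.iterate_succ_apply]
      rfl
  have h0 : Polynomial.aeval f (Polynomial.X ^ p - Polynomial.X : Polynomial (ZMod p)) = 0 := by
    ext v
    simp only [map_sub, map_pow, Polynomial.aeval_X, LinearMap.sub_apply, LinearMap.zero_apply]
    rw [hf, ha]
    have h9 : Additive.ofMul (a (Additive.toMul v)) - f v = 0 := sub_eq_zero.2 rfl
    rw [h9]
  have hdvd := minpoly.dvd (ZMod p) f h0
  have hcardp : Fintype.card (ZMod p) = p := ZMod.card p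
  have hsplit : (Polynomial.X ^ p - Polynomial.X : Polynomial (ZMod p)).Splits := by
    rw [Polynomial.splits_iff_card_roots]
    have h1 := FiniteField.roots_X_pow_card_sub_X (ZMod p)
    rw [hcardp] at h1
    rw [h1, FiniteField.X_pow_card_sub_X_natDegree_eq (ZMod p) hp.out.one_lt]
    simp [hcardp]
  have hne : (Polynomial.X ^ p - Polynomial.X : Polynomial (ZMod p)) ≠ 0 :=
    FiniteField.X_pow_card_sub_X_ne_zero (ZMod p) hp.out.one_lt
  have hsp := hsplit.of_dvd hne hdvd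
  haveI : Nontrivial (Additive Y) := by
    obtain ⟨y, hy⟩ := ht
    exact ⟨⟨Additive.ofMul y, 0, fun h => hy (congrArg Additive.toMul h)⟩⟩
  haveI : Module.Finite (ZMod p) (Additive Y) := Module.Finite.of_finite
  haveI : Nontrivial (Module.End (ZMod p) (Additive Y)) := inferInstance
  have hint : IsIntegral (ZMod p) f := Algebra.IsIntegral.isIntegral f
  obtain ⟨μ, hμ⟩ := hsp.exists_eval_eq_zero (ne_of_gt (minpoly.degree_pos hint))
  have hev : f.HasEigenvalue μ := Module.End.hasEigenvalue_of_isRoot hμ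
  obtain ⟨v, hv⟩ := hev.exists_hasEigenvector
  refine ⟨Additive.toMul v, fun h => hv.2 (congrArg Additive.ofMul h), μ.val, ?_⟩
  have h1 : f v = μ • v := hv.apply_eq_smul
  have h2 : μ • v = μ.val • v := by
    conv_lhs => rw [← ZMod.natCast_zmod_val μ]
    rw [Nat.cast_smul_eq_nsmul]
  rw [h2] at h1
  exact congrArg Additive.toMul h1

theorem exists_common_eigen (hcomm : ∀ x y : Y, x * y = y * x) (hexp : ∀ y : Y, y ^ p = 1)
    (Hs : Finset (MulAut Y)) (hc : ∀ a ∈ Hs, ∀ b ∈ Hs, a * b = b * a) (hpow : ∀ a ∈ Hs, a ^ p = a) :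
    ∀ M : Subgroup Y, M ≠ ⊥ → (∀ a ∈ Hs, ∀ x ∈ M, a x ∈ M) → ∃ u ∈ M, u ≠ 1 ∧ ∀ a ∈ Hs, ∃ r : ℕ, a u = u ^ r := by
  classical
  induction Hs using Finset.induction_on with
  | empty =>
    intro M hM _
    obtain ⟨u, hu, hne⟩ := (Subgroup.bot_or_exists_ne_one M).resolve_left hM
    exact ⟨u, hu, hne, fun a ha => absurd ha (Finset.notMem_empty a)⟩
  | insert a s _ ih =>
    intro M hM hinv
    have ha : a ∈ insert a s := Finset.mem_insert_self a s
    let b : M →* M := ((a : MulAut Y).toMonoidHom.comp M.subtype).codRestrict M (fun x => hinv a ha x x.2)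
    have hb : ∀ k (x : M), ((b^[k] x : M) : Y) = (a ^ k) x := by
      intro k
      induction k with
      | zero => intro x; rfl
      | succ k ih' =>
        intro x
        rw [Function.iterate_succ_apply', pow_succ', MulAut.mul_apply, ← ih' x]
        rfl
    obtain ⟨u₀, hu₀, r, hr⟩ := exists_eigen_one (Y := M) (p := p) (fun x y => Subtype.ext (hcomm _ _)) (fun y => Subtype.ext (by
        rw [Subgroup.coe_pow, hexp]; rfl)) b (fun y => Subtype.ext (by
        rw [hb, hpow a ha]; rfl)) (by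
        obtain ⟨u, hu, hne⟩ := (Subgroup.bot_or_exists_ne_one M).resolve_left hM
        exact ⟨⟨u, hu⟩, fun h => hne (congrArg Subtype.val h)⟩)
    have hu₀' : (u₀ : Y) ≠ 1 := fun h => hu₀ (Subtype.ext h)
    have hr' : a (u₀ : Y) = (u₀ : Y) ^ r := congrArg Subtype.val hr
    let M₁ : Subgroup Y :=
      { carrier := {x | x ∈ M ∧ a x = x ^ r}
        one_mem' := ⟨M.one_mem, by simp⟩
        mul_mem' := by
          rintro x y ⟨hx, hx'⟩ ⟨hy, hy'⟩
          refine ⟨M.mul_mem hx hy, ?_⟩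
          rw [map_mul, hx', hy', (show Commute x y from hcomm x y).mul_pow]
        inv_mem' := by
          rintro x ⟨hx, hx'⟩
          refine ⟨M.inv_mem hx, ?_⟩
          rw [map_inv, hx', inv_pow] }
    obtain ⟨u, hu, hu1, hall⟩ := ih (fun c hc' d hd => hc c (Finset.mem_insert_of_mem hc') d (Finset.mem_insert_of_mem hd))
      (fun c hc' => hpow c (Finset.mem_insert_of_mem hc')) M₁ (by
        intro h
        have : (u₀ : Y) ∈ M₁ := ⟨u₀.2, hr'⟩
        rw [h, Subgroup.mem_bot] at this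
        exact hu₀' this) (by
        rintro c hc' x ⟨hx, hx'⟩
        refine ⟨hinv c (Finset.mem_insert_of_mem hc') x hx, ?_⟩
        have e := hc a ha c (Finset.mem_insert_of_mem hc')
        have e2 : a (c x) = c (a x) := by
          have := congrArg (fun w : MulAut Y => w x) e
          simpa [MulAut.mul_apply] using this
        rw [e2, hx', map_pow])
    refine ⟨u, hu.1, hu1, fun c hc' => ?_⟩
    rcases Finset.mem_insert.1 hc' with rfl | h
    · exact ⟨r, hu.2⟩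
    · exact hall c h

/-- A common eigenvector in `Ω₁ Z(Q)`. -/
theorem exists_central_eigen {Q L : Type*} [Group Q] [Finite Q] [Group L] [Finite L] (hQ : IsPGroup p Q) [Nontrivial Q]
    (ρ : L →* MulAut Q) (hc : ∀ a b, ρ a * ρ b = ρ b * ρ a) (hexp : ∀ a, (ρ a) ^ (p - 1) = 1) :
    ∃ u : Q, u ≠ 1 ∧ u ∈ Subgroup.center Q ∧ ∀ l, ∃ r : ℕ, ρ l u = u ^ r := by
  classical
  have hpp := hp.out
  let M₀ : Subgroup Q :=
    { carrier := {x | x ∈ Subgroup.center Q ∧ x ^ p = 1}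
      one_mem' := ⟨Subgroup.one_mem _, by simp⟩
      mul_mem' := by
        rintro x y ⟨hx, hx'⟩ ⟨hy, hy'⟩
        refine ⟨Subgroup.mul_mem _ hx hy, ?_⟩
        have : Commute x y := (Subgroup.mem_center_iff.1 hx y).symm
        rw [this.mul_pow, hx', hy', one_mul]
      inv_mem' := by
        rintro x ⟨hx, hx'⟩
        exact ⟨Subgroup.inv_mem _ hx, by rw [inv_pow, hx', inv_one]⟩ }
  have hnt : M₀ ≠ ⊥ := by
    have hcn : Nontrivial (Subgroup.center Q) := hQ.center_nontrivial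
    have hZp : IsPGroup p (Subgroup.center Q) := hQ.to_subgroup _
    have hd : p ∣ Nat.card (Subgroup.center Q) := by
      obtain ⟨k, hk⟩ := IsPGroup.iff_card.1 hZp
      have h1 : 1 < Nat.card (Subgroup.center Q) := Finite.one_lt_card
      rw [hk] at h1 ⊢
      have hk0 : k ≠ 0 := by
        rintro rfl
        simp at h1
      exact dvd_pow_self p hk0
    obtain ⟨x, hx⟩ := exists_prime_orderOf_dvd_card' p hd
    intro h
    have hx1 : (x : Q) ∈ M₀ := ⟨x.2, by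
      have := pow_orderOf_eq_one x
      rw [hx] at this
      exact congrArg Subtype.val this⟩
    rw [h, Subgroup.mem_bot] at hx1
    have : x = 1 := Subtype.ext hx1
    rw [this, orderOf_one] at hx
    exact hpp.one_lt.ne hx
  have hinvM : ∀ l, ∀ x ∈ M₀, ρ l x ∈ M₀ := by
    rintro l x ⟨hx, hx'⟩
    refine ⟨?_, by rw [← map_pow, hx', map_one]⟩
    rw [Subgroup.mem_center_iff] at hx ⊢
    intro g
    have := hx ((ρ l)⁻¹ g)
    have h2 := congrArg (ρ l) this
    simpa using h2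
  obtain ⟨ρ', hρ'⟩ := exists_resHom (L := L) M₀ ρ hinvM
  haveI : Fintype L := Fintype.ofFinite L
  obtain ⟨u, -, hu1, hall⟩ := exists_common_eigen (Y := M₀) (p := p)
    (fun x y => Subtype.ext ((Subgroup.mem_center_iff.1 y.2.1 x))) (fun y => Subtype.ext (by
      rw [Subgroup.coe_pow]
      exact y.2.2)) (Finset.univ.image ρ') (by
      intro a ha b hb
      obtain ⟨a', -, rfl⟩ := Finset.mem_image.1 ha
      obtain ⟨b', -, rfl⟩ := Finset.mem_image.1 hb
      ext x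
      have := congrArg (fun w : MulAut Q => w x) (hc a' b')
      simpa [MulAut.mul_apply, hρ'] using this) (by
      intro a ha
      obtain ⟨a', -, rfl⟩ := Finset.mem_image.1 ha
      rw [← map_pow]
      have hp1 : p = (p - 1) + 1 := (Nat.sub_add_cancel hpp.one_lt.le).symm
      have h3 : a' ^ p = a' ^ (p - 1) * a' := by
        rw [← pow_succ, ← hp1]
      ext x
      rw [h3, hρ', map_mul, map_pow, hexp a']
      simp [hρ']) ⊤ (by
      intro h
      have : (⊤ : Subgroup M₀) = ⊥ := h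
      have h1 : M₀ = ⊥ := by
        rw [eq_bot_iff]
        intro x hx
        have : (⟨x, hx⟩ : M₀) ∈ (⊥ : Subgroup M₀) := by
          rw [← h]
          trivial
        rw [Subgroup.mem_bot] at this
        rw [Subgroup.mem_bot]
        exact congrArg Subtype.val this
      exact hnt h1) (fun _ _ _ _ => trivial)
  refine ⟨u, fun h => hu1 (Subtype.ext h), u.2.1, fun l => ?_⟩
  obtain ⟨r, hr⟩ := hall (ρ' l) (Finset.mem_image_of_mem _ (Finset.mem_univ _))
  refine ⟨r, ?_⟩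
  rw [← hρ', hr]
  rfl

end Eigen

section ChainExists

variable {T : Type*} [Group T] [Finite T] {p : ℕ} [hp : Fact p.Prime] {L : Type*} [Group L] [Finite L]

/-- One step of the chain. -/
theorem exists_chain_step (hT : IsPGroup p T) (σ : L →* MulAut T) (hcomm : ∀ a b, σ a * σ b = σ b * σ a)
    (hexp : ∀ a, (σ a) ^ (p - 1) = 1) (c : Subgroup T) [hc : c.Normal] (hinv : ∀ l, ∀ x ∈ c, σ l x ∈ c) (hne : c ≠ ⊤) :
    ∃ v : T, v ∉ c ∧ (∀ t, t * v * t⁻¹ * v⁻¹ ∈ c) ∧ ∀ l, ∃ r : ℕ, (v ^ r)⁻¹ * σ l v ∈ c := by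
  obtain ⟨ρ, hρ⟩ := exists_quotHom c σ hinv
  have hQ : IsPGroup p (T ⧸ c) := hT.to_quotient c
  haveI : Nontrivial (T ⧸ c) := QuotientGroup.nontrivial_iff.2 hne
  have hρmk : ∀ l (k : ℕ) (x : T), ((ρ l) ^ k) (x : T ⧸ c) = (((σ l ^ k) x : T) : T ⧸ c) := by
    intro l k
    induction k with
    | zero => intro x; rfl
    | succ k ih =>
      intro x
      rw [pow_succ, MulAut.mul_apply, hρ, ih, pow_succ, MulAut.mul_apply]
  obtain ⟨u, hu1, huc, hall⟩ := exists_central_eigen hQ ρ (by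
      intro a b
      ext q
      induction q using QuotientGroup.induction_on with
      | H x =>
        rw [MulAut.mul_apply, MulAut.mul_apply, hρ, hρ, hρ, hρ, ← MulAut.mul_apply, hcomm]
        rfl) (by
      intro a
      rw [← map_pow]
      have : σ a ^ (p - 1) = σ (a ^ (p - 1)) := (map_pow _ _ _).symm
      ext q
      induction q using QuotientGroup.induction_on with
      | H x =>
        rw [hρ, ← this, hexp]
        rfl)
  induction u using QuotientGroup.induction_on with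
  | H v =>
    refine ⟨v, fun h => hu1 ((QuotientGroup.eq_one_iff v).2 h), fun t => ?_, fun l => ?_⟩
    · rw [← QuotientGroup.eq_one_iff]
      have h1 := Subgroup.mem_center_iff.1 huc (t : T ⧸ c)
      have e : ((t * v * t⁻¹ * v⁻¹ : T) : T ⧸ c) = (t : T ⧸ c) * (v : T ⧸ c) * (t : T ⧸ c)⁻¹ * (v : T ⧸ c)⁻¹ := rfl
      rw [e, h1]
      group
    · obtain ⟨r, hr⟩ := hall l
      refine ⟨r, ?_⟩
      rw [hρ] at hr
      have e : ((v ^ r : T) : T ⧸ c) = ((v : T) : T ⧸ c) ^ r := rfl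
      rw [← e] at hr
      exact QuotientGroup.eq.1 hr.symm

/-- Chains of invariant subgroups with cyclic steps. -/
theorem chain_from (hT : IsPGroup p T) (σ : L →* MulAut T) (hcomm : ∀ a b, σ a * σ b = σ b * σ a)
    (hexp : ∀ a, (σ a) ^ (p - 1) = 1) :
    ∀ (n : ℕ) (c : Subgroup T), Nat.card T - Nat.card c ≤ n → c.Normal → (∀ l, ∀ x ∈ c, σ l x ∈ c) →
    ∃ (m : ℕ) (W : ℕ → Subgroup T), W 0 = c ∧ W m = ⊤ ∧ (∀ i ≤ m, (W i).Normal ∧ ∀ l, ∀ x ∈ W i, σ l x ∈ W i) ∧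
      ∀ i < m, ∃ x, W (i + 1) = W i ⊔ Subgroup.zpowers x := by
  intro n
  induction n with
  | zero =>
    intro c hc hn hinv
    have hct : c = ⊤ := by
      apply Subgroup.eq_top_of_card_eq
      have := Subgroup.card_le_card_group c
      omega
    refine ⟨0, fun _ => c, rfl, hct, fun i _ => ⟨hn, hinv⟩, fun i hi => absurd hi (by omega)⟩
  | succ n ih =>
    intro c hc hn hinv
    by_cases hct : c = ⊤
    · exact ⟨0, fun _ => c, rfl, hct, fun i _ => ⟨hn, hinv⟩, fun i hi => absurd hi (by omega)⟩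
    obtain ⟨v, hv, hvn, hvl⟩ := exists_chain_step hT σ hcomm hexp c hinv hct
    let c₁ : Subgroup T := c ⊔ Subgroup.zpowers v
    have hcc : c ≤ c₁ := le_sup_left
    have hvc : v ∈ c₁ := Subgroup.mem_sup_right (Subgroup.mem_zpowers v)
    have hlt : c < c₁ := lt_of_le_of_ne hcc (fun h => hv (h ▸ hvc))
    have hcard : Nat.card c < Nat.card c₁ := Cfsg.Agent.Lib.OddLocal.card_lt_of_lt hlt
    have hle := Subgroup.card_le_card_group c₁
    have hn₁ : c₁.Normal := by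
      constructor
      intro x hx t
      have h2 : c₁ ≤ c₁.comap (MulAut.conj t).toMonoidHom := by
        refine sup_le ?_ ?_
        · intro y hy
          exact hcc (hn.conj_mem y hy t)
        · rw [Subgroup.zpowers_le]
          show t * v * t⁻¹ ∈ c₁
          have e : t * v * t⁻¹ = (t * v * t⁻¹ * v⁻¹) * v := by group
          rw [e]
          exact c₁.mul_mem (hcc (hvn t)) hvc
      exact h2 hx
    have hinv₁ : ∀ l, ∀ x ∈ c₁, σ l x ∈ c₁ := by
      intro l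
      have h2 : c₁ ≤ c₁.comap (σ l).toMonoidHom := by
        refine sup_le ?_ ?_
        · intro y hy
          exact hcc (hinv l y hy)
        · rw [Subgroup.zpowers_le]
          show σ l v ∈ c₁
          obtain ⟨r, hr⟩ := hvl l
          have e : σ l v = v ^ r * ((v ^ r)⁻¹ * σ l v) := by group
          rw [e]
          exact c₁.mul_mem (c₁.pow_mem hvc r) (hcc hr)
      exact fun x hx => h2 hx
    obtain ⟨m, W, hW0, hWm, hWi, hWs⟩ := ih c₁ (by omega) hn₁ hinv₁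
    refine ⟨m + 1, fun i => match i with
      | 0 => c
      | i + 1 => W i, rfl, hWm, ?_, ?_⟩
    · intro i hi
      cases i with
      | zero => exact ⟨hn, hinv⟩
      | succ i => exact hWi i (by omega)
    · intro i hi
      cases i with
      | zero => exact ⟨v, hW0⟩
      | succ i => exact hWs i (by omega)

end ChainExists

section GenMod

theorem exists_gen_mod {X : Type*} [Group X] {N Q B : Subgroup X} {x : X} (hNQ : N ≤ Q)
    (hn : Q ≤ Subgroup.normalizer (N : Set X)) (hQ : Q = N ⊔ Subgroup.zpowers x) (hBQ : B ≤ Q) :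
    ∃ y ∈ B, ∀ z ∈ B, ∃ k : ℤ, z * (y ^ k)⁻¹ ∈ N := by
  have hxQ : x ∈ Q := hQ ▸ Subgroup.mem_sup_right (Subgroup.mem_zpowers x)
  haveI hN : (N.subgroupOf Q).Normal := (Subgroup.normal_subgroupOf_iff_le_normalizer hNQ).2 hn
  haveI hc : IsCyclic (Q ⧸ N.subgroupOf Q) := by
    refine ⟨⟨((⟨x, hxQ⟩ : Q) : Q ⧸ N.subgroupOf Q), fun q => ?_⟩⟩
    induction q using QuotientGroup.induction_on with
    | H z =>
      have hz : (z : X) ∈ Subgroup.zpowers x ⊔ N := by
        rw [sup_comm, ← hQ]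
        exact z.2
      obtain ⟨u, hu, q, hq, e⟩ := exists_mul_of_mem_sup (Subgroup.zpowers_le.2 (hn hxQ)) hz
      obtain ⟨k, rfl⟩ := Subgroup.mem_zpowers_iff.1 hu
      refine ⟨k, ?_⟩
      show ((⟨x, hxQ⟩ : Q) : Q ⧸ N.subgroupOf Q) ^ k = _
      rw [← QuotientGroup.mk_zpow, QuotientGroup.eq, Subgroup.mem_subgroupOf]
      have e2 : ((((⟨x, hxQ⟩ : Q) ^ k)⁻¹ * z : Q) : X) = q := by
        simp only [Subgroup.coe_mul, Subgroup.coe_inv, Subgroup.coe_zpow]
        rw [← e]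
        group
      rw [e2]
      exact hq
  let π := QuotientGroup.mk' (N.subgroupOf Q)
  let B' : Subgroup (Q ⧸ N.subgroupOf Q) := (B.subgroupOf Q).map π
  haveI : IsCyclic B' := inferInstance
  obtain ⟨g, hg⟩ := IsCyclic.exists_generator (α := B')
  obtain ⟨b, hb, hbg⟩ := g.2
  have hb' : (b : X) ∈ B := hb
  refine ⟨b, hb', fun z hz => ?_⟩
  have hzQ := hBQ hz
  have hm : π ⟨z, hzQ⟩ ∈ B' := ⟨⟨z, hzQ⟩, hz, rfl⟩
  obtain ⟨k, hk⟩ := Subgroup.mem_zpowers_iff.1 (hg ⟨_, hm⟩)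
  have hk2 : (g : Q ⧸ N.subgroupOf Q) ^ k = π ⟨z, hzQ⟩ := congrArg Subtype.val hk
  rw [← hbg, ← map_zpow] at hk2
  have h3 := QuotientGroup.eq.1 hk2
  rw [Subgroup.mem_subgroupOf] at h3
  refine ⟨k, ?_⟩
  have e3 : (((b ^ k)⁻¹ * ⟨z, hzQ⟩ : Q) : X) = ((b : X) ^ k)⁻¹ * z := by simp
  rw [e3] at h3
  have h4 := (Subgroup.mem_normalizer_iff.1 (hn (Q.zpow_mem b.2 k)) _).1 h3
  convert h4 using 1
  group

end GenMod

section Fusion

variable {Ω : Type*} [Group Ω] {S : Subgroup Ω} {F : FusionSystem S} {p : ℕ} [hp : Fact p.Prime] [Finite S]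

/-- Chain data. -/
structure SupChain (F : FusionSystem S) (m : ℕ) (d : ℕ → Subgroup Ω) : Prop where
  h0 : d 0 = ⊥
  htop : d m = S
  hsc : ∀ i ≤ m, F.StronglyClosed (d i)
  hstep : ∀ i < m, d i ≤ d (i + 1) ∧ ∃ x ∈ S, d (i + 1) = d i ⊔ Subgroup.zpowers x

theorem exists_supChain {m : ℕ} {c : Fin (m + 1) → Subgroup Ω} (h0 : c 0 = ⊥) (hl : c (Fin.last m) = S)
    (hsc : ∀ i, F.StronglyClosed (c i))
    (hst : ∀ i : Fin m, c i.castSucc ≤ c i.succ ∧ ∃ x ∈ S, c i.succ = c i.castSucc ⊔ Subgroup.zpowers x) :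
    ∃ d, SupChain F m d := by
  refine ⟨fun i => if h : i < m + 1 then c ⟨i, h⟩ else S, ⟨?_, ?_, ?_, ?_⟩⟩
  · simpa using h0
  · have : m < m + 1 := by omega
    simp only [this, dif_pos]
    exact hl
  · intro i hi
    have : i < m + 1 := by omega
    simp only [this, dif_pos]
    exact hsc _
  · intro i hi
    have h1 : i < m + 1 := by omega
    have h2 : i + 1 < m + 1 := by omega
    simp only [h1, h2, dif_pos]
    exact hst ⟨i, hi⟩

namespace SupChain

variable {m : ℕ} {d : ℕ → Subgroup Ω}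

theorem props (h : SupChain F m d) {X : Subgroup Ω} (hX : X ≤ S) :
    ((d 0).subgroupOf X = ⊥) ∧ ((d m).subgroupOf X = ⊤) ∧ (∀ i < m, (d i).subgroupOf X ≤ (d (i + 1)).subgroupOf X) ∧
    (∀ i < m, ∀ a ∈ (d (i + 1)).subgroupOf X, ∀ x ∈ (d i).subgroupOf X, a * x * a⁻¹ ∈ (d i).subgroupOf X) ∧
    (∀ i < m, ∃ y ∈ (d (i + 1)).subgroupOf X, ∀ z ∈ (d (i + 1)).subgroupOf X, ∃ k : ℤ, z * (y ^ k)⁻¹ ∈ (d i).subgroupOf X) := by
  have hnrm : ∀ i < m, S ≤ Subgroup.normalizer (d i : Set Ω) := fun i hi =>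
    normalizer_of_stronglyClosed (h.hsc i hi.le)
  refine ⟨?_, ?_, ?_, ?_, ?_⟩
  · rw [h.h0]
    exact Subgroup.bot_subgroupOf X
  · rw [h.htop]
    exact Subgroup.subgroupOf_eq_top.2 hX
  · intro i hi x hx
    rw [Subgroup.mem_subgroupOf] at hx ⊢
    exact (h.hstep i hi).1 hx
  · intro i hi a _ x hx
    rw [Subgroup.mem_subgroupOf] at hx ⊢
    have := (Subgroup.mem_normalizer_iff.1 (hnrm i hi (hX a.2)) _).1 hx
    simpa using this
  · intro i hi
    obtain ⟨hle, x, hxS, hx⟩ := h.hstep i hi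
    obtain ⟨y, hy, hz⟩ := exists_gen_mod (N := d i) (Q := d (i + 1)) (B := d (i + 1) ⊓ X) hle
      ((h.hsc (i + 1) (by omega)).1.trans (hnrm i hi)) hx inf_le_left
    refine ⟨⟨y, hy.2⟩, hy.1, fun z hzm => ?_⟩
    rw [Subgroup.mem_subgroupOf] at hzm
    obtain ⟨k, hk⟩ := hz z ⟨hzm, z.2⟩
    refine ⟨k, ?_⟩
    rw [Subgroup.mem_subgroupOf]
    simpa using hk

theorem inv (h : SupChain F m d) {X : Subgroup Ω} (hX : X ≤ S) :
    ∀ g ∈ F.autGroup X, ∀ i ≤ m, ∀ x ∈ (d i).subgroupOf X, g x ∈ (d i).subgroupOf X := by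
  intro g hg i hi x hx
  rw [Subgroup.mem_subgroupOf] at hx ⊢
  exact autGroup_mem_of_stronglyClosed hX (h.hsc i hi) hg hx

/-- The supersoluble chain forces `S ≤ E` for essential `E`. -/
theorem le_essential (h : SupChain F m d) (hS : IsPGroup p S) (hF : F.IsSaturated p) {E : Subgroup Ω}
    (hE : F.IsEssential p E) : S ≤ E := by
  by_contra hSE
  have hES : E ≤ S := hE.1.1
  have hlt : E < S := lt_of_le_of_ne hES (fun h => hSE h.ge)
  haveI : Finite E := finite_of_le hES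
  obtain ⟨g, hgN, hgE⟩ := exists_mem_normalizerIn_not_mem hS hlt
  obtain ⟨h0, htop, hmono, hnorm, hcyc⟩ := h.props hES
  have hU : IsPGroup p E := hS.to_le hES
  have hτ : autOfNormalizer hgN.2 ∈ F.autGroup E := autInducedBy_le_autGroup hES (autOfNormalizer_mem_autInducedBy hgN.2 hgN.1)
  have hτp : ∃ k : ℕ, autOfNormalizer hgN.2 ^ p ^ k = 1 := by
    obtain ⟨k, hk⟩ := (isPGroup_autInducedBy hS hES) ⟨_, autOfNormalizer_mem_autInducedBy hgN.2 hgN.1⟩
    exact ⟨k, congrArg Subtype.val hk⟩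
  have h1 := pElement_mem_pCore hU _ m h0 htop hmono hnorm hcyc (h.inv hES) hτ hτp
  have hrad := isRadical_of_essential hS hE
  rw [hrad.2] at h1
  exact hgE (mem_of_autOfNormalizer_mem_inn hES (hE.1.2 E (isConj_refl hES)) hgN h1)

/-- The supersoluble chain forces `F` to be normal. -/
theorem isNormal (h : SupChain F m d) (hS : IsPGroup p S) (hF : F.IsSaturated p) : F.IsNormal S :=
  isNormal_of_essential_le hS hF stronglyClosed_self (fun _ hE => h.le_essential hS hF hE)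

end SupChain

/-- The automorphism condition from the chains in semidirect products. -/
theorem aut_cond_of_chain (hS : IsPGroup p S) {H : Subgroup (MulAut S)} (hH : (Nat.card H).Coprime p) {m : ℕ}
    {d : ℕ → Subgroup Ω} (h : SupChain (Sparse.semiSys S H) m d) :
    IsMulCommutative H ∧ ∀ g ∈ H, g ^ (p - 1) = 1 := by
  obtain ⟨h0, htop, hmono, hnorm, hcyc⟩ := h.props (le_refl S)
  have hinv : ∀ g ∈ H, ∀ i ≤ m, ∀ x ∈ (d i).subgroupOf S, g x ∈ (d i).subgroupOf S := by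
    intro g hg i hi x hx
    rw [Subgroup.mem_subgroupOf] at hx ⊢
    have hdi := h.hsc i hi
    have hdS : d i ≤ S := hdi.1
    let φ : d i →* Ω := S.subtype.comp (g.toMonoidHom.comp (Subgroup.inclusion hdS))
    have hφ : φ ∈ (Sparse.semiSys S H).Hom (d i) := ⟨hdS, 1, g, hg, fun y => by
      simp only [one_mul, inv_one, mul_one]
      rfl⟩
    exact hdi.2 (d i) le_rfl φ hφ ⟨x, hx⟩
  obtain ⟨h1, h2⟩ := p'_of_chain hS _ m h0 htop hmono hnorm hcyc hinv hH
  exact ⟨⟨⟨fun a b => Subtype.ext (h1 a a.2 b b.2)⟩⟩, h2⟩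

/-- Extending to automorphisms of `S` for `S ⊲ F`. -/
theorem exists_aut_of_isNormal (hN : F.IsNormal S) {R : Subgroup Ω} (hRS : R ≤ S) {φ : R →* Ω} (hφ : φ ∈ F.Hom R) :
    ∃ α ∈ F.autGroup S, ∀ x : R, fn α (x : Ω) = φ x := by
  obtain ⟨ψ, hψ, hag, him⟩ := hN.2 R φ hφ
  have hm : IsMapOn F S (toFun ψ) := (isMapOn_toFun hψ).mono le_sup_right
  have hi : IsImage (toFun ψ) S S := by
    intro y
    constructor
    · intro hy
      rw [← him] at hy
      obtain ⟨z, hz, rfl⟩ := hy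
      exact ⟨z, hz, toFun_coe ψ z⟩
    · rintro ⟨x, hx, rfl⟩
      have hxs : x ∈ R ⊔ S := (le_sup_right : S ≤ R ⊔ S) hx
      rw [toFun_of_mem ψ hxs]
      exact him.le ⟨⟨x, hxs⟩, hx, rfl⟩
  obtain ⟨c, hc, hv⟩ := exists_aut_of_map hm hi
  refine ⟨c, hc, fun x => ?_⟩
  rw [hv x (hRS x.2), ← hag x, toFun_of_mem ψ (le_sup_left (a := R) x.2)]
  rfl

/-- The supersoluble chain from the automorphism condition -/
theorem exists_chain_of_normal (hS : IsPGroup p S) (hF : F.IsSaturated p) (hN : F.IsNormal S)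
    (hH : ∀ H : Subgroup (MulAut S), (Nat.card H).Coprime p → IsMulCommutative H ∧ ∀ h ∈ H, h ^ (p - 1) = 1) :
    ∃ (m : ℕ) (c : Fin (m + 1) → Subgroup Ω), c 0 = ⊥ ∧ c (Fin.last m) = S ∧ (∀ i : Fin (m + 1), F.StronglyClosed (c i)) ∧
      ∀ i : Fin m, c i.castSucc ≤ c i.succ ∧ ∃ x ∈ S, c i.succ = c i.castSucc ⊔ Subgroup.zpowers x := by
  classical
  obtain ⟨-, R, hR⟩ := (fullyNormalized_spec hS hF fullyNormalized_self).2
  rw [inn_eq_autInducedBy_top] at hR
  let N : Subgroup (F.autGroup S) := (Inn S).subgroupOf (F.autGroup S)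
  haveI hNn : N.Normal := inferInstance
  have hcop : (Nat.card N).Coprime N.index := by
    have := Sylow.card_coprime_index R
    rwa [hR] at this
  have hpi : ¬ p ∣ N.index := by
    have := R.not_dvd_index
    rwa [hR] at this
  obtain ⟨H', hH'⟩ := Subgroup.exists_right_complement'_of_coprime hcop
  let H : Subgroup (MulAut S) := H'.map (F.autGroup S).subtype
  have hcard : Nat.card H = N.index := by
    rw [hH'.symm.index_eq_card]
    exact Nat.card_congr (H'.equivMapOfInjective _ (Subgroup.subtype_injective _)).symm.toEquiv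
  have hHc : (Nat.card H).Coprime p := by
    rw [hcard, Nat.coprime_comm]
    exact (Nat.Prime.coprime_iff_not_dvd hp.out).2 hpi
  obtain ⟨hcomm, hexp⟩ := hH H hHc
  let σ : H →* MulAut S := H.subtype
  obtain ⟨m, W, hW0, hWm, hWi, hWs⟩ := chain_from hS σ (fun a b => by
      have := hcomm.1.1 a b
      exact congrArg Subtype.val this) (fun a => hexp a a.2) (Nat.card S) ⊥ (by omega) inferInstance (by
      intro l x hx
      rw [Subgroup.mem_bot] at hx ⊢
      rw [hx, map_one])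
  refine ⟨m, fun i => (W i).map S.subtype, ?_, ?_, ?_, ?_⟩
  · show (W 0).map S.subtype = ⊥
    rw [hW0, Subgroup.map_bot]
  · show (W m).map S.subtype = S
    rw [hWm]
    ext x
    simp
  · intro i
    have hi : (i : ℕ) ≤ m := by omega
    obtain ⟨hn, hinv⟩ := hWi i hi
    refine ⟨?_, ?_⟩
    · rintro _ ⟨x, -, rfl⟩
      exact x.2
    · intro Q hQ φ hφ x
      have hQS : Q ≤ S := by
        intro y hy
        obtain ⟨z, -, rfl⟩ := hQ hy
        exact z.2
      obtain ⟨α, hα, hv⟩ := exists_aut_of_isNormal hN hQS hφ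
      rw [← hv x, fn_of_mem α (hQS x.2)]
      obtain ⟨z, hz, hzx⟩ := hQ x.2
      have hz' : z = ⟨x, hQS x.2⟩ := Subtype.ext hzx
      rw [hz'] at hz
      refine ⟨α ⟨x, hQS x.2⟩, ?_, rfl⟩
      obtain ⟨⟨⟨n, hnN⟩, ⟨h', hh'⟩⟩, he, -⟩ := hH'.existsUnique ⟨α, hα⟩
      have he' : (n : MulAut S) * (h' : MulAut S) = α := congrArg Subtype.val he
      have hnI : (n : MulAut S) ∈ Inn S := hnN
      obtain ⟨t, ht⟩ := hnI
      have hh'H : (h' : MulAut S) ∈ H := ⟨h', hh', rfl⟩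
      have h1 := hinv ⟨_, hh'H⟩ _ hz
      have h2 := hn.conj_mem _ h1 t
      rw [← he', MulAut.mul_apply, ← ht]
      exact h2
  · intro i
    obtain ⟨x, hx⟩ := hWs i i.2
    have hle' : W i ≤ W (i + 1) := by
      rw [hx]
      exact le_sup_left
    refine ⟨Subgroup.map_mono hle', x, x.2, ?_⟩
    show (W (i + 1)).map S.subtype = (W i).map S.subtype ⊔ Subgroup.zpowers (x : Ω)
    rw [hx, Subgroup.map_sup, MonoidHom.map_zpowers]
    rfl

end Fusion

end Cfsg.Agent.Lib.Fusion2.SuperSol
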