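/-
Automorphism groups of metacyclic `p`-groups.
-/
import Cfsg.Agent.Lib.Fusion2.SuperSol
import Cfsg.Agent.Lib.Fusion2.StrongRes
import Cfsg.Agent.Lib.TwoGroups.Present
import Cfsg.Agent.Lib.Basic.Frattini
import Mathlib.GroupTheory.SpecificGroups.Quaternion

set_option autoImplicit false
set_option linter.unusedSectionVars false

namespace Cfsg.Agent.Lib.Fusion2.SuperSol

open Cfsg Cfsg.FusionSystem Cfsg.Agent.Lib.Fusion

section Line

variable {X : Type*} [Group X] [Finite X] {p : ℕ} [hp : Fact p.Prime]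

/-- A characteristic line in the Frattini quotient. -/
theorem H_cond_of_line (hX : IsPGroup p X) {H : Subgroup (MulAut X)} (hH : (Nat.card H).Coprime p) (K : Subgroup X)
    (hKinv : ∀ g ∈ H, ∀ x ∈ K, g x ∈ K) {y₁ y₂ : X}
    (h1 : ∀ z ∈ K, ∃ k : ℤ, z * (y₁ ^ k)⁻¹ ∈ frattini X) (hy₁ : y₁ ∈ K) (h2 : ∀ z, ∃ k : ℤ, z * (y₂ ^ k)⁻¹ ∈ K) :
    IsMulCommutative H ∧ ∀ h ∈ H, h ^ (p - 1) = 1 := by
  let V := X ⧸ frattini X
  let π : X →* V := QuotientGroup.mk' (frattini X)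
  have hV : IsPGroup p V := hX.to_quotient _
  have hcommV := bar_comm hX
  let G : Subgroup (MulAut V) := H.map barAut
  have hG : (Nat.card G).Coprime p := Nat.Coprime.coprime_dvd_left (Subgroup.card_map_dvd _ _) hH
  let W : ℕ → Subgroup V := fun i => match i with
    | 0 => ⊥
    | 1 => K.map π
    | _ => ⊤
  have hmono : ∀ i < 2, W i ≤ W (i + 1) := by
    intro i hi
    interval_cases i
    · exact bot_le
    · exact le_top
  have hnorm : ∀ i < 2, ∀ a ∈ W (i + 1), ∀ x ∈ W i, a * x * a⁻¹ ∈ W i := by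
    intro i _ a _ x hx
    rw [hcommV a x]
    simpa using hx
  have hcyc : ∀ i < 2, ∃ y ∈ W (i + 1), ∀ z ∈ W (i + 1), ∃ k : ℤ, z * (y ^ k)⁻¹ ∈ W i := by
    intro i hi
    interval_cases i
    · refine ⟨π y₁, ⟨y₁, hy₁, rfl⟩, ?_⟩
      rintro _ ⟨w, hw, rfl⟩
      obtain ⟨k, hk⟩ := h1 w hw
      refine ⟨k, ?_⟩
      show _ ∈ (⊥ : Subgroup V)
      rw [Subgroup.mem_bot, ← map_zpow, ← map_inv, ← map_mul]
      exact (QuotientGroup.eq_one_iff _).2 hk
    · refine ⟨π y₂, trivial, ?_⟩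
      intro z _
      obtain ⟨w, rfl⟩ := QuotientGroup.mk'_surjective _ z
      obtain ⟨k, hk⟩ := h2 w
      refine ⟨k, ?_⟩
      rw [← map_zpow, ← map_inv, ← map_mul]
      exact ⟨_, hk, rfl⟩
  have hinv : ∀ g ∈ G, ∀ i ≤ 2, ∀ x ∈ W i, g x ∈ W i := by
    rintro _ ⟨g, hg, rfl⟩ i hi x hx
    interval_cases i
    · have : x = 1 := hx
      rw [this, map_one]
      exact Subgroup.one_mem _
    · obtain ⟨w, hw, rfl⟩ := hx
      exact ⟨g w, hKinv g hg w hw, rfl⟩
    · trivial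
  obtain ⟨hc, hexp⟩ := p'_of_chain hV W 2 rfl rfl hmono hnorm hcyc hinv hG
  have hone : ∀ g ∈ H, barAut g = (1 : MulAut V) → g = 1 := by
    intro g hg h1'
    apply aut_eq_one_of_frattini hX
    · have h5 : orderOf g ∣ Nat.card H := by
        have := orderOf_dvd_natCard (⟨g, hg⟩ : H)
        rwa [Subgroup.orderOf_mk] at this
      exact Nat.Coprime.coprime_dvd_left h5 hH
    · intro x
      have h3 := congrArg (fun β : MulAut V => β (x : V)) h1'
      simp only [barAut_mk, MulAut.one_apply] at h3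
      have h4 := QuotientGroup.eq.1 h3
      have h5 : g x * x⁻¹ = g x * ((g x)⁻¹ * x)⁻¹ * (g x)⁻¹ := by group
      rw [h5]
      exact (inferInstance : (frattini X).Normal).conj_mem _ ((frattini X).inv_mem h4) _
  refine ⟨⟨⟨fun a b => Subtype.ext ?_⟩⟩, fun h hh => ?_⟩
  · have hb := hc _ ⟨a, a.2, rfl⟩ _ ⟨b, b.2, rfl⟩
    have hh : (a : MulAut X) * b * (a : MulAut X)⁻¹ * (b : MulAut X)⁻¹ = 1 := by
      apply hone _ (H.mul_mem (H.mul_mem (H.mul_mem a.2 b.2) (H.inv_mem a.2)) (H.inv_mem b.2))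
      rw [map_mul, map_mul, map_mul, map_inv, map_inv, hb]
      group
    have e : (a : MulAut X) * b = (a : MulAut X) * b * (a : MulAut X)⁻¹ * (b : MulAut X)⁻¹ * (b * a) := by group
    show (a : MulAut X) * b = b * a
    rw [e, hh, one_mul]
  · apply hone _ (H.pow_mem hh _)
    rw [map_pow]
    exact hexp _ ⟨h, hh, rfl⟩

end Line

section Class2

variable {X : Type*} [Group X]

/-- The power formula in class two. -/
theorem mul_pow_class2 (x y : X) (hc : ∀ w : X, y * x * y⁻¹ * x⁻¹ * w = w * (y * x * y⁻¹ * x⁻¹)) (m : ℕ) :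
    (x * y) ^ m = x ^ m * y ^ m * (y * x * y⁻¹ * x⁻¹) ^ (m.choose 2) := by
  obtain ⟨c, hcdef⟩ : ∃ c, c = y * x * y⁻¹ * x⁻¹ := ⟨_, rfl⟩
  rw [← hcdef] at hc ⊢
  have hyx : y * x = c * x * y := by
    rw [hcdef]; group
  have hcom : ∀ (k : ℕ) (w : X), c ^ k * w = w * c ^ k := by
    intro k w
    induction k with
    | zero => simp
    | succ k ih =>
      rw [pow_succ, mul_assoc, hc w, ← mul_assoc, ih, mul_assoc]
  have hyp : ∀ k : ℕ, y ^ k * x = c ^ k * x * y ^ k := by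
    intro k
    induction k with
    | zero => simp
    | succ k ih =>
      have e1 : y ^ k * (c * x * y) = c * (y ^ k * x) * y := by
        have := hc (y ^ k)
        calc y ^ k * (c * x * y) = (y ^ k * c) * x * y := by simp only [mul_assoc]
          _ = (c * y ^ k) * x * y := by rw [hc]
          _ = c * (y ^ k * x) * y := by simp only [mul_assoc]
      rw [pow_succ, mul_assoc, hyx, e1, ih, pow_succ' c k]
      simp only [mul_assoc]
  induction m with
  | zero => simp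
  | succ m ih =>
    rw [pow_succ, ih]
    have e : (m + 1).choose 2 = m + m.choose 2 := by
      rw [Nat.choose_succ_succ' m 1, Nat.choose_one_right]
    rw [e, pow_add c m, pow_succ x m, pow_succ y m]
    calc x ^ m * y ^ m * c ^ m.choose 2 * (x * y) = x ^ m * (y ^ m * x) * y * c ^ m.choose 2 := by
          rw [mul_assoc (x ^ m * y ^ m), hcom _ (x * y)]
          simp only [mul_assoc]
      _ = x ^ m * (c ^ m * (x * y ^ m * y)) * c ^ m.choose 2 := by
          rw [hyp m]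
          simp only [mul_assoc]
      _ = x ^ m * ((x * y ^ m * y) * c ^ m) * c ^ m.choose 2 := by
          rw [hcom m]
      _ = _ := by simp only [mul_assoc]

end Class2

section CaseB

variable {X : Type*} [Group X] [Finite X] {p : ℕ} [hp : Fact p.Prime]

/-- The homocyclic group of rank 2. -/
abbrev Hm (p e : ℕ) : Type := Multiplicative (ZMod (p ^ e)) × Multiplicative (ZMod (p ^ e))

theorem mk_eq_iff {N : Subgroup X} [N.Normal] {x y : X} : (x : X ⧸ N) = y ↔ x * y⁻¹ ∈ N := by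
  rw [QuotientGroup.eq_iff_div_mem, div_eq_mul_inv]

/-- Two cyclic normal subgroups generating. -/
structure TwoCyc (a a' : X) : Prop where
  hrep : ∀ z, ∃ i j : ℤ, z = a ^ i * a' ^ j
  hN₁ : (Subgroup.zpowers a).Normal
  hN₂ : (Subgroup.zpowers a').Normal
  hc₁ : ∀ x y : X, x * y * x⁻¹ * y⁻¹ ∈ Subgroup.zpowers a
  hc₂ : ∀ x y : X, x * y * x⁻¹ * y⁻¹ ∈ Subgroup.zpowers a'

namespace TwoCyc

variable {a a' : X}

theorem central (h : TwoCyc a a') {w : X} (h₁ : w ∈ Subgroup.zpowers a) (h₂ : w ∈ Subgroup.zpowers a') (x : X) :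
    w * x = x * w := by
  obtain ⟨i, j, rfl⟩ := h.hrep x
  obtain ⟨r, rfl⟩ := Subgroup.mem_zpowers_iff.1 h₁
  obtain ⟨s, hs⟩ := Subgroup.mem_zpowers_iff.1 h₂
  have c1 : Commute (a ^ r) (a ^ i) := (Commute.refl a).zpow_zpow r i
  have c2 : Commute (a ^ r) (a' ^ j) := by
    rw [← hs]
    exact (Commute.refl a').zpow_zpow s j
  exact (c1.mul_right c2)

theorem comm_central (h : TwoCyc a a') (x y w : X) : x * y * x⁻¹ * y⁻¹ * w = w * (x * y * x⁻¹ * y⁻¹) :=
  h.central (h.hc₁ x y) (h.hc₂ x y) w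

/-- The homocyclic case. -/
theorem homocyclic (h : TwoCyc a a') {e : ℕ} (he : orderOf a = p ^ e) (he' : orderOf a' = p ^ e)
    (hD : ∀ w, w ∈ Subgroup.zpowers a → w ∈ Subgroup.zpowers a' → w = 1) : Nonempty (X ≃* Hm p e) := by
  have hca : Nat.card (Subgroup.zpowers a) = p ^ e := by rw [Nat.card_zpowers, he]
  have hca' : Nat.card (Subgroup.zpowers a') = p ^ e := by rw [Nat.card_zpowers, he']
  obtain ⟨e₁⟩ : Nonempty (Multiplicative (ZMod (p ^ e)) ≃* Subgroup.zpowers a) := by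
    rw [← hca]
    exact ⟨zmodCyclicMulEquiv inferInstance⟩
  obtain ⟨e₂⟩ : Nonempty (Multiplicative (ZMod (p ^ e)) ≃* Subgroup.zpowers a') := by
    rw [← hca']
    exact ⟨zmodCyclicMulEquiv inferInstance⟩
  let f₁ : Multiplicative (ZMod (p ^ e)) →* X := (Subgroup.zpowers a).subtype.comp e₁.toMonoidHom
  let f₂ : Multiplicative (ZMod (p ^ e)) →* X := (Subgroup.zpowers a').subtype.comp e₂.toMonoidHom
  have hm₁ : ∀ x, f₁ x ∈ Subgroup.zpowers a := fun x => (e₁ x).2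
  have hm₂ : ∀ x, f₂ x ∈ Subgroup.zpowers a' := fun x => (e₂ x).2
  have hcomm : ∀ m n, Commute (f₁ m) (f₂ n) := by
    intro m n
    have h1 := hD _ (h.hc₁ (f₁ m) (f₂ n)) (h.hc₂ (f₁ m) (f₂ n))
    show f₁ m * f₂ n = f₂ n * f₁ m
    have e : f₁ m * f₂ n = (f₁ m * f₂ n * (f₁ m)⁻¹ * (f₂ n)⁻¹) * (f₂ n * f₁ m) := by group
    rw [e, h1, one_mul]
  let φ : Hm p e →* X := MonoidHom.noncommCoprod f₁ f₂ hcomm
  have hφ : Function.Bijective φ := by
    constructor
    · rw [injective_iff_map_eq_one]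
      rintro ⟨m, n⟩ hmn
      have hmn' : f₁ m * f₂ n = 1 := hmn
      have h1 : f₁ m = (f₂ n)⁻¹ := eq_inv_of_mul_eq_one_left hmn'
      have h2 : f₁ m = 1 := hD _ (hm₁ m) (by
        rw [h1]
        exact Subgroup.inv_mem _ (hm₂ n))
      have h3 : f₂ n = 1 := by
        rw [h2, one_mul] at hmn'
        exact hmn'
      have hm1 : m = 1 := by
        apply e₁.injective
        rw [map_one]
        exact Subtype.ext h2
      have hn1 : n = 1 := by
        apply e₂.injective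
        rw [map_one]
        exact Subtype.ext h3
      rw [hm1, hn1]
      rfl
    · intro z
      obtain ⟨i, j, rfl⟩ := h.hrep z
      refine ⟨(e₁.symm ⟨a ^ i, Subgroup.zpow_mem_zpowers a i⟩, e₂.symm ⟨a' ^ j, Subgroup.zpow_mem_zpowers a' j⟩), ?_⟩
      show f₁ _ * f₂ _ = _
      simp [f₁, f₂]
  exact ⟨(MulEquiv.ofBijective φ hφ).symm⟩

/-- The number-theoretic input: `a ^ n` and `a' ^ n` generate the same subgroup. -/
theorem exists_pow_eq (hp' : p.Prime) {e : ℕ} (h2 : 1 ≤ e) (he : orderOf a = p ^ e) (he' : orderOf a' = p ^ e)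
    (hmem : a ^ (p ^ (e - 1)) ∈ Subgroup.zpowers a') : ∃ k : ℤ, a' ^ (p ^ (e - 1)) = (a ^ (p ^ (e - 1))) ^ k := by
  obtain ⟨n, hn⟩ : ∃ n, n = p ^ (e - 1) := ⟨_, rfl⟩
  have hpn : p ^ e = n * p := by
    rw [hn, ← pow_succ, Nat.sub_add_cancel h2]
  rw [← hn] at hmem ⊢
  obtain ⟨m, hm⟩ := Subgroup.mem_zpowers_iff.1 hmem
  have hap : (a ^ n) ^ p = 1 := by
    rw [← pow_mul, ← hpn, ← he, pow_orderOf_eq_one]
  have ha'p : (a' ^ n) ^ p = 1 := by
    rw [← pow_mul, ← hpn, ← he', pow_orderOf_eq_one]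
  have ha1 : a ^ n ≠ 1 := by
    intro h1
    have h3 := orderOf_dvd_of_pow_eq_one h1
    rw [he, hpn] at h3
    have hn0 : 0 < n := by
      rw [hn]
      exact pow_pos hp'.pos _
    have := Nat.le_of_dvd hn0 h3
    have h4 := hp'.two_le
    nlinarith
  have h3 : a' ^ (m * p) = 1 := by
    rw [zpow_mul, hm, zpow_natCast, hap]
  have h4 : ((p ^ e : ℕ) : ℤ) ∣ m * p := by
    rw [← he']
    exact orderOf_dvd_iff_zpow_eq_one.2 h3
  rw [hpn, Nat.cast_mul] at h4
  have hp0 : (p : ℤ) ≠ 0 := by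
    exact_mod_cast hp'.ne_zero
  obtain ⟨m', hm'⟩ := (mul_dvd_mul_iff_right hp0).1 h4
  have hw : (a' ^ n) ^ m' = a ^ n := by
    rw [← hm, hm', zpow_mul, zpow_natCast]
  have hpm : ¬ (p : ℤ) ∣ m' := by
    rintro ⟨l, rfl⟩
    apply ha1
    rw [← hw, zpow_mul, zpow_natCast, ha'p, one_zpow]
  have hcop : IsCoprime m' (p : ℤ) := by
    have := (Nat.prime_iff_prime_int.1 hp').coprime_iff_not_dvd.2 hpm
    exact this.symm
  obtain ⟨u, v, huv⟩ := hcop
  refine ⟨u, ?_⟩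
  rw [← hw, ← zpow_mul]
  have : m' * u = 1 - v * p := by linarith
  rw [this, zpow_sub, zpow_one, mul_comm v, zpow_mul, zpow_natCast, ha'p, one_zpow, inv_one, mul_one]

/-- All commutators are powers of one. -/
theorem exists_comm_zpow (h : TwoCyc a a') (x y : X) : ∃ k : ℤ, x * y * x⁻¹ * y⁻¹ = (a * a' * a⁻¹ * a'⁻¹) ^ k := by
  obtain ⟨z, hz⟩ : ∃ z, z = a * a' * a⁻¹ * a'⁻¹ := ⟨_, rfl⟩
  rw [← hz]
  haveI hnz : (Subgroup.zpowers z).Normal := by
    constructor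
    intro n hn g
    obtain ⟨k, rfl⟩ := Subgroup.mem_zpowers_iff.1 hn
    have hc : Commute (z ^ k) g := by
      apply Commute.zpow_left
      rw [hz]
      exact h.comm_central _ _ g
    rw [← hc.eq, mul_inv_cancel_right]
    exact Subgroup.zpow_mem_zpowers z k
  have hcab : Commute (a : X ⧸ Subgroup.zpowers z) (a' : X ⧸ Subgroup.zpowers z) := by
    have h1 : ((a * a' * a⁻¹ * a'⁻¹ : X) : X ⧸ Subgroup.zpowers z) = 1 := (QuotientGroup.eq_one_iff _).2 (hz ▸ Subgroup.mem_zpowers z)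
    have h2 : ((a * a' * a⁻¹ * a'⁻¹ : X) : X ⧸ Subgroup.zpowers z) =
      (a : X ⧸ Subgroup.zpowers z) * (a' : X ⧸ Subgroup.zpowers z) * (a : X ⧸ Subgroup.zpowers z)⁻¹ * (a' : X ⧸ Subgroup.zpowers z)⁻¹ := rfl
    rw [h2] at h1
    show _ * _ = _ * _
    have e : (a : X ⧸ Subgroup.zpowers z) * (a' : X ⧸ Subgroup.zpowers z) =
      ((a : X ⧸ Subgroup.zpowers z) * (a' : X ⧸ Subgroup.zpowers z) * (a : X ⧸ Subgroup.zpowers z)⁻¹ * (a' : X ⧸ Subgroup.zpowers z)⁻¹) * ((a' : X ⧸ Subgroup.zpowers z) * (a : X ⧸ Subgroup.zpowers z)) := by group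
    rw [e, h1, one_mul]
  obtain ⟨i, j, rfl⟩ := h.hrep x
  obtain ⟨r, s, rfl⟩ := h.hrep y
  have hmk : ∀ i j : ℤ, ((a ^ i * a' ^ j : X) : X ⧸ Subgroup.zpowers z) = (a : X ⧸ Subgroup.zpowers z) ^ i * (a' : X ⧸ Subgroup.zpowers z) ^ j := fun i j => rfl
  have hc : Commute ((a ^ i * a' ^ j : X) : X ⧸ Subgroup.zpowers z) ((a ^ r * a' ^ s : X) : X ⧸ Subgroup.zpowers z) := by
    rw [hmk, hmk]
    apply Commute.mul_left
    · apply Commute.mul_right
      · exact (Commute.refl _).zpow_zpow _ _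
      · exact hcab.zpow_zpow _ _
    · apply Commute.mul_right
      · exact hcab.symm.zpow_zpow _ _
      · exact (Commute.refl _).zpow_zpow _ _
  have h3 : ((a ^ i * a' ^ j * (a ^ r * a' ^ s) * (a ^ i * a' ^ j)⁻¹ * (a ^ r * a' ^ s)⁻¹ : X) : X ⧸ Subgroup.zpowers z) = 1 := by
    have e : ((a ^ i * a' ^ j * (a ^ r * a' ^ s) * (a ^ i * a' ^ j)⁻¹ * (a ^ r * a' ^ s)⁻¹ : X) : X ⧸ Subgroup.zpowers z) =
      ((a ^ i * a' ^ j : X) : X ⧸ Subgroup.zpowers z) * ((a ^ r * a' ^ s : X) : X ⧸ Subgroup.zpowers z) * ((a ^ i * a' ^ j : X) : X ⧸ Subgroup.zpowers z)⁻¹ * ((a ^ r * a' ^ s : X) : X ⧸ Subgroup.zpowers z)⁻¹ := rfl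
    rw [e, hc.eq]
    group
  obtain ⟨k, hk⟩ := Subgroup.mem_zpowers_iff.1 ((QuotientGroup.eq_one_iff _).1 h3)
  exact ⟨k, hk.symm⟩

/-- The characteristic line. -/
theorem line (hX : IsPGroup p X) (h : TwoCyc a a') {e : ℕ} (h2 : 1 ≤ e) (he : orderOf a = p ^ e) (he' : orderOf a' = p ^ e)
    (hmem : a ^ (p ^ (e - 1)) ∈ Subgroup.zpowers a')
    (hzc : (a * a' * a⁻¹ * a'⁻¹) ^ ((p ^ (e - 1)).choose 2) = 1) :
    ∃ (K : Subgroup X) (y₁ y₂ : X), (∀ g : MulAut X, ∀ x ∈ K, g x ∈ K) ∧ (∀ z ∈ K, ∃ k : ℤ, z * (y₁ ^ k)⁻¹ ∈ frattini X) ∧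
        y₁ ∈ K ∧ ∀ z, ∃ k : ℤ, z * (y₂ ^ k)⁻¹ ∈ K := by
  have hpp := hp.out
  obtain ⟨k₀, hk₀⟩ := exists_pow_eq hpp h2 he he' hmem
  obtain ⟨n, hn⟩ : ∃ n, n = p ^ (e - 1) := ⟨_, rfl⟩
  rw [← hn] at hk₀ hzc
  have hpn : p ^ e = n * p := by
    rw [hn, ← pow_succ, Nat.sub_add_cancel h2]
  have hhom : ∀ x y : X, (x * y) ^ n = x ^ n * y ^ n := by
    intro x y
    rw [mul_pow_class2 x y (h.comm_central y x) n]
    obtain ⟨k, hk⟩ := h.exists_comm_zpow y x
    have h5 : ((a * a' * a⁻¹ * a'⁻¹) ^ k) ^ n.choose 2 = 1 := by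
      rw [← zpow_natCast, ← zpow_mul, mul_comm, zpow_mul, zpow_natCast, hzc, one_zpow]
    rw [hk, h5, mul_one]
  let f : X →* X := MonoidHom.mk' (fun x => x ^ n) hhom
  have hf : ∀ x, f x = x ^ n := fun x => rfl
  have hrepf : ∀ i j : ℤ, f (a ^ i * a' ^ j) = (a ^ n) ^ (i + k₀ * j) := by
    intro i j
    rw [map_mul, map_zpow, map_zpow, hf, hf, hk₀, ← zpow_mul, zpow_add]
  let c₀ : X := a' * (a ^ k₀)⁻¹
  have hc₀ : f c₀ = 1 := by
    show f (a' * (a ^ k₀)⁻¹) = 1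
    rw [map_mul, map_inv, map_zpow, hf, hf, hk₀, mul_inv_cancel]
  refine ⟨f.ker, c₀, a, ?_, ?_, hc₀, ?_⟩
  · intro g x hx
    rw [MonoidHom.mem_ker] at hx ⊢
    rw [hf] at hx ⊢
    rw [← map_pow, hx, map_one]
  · intro z hz
    rw [MonoidHom.mem_ker] at hz
    obtain ⟨i, j, rfl⟩ := h.hrep z
    rw [hrepf, ← zpow_natCast, ← zpow_mul] at hz
    have h4 := orderOf_dvd_iff_zpow_eq_one.2 hz
    rw [he, hpn, Nat.cast_mul] at h4
    have hn0 : (n : ℤ) ≠ 0 := by
      have : 0 < n := by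
        rw [hn]
        exact pow_pos hpp.pos _
      exact_mod_cast this.ne'
    obtain ⟨l, hl⟩ := (mul_dvd_mul_iff_left hn0).1 h4
    refine ⟨j, ?_⟩
    have hcomm := bar_comm hX
    letI : CommGroup (X ⧸ frattini X) := { (inferInstance : Group (X ⧸ frattini X)) with mul_comm := hcomm }
    rw [← QuotientGroup.eq_one_iff]
    have hak : ((a : X) : X ⧸ frattini X) ^ (p : ℤ) = 1 := by
      rw [zpow_natCast]
      exact bar_exp hX _
    have hc₀' : ((a' : X) : X ⧸ frattini X) = ((c₀ : X) : X ⧸ frattini X) * ((a : X) : X ⧸ frattini X) ^ k₀ := by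
      have : a' = c₀ * a ^ k₀ := by
        show a' = a' * (a ^ k₀)⁻¹ * a ^ k₀
        group
      conv_lhs => rw [this]
      rfl
    have e1 : ((a ^ i * a' ^ j * (c₀ ^ j)⁻¹ : X) : X ⧸ frattini X) =
      ((a : X) : X ⧸ frattini X) ^ i * ((a' : X) : X ⧸ frattini X) ^ j * (((c₀ : X) : X ⧸ frattini X) ^ j)⁻¹ := rfl
    rw [e1, hc₀', mul_zpow, ← zpow_mul]
    have e2 : ((a : X) : X ⧸ frattini X) ^ i * (((c₀ : X) : X ⧸ frattini X) ^ j * ((a : X) : X ⧸ frattini X) ^ (k₀ * j)) * (((c₀ : X) : X ⧸ frattini X) ^ j)⁻¹ =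
       ((a : X) : X ⧸ frattini X) ^ (i + k₀ * j) := by
      rw [zpow_add]
      simp only [mul_comm, mul_left_comm, mul_assoc]
      rw [mul_comm (((c₀ : X) : X ⧸ frattini X) ^ j)]
      simp
    rw [e2, hl, zpow_mul, hak, one_zpow]
  · intro z
    obtain ⟨i, j, rfl⟩ := h.hrep z
    refine ⟨i + k₀ * j, ?_⟩
    rw [MonoidHom.mem_ker, map_mul, hrepf, map_inv, map_zpow, hf, mul_inv_cancel]

theorem zpow_of_sq {w : X} (hw : w * w = 1) (k : ℤ) : w ^ k = 1 ∨ w ^ k = w := by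
  obtain ⟨l, rfl | rfl⟩ := Int.even_or_odd' k
  · left
    rw [zpow_mul, zpow_two, hw, one_zpow]
  · right
    rw [zpow_add, zpow_mul, zpow_two, hw, one_zpow, one_mul, zpow_one]

/-- The quaternion case. -/
theorem quaternion (h : TwoCyc a a') (he : orderOf a = 2 ^ 2) (he' : orderOf a' = 2 ^ 2)
    (hs : haveI := h.hN₂; orderOf ((a : X) : X ⧸ Subgroup.zpowers a') = 2) (hz : a * a' * a⁻¹ * a'⁻¹ ≠ 1) :
    Nonempty (X ≃* QuaternionGroup 2) := by
  haveI hN₂ := h.hN₂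
  have hsmem : ∀ k : ℤ, a ^ k ∈ Subgroup.zpowers a' ↔ (2 : ℤ) ∣ k := by
    intro k
    have : (2 : ℤ) = ((orderOf ((a : X) : X ⧸ Subgroup.zpowers a') : ℕ) : ℤ) := by rw [hs]; rfl
    rw [this, orderOf_dvd_iff_zpow_eq_one, ← QuotientGroup.mk_zpow, QuotientGroup.eq_one_iff]
  haveI : Fact (Nat.Prime 2) := ⟨Nat.prime_two⟩
  have ha2 : a ^ (2 : ℕ) ∈ Subgroup.zpowers a' := by
    have := (hsmem 2).2 dvd_rfl
    simpa using this
  obtain ⟨k₀, hk₀⟩ := exists_pow_eq (p := 2) (e := 2) Nat.prime_two (by norm_num) he he' (by simpa using ha2)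
  have ha4 : a ^ 4 = 1 := by
    have := pow_orderOf_eq_one a
    rwa [he] at this
  have ha'4 : a' ^ 4 = 1 := by
    have := pow_orderOf_eq_one a'
    rwa [he'] at this
  have hw2 : a ^ 2 * a ^ 2 = 1 := by
    rw [← pow_add]
    exact ha4
  have ha'a : a' ^ 2 = a ^ 2 := by
    have hk : a' ^ 2 = (a ^ 2) ^ k₀ := by simpa using hk₀
    rcases zpow_of_sq hw2 k₀ with h1 | h1
    · exfalso
      rw [h1] at hk
      have h2 := orderOf_dvd_of_pow_eq_one hk
      rw [he'] at h2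
      norm_num at h2
    · rw [hk, h1]
  have hzz : a * a' * a⁻¹ * a'⁻¹ = a ^ 2 := by
    obtain ⟨r, hr⟩ := Subgroup.mem_zpowers_iff.1 (h.hc₁ a a')
    have h2 : a ^ r ∈ Subgroup.zpowers a' := by
      rw [hr]
      exact h.hc₂ a a'
    obtain ⟨r', rfl⟩ := (hsmem r).1 h2
    have e : a ^ ((2 : ℤ) * r') = (a ^ 2) ^ r' := by
      rw [zpow_mul, zpow_ofNat]
    rw [e] at hr
    rcases zpow_of_sq hw2 r' with h1 | h1
    · exact absurd (hr.symm.trans h1) hz
    · rw [← hr, h1]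
  have h3 : a * a' * a⁻¹ = a'⁻¹ := by
    have e1 : a * a' * a⁻¹ = (a * a' * a⁻¹ * a'⁻¹) * a' := by group
    rw [e1, hzz, ← ha'a]
    apply eq_inv_of_mul_eq_one_left
    have e4 : a' ^ 2 * a' * a' = a' ^ 4 := by
      simp only [pow_succ, pow_zero, one_mul, mul_assoc]
    rw [e4]
    exact ha'4
  have haa : a * a = a' ^ 2 := by
    rw [ha'a, pow_two]
  have hcard : Nat.card (X ⧸ Subgroup.zpowers a') = 2 := by
    rw [← hs]
    symm
    apply orderOf_eq_card_of_forall_mem_zpowers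
    intro q
    induction q using QuotientGroup.induction_on with
    | H z =>
      obtain ⟨i, j, rfl⟩ := h.hrep z
      refine ⟨i, ?_⟩
      show ((a : X) : X ⧸ Subgroup.zpowers a') ^ i = _
      rw [← QuotientGroup.mk_zpow, mk_eq_iff]
      have : a ^ i * (a ^ i * a' ^ j)⁻¹ = a ^ i * (a' ^ j)⁻¹ * (a ^ i)⁻¹ := by group
      rw [this]
      exact hN₂.conj_mem _ (Subgroup.inv_mem _ (Subgroup.zpow_mem_zpowers a' j)) _
  have hcX : Nat.card X = 8 := by
    rw [Subgroup.card_eq_card_quotient_mul_card_subgroup (Subgroup.zpowers a'), hcard, Nat.card_zpowers, he']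
    norm_num
  have hnot : a ∉ Subgroup.zpowers a' := by
    intro hm
    have := (hsmem 1).1 (by simpa using hm)
    norm_num at this
  haveI : NeZero 2 := ⟨by norm_num⟩
  exact Cfsg.Agent.Lib.TwoGroups.nonempty_mulEquiv_quaternion_of (m := 2) a' a (by rw [he']; norm_num) haa h3 hnot hcX

end TwoCyc

/-- Outcome of the two generator analysis. -/
theorem exists_line_or (hX : IsPGroup p X) {a b : X} (hN : (Subgroup.zpowers a).Normal)
    (hb : ∀ z, ∃ k : ℤ, z * (b ^ k)⁻¹ ∈ Subgroup.zpowers a) (h : MulAut X)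
    (ha' : h a ∉ Subgroup.zpowers a ⊔ frattini X) :
    (∃ e : ℕ, 0 < e ∧ Nonempty (X ≃* Hm p e)) ∨ (p = 2 ∧ Nonempty (X ≃* QuaternionGroup 2)) ∨
      ∃ (K : Subgroup X) (y₁ y₂ : X), (∀ g : MulAut X, ∀ x ∈ K, g x ∈ K) ∧ (∀ z ∈ K, ∃ k : ℤ, z * (y₁ ^ k)⁻¹ ∈ frattini X) ∧
        y₁ ∈ K ∧ ∀ z, ∃ k : ℤ, z * (y₂ ^ k)⁻¹ ∈ K := by
  classical
  have hpp := hp.out
  obtain ⟨a', ha'def⟩ : ∃ a', a' = h a := ⟨_, rfl⟩
  rw [← ha'def] at ha'
  haveI := hN
  have hqcom : ∀ x y : X, x * y * x⁻¹ * y⁻¹ ∈ Subgroup.zpowers a := by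
    intro x y
    obtain ⟨i, hi⟩ := hb x
    obtain ⟨j, hj⟩ := hb y
    rw [← QuotientGroup.eq_one_iff]
    have hx : (x : X ⧸ Subgroup.zpowers a) = ((b : X) : X ⧸ Subgroup.zpowers a) ^ i := by
      rw [← QuotientGroup.mk_zpow, mk_eq_iff]
      exact hi
    have hy : (y : X ⧸ Subgroup.zpowers a) = ((b : X) : X ⧸ Subgroup.zpowers a) ^ j := by
      rw [← QuotientGroup.mk_zpow, mk_eq_iff]
      exact hj
    have e : ((x * y * x⁻¹ * y⁻¹ : X) : X ⧸ Subgroup.zpowers a) = (x : X ⧸ Subgroup.zpowers a) * (y : X ⧸ Subgroup.zpowers a) * (x : X ⧸ Subgroup.zpowers a)⁻¹ * (y : X ⧸ Subgroup.zpowers a)⁻¹ := rfl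
    rw [e, hx, hy, ← zpow_add, ← zpow_neg, ← zpow_neg, ← zpow_add, ← zpow_add]
    have : i + j + -i + -j = 0 := by ring
    rw [this, zpow_zero]
  have hp0 : (p : ℤ) ≠ 0 := by exact_mod_cast hpp.ne_zero
  -- `X = N₁ N₂`
  have hrep : ∀ z, ∃ i j : ℤ, z = a ^ i * a' ^ j := by
    obtain ⟨j₀, hj₀⟩ := hb a'
    have hpj : ¬ (p : ℤ) ∣ j₀ := by
      rintro ⟨l, rfl⟩
      apply ha'
      have e : a' = (a' * (b ^ ((p : ℤ) * l))⁻¹) * b ^ ((p : ℤ) * l) := by group
      rw [e]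
      refine Subgroup.mul_mem _ (Subgroup.mem_sup_left hj₀) (Subgroup.mem_sup_right ?_)
      rw [zpow_mul, zpow_natCast]
      exact Subgroup.zpow_mem _ (Cfsg.Agent.Lib.Basic.pow_mem_frattini_of_isPGroup hX b) _
    obtain ⟨c, hc⟩ := hX b
    have hcop : IsCoprime j₀ ((p ^ c : ℕ) : ℤ) := by
      have h1 := (Nat.prime_iff_prime_int.1 hpp).coprime_iff_not_dvd.2 hpj
      have h2 : IsCoprime j₀ (p : ℤ) := h1.symm
      rw [Nat.cast_pow]
      exact h2.pow_right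
    obtain ⟨u, v, huv⟩ := hcop
    have hbu : ((b : X) : X ⧸ Subgroup.zpowers a) = ((a' : X) : X ⧸ Subgroup.zpowers a) ^ u := by
      have h1 : ((a' : X) : X ⧸ Subgroup.zpowers a) = ((b : X) : X ⧸ Subgroup.zpowers a) ^ j₀ := by
        rw [← QuotientGroup.mk_zpow, mk_eq_iff]
        exact hj₀
      rw [h1, ← zpow_mul, ← QuotientGroup.mk_zpow, mk_eq_iff]
      have e1 : j₀ * u = 1 - v * ((p ^ c : ℕ) : ℤ) := by linarith
      have e2 : b ^ (j₀ * u) = b := by
        rw [e1, zpow_sub, zpow_one, mul_comm v, zpow_mul, zpow_natCast, hc, one_zpow, inv_one, mul_one]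
      rw [e2, mul_inv_cancel]
      exact Subgroup.one_mem _
    intro z
    obtain ⟨k, hk⟩ := hb z
    have hz : (z : X ⧸ Subgroup.zpowers a) = ((a' : X) : X ⧸ Subgroup.zpowers a) ^ (u * k) := by
      have : (z : X ⧸ Subgroup.zpowers a) = ((b : X) : X ⧸ Subgroup.zpowers a) ^ k := by
        rw [← QuotientGroup.mk_zpow, mk_eq_iff]
        exact hk
      rw [this, hbu, ← zpow_mul]
    rw [← QuotientGroup.mk_zpow, mk_eq_iff] at hz
    obtain ⟨i, hi⟩ := Subgroup.mem_zpowers_iff.1 hz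
    refine ⟨i, u * k, ?_⟩
    rw [hi]
    group
  have hN₂ : (Subgroup.zpowers a').Normal := by
    constructor
    intro n hn g
    obtain ⟨k, rfl⟩ := Subgroup.mem_zpowers_iff.1 hn
    obtain ⟨m, hm⟩ := Subgroup.mem_zpowers_iff.1 (hN.conj_mem (a ^ k) (Subgroup.zpow_mem_zpowers a k) (h⁻¹ g))
    have e : g * a' ^ k * g⁻¹ = h (h⁻¹ g * a ^ k * (h⁻¹ g)⁻¹) := by
      rw [ha'def]
      simp
    rw [e, ← hm, map_zpow, ← ha'def]
    exact Subgroup.zpow_mem_zpowers a' m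
  have hqcom₂ : ∀ x y : X, x * y * x⁻¹ * y⁻¹ ∈ Subgroup.zpowers a' := by
    intro x y
    obtain ⟨k, hk⟩ := Subgroup.mem_zpowers_iff.1 (hqcom (h⁻¹ x) (h⁻¹ y))
    have e : x * y * x⁻¹ * y⁻¹ = h (h⁻¹ x * h⁻¹ y * (h⁻¹ x)⁻¹ * (h⁻¹ y)⁻¹) := by simp
    rw [e, ← hk, map_zpow, ← ha'def]
    exact Subgroup.zpow_mem_zpowers a' k
  have hT : TwoCyc a a' := ⟨hrep, hN, hN₂, hqcom, hqcom₂⟩
  obtain ⟨e, he⟩ : ∃ e, orderOf a = p ^ e := by
    obtain ⟨k, hk⟩ := hX a
    obtain ⟨j, -, hj⟩ := (Nat.dvd_prime_pow hpp).1 (orderOf_dvd_of_pow_eq_one hk)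
    exact ⟨j, hj⟩
  have he' : orderOf a' = p ^ e := by
    rw [ha'def, MulEquiv.orderOf_eq, he]
  haveI := hN₂
  obtain ⟨s, hs⟩ : ∃ s, s = orderOf ((a : X) : X ⧸ Subgroup.zpowers a') := ⟨_, rfl⟩
  have hsmem : ∀ k : ℤ, a ^ k ∈ Subgroup.zpowers a' ↔ (s : ℤ) ∣ k := by
    intro k
    rw [hs, orderOf_dvd_iff_zpow_eq_one, ← QuotientGroup.mk_zpow, QuotientGroup.eq_one_iff]
  have hsd : s ∣ p ^ e := by
    have := (hsmem ((p ^ e : ℕ) : ℤ)).1 (by
      rw [zpow_natCast, ← he, pow_orderOf_eq_one]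
      exact Subgroup.one_mem _)
    exact_mod_cast this
  obtain ⟨u, hue, hsu⟩ := (Nat.dvd_prime_pow hpp).1 hsd
  have hu0 : u ≠ 0 := by
    rintro rfl
    rw [pow_zero] at hsu
    have h1 : a ∈ Subgroup.zpowers a' := by
      have := (hsmem 1).2 (by rw [hsu]; simp)
      simpa using this
    have h2 : Subgroup.zpowers a ≤ Subgroup.zpowers a' := Subgroup.zpowers_le.2 h1
    have h3 : Subgroup.zpowers a = Subgroup.zpowers a' := Subgroup.eq_of_le_of_card_ge h2 (by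
      rw [Nat.card_zpowers, Nat.card_zpowers, he, he'])
    apply ha'
    apply Subgroup.mem_sup_left
    rw [h3]
    exact Subgroup.mem_zpowers a'
  have he0 : 0 < e := by omega
  rcases Nat.lt_or_ge u e with hlt | hge
  · have he2 : 2 ≤ e := by omega
    have hmem : a ^ (p ^ (e - 1)) ∈ Subgroup.zpowers a' := by
      have := (hsmem ((p ^ (e - 1) : ℕ) : ℤ)).2 (by
        rw [hsu]
        exact_mod_cast pow_dvd_pow p (by omega : u ≤ e - 1))
      rwa [zpow_natCast] at this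
    obtain ⟨z, hz⟩ : ∃ z, z = a * a' * a⁻¹ * a'⁻¹ := ⟨_, rfl⟩
    have hzN₁ : z ∈ Subgroup.zpowers a := hz ▸ hqcom a a'
    have hzN₂ : z ∈ Subgroup.zpowers a' := hz ▸ hqcom₂ a a'
    have hz1 : z ^ (p ^ (e - u)) = 1 := by
      obtain ⟨r, hr⟩ := Subgroup.mem_zpowers_iff.1 hzN₁
      have h1 := (hsmem r).1 (by rw [hr]; exact hzN₂)
      rw [hsu] at h1
      obtain ⟨r', rfl⟩ := h1
      rw [← hr, ← zpow_natCast, ← zpow_mul]
      have e1 : (((p ^ u : ℕ) : ℤ) * r') * ((p ^ (e - u) : ℕ) : ℤ) = ((p ^ e : ℕ) : ℤ) * r' := by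
        have : p ^ e = p ^ u * p ^ (e - u) := by
          rw [← pow_add]
          congr 1
          omega
        rw [this]
        push_cast
        ring
      rw [e1, zpow_mul, zpow_natCast, ← he, pow_orderOf_eq_one, one_zpow]
    have hz2 : z ^ (p ^ u) = 1 := by
      have hcent : ∀ w, z * w = w * z := fun w => by
        rw [hz]
        exact hT.comm_central a a' w
      have hpowc : ∀ m : ℕ, a ^ m * a' * (a ^ m)⁻¹ * a'⁻¹ = z ^ m := by
        intro m
        induction m with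
        | zero => simp
        | succ m ih =>
          have e1 : a ^ (m + 1) * a' * (a ^ (m + 1))⁻¹ * a'⁻¹ = a * (a ^ m * a' * (a ^ m)⁻¹ * a'⁻¹) * a' * a⁻¹ * a'⁻¹ := by
            rw [pow_succ' a m]
            group
          rw [e1, ih, pow_succ]
          have e2 : a * z ^ m = z ^ m * a := by
            have : Commute (z ^ m) a := Commute.pow_left (hcent a) m
            exact this.eq.symm
          rw [e2, hz]
          simp only [mul_assoc]
      rw [← hpowc]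
      have h1 : a ^ (p ^ u) ∈ Subgroup.zpowers a' := by
        have := (hsmem ((p ^ u : ℕ) : ℤ)).2 (by rw [hsu])
        rwa [zpow_natCast] at this
      have h2 := hT.central (Subgroup.npow_mem_zpowers a _) h1 a'
      have e1 : a ^ p ^ u * a' * (a ^ p ^ u)⁻¹ * a'⁻¹ = (a ^ p ^ u * a') * (a' * a ^ p ^ u)⁻¹ := by group
      rw [e1, h2, mul_inv_cancel]
    by_cases hzc : z ^ ((p ^ (e - 1)).choose 2) = 1
    · right; right
      exact hT.line hX (by omega) he he' hmem (hz ▸ hzc)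
    · -- must be `Q₈`
      have hp2 : p = 2 ∧ e = 2 := by
        by_contra hcon
        apply hzc
        rw [Nat.choose_two_right]
        obtain ⟨n, hn⟩ : ∃ n, n = p ^ (e - 1) := ⟨_, rfl⟩
        rw [← hn]
        by_cases hpo : p = 2
        · subst hpo
          have he3 : 3 ≤ e := by
            by_contra h3
            apply hcon
            exact ⟨rfl, by omega⟩
          obtain ⟨n', hn'⟩ : ∃ n', n' = 2 ^ (e - 2) := ⟨_, rfl⟩
          have e1 : n = 2 * n' := by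
            rw [hn, hn', ← pow_succ']
            congr 1
            omega
          have e2 : n * (n - 1) / 2 = n' * (n - 1) := by
            rw [e1, mul_assoc]
            exact Nat.mul_div_cancel_left _ (by norm_num)
          rw [e2, pow_mul]
          have h3 : z ^ n' = 1 := by
            rw [hn']
            by_cases hu2 : u ≤ e - 2
            · exact (orderOf_dvd_iff_pow_eq_one.1 ((orderOf_dvd_of_pow_eq_one hz2).trans (pow_dvd_pow 2 hu2)))
            · exact (orderOf_dvd_iff_pow_eq_one.1 ((orderOf_dvd_of_pow_eq_one hz1).trans (pow_dvd_pow 2 (by omega))))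
          rw [h3, one_pow]
        · have hodd : Odd p := hpp.odd_of_ne_two hpo
          have hno : Odd n := by
            rw [hn]
            exact hodd.pow
          obtain ⟨m, hm⟩ := hno
          have e2 : n * (n - 1) / 2 = n * m := by
            have : n - 1 = 2 * m := by omega
            rw [this, mul_left_comm]
            exact Nat.mul_div_cancel_left _ (by norm_num)
          rw [e2, pow_mul]
          have h3 : z ^ n = 1 := by
            rw [hn]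
            exact (orderOf_dvd_iff_pow_eq_one.1 ((orderOf_dvd_of_pow_eq_one hz1).trans (pow_dvd_pow p (by omega))))
          rw [h3, one_pow]
      obtain ⟨rfl, rfl⟩ := hp2
      right; left
      refine ⟨rfl, hT.quaternion he he' ?_ ?_⟩
      · have hu1 : u = 1 := by omega
        rw [← hs, hsu, hu1]
        norm_num
      · rw [← hz]
        intro h1
        apply hzc
        rw [h1, one_pow]
  · left
    have hue' : u = e := by omega
    subst hue'
    refine ⟨u, he0, hT.homocyclic he he' ?_⟩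
    intro w hw1 hw2
    obtain ⟨r, rfl⟩ := Subgroup.mem_zpowers_iff.1 hw1
    have h1 := (hsmem r).1 hw2
    rw [hsu] at h1
    rw [← he] at h1
    exact orderOf_dvd_iff_zpow_eq_one.1 h1

end CaseB

/-- The main theorem on `p'`-automorphism groups of metacyclic `p`-groups. -/
theorem metacyclic_H_cond {X : Type*} [Group X] [Finite X] {p : ℕ} [hp : Fact p.Prime] (hX : IsPGroup p X)
    (hm : IsMetacyclic X) (hh : ¬ ∃ e : ℕ, 0 < e ∧ Nonempty (X ≃* Hm p e))
    (hq : ¬ (p = 2 ∧ Nonempty (X ≃* QuaternionGroup 2))) {H : Subgroup (MulAut X)} (hH : (Nat.card H).Coprime p) :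
    IsMulCommutative H ∧ ∀ h ∈ H, h ^ (p - 1) = 1 := by
  obtain ⟨N, hNn, hNc, hQc⟩ := hm
  obtain ⟨a₀, ha₀⟩ := IsCyclic.exists_generator (α := N)
  have hNa : N = Subgroup.zpowers (a₀ : X) := by
    refine le_antisymm ?_ (Subgroup.zpowers_le.2 a₀.2)
    intro x hx
    obtain ⟨k, hk⟩ := Subgroup.mem_zpowers_iff.1 (ha₀ ⟨x, hx⟩)
    have := congrArg Subtype.val hk
    exact ⟨k, by simpa using this⟩
  obtain ⟨q, hq'⟩ := IsCyclic.exists_generator (α := X ⧸ N)
  obtain ⟨b, rfl⟩ := QuotientGroup.mk_surjective q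
  have hb : ∀ z, ∃ k : ℤ, z * (b ^ k)⁻¹ ∈ N := by
    intro z
    obtain ⟨k, hk⟩ := Subgroup.mem_zpowers_iff.1 (hq' (z : X ⧸ N))
    refine ⟨k, ?_⟩
    rw [← QuotientGroup.mk_zpow] at hk
    exact mk_eq_iff.1 hk.symm
  obtain ⟨a, ha⟩ : ∃ a : X, a = a₀ := ⟨_, rfl⟩
  rw [← ha] at hNa
  subst hNa
  by_cases hA : ∀ h ∈ H, h a ∈ Subgroup.zpowers a ⊔ frattini X
  · refine H_cond_of_line hX hH (Subgroup.zpowers a ⊔ frattini X) ?_ (y₁ := a) (y₂ := b) ?_ (Subgroup.mem_sup_left (Subgroup.mem_zpowers a)) ?_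
    · intro g hg x hx
      have hle : Subgroup.zpowers a ⊔ frattini X ≤ (Subgroup.zpowers a ⊔ frattini X).comap g.toMonoidHom := by
        refine sup_le (Subgroup.zpowers_le.2 (hA g hg)) ?_
        intro y hy
        apply Subgroup.mem_sup_right
        have : (frattini X).comap g.toMonoidHom = frattini X := (inferInstance : (frattini X).Characteristic).fixed g
        rw [← this] at hy
        exact hy
      exact hle hx
    · intro z hz
      have hnorm : (Subgroup.zpowers a : Subgroup X) ≤ Subgroup.normalizer (frattini X : Set X) := by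
        rw [Subgroup.normalizer_eq_top]
        exact le_top
      obtain ⟨u, hu, w, hw, rfl⟩ := exists_mul_of_mem_sup hnorm hz
      obtain ⟨k, rfl⟩ := Subgroup.mem_zpowers_iff.1 hu
      refine ⟨k, ?_⟩
      have e : a ^ k * w * (a ^ k)⁻¹ = a ^ k * w * (a ^ k)⁻¹ := rfl
      exact (inferInstance : (frattini X).Normal).conj_mem _ hw _
    · intro z
      obtain ⟨k, hk⟩ := hb z
      exact ⟨k, Subgroup.mem_sup_left hk⟩
  · push Not at hA
    obtain ⟨h, hhH, hh'⟩ := hA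
    rcases exists_line_or hX hNn hb h hh' with h1 | h1 | ⟨K, y₁, y₂, hK, h1, hy, h2⟩
    · exact absurd h1 hh
    · exact absurd h1 hq
    · exact H_cond_of_line hX hH K (fun g _ x hx => hK g x hx) h1 hy h2

end Cfsg.Agent.Lib.Fusion2.SuperSol
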