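/-
Saturated fusion systems on metacyclic `2`-groups.
-/
import Cfsg.Agent.Lib.Fusion2.MetaAut
import Cfsg.Agent.Lib.Fusion2.Meta2F

set_option autoImplicit false
set_option linter.unusedSectionVars false

namespace Cfsg.Agent.Lib.Fusion2.SuperSol

open Cfsg Cfsg.FusionSystem Cfsg.Agent.Lib.Fusion

variable {Ω : Type*} [Group Ω] {S : Subgroup Ω} {F : FusionSystem S} {p : ℕ} [hp : Fact p.Prime] [Finite S]

/-- `Aut_F(S) = Inn(S) H` for a `p'`-group `H`. -/
theorem exists_complement_aut (hS : IsPGroup p S) (hF : F.IsSaturated p) :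
    ∃ H : Subgroup (MulAut S), (Nat.card H).Coprime p ∧ ∀ α ∈ F.autGroup S, ∃ t : S, ∃ h ∈ H, α = MulAut.conj t * h := by
  classical
  obtain ⟨-, R, hR⟩ := (fullyNormalized_spec hS hF fullyNormalized_self).2
  rw [inn_eq_autInducedBy_top] at hR
  let N : Subgroup (F.autGroup S) := (Inn S).subgroupOf (F.autGroup S)
  haveI hNn : N.Normal := inferInstance
  have hcop : (Nat.card N).Coprime N.index := by
    have := Sylow.card_coprime_index R
    rwa [hR] at this
  have hpi : ¬ p ∣ N.index := by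
    have := R.not_dvd_index
    rwa [hR] at this
  obtain ⟨H', hH'⟩ := Subgroup.exists_right_complement'_of_coprime hcop
  let H : Subgroup (MulAut S) := H'.map (F.autGroup S).subtype
  have hcard : Nat.card H = N.index := by
    rw [hH'.symm.index_eq_card]
    exact Nat.card_congr (H'.equivMapOfInjective _ (Subgroup.subtype_injective _)).symm.toEquiv
  refine ⟨H, ?_, fun α hα => ?_⟩
  · rw [hcard, Nat.coprime_comm]
    exact (Nat.Prime.coprime_iff_not_dvd hp.out).2 hpi
  · obtain ⟨⟨⟨n, hnN⟩, ⟨h', hh'⟩⟩, he, -⟩ := hH'.existsUnique ⟨α, hα⟩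
    have he' : (n : MulAut S) * (h' : MulAut S) = α := congrArg Subtype.val he
    have hnI : (n : MulAut S) ∈ Inn S := hnN
    obtain ⟨t, ht⟩ := hnI
    exact ⟨t, h', ⟨h', hh', rfl⟩, by rw [ht, he']⟩

/-- `F` is inner when `S ⊲ F` and no nontrivial `p'`-automorphisms of `S` exist. -/
theorem inner_of_trivial (hS : IsPGroup p S) (hF : F.IsSaturated p) (hN : F.IsNormal S)
    (hH : ∀ H : Subgroup (MulAut S), (Nat.card H).Coprime p → ∀ h ∈ H, h = 1) (P : Subgroup Ω) :
    F.Hom P = (innerFusionSystem S).Hom P := by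
  ext φ
  constructor
  · intro hφ
    have hPS : P ≤ S := le_of_hom hφ
    obtain ⟨α, hα, hv⟩ := exists_aut_of_isNormal hN hPS hφ
    obtain ⟨H, hHc, hdec⟩ := exists_complement_aut (F := F) hS hF
    obtain ⟨t, h, hh, e⟩ := hdec α hα
    have h1 : h = 1 := hH H hHc h hh
    rw [h1, mul_one] at e
    refine ⟨hPS, t, t.2, fun x => ?_⟩
    rw [← hv x, fn_of_mem α (hPS x.2), e]
    rfl
  · rintro ⟨hPS, g, hg, hv⟩
    have : φ = conjHom P g := by
      ext x
      exact hv x
    rw [this]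
    exact F.conj_mem hPS hg

/-- The 2-group theorem -/
theorem inner_of_metacyclic2 (hS : IsPGroup 2 S) [Fact (Nat.Prime 2)] (hF : F.IsSaturated 2) (hm : IsMetacyclic ↥S)
    (hh : ¬ ∃ e : ℕ, 0 < e ∧ Nonempty (↥S ≃* Hm 2 e))
    (hd : ¬ ∃ m : ℕ, Nonempty (↥S ≃* DihedralGroup m))
    (hq : ¬ ∃ m : ℕ, Nonempty (↥S ≃* QuaternionGroup m)) (hsd : ¬ IsQuasiDihedral ↥S) (P : Subgroup Ω) :
    F.Hom P = (innerFusionSystem S).Hom P := by
  have hN : F.IsNormal S := isNormal_of_essential_le hS hF stronglyClosed_self (fun _ hE =>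
    le_essential_of_metacyclic2 hS hF stronglyClosed_self hm hd hq hsd hE)
  refine inner_of_trivial hS hF hN (fun H hH h hhH => ?_) P
  have := (metacyclic_H_cond (X := ↥S) hS hm hh (fun h' => hq ⟨2, h'.2⟩) hH).2 h hhH
  simpa using this

/-- Homocyclic rank 2 as `Fin 2 → ZMod`. -/
def hmEquiv (q : ℕ) : (Multiplicative (ZMod q) × Multiplicative (ZMod q)) ≃* Multiplicative (Fin 2 → ZMod q) where
  toFun x := Multiplicative.ofAdd ![Multiplicative.toAdd x.1, Multiplicative.toAdd x.2]
  invFun f := (Multiplicative.ofAdd (Multiplicative.toAdd f 0), Multiplicative.ofAdd (Multiplicative.toAdd f 1))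
  left_inv x := by simp
  right_inv f := by
    apply Multiplicative.toAdd.injective
    ext i
    fin_cases i <;> simp
  map_mul' x y := by
    apply Multiplicative.toAdd.injective
    ext i
    fin_cases i <;> simp

end Cfsg.Agent.Lib.Fusion2.SuperSol
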