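/-
Abelian `p`-groups with pairwise distinct invariants: characteristic chains.
-/
import Cfsg.Agent.Lib.Fusion2.MetaFin

set_option autoImplicit false
set_option linter.unusedSectionVars false

namespace Cfsg.Agent.Lib.Fusion2.SuperSol

open Cfsg Cfsg.FusionSystem Cfsg.Agent.Lib.Fusion

section Chars

variable {T : Type*} [CommGroup T]

/-- Elements of exponent dividing `p ^ r`. -/
def Om (T : Type*) [CommGroup T] (p r : ℕ) : Subgroup T := (powMonoidHom (p ^ r) : T →* T).ker

/-- The `p ^ t`-th powers. -/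
def Mh (T : Type*) [CommGroup T] (p t : ℕ) : Subgroup T := (powMonoidHom (p ^ t) : T →* T).range

theorem mem_Om {p r : ℕ} {x : T} : x ∈ Om T p r ↔ x ^ p ^ r = 1 := Iff.rfl

theorem mem_Mh {p t : ℕ} {x : T} : x ∈ Mh T p t ↔ ∃ z : T, z ^ p ^ t = x := Iff.rfl

/-- The double filtration. -/
def Vv (T : Type*) [CommGroup T] (p r t : ℕ) : Subgroup T := Om T p r ⊔ (Om T p (r + 1) ⊓ Mh T p t)

/-- Invariance under all automorphisms. -/
def Charact (W : Subgroup T) : Prop := ∀ α : MulAut T, ∀ x ∈ W, α x ∈ W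

theorem charact_om (p r : ℕ) : Charact (Om T p r) := by
  intro α x hx
  rw [mem_Om] at hx ⊢
  rw [← map_pow, hx, map_one]

theorem charact_mh (p t : ℕ) : Charact (Mh T p t) := by
  rintro α x ⟨z, rfl⟩
  exact ⟨α z, by simp⟩

theorem Charact.sup {W₁ W₂ : Subgroup T} (h₁ : Charact W₁) (h₂ : Charact W₂) : Charact (W₁ ⊔ W₂) := by
  intro α x hx
  have hle : W₁ ⊔ W₂ ≤ (W₁ ⊔ W₂).comap α.toMonoidHom :=
    sup_le (fun y hy => Subgroup.mem_sup_left (h₁ α y hy)) (fun y hy => Subgroup.mem_sup_right (h₂ α y hy))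
  exact hle hx

theorem Charact.inf {W₁ W₂ : Subgroup T} (h₁ : Charact W₁) (h₂ : Charact W₂) : Charact (W₁ ⊓ W₂) :=
  fun α x hx => ⟨h₁ α x hx.1, h₂ α x hx.2⟩

theorem charact_vv (p r t : ℕ) : Charact (Vv T p r t) :=
  (charact_om p r).sup ((charact_om p (r + 1)).inf (charact_mh p t))

/-- Chains of characteristic subgroups with cyclic steps -/
def Reach (W : Subgroup T) : Prop :=
  ∃ (m : ℕ) (U : ℕ → Subgroup T), U 0 = ⊥ ∧ U m = W ∧ (∀ i ≤ m, Charact (U i)) ∧
    ∀ i < m, ∃ x, U (i + 1) = U i ⊔ Subgroup.zpowers x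

theorem Reach.step {W W' : Subgroup T} (h : Reach W) (hc : Charact W') {x : T} (hx : W' = W ⊔ Subgroup.zpowers x) :
    Reach W' := by
  obtain ⟨m, U, h0, hm, hch, hst⟩ := h
  refine ⟨m + 1, fun i => if i ≤ m then U i else W', ?_, ?_, ?_, ?_⟩
  · simpa using h0
  · simp
  · intro i hi
    by_cases hi' : i ≤ m
    · simpa [hi'] using hch i hi'
    · simpa [hi'] using hc
  · intro i hi
    by_cases hi' : i + 1 ≤ m
    · have h1 : i ≤ m := by omega
      simpa [hi', h1] using hst i hi'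
    · have h1 : i = m := by omega
      subst h1
      refine ⟨x, ?_⟩
      simp [hx, hm]

theorem vv_zero {p r : ℕ} : Vv T p r 0 = Om T p (r + 1) := by
  apply le_antisymm
  · refine sup_le ?_ inf_le_left
    intro x hx
    rw [mem_Om] at hx ⊢
    rw [pow_succ, pow_mul, hx, one_pow]
  · refine le_trans ?_ le_sup_right
    refine le_inf le_rfl ?_
    intro x _
    exact ⟨x, by simp⟩

theorem vv_large {p r T₀ : ℕ} (hT₀ : ∀ x : T, x ^ p ^ T₀ = 1) : Vv T p r T₀ = Om T p r := by
  apply le_antisymm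
  · refine sup_le le_rfl ?_
    rintro x ⟨-, z, rfl⟩
    have : (powMonoidHom (p ^ T₀) : T →* T) z = z ^ p ^ T₀ := rfl
    rw [this, hT₀]
    exact Subgroup.one_mem _
  · exact le_sup_left

/-- The whole chain. -/
theorem reach_top {p T₀ : ℕ} (hT₀ : ∀ x : T, x ^ p ^ T₀ = 1)
    (hstep : ∀ r t, ∃ x : T, Vv T p r t = Vv T p r (t + 1) ⊔ Subgroup.zpowers x) : Reach (⊤ : Subgroup T) := by
  have hom : ∀ r, Reach (Om T p r) := by
    intro r
    induction r with
    | zero =>
      have : Om T p 0 = ⊥ := by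
        ext x
        rw [mem_Om, Subgroup.mem_bot]
        simp
      rw [this]
      exact ⟨0, fun _ => ⊥, rfl, rfl, fun i _ α x hx => by
        rw [Subgroup.mem_bot] at hx ⊢
        rw [hx, map_one], fun i hi => absurd hi (by omega)⟩
    | succ r ih =>
      have hk : ∀ k, k ≤ T₀ → Reach (Vv T p r (T₀ - k)) := by
        intro k
        induction k with
        | zero =>
          intro _
          rw [Nat.sub_zero, vv_large hT₀]
          exact ih
        | succ k ih' =>
          intro hk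
          obtain ⟨x, hx⟩ := hstep r (T₀ - (k + 1))
          have e : T₀ - (k + 1) + 1 = T₀ - k := by omega
          rw [e] at hx
          exact (ih' (by omega)).step (charact_vv _ _ _) hx
      have := hk T₀ le_rfl
      rwa [Nat.sub_self, vv_zero] at this
  have htop : Om T p T₀ = ⊤ := by
    ext x
    simp [mem_Om, hT₀]
  rw [← htop]
  exact hom T₀

end Chars

section Coord

variable {p : ℕ} [hp : Fact p.Prime] {A : Type*} [CommGroup A] {g : A} {E : ℕ}

theorem coord_a (hg : orderOf g = p ^ E) (hgen : ∀ x : A, ∃ k : ℕ, x = g ^ k) {z : A} {t r : ℕ}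
    (hE : t + r + 2 ≤ E) (hz : (z ^ p ^ t) ^ p ^ (r + 1) = 1) : ∃ w : A, w ^ p ^ (t + 1) = z ^ p ^ t := by
  have hpp := hp.out
  obtain ⟨k, rfl⟩ := hgen z
  have h1 : g ^ (k * (p ^ t * p ^ (r + 1))) = 1 := by
    rw [pow_mul, pow_mul]
    exact hz
  have h2 := orderOf_dvd_of_pow_eq_one h1
  rw [hg] at h2
  have e1 : p ^ E = p ^ (t + r + 1) * p ^ (E - (t + r + 1)) := by
    rw [← pow_add]
    congr 1
    omega
  have e2 : p ^ t * p ^ (r + 1) = p ^ (t + r + 1) := by
    rw [← pow_add]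
    rfl
  rw [e2, e1, mul_comm k] at h2
  have h3 := Nat.dvd_of_mul_dvd_mul_left (pow_pos hpp.pos _) h2
  have h4 : p ∣ k := (dvd_pow_self p (by omega)).trans h3
  obtain ⟨k', rfl⟩ := h4
  refine ⟨g ^ k', ?_⟩
  rw [← pow_mul, ← pow_mul]
  congr 1
  rw [pow_succ]
  ring

theorem coord_b (hgen : ∀ x : A, ∃ k : ℕ, x = g ^ k) (z : A) (t : ℕ) : ∃ k : ℕ, z ^ p ^ t = (g ^ p ^ t) ^ k := by
  obtain ⟨k, rfl⟩ := hgen z
  refine ⟨k, ?_⟩
  rw [← pow_mul, ← pow_mul, mul_comm]

theorem coord_c (hg : orderOf g = p ^ E) (hgen : ∀ x : A, ∃ k : ℕ, x = g ^ k) (z : A) {t r : ℕ}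
    (hE : E ≤ t + r) : (z ^ p ^ t) ^ p ^ r = 1 := by
  obtain ⟨k, rfl⟩ := hgen z
  have h1 : g ^ p ^ (t + r) = 1 := by
    apply orderOf_dvd_iff_pow_eq_one.1
    rw [hg]
    exact pow_dvd_pow p hE
  rw [← pow_mul, ← pow_add, ← pow_mul, mul_comm, pow_mul, h1, one_pow]

end Coord

section Pi

variable {p : ℕ} [hp : Fact p.Prime] {ι : Type*} [DecidableEq ι] {A : ι → Type*} [∀ i, CommGroup (A i)]
  {g : ∀ i, A i} {E : ι → ℕ}

theorem vv_step (hg : ∀ i, orderOf (g i) = p ^ E i) (hgen : ∀ i, ∀ x : A i, ∃ k : ℕ, x = g i ^ k)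
    (hinj : Function.Injective E) (r t : ℕ) :
    ∃ x : ∀ i, A i, Vv (∀ i, A i) p r t = Vv (∀ i, A i) p r (t + 1) ⊔ Subgroup.zpowers x := by
  classical
  have hle : Vv (∀ i, A i) p r (t + 1) ≤ Vv (∀ i, A i) p r t := by
    refine sup_le_sup_left (inf_le_inf_left _ ?_) _
    rintro _ ⟨z, rfl⟩
    exact ⟨z ^ p, by
      show (z ^ p) ^ p ^ t = z ^ p ^ (t + 1)
      rw [← pow_mul, pow_succ, mul_comm]⟩
  -- the splitting of an element
  have hsplit : ∀ y : ∀ i, A i, y ∈ Om (∀ i, A i) p (r + 1) ⊓ Mh (∀ i, A i) p t →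
      ∃ y₁ y₂ y₃ : ∀ i, A i, y = y₁ * y₂ * y₃ ∧ y₁ ∈ Om (∀ i, A i) p (r + 1) ⊓ Mh (∀ i, A i) p (t + 1) ∧ y₃ ∈ Om (∀ i, A i) p r ∧
        (∀ i, E i ≠ t + r + 1 → y₂ i = 1) ∧ ∀ i, E i = t + r + 1 → y₂ i = y i := by
    rintro y ⟨hy1, z, rfl⟩
    have hy : ∀ i, (z i ^ p ^ t) ^ p ^ (r + 1) = 1 := fun i => congrFun hy1 i
    have hch : ∀ i, ∃ w : A i, t + r + 2 ≤ E i → w ^ p ^ (t + 1) = z i ^ p ^ t := by
      intro i
      by_cases hi : t + r + 2 ≤ E i
      · obtain ⟨w, hw⟩ := coord_a (hg i) (hgen i) hi (hy i)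
        exact ⟨w, fun _ => hw⟩
      · exact ⟨1, fun h => absurd h hi⟩
    choose w hw using hch
    refine ⟨fun i => if t + r + 2 ≤ E i then w i ^ p ^ (t + 1) else 1,
      fun i => if E i = t + r + 1 then z i ^ p ^ t else 1,
      fun i => if E i ≤ t + r then z i ^ p ^ t else 1, ?_, ⟨?_, ?_⟩, ?_, ?_, ?_⟩
    · funext i
      show z i ^ p ^ t = _
      show _ = (if t + r + 2 ≤ E i then w i ^ p ^ (t + 1) else 1) * (if E i = t + r + 1 then z i ^ p ^ t else 1) *
        (if E i ≤ t + r then z i ^ p ^ t else 1)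
      rcases Nat.lt_trichotomy (E i) (t + r + 1) with hi | hi | hi
      · have h1 : ¬ t + r + 2 ≤ E i := by omega
        have h2 : ¬ E i = t + r + 1 := by omega
        have h3 : E i ≤ t + r := by omega
        simp [h1, h2, h3]
      · have h1 : ¬ t + r + 2 ≤ E i := by omega
        have h3 : ¬ E i ≤ t + r := by omega
        simp [h1, hi]
      · have h1 : t + r + 2 ≤ E i := by omega
        have h2 : ¬ E i = t + r + 1 := by omega
        have h3 : ¬ E i ≤ t + r := by omega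
        simp [h1, h2, h3, hw i h1]
    · funext i
      show (if t + r + 2 ≤ E i then w i ^ p ^ (t + 1) else 1) ^ p ^ (r + 1) = 1
      by_cases h1 : t + r + 2 ≤ E i
      · simp only [h1, if_true]
        rw [hw i h1]
        exact hy i
      · simp [h1]
    · refine ⟨fun i => if t + r + 2 ≤ E i then w i else 1, ?_⟩
      funext i
      show (if t + r + 2 ≤ E i then w i else 1) ^ p ^ (t + 1) = _
      by_cases h1 : t + r + 2 ≤ E i
      · simp [h1]
      · simp [h1]
    · funext i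
      show (if E i ≤ t + r then z i ^ p ^ t else 1) ^ p ^ r = 1
      by_cases h1 : E i ≤ t + r
      · simp only [h1, if_true]
        exact coord_c (hg i) (hgen i) (z i) h1
      · simp [h1]
    · intro i hi
      simp [hi]
    · intro i hi
      simp [hi]
  by_cases hex : ∃ i₀, E i₀ = t + r + 1
  · obtain ⟨i₀, hi₀⟩ := hex
    refine ⟨Pi.mulSingle i₀ (g i₀ ^ p ^ t), le_antisymm ?_ (sup_le hle ?_)⟩
    · refine sup_le ?_ ?_
      · exact le_trans le_sup_left le_sup_left
      · intro y hy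
        obtain ⟨y₁, y₂, y₃, rfl, h1, h3, h2a, h2b⟩ := hsplit y hy
        refine Subgroup.mul_mem _ (Subgroup.mul_mem _ ?_ ?_) ?_
        · exact Subgroup.mem_sup_left (Subgroup.mem_sup_right h1)
        · apply Subgroup.mem_sup_right
          obtain ⟨-, z, hz⟩ := hy
          have hzz : (y₁ * y₂ * y₃) = fun i => z i ^ p ^ t := hz.symm
          obtain ⟨k, hk⟩ := coord_b (p := p) (hgen i₀) (z i₀) t
          have hy2 : y₂ i₀ = (y₁ * y₂ * y₃) i₀ := h2b i₀ hi₀
          refine ⟨(k : ℤ), ?_⟩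
          funext i
          by_cases hi : i = i₀
          · subst hi
            show (Pi.mulSingle i (g i ^ p ^ t) ^ (k : ℤ)) i = y₂ i
            rw [hy2, hzz, Pi.pow_apply]
            simp only [zpow_natCast, Pi.pow_apply, Pi.mulSingle_eq_same]
            exact hk.symm
          · have h5 : E i ≠ t + r + 1 := fun h => hi (hinj (h.trans hi₀.symm))
            show (Pi.mulSingle i₀ (g i₀ ^ p ^ t) ^ (k : ℤ)) i = y₂ i
            rw [h2a i h5]
            simp only [zpow_natCast, Pi.pow_apply, Pi.mulSingle_eq_of_ne hi, one_pow]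
        · exact Subgroup.mem_sup_left (Subgroup.mem_sup_left h3)
    · rw [Subgroup.zpowers_le]
      refine Subgroup.mem_sup_right ⟨?_, ?_⟩
      · funext i
        show (Pi.mulSingle i₀ (g i₀ ^ p ^ t) i) ^ p ^ (r + 1) = 1
        by_cases hi : i = i₀
        · subst hi
          rw [Pi.mulSingle_eq_same, ← pow_mul, ← pow_add]
          apply orderOf_dvd_iff_pow_eq_one.1
          rw [hg, hi₀]
          exact pow_dvd_pow p (by omega)
        · rw [Pi.mulSingle_eq_of_ne hi, one_pow]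
      · refine ⟨Pi.mulSingle i₀ (g i₀), ?_⟩
        funext i
        show (Pi.mulSingle i₀ (g i₀) i) ^ p ^ t = Pi.mulSingle i₀ (g i₀ ^ p ^ t) i
        by_cases hi : i = i₀
        · subst hi
          simp
        · simp [Pi.mulSingle_eq_of_ne hi]
  · refine ⟨1, ?_⟩
    have hz : Subgroup.zpowers (1 : ∀ i, A i) = ⊥ := Subgroup.zpowers_one_eq_bot
    rw [hz, sup_bot_eq]
    refine le_antisymm (sup_le le_sup_left ?_) hle
    intro y hy
    obtain ⟨y₁, y₂, y₃, rfl, h1, h3, h2a, -⟩ := hsplit y hy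
    have hy2 : y₂ = 1 := by
      funext i
      exact h2a i (fun h => hex ⟨i, h⟩)
    rw [hy2, mul_one]
    exact Subgroup.mul_mem _ (Subgroup.mem_sup_right h1) (Subgroup.mem_sup_left h3)

end Pi

section Excl

variable {C H₀ : Type*} [CommGroup C] [Group H₀]

/-- Swap the two factors. -/
def swapAut (C H₀ : Type*) [CommGroup C] [Group H₀] : MulAut ((C × C) × H₀) where
  toFun z := ((z.1.2, z.1.1), z.2)
  invFun z := ((z.1.2, z.1.1), z.2)
  left_inv _ := rfl
  right_inv _ := rfl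
  map_mul' _ _ := rfl

/-- Invert the first factor. -/
def negAut (C H₀ : Type*) [CommGroup C] [Group H₀] : MulAut ((C × C) × H₀) where
  toFun z := ((z.1.1⁻¹, z.1.2), z.2)
  invFun z := ((z.1.1⁻¹, z.1.2), z.2)
  left_inv z := by simp
  right_inv z := by simp
  map_mul' x y := by
    simp [mul_comm]

/-- The automorphism of order three. -/
def triAut (C H₀ : Type*) [CommGroup C] [Group H₀] : MulAut ((C × C) × H₀) where
  toFun z := ((z.1.2⁻¹, z.1.1 * z.1.2⁻¹), z.2)
  invFun z := ((z.1.1⁻¹ * z.1.2, z.1.1⁻¹), z.2)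
  left_inv z := by simp
  right_inv z := by simp
  map_mul' x y := by
    ext
    · simp [mul_comm]
    · show (x.1.1 * y.1.1) * (x.1.2 * y.1.2)⁻¹ = (x.1.1 * x.1.2⁻¹) * (y.1.1 * y.1.2⁻¹)
      rw [mul_inv]
      ac_rfl
    · rfl

theorem isPGroup_zpowers_of_pow {G : Type*} [Group G] [Finite G] {p k : ℕ} [hp : Fact p.Prime] {τ : G} (hk : τ ^ p ^ k = 1) :
    IsPGroup p (Subgroup.zpowers τ) := by
  have h2 : orderOf τ ∣ p ^ k := orderOf_dvd_of_pow_eq_one hk
  obtain ⟨j, -, hj⟩ := (Nat.dvd_prime_pow hp.out).1 h2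
  apply IsPGroup.iff_card.2
  exact ⟨j, by rw [Nat.card_zpowers, hj]⟩

theorem exists_two_subgroup {G : Type*} [Group G] [Finite G] (x y : G) (hx : x * x = 1) (hy : y * y = 1)
    (hxy : (x * y) ^ 4 = 1) : ∃ K : Subgroup G, IsPGroup 2 K ∧ x ∈ K ∧ y ∈ K := by
  haveI : Fact (Nat.Prime 2) := ⟨Nat.prime_two⟩
  have h1 : IsPGroup 2 (Subgroup.zpowers x) := isPGroup_zpowers_of_pow (k := 1) (by simpa [pow_two] using hx)
  have h2 : IsPGroup 2 (Subgroup.zpowers (x * y)) := isPGroup_zpowers_of_pow (k := 2) (by simpa using hxy)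
  have hxi : x⁻¹ = x := inv_eq_of_mul_eq_one_left hx
  have hyi : y⁻¹ = y := inv_eq_of_mul_eq_one_left hy
  have hn : Subgroup.zpowers x ≤ Subgroup.normalizer (Subgroup.zpowers (x * y) : Set G) := by
    rw [Subgroup.zpowers_le]
    apply Cfsg.Agent.Lib.PGroups.mem_normalizer_of_conj_le'
    intro z hz
    obtain ⟨k, rfl⟩ := Subgroup.mem_zpowers_iff.1 hz
    rw [← conj_zpow]
    have e : x * (x * y) * x⁻¹ = (x * y)⁻¹ := by
      rw [mul_inv_rev, hyi, ← mul_assoc, hx, one_mul]
    rw [e]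
    exact Subgroup.zpow_mem _ (Subgroup.inv_mem _ (Subgroup.mem_zpowers _)) _
  refine ⟨Subgroup.zpowers x ⊔ Subgroup.zpowers (x * y), IsPGroup.to_sup_of_normal_right' h1 h2 hn,
    Subgroup.mem_sup_left (Subgroup.mem_zpowers x), ?_⟩
  have e : x * (x * y) = y := by
    rw [← mul_assoc, hx, one_mul]
  have hm : x * (x * y) ∈ Subgroup.zpowers x ⊔ Subgroup.zpowers (x * y) :=
    Subgroup.mul_mem _ (Subgroup.mem_sup_left (Subgroup.mem_zpowers x)) (Subgroup.mem_sup_right (Subgroup.mem_zpowers _))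
  rwa [e] at hm

theorem no_H_cond_of_factor {X : Type*} [Group X] [Finite X] {p : ℕ} [hp : Fact p.Prime] (e : X ≃* (C × C) × H₀)
    {b : C} (hb : b ≠ 1) (hp2 : p ≠ 2 → b * b ≠ 1)
    (hH : ∀ H : Subgroup (MulAut X), (Nat.card H).Coprime p → IsMulCommutative H ∧ ∀ h ∈ H, h ^ (p - 1) = 1) : False := by
  let τ : MulAut ((C × C) × H₀) ≃* MulAut X := MulAut.congr e.symm
  by_cases hp' : p = 2
  · subst hp'
    have h3 : (τ (triAut C H₀)) ^ 3 = 1 := by
      rw [← map_pow]
      have : (triAut C H₀) ^ 3 = 1 := by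
        ext z
        · simp [pow_succ, triAut]
        · simp [pow_succ, triAut, mul_comm]
        · simp [pow_succ, triAut]
      rw [this, map_one]
    have hord : orderOf (τ (triAut C H₀)) ∣ 3 := orderOf_dvd_of_pow_eq_one h3
    have hcop : (Nat.card (Subgroup.zpowers (τ (triAut C H₀)))).Coprime 2 := by
      rw [Nat.card_zpowers]
      exact Nat.Coprime.coprime_dvd_left hord (by norm_num)
    have h1 := (hH _ hcop).2 _ (Subgroup.mem_zpowers _)
    rw [pow_one] at h1
    have h2 : triAut C H₀ = 1 := τ.injective (by rw [h1, map_one])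
    have h4 := congrArg (fun β : MulAut ((C × C) × H₀) => β ((1, b), 1)) h2
    simp only [triAut, MulAut.one_apply] at h4
    have h5 : b⁻¹ = 1 := congrArg (fun w : (C × C) × H₀ => w.1.1) h4
    exact hb (inv_eq_one.1 h5)
  · have hs : τ (swapAut C H₀) * τ (swapAut C H₀) = 1 := by
      rw [← map_mul]
      have : swapAut C H₀ * swapAut C H₀ = 1 := by
        ext z <;> rfl
      rw [this, map_one]
    have hn : τ (negAut C H₀) * τ (negAut C H₀) = 1 := by
      rw [← map_mul]
      have : negAut C H₀ * negAut C H₀ = 1 := by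
        ext z
        · simp [negAut]
        · simp [negAut]
        · simp [negAut]
      rw [this, map_one]
    have hsn : (τ (swapAut C H₀) * τ (negAut C H₀)) ^ 4 = 1 := by
      rw [← map_mul, ← map_pow]
      have : (swapAut C H₀ * negAut C H₀) ^ 4 = 1 := by
        ext z
        · simp [pow_succ, negAut, swapAut]
        · simp [pow_succ, negAut, swapAut]
        · simp [pow_succ, negAut, swapAut]
      rw [this, map_one]
    obtain ⟨K, hK, hxK, hyK⟩ := exists_two_subgroup _ _ hs hn hsn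
    have hcop : (Nat.card K).Coprime p := by
      obtain ⟨k, hk⟩ := IsPGroup.iff_card.1 hK
      rw [hk]
      apply Nat.Coprime.pow_left
      exact (Nat.coprime_primes Nat.prime_two hp.out).2 (Ne.symm hp')
    have hc := (hH K hcop).1.1.1 ⟨_, hxK⟩ ⟨_, hyK⟩
    have hc' : τ (swapAut C H₀) * τ (negAut C H₀) = τ (negAut C H₀) * τ (swapAut C H₀) := congrArg Subtype.val hc
    rw [← map_mul, ← map_mul] at hc'
    have hc2 := τ.injective hc'
    have h4 := congrArg (fun β : MulAut ((C × C) × H₀) => β ((1, b), 1)) hc2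
    simp only [MulAut.mul_apply, swapAut, negAut] at h4
    have h5 : b = b⁻¹ := congrArg (fun w : (C × C) × H₀ => w.1.1) h4
    apply hp2 hp'
    nth_rewrite 1 [h5]
    simp

end Excl

section Distinct

/-- Casting between `ZMod`s. -/
theorem exists_zcast {a b : ℕ} (h : a = b) : Nonempty (Multiplicative (ZMod a) ≃* Multiplicative (ZMod b)) := by
  subst h
  exact ⟨MulEquiv.refl _⟩

/-- Splitting off two coordinates. -/
def piSplit {ι : Type*} [DecidableEq ι] (A : ι → Type*) [∀ i, Group (A i)] {i j : ι} (hij : i ≠ j) :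
    (∀ k, A k) ≃* ((A i × A j) × ∀ k : {k // k ≠ i ∧ k ≠ j}, A k) where
  toFun f := ((f i, f j), fun k => f k.1)
  invFun w := fun k => if h : k = i then h.symm ▸ w.1.1 else if h' : k = j then h'.symm ▸ w.1.2 else w.2 ⟨k, h, h'⟩
  left_inv f := by
    funext k
    by_cases h : k = i
    · subst h
      simp
    · by_cases h' : k = j
      · subst h'
        simp [h]
      · simp [h, h']
  right_inv w := by
    ext k
    · simp
    · simp [hij.symm]
    · have h1 := k.2.1
      have h2 := k.2.2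
      simp [h1, h2]
  map_mul' _ _ := rfl

variable {X : Type*} [Group X] [Finite X] {p : ℕ} [hp : Fact p.Prime]

/-- The automorphism condition for abelian groups with distinct invariants. -/
theorem H_cond_of_distinct (hX : IsPGroup p X) (hcomm : ∀ x y : X, x * y = y * x)
    (hno : ¬ ∃ (n : ℕ) (H₀ : Type) (_ : CommGroup H₀), 0 < n ∧
      Nonempty (X ≃* (Multiplicative (ZMod (p ^ n)) × Multiplicative (ZMod (p ^ n))) × H₀))
    {H : Subgroup (MulAut X)} (hH : (Nat.card H).Coprime p) : IsMulCommutative H ∧ ∀ h ∈ H, h ^ (p - 1) = 1 := by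
  classical
  have hpp := hp.out
  letI iX : CommGroup X := { (inferInstance : Group X) with mul_comm := hcomm }
  obtain ⟨ι, _, n, hn1, ⟨e⟩⟩ := CommGroup.equiv_prod_multiplicative_zmod_of_finite X
  obtain ⟨cd, hcd⟩ := IsPGroup.iff_card.1 hX
  have hpowX : ∀ x : X, x ^ p ^ cd = 1 := fun x => by
    rw [← hcd]
    exact pow_card_eq_one'
  have hpowT : ∀ x : (i : ι) → Multiplicative (ZMod (n i)), x ^ p ^ cd = 1 := by
    intro x
    have := hpowX (e.symm x)
    apply e.symm.injective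
    rw [map_pow, this, map_one]
  let g : ∀ i, Multiplicative (ZMod (n i)) := fun i => Multiplicative.ofAdd 1
  have hordg : ∀ i, orderOf (g i) = n i := fun i => by
    show orderOf (Multiplicative.ofAdd (1 : ZMod (n i))) = n i
    rw [orderOf_ofAdd_eq_addOrderOf, ZMod.addOrderOf_one]
  have hE : ∀ i, ∃ E, n i = p ^ E := by
    intro i
    have h1 : (g i) ^ p ^ cd = 1 := by
      have := congrFun (hpowT (Pi.mulSingle i (g i))) i
      simpa using this
    have h2 := orderOf_dvd_of_pow_eq_one h1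
    rw [hordg] at h2
    obtain ⟨E, -, hE⟩ := (Nat.dvd_prime_pow hpp).1 h2
    exact ⟨E, hE⟩
  choose E hE using hE
  have hg : ∀ i, orderOf (g i) = p ^ E i := fun i => by rw [hordg, hE]
  have hgen : ∀ i, ∀ x : Multiplicative (ZMod (n i)), ∃ k : ℕ, x = g i ^ k := by
    intro i x
    haveI : NeZero (n i) := ⟨by have := hn1 i; omega⟩
    refine ⟨(Multiplicative.toAdd x).val, ?_⟩
    apply Multiplicative.toAdd.injective
    have : Multiplicative.toAdd (g i ^ (Multiplicative.toAdd x).val) = ((Multiplicative.toAdd x).val : ZMod (n i)) := by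
      rw [toAdd_pow]
      show (Multiplicative.toAdd x).val • (1 : ZMod (n i)) = _
      simp
    rw [this, ZMod.natCast_zmod_val]
  by_cases hinj : Function.Injective E
  · obtain ⟨m, U, h0, hm, hch, hst⟩ := reach_top (p := p) hpowT (fun r t => vv_step hg hgen hinj r t)
    let W : ℕ → Subgroup X := fun i => (U i).comap e.toMonoidHom
    have hmono : ∀ i < m, W i ≤ W (i + 1) := by
      intro i hi x hx
      obtain ⟨x₀, hx₀⟩ := hst i hi
      show e x ∈ U (i + 1)
      rw [hx₀]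
      exact Subgroup.mem_sup_left hx
    have hnorm : ∀ i < m, ∀ a ∈ W (i + 1), ∀ x ∈ W i, a * x * a⁻¹ ∈ W i := by
      intro i _ a _ x hx
      rw [mul_comm a x, mul_inv_cancel_right]
      exact hx
    have hcyc : ∀ i < m, ∃ y ∈ W (i + 1), ∀ z ∈ W (i + 1), ∃ k : ℤ, z * (y ^ k)⁻¹ ∈ W i := by
      intro i hi
      obtain ⟨x₀, hx₀⟩ := hst i hi
      refine ⟨e.symm x₀, ?_, ?_⟩
      · show e (e.symm x₀) ∈ U (i + 1)
        rw [hx₀, MulEquiv.apply_symm_apply]
        exact Subgroup.mem_sup_right (Subgroup.mem_zpowers x₀)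
      · intro z hz
        have hz' : e z ∈ U (i + 1) := hz
        rw [hx₀, Subgroup.mem_sup] at hz'
        obtain ⟨u, hu, v, hv, huv⟩ := hz'
        obtain ⟨k, rfl⟩ := Subgroup.mem_zpowers_iff.1 hv
        refine ⟨k, ?_⟩
        show e (z * (e.symm x₀ ^ k)⁻¹) ∈ U i
        rw [map_mul, map_inv, map_zpow, MulEquiv.apply_symm_apply, ← huv, mul_inv_cancel_right]
        exact hu
    have hinv : ∀ g ∈ H, ∀ i ≤ m, ∀ x ∈ W i, g x ∈ W i := by
      intro g _ i hi x hx
      have := hch i hi (e.symm.trans (g.trans e)) (e x) hx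
      have e1 : (e.symm.trans (g.trans e)) (e x) = e (g x) := by
        simp
      rw [e1] at this
      exact this
    have h0' : W 0 = ⊥ := by
      ext x
      show e x ∈ U 0 ↔ _
      rw [h0, Subgroup.mem_bot, Subgroup.mem_bot]
      exact map_eq_one_iff e e.injective
    have htop : W m = ⊤ := by
      ext x
      show e x ∈ U m ↔ _
      rw [hm]
      simp
    obtain ⟨h1, h2⟩ := p'_of_chain hX W m h0' htop hmono hnorm hcyc hinv hH
    exact ⟨⟨⟨fun a b => Subtype.ext (h1 a a.2 b b.2)⟩⟩, h2⟩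
  · exfalso
    rw [Function.Injective] at hinj
    push Not at hinj
    obtain ⟨i, j, hij, hne⟩ := hinj
    apply hno
    have hEi : 0 < E i := by
      rcases Nat.eq_zero_or_pos (E i) with h0 | h0
      · have h3 := hn1 i
        rw [hE i, h0, pow_zero] at h3
        omega
      · exact h0
    obtain ⟨e₁⟩ := exists_zcast (hE i)
    obtain ⟨e₂⟩ := exists_zcast (by rw [hE j, hij] : n j = p ^ E i)
    refine ⟨E i, ((k : {k // k ≠ i ∧ k ≠ j}) → Multiplicative (ZMod (n k))), inferInstance, hEi, ⟨?_⟩⟩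
    exact e.trans ((piSplit _ hne).trans (MulEquiv.prodCongr (MulEquiv.prodCongr e₁ e₂) (MulEquiv.refl _)))

end Distinct

section Final

variable {Ω : Type*} [Group Ω] {S : Subgroup Ω} {F : FusionSystem S} {p : ℕ} [hp : Fact p.Prime] [Finite S]

theorem H_cond_of_all (hS : IsPGroup p S)
    (h : ∀ F : FusionSystem S, F.IsSaturated p → (∃ (m : ℕ) (c : Fin (m + 1) → Subgroup Ω), c 0 = ⊥ ∧ c (Fin.last m) = S ∧ (∀ i : Fin (m + 1), F.StronglyClosed (c i)) ∧ ∀ i : Fin m, c i.castSucc ≤ c i.succ ∧ ∃ x ∈ S, c i.succ = c i.castSucc ⊔ Subgroup.zpowers x))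
    (H : Subgroup (MulAut S)) (hH : (Nat.card H).Coprime p) : IsMulCommutative H ∧ ∀ h ∈ H, h ^ (p - 1) = 1 := by
  obtain ⟨m, c, h0, hl, hsc, hst⟩ := h (Sparse.semiSys S H) (Sparse.semiSys_saturated hS hH)
  obtain ⟨d, hd⟩ := exists_supChain h0 hl hsc hst
  exact aut_cond_of_chain hS hH hd

theorem isNormal_of_abelian (hS : IsPGroup p S) (hF : F.IsSaturated p) (hab : IsMulCommutative S) : F.IsNormal S := by
  refine isNormal_of_essential_le hS hF stronglyClosed_self (fun E hE x hx => ?_)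
  have hES : E ≤ S := hE.1.1
  apply hE.1.2 E (isConj_refl hES)
  refine ⟨hx, ?_⟩
  show x ∈ Subgroup.centralizer (E : Set Ω)
  rw [Subgroup.mem_centralizer_iff]
  intro y hy
  have := hab.1.1 (⟨y, hES hy⟩ : S) ⟨x, hx⟩
  exact congrArg Subtype.val this

/-- The nontrivial element of `ZMod (p ^ n)`. -/
theorem zmod_elt (p n : ℕ) [hp : Fact p.Prime] (hn : 0 < n) :
    (Multiplicative.ofAdd (1 : ZMod (p ^ n))) ≠ 1 ∧
      (p ≠ 2 → Multiplicative.ofAdd (1 : ZMod (p ^ n)) * Multiplicative.ofAdd (1 : ZMod (p ^ n)) ≠ 1) := by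
  have hpp := hp.out
  have h1 : 1 < p ^ n := Nat.one_lt_pow hn.ne' hpp.one_lt
  haveI : Fact (1 < p ^ n) := ⟨h1⟩
  constructor
  · intro h
    have : (1 : ZMod (p ^ n)) = 0 := congrArg Multiplicative.toAdd h
    exact one_ne_zero this
  · intro hp2 h
    have h3 : (1 : ZMod (p ^ n)) + 1 = 0 := congrArg Multiplicative.toAdd h
    have h4 : ((2 : ℕ) : ZMod (p ^ n)) = 0 := by
      rw [← h3]
      norm_num
    rw [ZMod.natCast_eq_zero_iff] at h4
    have h5 : p ∣ 2 := (dvd_pow_self p hn.ne').trans h4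
    exact hp2 ((Nat.prime_dvd_prime_iff_eq hpp Nat.prime_two).1 h5)

end Final

end Cfsg.Agent.Lib.Fusion2.SuperSol
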