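import Cfsg.Agent.Lib.Fusion2.AbelIdx

/-!
# Counting in `S` with an abelian subgroup of index `p`
-/

set_option autoImplicit false
set_option linter.unusedSectionVars false

namespace Cfsg.Agent.Lib.Fusion2.AbelIdx

open Cfsg Cfsg.FusionSystem Cfsg.Agent.Lib.Fusion
open scoped commutatorElement

variable {Ω : Type*} [Group Ω] {S A : Subgroup Ω} {p : ℕ} [hp : Fact p.Prime]

/-- The commutator map. -/
noncomputable def delta (hA : Setup S A p) {x : Ω} (hx : x ∈ S) : ↥A →* ↥A :=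
  MonoidHom.mk' (fun a => ⟨x * a * x⁻¹ * (a : Ω)⁻¹, comm_mem hA hx a.2⟩) (fun a b => Subtype.ext (comm_mul hA hx a.2 b.2))

theorem delta_coe (hA : Setup S A p) {x : Ω} (hx : x ∈ S) (a : ↥A) : ((delta hA hx a : ↥A) : Ω) = x * a * x⁻¹ * (a : Ω)⁻¹ := rfl

section Restrict

variable {G G' : Type*} [Group G] [Group G']

theorem restrict_card (f : G →* G') (K : Subgroup G) : Nat.card K = Nat.card (f.ker.subgroupOf K) * Nat.card (K.map f) := by
  have h1 := Subgroup.card_mul_index (f.comp K.subtype).ker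
  have hk : (f.comp K.subtype).ker = f.ker.subgroupOf K := by
    ext u
    simp [MonoidHom.mem_ker, Subgroup.mem_subgroupOf]
  have hr : (f.comp K.subtype).range = K.map f := by
    rw [MonoidHom.range_comp, Subgroup.range_subtype]
  rw [Subgroup.index_ker, hk, hr] at h1
  exact h1.symm

theorem card_subgroupOf_inf (H K : Subgroup G) : Nat.card (H.subgroupOf K) = Nat.card (H ⊓ K : Subgroup G) := by
  have h1 : (H.subgroupOf K).map K.subtype = H ⊓ K := by
    ext y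
    constructor
    · rintro ⟨u, hu, rfl⟩
      exact ⟨hu, u.2⟩
    · rintro ⟨h1, h2⟩
      exact ⟨⟨y, h2⟩, h1, rfl⟩
  rw [← h1]
  exact Nat.card_congr (Subgroup.equivMapOfInjective _ _ K.subtype_injective).toEquiv

end Restrict

/-- Counting in `S`. -/
theorem counting [Finite S] (hS : IsPGroup p S) (hA : Setup S A p) (hna : ∃ s ∈ S, ∃ s' ∈ S, s * s' ≠ s' * s)
    (hZ2A : Z2 S ≤ A) {w : Ω} (hw : w ∈ Z2 S) (hwZ : w ∉ Zc S) (hwp : w ^ p ∈ Zc S)
    (hdec : ∀ b ∈ Z2 S, ∃ j : ℤ, ∃ z ∈ Zc S, b = w ^ j * z) :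
    Nat.card ↥((Zc S) ⊓ ((commutator ↥S).map S.subtype)) = p ∧
      (((Zc S) ⊔ ((commutator ↥S).map S.subtype)).subgroupOf A).index = p ∧
      ((Zc S).subgroupOf (Z2 S)).index = p ∧
      ∀ m : ℕ, ((Zc S).subgroupOf S).index = p ^ m → 3 ≤ m → ¬ Subgroup.lowerCentralSeries S (m - 2) ≤ Zc S := by
  classical
  have hZA : Zc S ≤ A := fun z hz => mem_of_central hA hna (mem_Zc.1 hz).1 (mem_Zc.1 hz).2
  obtain ⟨s₀, hs₀, s₁, hs₁, hss⟩ := hna
  have hnle : ¬ S ≤ A := fun h => hss (hA.hAc s₀ (h hs₀) s₁ (h hs₁))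
  obtain ⟨x, hx, hxA⟩ := SetLike.not_le_iff_exists.1 hnle
  haveI : Finite A := finite_of_le hA.hAS
  haveI : Finite (Zc S) := finite_of_le inf_le_left
  obtain ⟨δ, hδ⟩ : ∃ δ, δ = delta hA hx := ⟨_, rfl⟩
  have hδv : ∀ a : ↥A, ((δ a : ↥A) : Ω) = x * a * x⁻¹ * (a : Ω)⁻¹ := fun a => by rw [hδ]; rfl
  have hker : ∀ a : ↥A, a ∈ δ.ker ↔ (a : Ω) ∈ Zc S := by
    intro a
    rw [MonoidHom.mem_ker]
    constructor
    · intro h
      have h1 : x * a * x⁻¹ * (a : Ω)⁻¹ = 1 := by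
        rw [← hδv, h]
        rfl
      have h2 : x * a = a * x := by
        have := mul_inv_eq_one.1 h1
        exact mul_inv_eq_iff_eq_mul.1 this
      exact mem_Zc.2 ⟨hA.hAS a.2, central_of_comm hA hx hxA a.2 h2⟩
    · intro h
      apply Subtype.ext
      rw [hδv]
      show x * a * x⁻¹ * (a : Ω)⁻¹ = 1
      rw [(mem_Zc.1 h).2 x hx]
      group
  have hY : ∀ a : ↥A, δ a ∈ δ.ker ↔ (a : Ω) ∈ Z2 S := by
    intro a
    rw [hker, hδv]
    constructor
    · intro h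
      refine mem_Z2_of_comm hA a.2 hx hxA ?_
      have := (Zc S).inv_mem h
      have e : (x * a * x⁻¹ * (a : Ω)⁻¹)⁻¹ = a * x * (a : Ω)⁻¹ * x⁻¹ := by group
      rwa [e] at this
    · intro h
      have h1 := (mem_Z2.1 h).2 x hx
      have := (Zc S).inv_mem h1
      have e : (a * x * (a : Ω)⁻¹ * x⁻¹)⁻¹ = x * a * x⁻¹ * (a : Ω)⁻¹ := by group
      rwa [e] at this
  have hZZ2 : Zc S ≤ Z2 S := by
    intro z hz
    refine mem_Z2.2 ⟨(mem_Zc.1 hz).1, fun s hs => ?_⟩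
    rw [← (mem_Zc.1 hz).2 s hs]
    group
    exact (Zc S).one_mem
  have hidxZ2 : ((Zc S).subgroupOf (Z2 S)).index = p := by
    refine index_eq_of_gen (p := p) hZZ2 ?_ hw hwZ hwp ?_
    · intro n hn u hu
      rw [(mem_Zc.1 hu).2 n (mem_Z2.1 hn).1, mul_inv_cancel_right]
      exact hu
    · intro n hn
      obtain ⟨j, z, hz, rfl⟩ := hdec n hn
      exact ⟨j, z, hz, (mem_Zc.1 hz).2 _ (S.zpow_mem (mem_Z2.1 hw).1 j)⟩
  have hcardZ2 : Nat.card (Z2 S) = Nat.card (Zc S) * p := by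
    have h1 := Subgroup.card_mul_index ((Zc S).subgroupOf (Z2 S))
    rw [hidxZ2, card_subgroupOf_inf, inf_eq_left.2 hZZ2] at h1
    exact h1.symm
  have hidxA : (A.subgroupOf S).index = p := by
    refine index_eq_of_gen (p := p) hA.hAS hA.hAn hx hxA (hA.hpow x hx) ?_
    intro n hn
    obtain ⟨i, a, ha, rfl⟩ := hA.hgen x hx hxA n hn
    refine ⟨i, x ^ i * a * (x ^ i)⁻¹, hA.hAn _ (S.pow_mem hx i) a ha, ?_⟩
    rw [zpow_natCast]
    group
  have hcardS : Nat.card S = Nat.card A * p := by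
    have h1 := Subgroup.card_mul_index (A.subgroupOf S)
    rw [hidxA, card_subgroupOf_inf, inf_eq_left.2 hA.hAS] at h1
    exact h1.symm
  obtain ⟨E, hE0, hEs⟩ : ∃ E : ℕ → Subgroup ↥A, E 0 = ⊤ ∧ ∀ k, E (k + 1) = (E k).map δ :=
    ⟨fun k => Nat.rec ⊤ (fun _ K => K.map δ) k, rfl, fun _ => rfl⟩
  have hcount : ∀ K : Subgroup ↥A, Nat.card K = Nat.card (δ.ker ⊓ K : Subgroup ↥A) * Nat.card (K.map δ) := by
    intro K
    rw [← card_subgroupOf_inf]
    exact restrict_card δ K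
  have hkmap : δ.ker.map A.subtype = Zc S := by
    ext y
    constructor
    · rintro ⟨a, ha, rfl⟩
      exact (hker a).1 ha
    · intro hy
      exact ⟨⟨y, hZA hy⟩, (hker _).2 hy, rfl⟩
  have hcardk : Nat.card δ.ker = Nat.card (Zc S) := by
    rw [← hkmap]
    exact Nat.card_congr (Subgroup.equivMapOfInjective _ _ A.subtype_injective).toEquiv
  have hE1le : ∀ k, E (k + 1) ≤ E 1 := by
    intro k
    rw [hEs k, hEs 0, hE0]
    exact Subgroup.map_mono le_top
  have hcardA : Nat.card A = Nat.card δ.ker * Nat.card (E 1) := by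
    have h1 := hcount ⊤
    rw [inf_top_eq, ← hE0, ← hEs 0] at h1
    rw [← h1]
    rw [hE0]
    exact (Nat.card_congr Subgroup.topEquiv.toEquiv).symm
  -- the intersection with the kernel
  have hinter : Nat.card (δ.ker ⊓ E 1 : Subgroup ↥A) = p := by
    obtain ⟨Y, hYdef⟩ : ∃ Y : Subgroup ↥A, Y = (Z2 S).subgroupOf A := ⟨_, rfl⟩
    have hYm : ∀ a : ↥A, a ∈ Y ↔ (a : Ω) ∈ Z2 S := fun a => by rw [hYdef, Subgroup.mem_subgroupOf]
    have hcardY : Nat.card Y = Nat.card (Z2 S) := by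
      rw [hYdef, card_subgroupOf_inf, inf_eq_left.2 hZ2A]
    have hkY : δ.ker ≤ Y := by
      intro a ha
      rw [hYm, ← hY, MonoidHom.mem_ker.1 ha]
      exact Subgroup.one_mem _
    have h1 := hcount Y
    rw [inf_eq_left.2 hkY, hcardY, hcardZ2, hcardk] at h1
    have hYmap : Y.map δ = δ.ker ⊓ E 1 := by
      rw [hEs 0, hE0]
      ext d
      constructor
      · rintro ⟨a, ha, rfl⟩
        exact ⟨(hY a).2 ((hYm a).1 ha), ⟨a, trivial, rfl⟩⟩
      · rintro ⟨hd, ⟨a, -, rfl⟩⟩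
        exact ⟨a, (hYm a).2 ((hY a).1 hd), rfl⟩
    rw [hYmap] at h1
    have hpos : 0 < Nat.card (Zc S) := Nat.card_pos (α := Zc S)
    exact (Nat.eq_of_mul_eq_mul_left hpos h1).symm
  have hstep : ∀ k, Nat.card (E (k + 1)) ≤ p * Nat.card (E (k + 2)) := by
    intro k
    rw [hcount (E (k + 1)), ← hEs (k + 1)]
    refine Nat.mul_le_mul_right _ ?_
    rw [← hinter]
    exact Subgroup.card_le_of_le (inf_le_inf_left _ (hE1le k))
  have hpow : ∀ k, Nat.card (E 1) ≤ p ^ k * Nat.card (E (k + 1)) := by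
    intro k
    induction k with
    | zero => simp
    | succ k ih =>
      calc Nat.card (E 1) ≤ p ^ k * Nat.card (E (k + 1)) := ih
        _ ≤ p ^ k * (p * Nat.card (E (k + 2))) := Nat.mul_le_mul_left _ (hstep k)
        _ = _ := by rw [pow_succ, mul_assoc]
  have hγ : ∀ k, ∀ e ∈ E k, (e : Ω) ∈ Subgroup.lowerCentralSeries S k := by
    intro k
    induction k with
    | zero =>
      intro e _
      exact hA.hAS e.2
    | succ k ih =>
      intro e he
      rw [hEs k] at he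
      obtain ⟨a, ha, rfl⟩ := he
      rw [hδv]
      have h1 : ⁅(a : Ω), x⁆ ∈ Subgroup.lowerCentralSeries S (k + 1) :=
        Subgroup.commutator_mem_commutator (ih a ha) hx
      have h2 := Subgroup.inv_mem _ h1
      have e : (⁅(a : Ω), x⁆)⁻¹ = x * a * x⁻¹ * (a : Ω)⁻¹ := by
        rw [commutatorElement_def]
        group
      rwa [e] at h2
  -- the commutator subgroup
  have hS' : (commutator ↥S).map S.subtype = (E 1).map A.subtype := by
    have hE1 : E 1 = δ.range := by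
      rw [hEs 0, hE0, MonoidHom.range_eq_map]
    obtain ⟨D', hD'⟩ : ∃ D', D' = (E 1).map A.subtype := ⟨_, rfl⟩
    rw [← hD']
    have hD'mem : ∀ a : ↥A, x * a * x⁻¹ * (a : Ω)⁻¹ ∈ D' := by
      intro a
      rw [hD', hE1]
      exact ⟨δ a, ⟨a, rfl⟩, hδv a⟩
    have hD'A : D' ≤ A := by
      rw [hD']
      exact Subgroup.map_subtype_le _
    have hD'x : ∀ d ∈ D', x * d * x⁻¹ ∈ D' := by
      intro d hd
      rw [hD', hE1] at hd
      obtain ⟨_, ⟨a, rfl⟩, rfl⟩ := hd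
      have h1 := hD'mem ⟨x * a * x⁻¹, hA.hAn x hx a a.2⟩
      have e : (x * (⟨x * a * x⁻¹, hA.hAn x hx a a.2⟩ : ↥A) * x⁻¹ * ((⟨x * a * x⁻¹, hA.hAn x hx a a.2⟩ : ↥A) : Ω)⁻¹) = x * (A.subtype (δ a)) * x⁻¹ := by
        show x * (x * a * x⁻¹) * x⁻¹ * (x * a * x⁻¹)⁻¹ = x * ((δ a : ↥A) : Ω) * x⁻¹
        rw [hδv]
        group
      rwa [e] at h1
    have hD'pow : ∀ (i : ℕ), ∀ d ∈ D', x ^ i * d * (x ^ i)⁻¹ ∈ D' := by
      intro i
      induction i with
      | zero => intro d hd; simpa using hd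
      | succ i ih =>
        intro d hd
        have h1 := hD'x _ (ih d hd)
        rw [pow_succ']
        have e : x * x ^ i * d * (x * x ^ i)⁻¹ = x * (x ^ i * d * (x ^ i)⁻¹) * x⁻¹ := by group
        rwa [e]
    have hD's : ∀ s ∈ S, ∀ d ∈ D', s * d * s⁻¹ ∈ D' := by
      intro s hs d hd
      obtain ⟨i, c, hc, rfl⟩ := hA.hgen x hx hxA s hs
      have e : x ^ i * c * d * (x ^ i * c)⁻¹ = x ^ i * (c * d * c⁻¹) * (x ^ i)⁻¹ := by group
      rw [e, hA.hAc c hc d (hD'A hd)]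
      have e2 : d * c * c⁻¹ = d := by group
      rw [e2]
      exact hD'pow i d hd
    haveI hNn : (D'.subgroupOf S).Normal := by
      constructor
      intro u hu s
      rw [Subgroup.mem_subgroupOf] at hu ⊢
      exact hD's s s.2 u hu
    obtain ⟨π, hπ⟩ : ∃ π, π = QuotientGroup.mk' (D'.subgroupOf S) := ⟨_, rfl⟩
    have hπk : ∀ y : ↥S, π y = 1 ↔ (y : Ω) ∈ D' := by
      intro y
      rw [hπ, ← MonoidHom.mem_ker, QuotientGroup.ker_mk', Subgroup.mem_subgroupOf]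
    have hπ1 : ∀ a : ↥A, π ⟨x, hx⟩ * π ⟨a, hA.hAS a.2⟩ = π ⟨a, hA.hAS a.2⟩ * π ⟨x, hx⟩ := by
      intro a
      rw [← commutatorElement_eq_one_iff_mul_comm, ← map_commutatorElement, hπk]
      exact hD'mem a
    have hπ2 : ∀ a b : ↥A, π ⟨a, hA.hAS a.2⟩ * π ⟨b, hA.hAS b.2⟩ = π ⟨b, hA.hAS b.2⟩ * π ⟨a, hA.hAS a.2⟩ := by
      intro a b
      rw [← map_mul, ← map_mul]
      congr 1
      exact Subtype.ext (hA.hAc a a.2 b b.2)
    have hπ3 : ∀ s : ↥S, ∃ (i : ℕ) (a : ↥A), π s = π ⟨x, hx⟩ ^ i * π ⟨a, hA.hAS a.2⟩ := by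
      rintro ⟨s, hs⟩
      obtain ⟨i, a, ha, rfl⟩ := hA.hgen x hx hxA s hs
      refine ⟨i, ⟨a, ha⟩, ?_⟩
      rw [← map_pow, ← map_mul]
      rfl
    apply le_antisymm
    · rintro _ ⟨y, hy, rfl⟩
      have hle : commutator ↥S ≤ D'.subgroupOf S := by
        rw [commutator_def, Subgroup.commutator_le]
        intro s₁ _ s₂ _
        rw [Subgroup.mem_subgroupOf, ← hπk, map_commutatorElement, commutatorElement_eq_one_iff_mul_comm]
        obtain ⟨i, a, h1⟩ := hπ3 s₁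
        obtain ⟨j, b, h2⟩ := hπ3 s₂
        rw [h1, h2]
        have c1 : Commute (π ⟨x, hx⟩ ^ i) (π ⟨x, hx⟩ ^ j) := Commute.pow_pow_self _ i j
        have c2 : Commute (π ⟨x, hx⟩ ^ i) (π ⟨b, hA.hAS b.2⟩) := Commute.pow_left (hπ1 b) i
        have c3 : Commute (π ⟨a, hA.hAS a.2⟩) (π ⟨x, hx⟩ ^ j) := (Commute.pow_left (hπ1 a) j).symm
        have c4 : Commute (π ⟨a, hA.hAS a.2⟩) (π ⟨b, hA.hAS b.2⟩) := hπ2 a b
        exact (Commute.mul_left (c1.mul_right c2) (c3.mul_right c4))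
      have := hle hy
      rwa [Subgroup.mem_subgroupOf] at this
    · rw [hD', hE1]
      rintro _ ⟨_, ⟨a, rfl⟩, rfl⟩
      refine ⟨⁅(⟨x, hx⟩ : ↥S), (⟨a, hA.hAS a.2⟩ : ↥S)⁆, ?_, ?_⟩
      · rw [commutator_def]
        exact Subgroup.commutator_mem_commutator (Subgroup.mem_top _) (Subgroup.mem_top _)
      · show x * a * x⁻¹ * (a : Ω)⁻¹ = ((δ a : ↥A) : Ω)
        rw [hδv]
  refine ⟨?_, ?_, hidxZ2, ?_⟩
  · rw [hS', ← hkmap, ← Subgroup.map_inf _ _ _ A.subtype_injective, ← hinter]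
    exact (Nat.card_congr (Subgroup.equivMapOfInjective _ _ A.subtype_injective).toEquiv).symm
  · rw [hS', ← hkmap, ← Subgroup.map_sup]
    have e : ((δ.ker ⊔ E 1).map A.subtype).subgroupOf A = δ.ker ⊔ E 1 :=
      Subgroup.comap_map_eq_self_of_injective A.subtype_injective _
    rw [e]
    have h1 := hcount (δ.ker ⊔ E 1)
    rw [inf_eq_left.2 le_sup_left, Subgroup.map_sup, (Subgroup.map_eq_bot_iff _).2 le_rfl, bot_sup_eq, ← hEs 1] at h1
    have h2 := hcount (E 1)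
    rw [hinter, ← hEs 1] at h2
    have h3 := Subgroup.card_mul_index (δ.ker ⊔ E 1)
    rw [hcardA, h2, h1] at h3
    have hpos : 0 < Nat.card ↥δ.ker * Nat.card ↥(E (1 + 1)) := Nat.mul_pos Nat.card_pos Nat.card_pos
    apply Nat.eq_of_mul_eq_mul_left hpos
    rw [h3]
    ring
  · intro m hm hm3 hle
    have h1 := Subgroup.card_mul_index ((Zc S).subgroupOf S)
    rw [hm, card_subgroupOf_inf, inf_eq_left.2 inf_le_left, hcardS, hcardA, hcardk] at h1
    obtain ⟨k, rfl⟩ : ∃ k, m = k + 3 := ⟨m - 3, by omega⟩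
    have hpos : 0 < Nat.card (Zc S) := Nat.card_pos
    have h2 : p ^ (k + 3) = Nat.card (E 1) * p := by
      apply Nat.eq_of_mul_eq_mul_left hpos
      rw [h1]
      ring
    have h3 : Nat.card (E 1) = p ^ (k + 2) := by
      apply Nat.eq_of_mul_eq_mul_right hp.out.pos
      rw [← h2, pow_succ]
    have h4 := hpow k
    rw [h3, pow_add] at h4
    have hpk : 0 < p ^ k := pow_pos hp.out.pos k
    have h5 : p ^ 2 ≤ Nat.card (E (k + 1)) := Nat.le_of_mul_le_mul_left h4 hpk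
    have h6 : E (k + 1) ≤ δ.ker ⊓ E 1 := by
      refine le_inf (fun e he => ?_) (hE1le k)
      rw [hker]
      apply hle
      have e2 : k + 3 - 2 = k + 1 := by omega
      rw [e2]
      exact hγ (k + 1) e he
    have h7 := Subgroup.card_le_of_le h6
    rw [hinter] at h7
    have h8 : p ^ 2 ≤ p := h5.trans h7
    have h9 : p * p ≤ p := by
      rwa [pow_two] at h8
    have := Nat.le_of_mul_le_mul_left (by simpa using h9 : p * p ≤ p * 1) hp.out.pos
    exact absurd this (by have := hp.out.two_le; omega)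

section Fusion

variable [Finite S] {F : FusionSystem S}

/-- The second centre when an essential subgroup other than `A` exists. -/
theorem ess_second (hS : IsPGroup p S) (hF : F.IsSaturated p) (hA : Setup S A p)
    (hna : ∃ s ∈ S, ∃ s' ∈ S, s * s' ≠ s' * s)
    (huniq : ∀ B : Subgroup Ω, B ≤ S → IsMulCommutative ↥B → (B.subgroupOf S).index = p → B = A)
    {P : Subgroup Ω} (hP : F.IsEssential p P) (hPA : P ≠ A) :
    Z2 S ≤ A ∧ ∃ w ∈ Z2 S, w ∉ Zc S ∧ w ^ p ∈ Zc S ∧ ∀ b ∈ Z2 S, ∃ j : ℤ, ∃ z ∈ Zc S, b = w ^ j * z := by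
  by_cases hab : ∀ u ∈ P, ∀ v ∈ P, u * v = v * u
  · obtain ⟨x, hxP, hxA, hform, hPZ, a, haA, haZ, haN, hap, hζa, hcase, -⟩ := abelian_case hS hF hA hna hP hPA hab
    have hPS : P ≤ S := hP.1.1
    have hxS := hPS hxP
    have hZP : Zc S ≤ P := by
      rw [hform]
      exact le_sup_left
    have hZ2A : Z2 S ≤ A := by
      intro v hv
      by_contra hvA
      obtain ⟨hvS, hvc⟩ := mem_Z2.1 hv
      have hall : ∀ c ∈ A, x * c * x⁻¹ * c⁻¹ ∈ Zc S := by
        intro c hc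
        have h1 := hvc c (hA.hAS hc)
        have h2 : c * v * c⁻¹ * v⁻¹ ∈ Zc S := by
          have := (Zc S).inv_mem h1
          have e : (v * c * v⁻¹ * c⁻¹)⁻¹ = c * v * c⁻¹ * v⁻¹ := by group
          rwa [e] at this
        have h3 := mem_Z2_of_comm hA hc hvS hvA h2
        have h4 := (mem_Z2.1 h3).2 x hxS
        have := (Zc S).inv_mem h4
        have e : (c * x * c⁻¹ * x⁻¹)⁻¹ = x * c * x⁻¹ * c⁻¹ := by group
        rwa [e] at this
      -- then `P` is another abelian subgroup of index `p`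
      have hPeq := huniq P hPS ⟨⟨fun u v => Subtype.ext (hab u u.2 v v.2)⟩⟩ ?_
      · exact hPA hPeq
      · refine index_eq_of_gen (p := p) hPS ?_ (hA.hAS haA) (fun h => haZ (hPZ a h haA)) (hZP hap) ?_
        · intro n hn u hu
          obtain ⟨i, c, hc, rfl⟩ := hA.hgen x hxS hxA n hn
          have hcN : c * u * c⁻¹ ∈ P := by
            obtain ⟨k, d, hd, rfl⟩ := hA.hgen x hxS hxA u (hPS hu)
            have hdP : d ∈ P := by
              have := P.mul_mem (P.inv_mem (P.pow_mem hxP k)) hu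
              simpa using this
            have hdZ := hPZ d hdP hd
            have hζ := (Zc S).inv_mem (hall c hc)
            have h1 : c * x * c⁻¹ = x * (x * c * x⁻¹ * c⁻¹)⁻¹ := by
              rw [(mem_Zc.1 hζ).2 x hxS]
              group
            have h2 := conj_pow_of_comm h1 ((mem_Zc.1 hζ).2 x hxS) k
            have h3 : c * (x ^ k * d) * c⁻¹ = (c * x ^ k * c⁻¹) * (c * d * c⁻¹) := by group
            have h4 : c * d * c⁻¹ = d := by
              rw [hA.hAc c hc d hd]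
              group
            rw [h3, h2, h4]
            exact P.mul_mem (P.mul_mem (P.pow_mem hxP k) (P.pow_mem (hZP hζ) k)) hdP
          have e : x ^ i * c * u * (x ^ i * c)⁻¹ = x ^ i * (c * u * c⁻¹) * (x ^ i)⁻¹ := by group
          rw [e]
          exact P.mul_mem (P.mul_mem (P.pow_mem hxP i) hcN) (P.inv_mem (P.pow_mem hxP i))
        · intro n hn
          obtain ⟨i, c, hc, rfl⟩ := hA.hgen x hxS hxA n hn
          obtain ⟨j, z, hz, rfl⟩ := hcase c hc (hall c hc)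
          refine ⟨j, x ^ i * z, P.mul_mem (P.pow_mem hxP i) (hZP hz), ?_⟩
          have h1 : a ^ j * z = z * a ^ j := (mem_Zc.1 hz).2 _ (hA.hAS (A.zpow_mem haA j))
          rw [h1]
          group
    refine ⟨hZ2A, a, ?_, haZ, hap, ?_⟩
    · refine mem_Z2_of_comm hA haA hxS hxA ?_
      have := (Zc S).inv_mem hζa
      have e : (x * a * x⁻¹ * a⁻¹)⁻¹ = a * x * a⁻¹ * x⁻¹ := by group
      rwa [e] at this
    · intro b hb
      refine hcase b (hZ2A hb) ?_
      have h1 := (mem_Z2.1 hb).2 x hxS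
      have := (Zc S).inv_mem h1
      have e : (b * x * b⁻¹ * x⁻¹)⁻¹ = x * b * x⁻¹ * b⁻¹ := by group
      rwa [e] at this
  · obtain ⟨y, hyP, hyA, hZ2, hform, -, ⟨w, hw, hwZ, hwp, hdec⟩, -⟩ := nonabelian_case hS hF hA hna hP hPA hab
    refine ⟨hZ2, w, hw, hwZ, hwp, fun b hb => ?_⟩
    obtain ⟨i, z, hz, rfl⟩ := hdec b hb
    exact ⟨i, z, hz, by rw [zpow_natCast]⟩

/-- **S5257** -/
theorem main57 (hS : IsPGroup p S) (hF : F.IsSaturated p) (hna : ¬ IsMulCommutative ↥S)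
    (hA : A ≤ S ∧ IsMulCommutative ↥A ∧ (A.subgroupOf S).index = p)
    (huniq : ∀ B : Subgroup Ω, B ≤ S → IsMulCommutative ↥B → (B.subgroupOf S).index = p → B = A)
    (P : Subgroup Ω) (hP : F.IsEssential p P) (hPA : P ≠ A) :
    ((Subgroup.upperCentralSeries ↥S 2).map S.subtype) ≤ A ∧
      Nat.card ↥((S ⊓ Subgroup.centralizer (S : Set Ω)) ⊓ ((commutator ↥S).map S.subtype)) = p ∧
      (((S ⊓ Subgroup.centralizer (S : Set Ω)) ⊔ ((commutator ↥S).map S.subtype)).subgroupOf A).index = p ∧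
      (((S ⊓ Subgroup.centralizer (S : Set Ω))).subgroupOf ((Subgroup.upperCentralSeries ↥S 2).map S.subtype)).index = p ∧
      ∀ m : ℕ, ((S ⊓ Subgroup.centralizer (S : Set Ω)).subgroupOf S).index = p ^ m → 3 ≤ m →
        ¬ Subgroup.lowerCentralSeries S (m - 2) ≤ (S ⊓ Subgroup.centralizer (S : Set Ω)) := by
  have hset := setup_of hS hA.1 hA.2.1 hA.2.2
  have hna' := exists_noncomm hna
  obtain ⟨hZ2, w, hw, hwZ, hwp, hdec⟩ := ess_second hS hF hset hna' huniq hP hPA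
  exact ⟨hZ2, counting hS hset hna' hZ2 hw hwZ hwp hdec⟩

end Fusion

end Cfsg.Agent.Lib.Fusion2.AbelIdx
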