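import Cfsg.Agent.Lib.Fusion2.AbelIdx2
import Cfsg.Agent.Lib.Fusion2.NormalAPI

/-!
# Essential subgroups when `A` is not essential
-/

set_option autoImplicit false
set_option linter.unusedSectionVars false

namespace Cfsg.Agent.Lib.Fusion2.AbelIdx

open Cfsg Cfsg.FusionSystem Cfsg.Agent.Lib.Fusion
open scoped commutatorElement

variable {Ω : Type*} [Group Ω] {S A : Subgroup Ω} {p : ℕ} [hp : Fact p.Prime]

theorem fn_Zc (h : MulAut S) {z : Ω} (hz : z ∈ Zc S) : fn h z ∈ Zc S := by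
  obtain ⟨hzS, hzc⟩ := mem_Zc.1 hz
  refine mem_Zc.2 ⟨fn_mem h hzS, fun s hs => ?_⟩
  have h1 := fn_fn_inv h hs
  have h2 := hzc _ (fn_mem h⁻¹ hs)
  have h3 := congrArg (fn h) h2
  rw [fn_map_mul h (fn_mem h⁻¹ hs) hzS, fn_map_mul h hzS (fn_mem h⁻¹ hs), h1] at h3
  exact h3

section Fusion

variable [Finite S] {F : FusionSystem S}

/-- The action of the system on the centre, controlled by `Aut_F(S)` on a class of subgroups. -/
theorem act_lemma (hS : IsPGroup p S) (hF : F.IsSaturated p) (C : Subgroup Ω → Prop) (hCZ : ∀ R, C R → Zc S ≤ R)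
    (hC1 : ∀ α ∈ F.autGroup S, ∀ R, R ≤ S → (C R ↔ C ((R.subgroupOf S).map (S.subtype.comp α.toMonoidHom))))
    (hC2 : ∀ E, F.IsEssential p E → ∀ α ∈ F.autGroup E, ∀ R, R ≤ E →
      (C R ↔ C ((R.subgroupOf E).map (E.subtype.comp α.toMonoidHom))) ∧ (C R → ∃ h ∈ F.autGroup S, ∀ z ∈ Zc S, fn α z = fn h z))
    {P : Subgroup Ω} {φ : P →* Ω} (hφ : φ ∈ F.Hom P) {R : Subgroup Ω} (hRP : R ≤ P) (hR : C R) :
    ∃ h ∈ F.autGroup S, ∀ z ∈ Zc S, toFun φ z = fn h z := by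
  refine (alperin_induction (F := F) hS hF (fun P φ => ∀ R, R ≤ P → (C R ↔ C ((R.subgroupOf P).map φ)) ∧
    (C R → ∃ h ∈ F.autGroup S, ∀ z ∈ Zc S, toFun φ z = fn h z)) ?_ ?_ ?_ ?_ hφ) R hRP |>.2 hR
  · intro P g hP hg R hRP
    have hαg : MulAut.conj (⟨g, hg⟩ : S) ∈ F.autGroup S := inn_le_autGroup le_rfl ⟨⟨g, hg⟩, rfl⟩
    have himg : (R.subgroupOf P).map (conjHom P g) = (R.subgroupOf S).map (S.subtype.comp (MulAut.conj (⟨g, hg⟩ : S)).toMonoidHom) := by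
      ext y
      constructor
      · rintro ⟨u, hu, rfl⟩
        exact ⟨⟨u, hP u.2⟩, hu, rfl⟩
      · rintro ⟨u, hu, rfl⟩
        exact ⟨⟨u, hRP hu⟩, hu, rfl⟩
    refine ⟨?_, fun hCR => ⟨1, Subgroup.one_mem _, fun z hz => ?_⟩⟩
    · rw [himg]
      exact hC1 _ hαg R (hRP.trans hP)
    · have hzP : z ∈ P := hRP (hCZ R hCR hz)
      rw [toFun_of_mem _ hzP, fn_one (mem_Zc.1 hz).1]
      show g * z * g⁻¹ = z
      rw [(mem_Zc.1 hz).2 g hg]
      group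
  · intro P Q φ ψ hφ hψ hΦφ hΦψ h R hRP
    obtain ⟨R', hR''⟩ : ∃ R', R' = (R.subgroupOf P).map φ := ⟨_, rfl⟩
    have hR'Q : R' ≤ Q := by
      rw [hR'']
      rintro _ ⟨u, -, rfl⟩
      exact h u
    have himg : (R.subgroupOf P).map (ψ.comp (φ.codRestrict Q h)) = (R'.subgroupOf Q).map ψ := by
      ext y
      constructor
      · rintro ⟨u, hu, rfl⟩
        refine ⟨φ.codRestrict Q h u, ?_, rfl⟩
        show φ.codRestrict Q h u ∈ R'.subgroupOf Q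
        rw [Subgroup.mem_subgroupOf, hR'']
        exact ⟨u, hu, rfl⟩
      · rintro ⟨v, hv, rfl⟩
        have hv' : v ∈ R'.subgroupOf Q := hv
        rw [Subgroup.mem_subgroupOf, hR''] at hv'
        obtain ⟨u, hu, hue⟩ := hv'
        refine ⟨u, hu, ?_⟩
        show ψ (φ.codRestrict Q h u) = ψ v
        congr 1
        exact Subtype.ext hue
    obtain ⟨h1, h2⟩ := hΦφ R hRP
    obtain ⟨h3, h4⟩ := hΦψ R' hR'Q
    rw [← hR''] at h1
    refine ⟨?_, fun hCR => ?_⟩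
    · rw [himg, h1, h3]
    · obtain ⟨h₁, hh₁, hv₁⟩ := h2 hCR
      obtain ⟨h₂, hh₂, hv₂⟩ := h4 (h1.1 hCR)
      refine ⟨h₂ * h₁, Subgroup.mul_mem _ hh₂ hh₁, fun z hz => ?_⟩
      have hzP : z ∈ P := hRP (hCZ R hCR hz)
      have hzS := (mem_Zc.1 hz).1
      rw [fn_mul _ _ hzS, ← hv₁ z hz, ← hv₂ _ (by rw [hv₁ z hz]; exact fn_Zc h₁ hz), toFun_of_mem _ hzP, toFun_of_mem φ hzP, toFun_of_mem ψ (h ⟨z, hzP⟩)]
      rfl
  · intro P φ ψ hφ hψ hψv hΦ R hRr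
    obtain ⟨R₀, hR₀⟩ : ∃ R₀, R₀ = (R.subgroupOf φ.range).map ψ := ⟨_, rfl⟩
    have hR₀P : R₀ ≤ P := by
      rw [hR₀]
      rintro _ ⟨⟨u, ⟨v, rfl⟩⟩, -, rfl⟩
      rw [hψv]
      exact v.2
    have hR₀φ : (R₀.subgroupOf P).map φ = R := by
      ext y
      constructor
      · rintro ⟨u, hu, rfl⟩
        have hu' : u ∈ R₀.subgroupOf P := hu
        rw [Subgroup.mem_subgroupOf, hR₀] at hu'
        obtain ⟨⟨w, ⟨v, rfl⟩⟩, hw, hwe⟩ := hu'
        rw [hψv] at hwe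
        have e : v = u := Subtype.ext hwe
        rw [← e]
        exact hw
      · intro hy
        obtain ⟨v, hv⟩ := hRr hy
        refine ⟨v, ?_, hv⟩
        show v ∈ R₀.subgroupOf P
        rw [Subgroup.mem_subgroupOf, hR₀]
        refine ⟨⟨y, hRr hy⟩, hy, ?_⟩
        have e : (⟨y, hRr hy⟩ : φ.range) = ⟨φ v, ⟨v, rfl⟩⟩ := Subtype.ext hv.symm
        rw [e, hψv]
    obtain ⟨h1, h2⟩ := hΦ R₀ hR₀P
    rw [hR₀φ] at h1
    rw [← hR₀]
    refine ⟨h1.symm, fun hCR => ?_⟩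
    obtain ⟨h₁, hh₁, hv₁⟩ := h2 (h1.2 hCR)
    refine ⟨h₁⁻¹, Subgroup.inv_mem _ hh₁, fun z hz => ?_⟩
    have hzr : z ∈ φ.range := hRr (hCZ R hCR hz)
    have hy := fn_Zc h₁⁻¹ hz
    have hyP : fn h₁⁻¹ z ∈ P := hR₀P (hCZ R₀ (h1.2 hCR) hy)
    have h3 := hv₁ _ hy
    rw [fn_fn_inv h₁ (mem_Zc.1 hz).1, toFun_of_mem _ hyP] at h3
    rw [toFun_of_mem _ hzr]
    have e : (⟨z, hzr⟩ : φ.range) = ⟨φ ⟨_, hyP⟩, ⟨_, rfl⟩⟩ := Subtype.ext h3.symm
    rw [e, hψv]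
  · intro E hE α hα R hRE
    rcases hE with rfl | hE
    · refine ⟨hC1 α hα R hRE, fun _ => ⟨α, hα, fun z _ => rfl⟩⟩
    · exact hC2 E hE α hα R hRE

/-- Membership in an image. -/
theorem mem_img {E R : Subgroup Ω} (c : MulAut E) {u : Ω} : u ∈ (R.subgroupOf E).map (E.subtype.comp c.toMonoidHom) ↔ u ∈ E ∧ fn c⁻¹ u ∈ R := by
  constructor
  · rintro ⟨r, hr, rfl⟩
    refine ⟨(c r).2, ?_⟩
    have h1 : (E.subtype.comp c.toMonoidHom) r = fn c r := (fn_coe c r).symm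
    rw [h1, fn_inv_fn c r.2]
    exact hr
  · rintro ⟨hu, hr⟩
    refine ⟨⟨_, fn_mem c⁻¹ hu⟩, hr, ?_⟩
    exact (fn_coe c ⟨_, fn_mem c⁻¹ hu⟩).symm.trans (fn_fn_inv c hu)

/-- The classes of subgroups. -/
def Rr (S A R : Subgroup Ω) : Prop := Z2 S ≤ R ∧ ¬ R ≤ A

def Rs (S A R : Subgroup Ω) : Prop := Z2 S ≤ R ∧ ¬ R ≤ A ∧ ¬ R ⊓ A ≤ Z2 S

theorem fn_Z2 (h : MulAut S) {z : Ω} (hz : z ∈ Z2 S) : fn h z ∈ Z2 S := by
  obtain ⟨hzS, hzc⟩ := mem_Z2.1 hz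
  refine mem_Z2.2 ⟨fn_mem h hzS, fun s hs => ?_⟩
  have h1 := fn_fn_inv h hs
  have h2 := fn_Zc h (hzc _ (fn_mem h⁻¹ hs))
  have hs' := fn_mem h⁻¹ hs
  rw [fn_map_mul h (S.mul_mem (S.mul_mem hzS hs') (S.inv_mem hzS)) (S.inv_mem hs'),
    fn_map_mul h (S.mul_mem hzS hs') (S.inv_mem hzS), fn_map_mul h hzS hs', fn_map_inv h hzS, fn_map_inv h hs', h1] at h2
  exact h2

/-- The context of the theorem. -/
structure Ctx (F : FusionSystem S) (A : Subgroup Ω) (p : ℕ) : Prop where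
  hS : IsPGroup p S
  hF : F.IsSaturated p
  hset : Setup S A p
  hna : ∃ s ∈ S, ∃ s' ∈ S, s * s' ≠ s' * s
  hfnA : ∀ α : MulAut S, ∀ u ∈ A, fn α u ∈ A
  hAe : ¬ F.IsEssential p A
  hZ2A : Z2 S ≤ A
  hw : ∃ w ∈ Z2 S, w ∉ Zc S ∧ w ^ p ∈ Zc S ∧ ∀ b ∈ Z2 S, ∃ j : ℤ, ∃ z ∈ Zc S, b = w ^ j * z

theorem Ctx.fnA_iff (ctx : Ctx F A p) (α : MulAut S) {u : Ω} (hu : u ∈ S) : fn α u ∈ A ↔ u ∈ A := by
  refine ⟨fun h => ?_, ctx.hfnA α u⟩
  have h1 := ctx.hfnA α⁻¹ _ h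
  rwa [fn_inv_fn α hu] at h1

theorem Ctx.img_Rr (ctx : Ctx F A p) (α : MulAut S) {R : Subgroup Ω} (hRS : R ≤ S) (hR : Rr S A R) :
    Rr S A ((R.subgroupOf S).map (S.subtype.comp α.toMonoidHom)) := by
  obtain ⟨h1, h2⟩ := hR
  refine ⟨fun z hz => (mem_img α).2 ⟨(mem_Z2.1 hz).1, h1 (fn_Z2 α⁻¹ hz)⟩, fun hle => h2 (fun r hr => ?_)⟩
  have h3 : fn α r ∈ (R.subgroupOf S).map (S.subtype.comp α.toMonoidHom) := by
    refine (mem_img α).2 ⟨fn_mem α (hRS hr), ?_⟩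
    rw [fn_inv_fn α (hRS hr)]
    exact hr
  exact (ctx.fnA_iff α (hRS hr)).1 (hle h3)

theorem Ctx.img_Rs (ctx : Ctx F A p) (α : MulAut S) {R : Subgroup Ω} (hRS : R ≤ S) (hR : Rs S A R) :
    Rs S A ((R.subgroupOf S).map (S.subtype.comp α.toMonoidHom)) := by
  obtain ⟨h1, h2, h3⟩ := hR
  obtain ⟨h4, h5⟩ := ctx.img_Rr α hRS ⟨h1, h2⟩
  refine ⟨h4, h5, fun hle => h3 (fun r hr => ?_)⟩
  have h6 : fn α r ∈ (R.subgroupOf S).map (S.subtype.comp α.toMonoidHom) := by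
    refine (mem_img α).2 ⟨fn_mem α (hRS hr.1), ?_⟩
    rw [fn_inv_fn α (hRS hr.1)]
    exact hr.1
  have h7 := hle ⟨h6, ctx.hfnA α _ hr.2⟩
  have h8 := fn_Z2 α⁻¹ h7
  rwa [fn_inv_fn α (hRS hr.1)] at h8

theorem img_img {E R : Subgroup Ω} (c : MulAut E) (hRE : R ≤ E) :
    (((R.subgroupOf E).map (E.subtype.comp c.toMonoidHom)).subgroupOf E).map (E.subtype.comp (c⁻¹).toMonoidHom) = R := by
  ext u
  rw [mem_img, inv_inv, mem_img]
  constructor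
  · rintro ⟨hu, -, h2⟩
    rwa [fn_inv_fn c hu] at h2
  · intro hu
    refine ⟨hRE hu, fn_mem c (hRE hu), ?_⟩
    rwa [fn_inv_fn c (hRE hu)]

/-- The action of `b ∈ A` on `x ^ i * z`. -/
theorem abel_act (hA : Setup S A p) {x : Ω} (hxS : x ∈ S) (hZA : Zc S ≤ A) {b : Ω} (hbA : b ∈ A) (hζ : x * b * x⁻¹ * b⁻¹ ∈ Zc S) (i : ℕ) {z : Ω}
    (hz : z ∈ Zc S) : (x ^ i * z)⁻¹ * (b * (x ^ i * z) * b⁻¹) = ((x * b * x⁻¹ * b⁻¹)⁻¹) ^ i := by
  have hζ' := (Zc S).inv_mem hζ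
  have h1 : b * x * b⁻¹ = x * (x * b * x⁻¹ * b⁻¹)⁻¹ := by
    rw [(mem_Zc.1 hζ').2 x hxS]
    group
  have h2 := conj_pow_of_comm h1 ((mem_Zc.1 hζ').2 x hxS) i
  have h3 : b * z * b⁻¹ = z := by
    rw [(mem_Zc.1 hz).2 b (hA.hAS hbA)]
    group
  have h4 : b * (x ^ i * z) * b⁻¹ = (b * x ^ i * b⁻¹) * (b * z * b⁻¹) := by group
  rw [h4, h2, h3]
  rw [mul_inv_rev]
  calc z⁻¹ * (x ^ i)⁻¹ * (x ^ i * ((x * b * x⁻¹ * b⁻¹)⁻¹) ^ i * z) = z⁻¹ * (((x * b * x⁻¹ * b⁻¹)⁻¹) ^ i * z) := by group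
    _ = z⁻¹ * (z * ((x * b * x⁻¹ * b⁻¹)⁻¹) ^ i) := by
      rw [(mem_Zc.1 ((Zc S).pow_mem hζ' i)).2 z (hA.hAS (hZA hz))]
    _ = _ := by group

/-- The main claim for an abelian essential subgroup. -/
theorem abel_claim (hS : IsPGroup p S) (hF : F.IsSaturated p) (hA : Setup S A p) {P : Subgroup Ω}
    (hfn : F.IsFullyNormalized P) (hPS : P ≤ S) (hCc : centralizerIn S P ≤ P) (hZP : Zc S ≤ P) (hZA : Zc S ≤ A) {x : Ω} (hxS : x ∈ S)
    (hdec : ∀ u ∈ P, ∃ i : ℕ, ∃ z ∈ Zc S, u = x ^ i * z) (hzb : ∀ b ∈ A, b ∈ normalizerIn S P → x * b * x⁻¹ * b⁻¹ ∈ Zc S)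
    {H : Subgroup (MulAut P)} (hH : H ≤ F.autGroup P)
    (hHs : ∀ w ∈ autInducedBy S P, w ∉ Inn P → ∀ x ∈ F.autGroup P, x * w * x⁻¹ ∈ autInducedBy S P → x ∈ H)
    {g : MulAut P} (hg : g ∈ F.autGroup P) (hgH : g ∉ H) :
    ∀ b ∈ A, b ∈ normalizerIn S P → b ∉ P → fn g⁻¹ (x * b * x⁻¹ * b⁻¹) ∉ Zc S := by
  have hnotinn : ∀ b (hb : b ∈ normalizerIn S P), b ∉ P → autOfNormalizer hb.2 ∉ Inn P := fun b hb hbP h =>
    hbP (mem_of_autOfNormalizer_mem_inn hPS hCc hb h)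
  have hin : ∀ b (hb : b ∈ normalizerIn S P), autOfNormalizer hb.2 ∈ autInducedBy S P := fun b hb =>
    autOfNormalizer_mem_autInducedBy hb.2 hb.1
  intro b hbA hbN hbP hmem
  have hζ := hzb b hbA hbN
  obtain ⟨ζ, hζdef⟩ : ∃ ζ, ζ = x * b * x⁻¹ * b⁻¹ := ⟨_, rfl⟩
  rw [← hζdef] at hζ hmem
  have hζP := hZP hζ
  have hgenc : ∀ u : P, u⁻¹ * autOfNormalizer hbN.2 u ∈ Subgroup.zpowers (⟨ζ, hζP⟩ : P) := by
    intro u
    obtain ⟨i, z, hz, hu⟩ := hdec u u.2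
    have h1 := abel_act hA hxS hZA hbA (hζdef ▸ hζ) i hz
    rw [← hu, ← hζdef] at h1
    refine ⟨-(i : ℤ), Subtype.ext ?_⟩
    show ζ ^ (-(i : ℤ)) = (u : Ω)⁻¹ * (b * u * b⁻¹)
    rw [h1, zpow_neg, zpow_natCast, inv_pow]
  have hUZ : ∀ u ∈ Subgroup.zpowers (⟨ζ, hζP⟩ : P), (u : Ω) ∈ Zc S := by
    rintro u ⟨k, rfl⟩
    show ((⟨ζ, hζP⟩ : P) ^ k : P).1 ∈ Zc S
    rw [Subgroup.coe_zpow]
    exact Subgroup.zpow_mem _ hζ k
  have hfixZ : ∀ u : P, (u : Ω) ∈ Zc S → autOfNormalizer hbN.2 u = u := by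
    intro u hu
    apply Subtype.ext
    rw [autOfNormalizer_coe, (mem_Zc.1 hu).2 b hbN.1]
    group
  have hle : Subgroup.zpowers (⟨ζ, hζP⟩ : P) ≤ ((Zc S).subgroupOf P).comap (g⁻¹ : MulAut P).toMonoidHom := by
    rw [Subgroup.zpowers_le, Subgroup.mem_comap, Subgroup.mem_subgroupOf]
    have := fn_coe g⁻¹ (⟨ζ, hζP⟩ : P)
    show (((g⁻¹ : MulAut P) ⟨ζ, hζP⟩ : P) : Ω) ∈ Zc S
    rw [← this]
    exact hmem
  have hfix : ∀ u ∈ ((Zc S).subgroupOf P).comap (g⁻¹ : MulAut P).toMonoidHom, (g * autOfNormalizer hbN.2 * g⁻¹) u = u := by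
    intro u hu
    exact conj_fix (hfixZ _ hu)
  refine no_stab3 hS hF hfn hH hHs (hin b hbN) (hnotinn b hbN hbP) (hin b hbN) (hnotinn b hbN hbP) hg hgH
    (Subgroup.zpowers (⟨ζ, hζP⟩ : P)) (((Zc S).subgroupOf P).comap (g⁻¹ : MulAut P).toMonoidHom) hle ?_ ?_ ?_ ?_ ?_ ?_
  · intro u hu
    exact hfixZ u (hUZ u hu)
  · intro u _
    exact hgenc u
  · intro u
    exact hle (hgenc u)
  · intro u hu
    exact hfix u (hle hu)
  · intro u hu
    rw [hfix u hu, inv_mul_cancel]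
    exact Subgroup.one_mem _
  · intro u
    apply conj_sub
    rw [Subgroup.mem_subgroupOf]
    exact hUZ _ (hgenc _)

/-- Essential subgroups meet `A` in the second centre. -/
theorem Ctx.ess_inter (ctx : Ctx F A p) {E : Subgroup Ω} (hE : F.IsEssential p E) : ∀ u ∈ E, u ∈ A → u ∈ Z2 S := by
  have hEA : E ≠ A := by
    rintro rfl
    exact ctx.hAe hE
  by_cases hab : ∀ u ∈ E, ∀ v ∈ E, u * v = v * u
  · obtain ⟨x, hxP, hxA, hform, hPZ, -⟩ := abelian_case ctx.hS ctx.hF ctx.hset ctx.hna hE hEA hab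
    intro u hu huA
    have h1 := hPZ u hu huA
    refine mem_Z2.2 ⟨(mem_Zc.1 h1).1, fun s hs => ?_⟩
    rw [← (mem_Zc.1 h1).2 s hs]
    group
    exact (Zc S).one_mem
  · obtain ⟨y, hyP, hyA, hZ2, hform, h, -⟩ := nonabelian_case ctx.hS ctx.hF ctx.hset ctx.hna hE hEA hab
    exact h

theorem Ctx.not_Rs (ctx : Ctx F A p) {E : Subgroup Ω} (hE : F.IsEssential p E) {R : Subgroup Ω} (hRE : R ≤ E) : ¬ Rs S A R := by
  rintro ⟨-, -, h⟩
  exact h (fun u hu => ctx.ess_inter hE u (hRE hu.1) hu.2)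

/-- Maps from big subgroups act on the centre as automorphisms of `S`. -/
theorem Ctx.act_Rs (ctx : Ctx F A p) {R : Subgroup Ω} (hR : Rs S A R) {φ : R →* Ω} (hφ : φ ∈ F.Hom R) :
    ∃ h ∈ F.autGroup S, ∀ z ∈ Zc S, toFun φ z = fn h z := by
  refine act_lemma ctx.hS ctx.hF (Rs S A) ?_ ?_ ?_ hφ le_rfl hR
  · rintro R ⟨h, -⟩ z hz
    refine h (mem_Z2.2 ⟨(mem_Zc.1 hz).1, fun s hs => ?_⟩)
    rw [← (mem_Zc.1 hz).2 s hs]
    group
    exact (Zc S).one_mem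
  · intro α _ R hRS
    refine ⟨ctx.img_Rs α hRS, fun h => ?_⟩
    have h1 := ctx.img_Rs α⁻¹ (S := S) (R := (R.subgroupOf S).map (S.subtype.comp α.toMonoidHom)) (fun u hu => ((mem_img α).1 hu).1) h
    rwa [img_img α hRS] at h1
  · intro E hE α _ R hRE
    have h1 := ctx.not_Rs hE hRE
    have h2 : ¬ Rs S A ((R.subgroupOf E).map (E.subtype.comp α.toMonoidHom)) := by
      refine ctx.not_Rs hE (fun u hu => ((mem_img α).1 hu).1)
    exact ⟨iff_of_false h1 h2, fun h => (h1 h).elim⟩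

/-- Automorphisms of nonabelian essential subgroups act on the centre as automorphisms of `S`. -/
theorem Ctx.lemA (ctx : Ctx F A p) {E : Subgroup Ω} (hE : F.IsEssential p E) (hab : ¬ ∀ u ∈ E, ∀ v ∈ E, u * v = v * u)
    {α : MulAut E} (hα : α ∈ F.autGroup E) : ∃ h ∈ F.autGroup S, ∀ z ∈ Zc S, fn α z = fn h z := by
  classical
  have hEA : E ≠ A := by
    rintro rfl
    exact ctx.hAe hE
  obtain ⟨hPS, hCc, hZP, ⟨x, hxP, hxA⟩, a, haA, haN, haP⟩ := ess_basic ctx.hS ctx.hF ctx.hset hE hEA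
  obtain ⟨y, hyP, hyA, hZ2, hform, hP₀Z2, -, -⟩ := nonabelian_case ctx.hS ctx.hF ctx.hset ctx.hna hE hEA hab
  have hxS := hPS hxP
  have hZ2E : Z2 S ≤ E := by
    rw [hform]
    exact le_sup_left
  haveI := finite_of_le hPS
  have hAP := ctx.hset.inf hPS
  have hcen : ∀ u ∈ E, (∀ v ∈ E, v * u = u * v) → u ∈ Zc S := by
    intro u hu huc
    have huA : u ∈ A := by
      by_contra hcon
      have h1 : ∃ s ∈ E, ∃ s' ∈ E, s * s' ≠ s' * s := by
        by_contra hcon2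
        push Not at hcon2
        exact hab hcon2
      exact (mem_of_central hAP h1 hu huc).2 |> hcon
    exact mem_Zc.2 ⟨ctx.hset.hAS huA, central_of_comm ctx.hset hxS hxA huA (huc x hxP)⟩
  have hcenfn : ∀ c : MulAut E, ∀ z ∈ Zc S, fn c z ∈ Zc S := by
    intro c z hz
    have hzP := hZP hz
    refine hcen _ (fn_mem c hzP) (fun v hv => ?_)
    have hv' := fn_mem c⁻¹ hv
    have h1 := (mem_Zc.1 hz).2 _ (hPS hv')
    have h2 := congrArg (fn c) h1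
    rw [fn_map_mul c hv' hzP, fn_map_mul c hzP hv', fn_fn_inv c hv] at h2
    exact h2
  have hfn := hE.2.1
  let K₀ : Subgroup (F.autGroup E) :=
    { carrier := {k | ∀ z ∈ Zc S, fn (k : MulAut E) z = z}
      mul_mem' := by
        intro u v hu hv z hz
        show fn ((u : MulAut E) * (v : MulAut E)) z = z
        rw [fn_mul _ _ (hZP hz), hv z hz, hu z hz]
      one_mem' := by
        intro z hz
        exact fn_one (hZP hz)
      inv_mem' := by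
        intro u hu z hz
        show fn ((u : MulAut E)⁻¹) z = z
        have h1 := fn_inv_fn (u : MulAut E) (hZP hz)
        rwa [hu z hz] at h1 }
  haveI hK₀ : K₀.Normal := by
    constructor
    intro k hk g z hz
    show fn ((g : MulAut E) * (k : MulAut E) * (g : MulAut E)⁻¹) z = z
    rw [fn_mul _ _ (hZP hz), fn_mul _ _ (fn_mem _ (hZP hz)), hk _ (hcenfn _ z hz), fn_fn_inv _ (hZP hz)]
  obtain ⟨R, hR⟩ := (fullyNormalized_spec ctx.hS ctx.hF hfn).2.2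
  have hRK : (R : Subgroup (F.autGroup E)) ≤ K₀ := by
    intro t ht
    rw [hR] at ht
    obtain ⟨g, hg, hgv⟩ := mem_autInducedBy_iff.1 ht
    have hgv' : ∀ w : E, (((t : MulAut E) w : E) : Ω) = g * w * g⁻¹ := hgv
    intro z hz
    rw [fn_of_mem _ (hZP hz), hgv', (mem_Zc.1 hz).2 g hg]
    group
  have htop : Subgroup.normalizer ((R : Subgroup (F.autGroup E)) : Set (F.autGroup E)) ⊔ K₀ = ⊤ := R.normalizer_sup_eq_top' hRK
  have hmem : (⟨α, hα⟩ : F.autGroup E) ∈ ((Subgroup.normalizer ((R : Subgroup (F.autGroup E)) : Set (F.autGroup E)) ⊔ K₀ : Subgroup (F.autGroup E)) : Set (F.autGroup E)) := by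
    rw [htop]
    trivial
  rw [Subgroup.mul_normal] at hmem
  obtain ⟨β, hβ, k, hk, hβk⟩ := Set.mem_mul.1 hmem
  have hact : ∀ z ∈ Zc S, fn α z = fn (β : MulAut E) z := by
    intro z hz
    have e : α = (β : MulAut E) * (k : MulAut E) := (congrArg Subtype.val hβk).symm
    rw [e, fn_mul _ _ (hZP hz), hk z hz]
  have hcaR : (⟨autOfNormalizer haN.2, autOfNormalizer_mem_autGroup hPS haN⟩ : F.autGroup E) ∈ (R : Subgroup (F.autGroup E)) := by
    rw [hR]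
    exact autOfNormalizer_mem_autInducedBy haN.2 haN.1
  have hconj := (Subgroup.mem_normalizer_iff.1 hβ _).1 hcaR
  rw [hR] at hconj
  obtain ⟨ψ, hψ, hψv, hay⟩ := exists_ext_over ctx.hS ctx.hF hfn β.2 haN.1 haN.2 hconj
  have hle := le_extender (F := F) (autGroup_hom hfn.1 β.2)
  have hRs : Rs S A (extender S E (E.subtype.comp (β : MulAut E).toMonoidHom)) := by
    refine ⟨hZ2E.trans hle, fun h => hyA (h (hle hyP)), fun h => ?_⟩
    exact haP (hZ2E (h ⟨hay, haA⟩))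
  obtain ⟨h, hh, hv⟩ := ctx.act_Rs hRs hψ
  refine ⟨h, hh, fun z hz => ?_⟩
  rw [hact z hz, ← hv z hz, toFun_of_mem _ (hle (hZP hz)), fn_of_mem _ (hZP hz), hψv ⟨z, hZP hz⟩]

/-- A subgroup in the class `Rr` inside an essential subgroup is the essential subgroup, which is nonabelian. -/
theorem Ctx.Rr_eq (ctx : Ctx F A p) {E : Subgroup Ω} (hE : F.IsEssential p E) {R : Subgroup Ω} (hRE : R ≤ E) (hR : Rr S A R) :
    R = E := by
  obtain ⟨h1, h2⟩ := hR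
  obtain ⟨r, hr, hrA⟩ := SetLike.not_le_iff_exists.1 h2
  apply le_antisymm hRE
  intro e he
  have hES := hE.1.1
  obtain ⟨i, b, hb, rfl⟩ := ctx.hset.hgen r (hES (hRE hr)) hrA e (hES he)
  have hbE : b ∈ E := by
    have := E.mul_mem (E.inv_mem (E.pow_mem (hRE hr) i)) he
    simpa using this
  exact R.mul_mem (R.pow_mem hr i) (h1 (ctx.ess_inter hE b hbE hb))

/-- Maps from the class `Rr` act on the centre as automorphisms of `S`. -/
theorem Ctx.act_Rr (ctx : Ctx F A p) {R : Subgroup Ω} (hR : Rr S A R) {φ : R →* Ω} (hφ : φ ∈ F.Hom R) :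
    ∃ h ∈ F.autGroup S, ∀ z ∈ Zc S, toFun φ z = fn h z := by
  refine act_lemma ctx.hS ctx.hF (Rr S A) ?_ ?_ ?_ hφ le_rfl hR
  · rintro R ⟨h, -⟩ z hz
    refine h (mem_Z2.2 ⟨(mem_Zc.1 hz).1, fun s hs => ?_⟩)
    rw [← (mem_Zc.1 hz).2 s hs]
    group
    exact (Zc S).one_mem
  · intro α _ R hRS
    refine ⟨ctx.img_Rr α hRS, fun h => ?_⟩
    have h1 := ctx.img_Rr α⁻¹ (S := S) (R := (R.subgroupOf S).map (S.subtype.comp α.toMonoidHom)) (fun u hu => ((mem_img α).1 hu).1) h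
    rwa [img_img α hRS] at h1
  · intro E hE α hα R hRE
    have hEE : (E.subgroupOf E).map (E.subtype.comp α.toMonoidHom) = E := by
      ext u
      rw [mem_img]
      exact ⟨fun h => h.1, fun h => ⟨h, fn_mem α⁻¹ h⟩⟩
    refine ⟨⟨fun h => ?_, fun h => ?_⟩, fun h => ?_⟩
    · have h0 := ctx.Rr_eq hE hRE h
      rw [h0] at h ⊢
      rwa [hEE]
    · have h1 := ctx.Rr_eq hE (fun u hu => ((mem_img α).1 hu).1) h
      have h2 : R = E := by
        apply le_antisymm hRE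
        intro e he
        have h3 : fn α e ∈ (R.subgroupOf E).map (E.subtype.comp α.toMonoidHom) := by
          rw [h1]
          exact fn_mem α he
        have h4 := ((mem_img α).1 h3).2
        rwa [fn_inv_fn α he] at h4
      rw [h2, hEE] at h
      rw [h2]
      exact h
    · have h1 : ¬ ∀ u ∈ E, ∀ v ∈ E, u * v = v * u := by
        intro hab
        have hEA : E ≠ A := by
          rintro rfl
          exact ctx.hAe hE
        obtain ⟨x, hxP, hxA, hform, hPZ, -⟩ := abelian_case ctx.hS ctx.hF ctx.hset ctx.hna hE hEA hab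
        obtain ⟨w, hw, hwZ, -⟩ := ctx.hw
        exact hwZ (hPZ w (hRE (h.1 hw)) (ctx.hZ2A hw))
      exact ctx.lemA hE h1 hα

/-- The `-1` automorphism attached to a pair of transvections. -/
theorem Ctx.abel_data (ctx : Ctx F A p) (hp2 : p ≠ 2) {P : Subgroup Ω} (hP : F.IsEssential p P)
    (hab : ∀ u ∈ P, ∀ v ∈ P, u * v = v * u) {H : Subgroup (MulAut P)} (hH : H ≤ F.autGroup P)
    (hHs : ∀ w ∈ autInducedBy S P, w ∉ Inn P → ∀ x ∈ F.autGroup P, x * w * x⁻¹ ∈ autInducedBy S P → x ∈ H)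
    {g : MulAut P} (hg : g ∈ F.autGroup P) (hgH : g ∉ H) :
    ∃ h ∈ F.autGroup S, (∀ z ∈ Zc S ⊓ (commutator ↥S).map S.subtype, fn h z = z⁻¹) ∧
      (∀ z ∈ Zc S, z⁻¹ * fn h z ∈ Zc S ⊓ (commutator ↥S).map S.subtype) ∧
      (∀ z ∈ Zc S, fn h z = z ↔ fn g⁻¹ z ∈ Zc S) := by
  classical
  have hEA : P ≠ A := by
    rintro rfl
    exact ctx.hAe hP
  have hA := ctx.hset
  obtain ⟨x, hxP, hxA, hform, hPZ, a, haA, haZ, haN, hap, hζa, hcase, -⟩ := abelian_case ctx.hS ctx.hF ctx.hset ctx.hna hP hEA hab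
  obtain ⟨hPS, hCc, hZP, -, -⟩ := ess_basic ctx.hS ctx.hF ctx.hset hP hEA
  have hfn := hP.2.1
  have hxS := hPS hxP
  haveI := finite_of_le hPS
  have hZA : Zc S ≤ A := fun z hz => mem_of_central hA ctx.hna (mem_Zc.1 hz).1 (mem_Zc.1 hz).2
  have haP : a ∉ P := fun h => haZ (hPZ a h haA)
  have hdec : ∀ u ∈ P, ∃ i : ℕ, ∃ z ∈ Zc S, u = x ^ i * z := by
    intro u hu
    obtain ⟨i, b, hb, rfl⟩ := hA.hgen x hxS hxA u (hPS hu)
    refine ⟨i, b, hPZ b ?_ hb, rfl⟩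
    have := P.mul_mem (P.inv_mem (P.pow_mem hxP i)) hu
    simpa using this
  have hzb : ∀ b ∈ A, b ∈ normalizerIn S P → x * b * x⁻¹ * b⁻¹ ∈ Zc S := by
    intro b hbA hbN
    refine hPZ _ ?_ (comm_mem hA hxS hbA)
    have h1 : b * x⁻¹ * b⁻¹ ∈ P := conj_mem_of_normalizer hbN.2 (P.inv_mem hxP)
    have := P.mul_mem hxP h1
    simpa [mul_assoc] using this
  have hcl1 := abel_claim ctx.hS ctx.hF hA hfn hPS hCc hZP hZA hxS hdec hzb hH hHs hg hgH a haA haN haP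
  have hcl2 := abel_claim ctx.hS ctx.hF hA hfn hPS hCc hZP hZA hxS hdec hzb hH hHs (Subgroup.inv_mem _ hg) (fun h => hgH (by simpa using H.inv_mem h)) a haA haN haP
  rw [inv_inv] at hcl2
  obtain ⟨ζ, hζdef⟩ : ∃ ζ, ζ = x * a * x⁻¹ * a⁻¹ := ⟨_, rfl⟩
  rw [← hζdef] at hcl1 hcl2 hζa
  have hζP := hZP hζa
  have hcomm : ∀ u v : P, u * v = v * u := fun u v => Subtype.ext (hab u u.2 v v.2)
  -- the transvection `τ`
  obtain ⟨τ, hτ⟩ : ∃ τ, τ = autOfNormalizer haN.2 := ⟨_, rfl⟩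
  have hτv : ∀ u : P, ((τ u : P) : Ω) = a * u * a⁻¹ := fun u => by rw [hτ]; rfl
  obtain ⟨a₀, ha₀⟩ : ∃ a₀ : P, (a₀ : Ω) = ζ⁻¹ := ⟨⟨ζ⁻¹, P.inv_mem hζP⟩, rfl⟩
  have hζp : ζ ^ p = 1 := by
    have h1 := comm_pow hA hxS haA p
    rw [← hζdef] at h1
    rw [← h1, (mem_Zc.1 hap).2 x hxS]
    group
  have ha₀p : a₀ ^ p = 1 := by
    apply Subtype.ext
    rw [Subgroup.coe_pow, ha₀, inv_pow, hζp, inv_one]
    rfl
  have h1 : ∀ u : P, ∃ k : ℕ, τ u = u * a₀ ^ k := by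
    intro u
    obtain ⟨i, z, hz, hu⟩ := hdec u u.2
    refine ⟨i, Subtype.ext ?_⟩
    have h2 := abel_act hA hxS hZA haA (hζdef ▸ hζa) i hz
    rw [← hu, ← hζdef] at h2
    rw [hτv, Subgroup.coe_mul, Subgroup.coe_pow, ha₀, ← h2]
    group
  have hfixZ : ∀ u : P, (u : Ω) ∈ Zc S → τ u = u := by
    intro u hu
    apply Subtype.ext
    rw [hτv, (mem_Zc.1 hu).2 a haN.1]
    group
  have h1a : τ a₀ = a₀ := hfixZ a₀ (by rw [ha₀]; exact (Zc S).inv_mem hζa)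
  have ha₀1 : a₀ ≠ 1 := by
    intro h
    have h2 : ζ = 1 := by
      have h3 : (a₀ : Ω) = 1 := by rw [h]; rfl
      rw [ha₀] at h3
      exact inv_eq_one.1 h3
    apply hcl1
    rw [h2, fn_map_one']
    exact (Zc S).one_mem
  have hxpZ : x ^ p ∈ Zc S := hPZ _ (P.pow_mem hxP p) (hA.hpow x hxS)
  have hfixZ' : ∀ u : P, τ u = u → (u : Ω) ∈ Zc S := by
    intro u hu
    obtain ⟨i, z, hz, hue⟩ := hdec u u.2
    have h2 := abel_act hA hxS hZA haA (hζdef ▸ hζa) i hz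
    rw [← hue, ← hζdef, ← hτv, hu, inv_mul_cancel] at h2
    have h3 : a₀ ^ i = 1 := by
      apply Subtype.ext
      rw [Subgroup.coe_pow, ha₀]
      exact h2.symm
    have h4 : orderOf a₀ = p := orderOf_eq_prime ha₀p ha₀1
    have h5 : p ∣ i := by
      rw [← h4]
      exact orderOf_dvd_of_pow_eq_one h3
    obtain ⟨m, rfl⟩ := h5
    rw [hue, pow_mul]
    exact (Zc S).mul_mem ((Zc S).pow_mem hxpZ m) hz
  obtain ⟨a', ha'⟩ : ∃ a' : P, a' = g a₀ := ⟨_, rfl⟩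
  obtain ⟨t', ht'⟩ : ∃ t', t' = g * τ * g⁻¹ := ⟨_, rfl⟩
  have ht'v : ∀ u, t' u = g (τ (g⁻¹ u)) := fun u => by rw [ht']; rfl
  have ha'p : a' ^ p = 1 := by
    rw [ha', ← map_pow, ha₀p, map_one]
  have h2 : ∀ u : P, ∃ k : ℕ, t' u = u * a' ^ k := by
    intro u
    obtain ⟨k, hk⟩ := h1 (g⁻¹ u)
    refine ⟨k, ?_⟩
    rw [ht'v, hk, map_mul, map_pow, MulAut.apply_inv_self, ha']
  have h2a : t' a' = a' := by
    rw [ht'v, ha', MulAut.inv_apply_self, h1a]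
  have hgfn : ∀ (c : MulAut P) (u : P), fn c (u : Ω) = ((c u : P) : Ω) := fun c u => fn_coe c u
  have h3 : τ a' ≠ a' := by
    intro h
    have h4 := hfixZ' a' h
    rw [ha', ← hgfn, ha₀, fn_map_inv g hζP] at h4
    have h5 := (Zc S).inv_mem h4
    rw [inv_inv] at h5
    exact hcl2 h5
  have h4 : t' a₀ ≠ a₀ := by
    intro h
    rw [ht'v] at h
    have h5 : τ (g⁻¹ a₀) = g⁻¹ a₀ := by
      have h6 := congrArg (g⁻¹ : MulAut P) h
      rwa [MulAut.inv_apply_self] at h6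
    have h6 := hfixZ' _ h5
    rw [← hgfn, ha₀, fn_map_inv g⁻¹ hζP] at h6
    have h7 := (Zc S).inv_mem h6
    rw [inv_inv] at h7
    exact hcl1 h7
  obtain ⟨b, j, ⟨k₁, hk₁⟩, ⟨k₂, hk₂⟩, hta, hd, hsb, hsa⟩ := transvection_pair' hcomm ha₀p ha'p h1 h1a h2 h2a h3 h4
  obtain ⟨s, hs⟩ : ∃ s, s = τ * t' ^ j * τ := ⟨_, rfl⟩
  rw [← hs] at hsb hsa
  have hτb : τ b = b := by
    rw [hk₁, map_pow, h1a]
  have hbp : b ^ p = 1 := by
    rw [hk₁, ← pow_mul, mul_comm, pow_mul, ha₀p, one_pow]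
  have hb1 : b ≠ 1 := by
    rintro rfl
    apply ha₀1
    rw [hk₂, one_pow]
  have hbord : orderOf b = p := orderOf_eq_prime hbp hb1
  have hbZ : (b : Ω) ∈ Zc S := hfixZ' b hτb
  have hζcomm : ζ ∈ (commutator ↥S).map S.subtype := by
    refine ⟨⁅(⟨x, hxS⟩ : ↥S), (⟨a, hA.hAS haA⟩ : ↥S)⁆, ?_, ?_⟩
    · rw [commutator_def]
      exact Subgroup.commutator_mem_commutator (Subgroup.mem_top _) (Subgroup.mem_top _)
    · rw [hζdef]
      rfl
  have hbcomm : (b : Ω) ∈ (commutator ↥S).map S.subtype := by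
    rw [hk₁, Subgroup.coe_pow, ha₀]
    exact Subgroup.pow_mem _ (Subgroup.inv_mem _ hζcomm) _
  have hbZ₀ : (b : Ω) ∈ Zc S ⊓ (commutator ↥S).map S.subtype := ⟨hbZ, hbcomm⟩
  have hτ'pow : ∀ (n : ℕ) (c : P), t' c = c → (t' ^ n) c = c := by
    intro n c hc
    induction n with
    | zero => rfl
    | succ n ih => rw [pow_succ', MulAut.mul_apply, ih, hc]
  have hsc : ∀ c : P, τ c = c → t' c = c → s c = c := by
    intro c h5 h6
    rw [hs, MulAut.mul_apply, MulAut.mul_apply, h5, hτ'pow j c h6, h5]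
  obtain ⟨ν, hν⟩ : ∃ ν, ν = s * s := ⟨_, rfl⟩
  have hνv : ∀ y, ν y = s (s y) := fun y => by rw [hν]; rfl
  have hνc : ∀ c : P, τ c = c → t' c = c → ν c = c := fun c h5 h6 => by rw [hνv, hsc c h5 h6, hsc c h5 h6]
  have hνb : ν b = b⁻¹ := by rw [hνv, hsb, map_inv, hsa]
  have hνa : ν a' = a'⁻¹ := by rw [hνv, hsa, hsb]
  have hτmem : τ ∈ F.autGroup P := by
    rw [hτ]
    exact autOfNormalizer_mem_autGroup hPS haN
  have ht'mem : t' ∈ F.autGroup P := by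
    rw [ht']
    exact Subgroup.mul_mem _ (Subgroup.mul_mem _ hg hτmem) (Subgroup.inv_mem _ hg)
  have hsmem : s ∈ F.autGroup P := by
    rw [hs]
    exact Subgroup.mul_mem _ (Subgroup.mul_mem _ hτmem (Subgroup.pow_mem _ ht'mem j)) hτmem
  have hνmem : ν ∈ F.autGroup P := by
    rw [hν]
    exact Subgroup.mul_mem _ hsmem hsmem
  have hνcomm : ν * τ = τ * ν := by
    ext y
    obtain ⟨c, u, v, h5, h6, rfl⟩ := hd y
    have h7 : (a' * b)⁻¹ = a'⁻¹ * b⁻¹ := by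
      rw [mul_inv_rev, hcomm]
    show ((ν (τ (c * b ^ u * a' ^ v)) : P) : Ω) = ((τ (ν (c * b ^ u * a' ^ v)) : P) : Ω)
    congr 1
    simp only [map_mul, map_pow, h5, hτb, hta, hνc c h5 h6, hνb, hνa, map_inv]
    rw [h7]
  have hconj : ν * autOfNormalizer haN.2 * ν⁻¹ ∈ autInducedBy S P := by
    rw [← hτ, hνcomm, mul_inv_cancel_right, hτ]
    exact autOfNormalizer_mem_autInducedBy haN.2 haN.1
  obtain ⟨ψ, hψ, hψv, hay⟩ := exists_ext_over ctx.hS ctx.hF hfn hνmem haN.1 haN.2 hconj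
  have hle := le_extender (F := F) (autGroup_hom hfn.1 hνmem)
  have hRr : Rr S A (extender S P (P.subtype.comp ν.toMonoidHom)) := by
    refine ⟨fun z hz => ?_, fun h => hxA (h (hle hxP))⟩
    have h5 := (mem_Z2.1 hz).2 x hxS
    have h6 := (Zc S).inv_mem h5
    have e : (z * x * z⁻¹ * x⁻¹)⁻¹ = x * z * x⁻¹ * z⁻¹ := by group
    rw [e] at h6
    obtain ⟨j', z', hz', rfl⟩ := hcase z (ctx.hZ2A hz) h6
    exact Subgroup.mul_mem _ (Subgroup.zpow_mem _ hay _) (hle (hZP hz'))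
  obtain ⟨h, hh, hv⟩ := ctx.act_Rr hRr hψ
  have hhν : ∀ z (hz : z ∈ Zc S), fn h z = ((ν ⟨z, hZP hz⟩ : P) : Ω) := by
    intro z hz
    rw [← hv z hz, toFun_of_mem _ (hle (hZP hz)), hψv ⟨z, hZP hz⟩]
  -- decomposition of the centre
  have hdz : ∀ z (hz : z ∈ Zc S), ∃ (c : P) (u : ℕ), τ c = c ∧ t' c = c ∧ (⟨z, hZP hz⟩ : P) = c * b ^ u := by
    intro z hz
    obtain ⟨c, u, v, h5, h6, he⟩ := hd ⟨z, hZP hz⟩
    refine ⟨c, u, h5, h6, ?_⟩
    have h7 := hfixZ ⟨z, hZP hz⟩ hz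
    rw [he] at h7
    simp only [map_mul, map_pow, h5, hτb, hta] at h7
    have hcab : Commute a' b := hcomm a' b
    rw [hcab.mul_pow, ← mul_assoc] at h7
    have h8 : b ^ v = 1 := mul_eq_left.1 h7
    have h9 : p ∣ v := by
      rw [← hbord]
      exact orderOf_dvd_of_pow_eq_one h8
    obtain ⟨m, rfl⟩ := h9
    rw [he, pow_mul, ha'p, one_pow, mul_one]
  obtain ⟨w, hw, hwZ, hwp, hdecw⟩ := ctx.hw
  have hcardZ₀ := (counting ctx.hS hA ctx.hna ctx.hZ2A hw hwZ hwp hdecw).1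
  refine ⟨h, hh, ?_, ?_, ?_⟩
  · intro z hz
    rw [hhν z hz.1]
    have hne : (⟨(b : Ω), hbZ₀⟩ : ↥(Zc S ⊓ (commutator ↥S).map S.subtype)) ≠ 1 := by
      intro h5
      apply hb1
      have h6 : (b : Ω) = 1 := congrArg Subtype.val h5
      exact Subtype.ext h6
    obtain ⟨n, hn⟩ := Subgroup.mem_zpowers_iff.1 (mem_zpowers_of_prime_card (p := p) hcardZ₀ (g' := ⟨z, hz⟩) hne)
    have hn' : (b : Ω) ^ n = z := congrArg Subtype.val hn
    have e : (⟨z, hZP hz.1⟩ : P) = b ^ n := by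
      apply Subtype.ext
      rw [Subgroup.coe_zpow]
      exact hn'.symm
    rw [e, map_zpow, hνb, inv_zpow, Subgroup.coe_inv, Subgroup.coe_zpow, hn']
  · intro z hz
    rw [hhν z hz]
    obtain ⟨c, u, h5, h6, he⟩ := hdz z hz
    rw [he]
    have h7 : ν (c * b ^ u) = c * (b⁻¹) ^ u := by
      rw [map_mul, map_pow, hνc c h5 h6, hνb]
    rw [h7]
    have h8 : z = (c : Ω) * (b : Ω) ^ u := by
      have := congrArg Subtype.val he
      simpa using this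
    have h9 : z⁻¹ * ((c * (b⁻¹) ^ u : P) : Ω) = ((b : Ω)⁻¹) ^ u * ((b : Ω)⁻¹) ^ u := by
      rw [h8]
      simp only [Subgroup.coe_mul, Subgroup.coe_pow, Subgroup.coe_inv, mul_inv_rev, inv_pow]
      group
    rw [h9]
    have hi := Subgroup.inv_mem _ hbZ₀
    exact Subgroup.mul_mem _ (Subgroup.pow_mem _ hi u) (Subgroup.pow_mem _ hi u)
  · intro z hz
    rw [hhν z hz]
    have hzfn : fn g⁻¹ z = (((g⁻¹ : MulAut P) ⟨z, hZP hz⟩ : P) : Ω) := fn_of_mem _ (hZP hz)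
    constructor
    · intro h5
      obtain ⟨c, u, h6, h7, he⟩ := hdz z hz
      have h8 : ν ⟨z, hZP hz⟩ = ⟨z, hZP hz⟩ := Subtype.ext h5
      rw [he, map_mul, map_pow, hνc c h6 h7, hνb] at h8
      have h9 : (b⁻¹) ^ u = b ^ u := mul_left_cancel h8
      have h10 : b ^ (2 * u) = 1 := by
        rw [two_mul, pow_add]
        nth_rewrite 1 [← h9]
        rw [inv_pow, inv_mul_cancel]
      have h11 : p ∣ 2 * u := by
        rw [← hbord]
        exact orderOf_dvd_of_pow_eq_one h10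
      have h12 : p ∣ u := by
        rcases (Nat.Prime.dvd_mul hp.out).1 h11 with h13 | h13
        · exact absurd ((Nat.prime_dvd_prime_iff_eq hp.out Nat.prime_two).1 h13) hp2
        · exact h13
      obtain ⟨m, rfl⟩ := h12
      have h14 : (⟨z, hZP hz⟩ : P) = c := by
        rw [he, pow_mul, hbp, one_pow, mul_one]
      rw [hzfn, h14]
      apply hfixZ'
      have h15 := congrArg (g⁻¹ : MulAut P) (show t' c = c from h7)
      rw [ht'v, MulAut.inv_apply_self] at h15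
      exact h15
    · intro h5
      rw [hzfn] at h5
      have h6 := hfixZ _ h5
      have h7 : t' ⟨z, hZP hz⟩ = ⟨z, hZP hz⟩ := by
        rw [ht'v, h6, MulAut.apply_inv_self]
      have h8 := hνc ⟨z, hZP hz⟩ (hfixZ _ hz) h7
      rw [h8]

/-- Elements of `Aut_F(S)` acting trivially on a subgroup of exponent `p` of the centre and on the quotient act trivially. -/
theorem U_lemma (hS : IsPGroup p S) (hF : F.IsSaturated p) {Z₀ : Subgroup Ω} (hZ₀p : ∀ z ∈ Z₀, z ^ p = 1) (hZ₀Z : Z₀ ≤ Zc S)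
    {θ : MulAut S} (hθ : θ ∈ F.autGroup S) (h1 : ∀ z ∈ Z₀, fn θ z = z) (h2 : ∀ z ∈ Zc S, z⁻¹ * fn θ z ∈ Z₀) :
    ∀ z ∈ Zc S, fn θ z = z := by
  classical
  have hZS : ∀ z ∈ Zc S, z ∈ S := fun z hz => (mem_Zc.1 hz).1
  let K₀ : Subgroup (F.autGroup S) :=
    { carrier := {k | ∀ z ∈ Zc S, fn (k : MulAut S) z = z}
      mul_mem' := by
        intro u v hu hv z hz
        show fn ((u : MulAut S) * (v : MulAut S)) z = z
        rw [fn_mul _ _ (hZS z hz), hv z hz, hu z hz]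
      one_mem' := by
        intro z hz
        exact fn_one (hZS z hz)
      inv_mem' := by
        intro u hu z hz
        show fn ((u : MulAut S)⁻¹) z = z
        have h1 := fn_inv_fn (u : MulAut S) (hZS z hz)
        rwa [hu z hz] at h1 }
  haveI hK₀ : K₀.Normal := by
    constructor
    intro k hk g z hz
    show fn ((g : MulAut S) * (k : MulAut S) * (g : MulAut S)⁻¹) z = z
    rw [fn_mul _ _ (hZS z hz), fn_mul _ _ (fn_mem _ (hZS z hz)), hk _ (fn_Zc _ hz), fn_fn_inv _ (hZS z hz)]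
  obtain ⟨R, hR⟩ := (fullyNormalized_spec hS hF (fullyNormalized_self (F := F))).2.2
  have hRK : (R : Subgroup (F.autGroup S)) ≤ K₀ := by
    intro t ht
    rw [hR] at ht
    obtain ⟨g, hg, hgv⟩ := mem_autInducedBy_iff.1 ht
    have hgv' : ∀ w : S, (((t : MulAut S) w : S) : Ω) = g * w * g⁻¹ := hgv
    intro z hz
    rw [fn_of_mem _ (hZS z hz), hgv', (mem_Zc.1 hz).2 g hg]
    group
  have hpow : ∀ (n : ℕ), ∀ z ∈ Zc S, fn (θ ^ n) z = z * (z⁻¹ * fn θ z) ^ n := by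
    intro n
    induction n with
    | zero =>
      intro z hz
      rw [pow_zero, fn_one (hZS z hz), pow_zero, mul_one]
    | succ n ih =>
      intro z hz
      have hd := h2 z hz
      rw [pow_succ', fn_mul _ _ (hZS z hz), ih z hz, fn_map_mul θ (hZS z hz) (S.pow_mem (hZS _ (hZ₀Z hd)) n), fn_map_pow' θ (hZS _ (hZ₀Z hd)), h1 _ hd, pow_succ', ← mul_assoc z, mul_inv_cancel_left]
  have hθp : θ ^ p ∈ F.autGroup S := Subgroup.pow_mem _ hθ p
  have hKp : (⟨θ, hθ⟩ : F.autGroup S) ^ p ∈ K₀ := by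
    intro z hz
    show fn (θ ^ p) z = z
    rw [hpow p z hz, hZ₀p _ (h2 z hz), mul_one]
  obtain ⟨q, hq⟩ : ∃ q, q = QuotientGroup.mk' K₀ (⟨θ, hθ⟩ : F.autGroup S) := ⟨_, rfl⟩
  have hqp : q ^ p = 1 := by
    rw [hq, ← map_pow, ← MonoidHom.mem_ker, QuotientGroup.ker_mk']
    exact hKp
  have hq1 : q = 1 := by
    by_contra hne
    have hord : orderOf q = p := orderOf_eq_prime hqp hne
    have hd : p ∣ Nat.card (F.autGroup S ⧸ K₀) := by
      rw [← hord]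
      exact orderOf_dvd_natCard q
    rw [← Subgroup.index_eq_card] at hd
    have h3 : K₀.index ∣ (R : Subgroup (F.autGroup S)).index := Subgroup.index_dvd_of_le hRK
    exact R.not_dvd_index (hd.trans h3)
  rw [hq, ← MonoidHom.mem_ker, QuotientGroup.ker_mk'] at hq1
  exact hq1

/-- `A` is invariant by uniqueness. -/
theorem fn_A_of_uniq (hA : A ≤ S ∧ IsMulCommutative ↥A ∧ (A.subgroupOf S).index = p)
    (huniq : ∀ B : Subgroup Ω, B ≤ S → IsMulCommutative ↥B → (B.subgroupOf S).index = p → B = A)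
    (α : MulAut S) {u : Ω} (hu : u ∈ A) : fn α u ∈ A := by
  obtain ⟨B, hB⟩ : ∃ B, B = (A.subgroupOf S).map (S.subtype.comp α.toMonoidHom) := ⟨_, rfl⟩
  have hBm : ∀ y, y ∈ B ↔ y ∈ S ∧ fn α⁻¹ y ∈ A := fun y => by rw [hB, mem_img]
  have hBS : B ≤ S := fun y hy => ((hBm y).1 hy).1
  have hc : ∀ a ∈ A, ∀ b ∈ A, a * b = b * a := by
    intro a ha b hb
    have := hA.2.1.is_comm.comm ⟨a, ha⟩ ⟨b, hb⟩
    exact congrArg Subtype.val this
  have hBc : IsMulCommutative ↥B := by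
    refine ⟨⟨fun v w => Subtype.ext ?_⟩⟩
    obtain ⟨hv1, hv2⟩ := (hBm v).1 v.2
    obtain ⟨hw1, hw2⟩ := (hBm w).1 w.2
    have h1 := congrArg (fn α) (hc _ hv2 _ hw2)
    rw [fn_map_mul α (fn_mem _ hv1) (fn_mem _ hw1), fn_map_mul α (fn_mem _ hw1) (fn_mem _ hv1), fn_fn_inv α hv1, fn_fn_inv α hw1] at h1
    exact h1
  have hBi : (B.subgroupOf S).index = p := by
    have e : B.subgroupOf S = (A.subgroupOf S).map α.toMonoidHom := by
      ext y
      rw [Subgroup.mem_subgroupOf, hBm, Subgroup.mem_map_equiv, Subgroup.mem_subgroupOf]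
      constructor
      · rintro ⟨-, h⟩
        rw [fn_coe] at h
        exact h
      · intro h
        refine ⟨y.2, ?_⟩
        rw [fn_coe]
        exact h
    rw [e]
    exact (Subgroup.index_map_of_bijective α.bijective _).trans hA.2.2
  have h1 := huniq B hBS hBc hBi
  rw [← h1, hBm]
  refine ⟨fn_mem α (hA.1 hu), ?_⟩
  rw [fn_inv_fn α (hA.1 hu)]
  exact hu

/-- Automorphisms of nonabelian essential subgroups preserve the centre. -/
theorem cen_nonab (hS : IsPGroup p S) (hF : F.IsSaturated p) (hset : Setup S A p) (hna : ∃ s ∈ S, ∃ s' ∈ S, s * s' ≠ s' * s)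
    {E : Subgroup Ω} (hE : F.IsEssential p E) (hEA : E ≠ A) (hab : ¬ ∀ u ∈ E, ∀ v ∈ E, u * v = v * u)
    (c : MulAut E) {z : Ω} (hz : z ∈ Zc S) : fn c z ∈ Zc S := by
  obtain ⟨hPS, hCc, hZP, ⟨x, hxP, hxA⟩, -⟩ := ess_basic hS hF hset hE hEA
  have hxS := hPS hxP
  have hAP := hset.inf hPS
  have hcen : ∀ u ∈ E, (∀ v ∈ E, v * u = u * v) → u ∈ Zc S := by
    intro u hu huc
    have huA : u ∈ A := by
      by_contra hcon
      have h1 : ∃ s ∈ E, ∃ s' ∈ E, s * s' ≠ s' * s := by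
        by_contra hcon2
        push Not at hcon2
        exact hab hcon2
      exact (mem_of_central hAP h1 hu huc).2 |> hcon
    exact mem_Zc.2 ⟨hset.hAS huA, central_of_comm hset hxS hxA huA (huc x hxP)⟩
  have hzP := hZP hz
  refine hcen _ (fn_mem c hzP) (fun v hv => ?_)
  have hv' := fn_mem c⁻¹ hv
  have h1 := (mem_Zc.1 hz).2 _ (hPS hv')
  have h2 := congrArg (fn c) h1
  rw [fn_map_mul c hv' hzP, fn_map_mul c hzP hv', fn_fn_inv c hv] at h2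
  exact h2

/-- Normality from invariance under the automizers. -/
theorem isNormal_of_fn_inv (hS : IsPGroup p S) (hF : F.IsSaturated p) {Q : Subgroup Ω} (hQZ : Q ≤ Zc S)
    (hZP : ∀ P : Subgroup Ω, F.IsEssential p P → Zc S ≤ P)
    (hinv : ∀ P : Subgroup Ω, (P = S ∨ F.IsEssential p P) → ∀ α ∈ F.autGroup P, ∀ z ∈ Q, fn α z ∈ Q) : F.IsNormal Q := by
  have hQS : Q ≤ S := hQZ.trans inf_le_left
  refine isNormal_of_forall_aut hS hF hQS (fun s hs => mem_normalizer_of_conj_mem hQS (fun u hu => ?_)) (fun P hP => ?_)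
  · rw [(mem_Zc.1 (hQZ hu)).2 s hs]
    simpa using hu
  · have hQP : Q ≤ P := by
      rcases hP with rfl | hP
      · exact hQS
      · exact hQZ.trans (hZP P hP)
    refine ⟨hQP, fun α hα => ?_⟩
    ext u
    rw [mem_img]
    constructor
    · rintro ⟨huP, h⟩
      have h1 := hinv P hP α hα _ h
      rwa [fn_fn_inv α huP] at h1
    · intro hu
      exact ⟨hQP hu, hinv P hP α⁻¹ (Subgroup.inv_mem _ hα) u hu⟩

/-- **S5244** -/
theorem main44 (hS : IsPGroup p S) (hF : F.IsSaturated p) (hp2 : p ≠ 2) (hna : ¬ IsMulCommutative ↥S)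
    (hA : A ≤ S ∧ IsMulCommutative ↥A ∧ (A.subgroupOf S).index = p)
    (huniq : ∀ B : Subgroup Ω, B ≤ S → IsMulCommutative ↥B → (B.subgroupOf S).index = p → B = A)
    (hcore : F.core = ⊥) (hAe : ¬ F.IsEssential p A) :
    (∃ x ∈ S, x ∉ A ∧ F.IsEssential p ((S ⊓ Subgroup.centralizer (S : Set Ω)) ⊔ Subgroup.zpowers x)) ∧
      (S ⊓ Subgroup.centralizer (S : Set Ω)) ≤ (commutator ↥S).map S.subtype ∧
      ∀ n : ℕ, Nat.card S = p ^ n → 3 ≤ n → Subgroup.lowerCentralSeries S (n - 2) ≠ ⊥ := by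
  classical
  have hset := setup_of hS hA.1 hA.2.1 hA.2.2
  have hna' := exists_noncomm hna
  have hfnA : ∀ α : MulAut S, ∀ u ∈ A, fn α u ∈ A := fun α u hu => fn_A_of_uniq hA huniq α hu
  have hbot : ∀ Q, F.IsNormal Q → Q = ⊥ := by
    intro Q hQ
    have h1 : Q ≤ F.core := le_sSup hQ
    rw [hcore] at h1
    exact le_bot_iff.1 h1
  have hZne : Zc S ≠ ⊥ := by
    obtain ⟨s, hs, s', hs', hss⟩ := hna'
    haveI : Nontrivial ↥S := by
      refine ⟨⟨⟨s, hs⟩, 1, fun h => hss ?_⟩⟩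
      have h1 : s = 1 := congrArg Subtype.val h
      rw [h1]
      group
    haveI hnt := hS.center_nontrivial
    obtain ⟨⟨z, hz⟩, hz1⟩ := exists_ne (1 : Subgroup.center ↥S)
    intro hbot
    apply hz1
    have h2 : (z : Ω) ∈ Zc S := mem_Zc.2 ⟨z.2, fun t ht => by
      have := Subgroup.mem_center_iff.1 hz ⟨t, ht⟩
      exact congrArg Subtype.val this⟩
    rw [hbot, Subgroup.mem_bot] at h2
    apply Subtype.ext
    exact Subtype.ext h2
  have hessA : ∀ P, F.IsEssential p P → P ≠ A := by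
    rintro _ h rfl
    exact hAe h
  have hZPe : ∀ P : Subgroup Ω, F.IsEssential p P → Zc S ≤ P := fun P hP => (ess_basic hS hF hset hP (hessA P hP)).2.2.1
  -- Step 1: an abelian essential subgroup
  have hex : ∃ P, F.IsEssential p P ∧ ∀ u ∈ P, ∀ v ∈ P, u * v = v * u := by
    by_contra hcon
    push Not at hcon
    apply hZne
    apply hbot
    refine isNormal_of_fn_inv hS hF le_rfl hZPe (fun P hP α _ z hz => ?_)
    rcases hP with rfl | hP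
    · exact fn_Zc α hz
    · refine cen_nonab hS hF hset hna' hP (hessA P hP) ?_ α hz
      push Not
      exact hcon P hP
  obtain ⟨P₀, hP₀, hP₀ab⟩ := hex
  obtain ⟨x, hxP, hxA, hform, -⟩ := abelian_case hS hF hset hna' hP₀ (hessA _ hP₀) hP₀ab
  have hC1 : ∃ x ∈ S, x ∉ A ∧ F.IsEssential p ((S ⊓ Subgroup.centralizer (S : Set Ω)) ⊔ Subgroup.zpowers x) :=
    ⟨x, hP₀.1.1 hxP, hxA, hform ▸ hP₀⟩
  obtain ⟨hZ2A, hw⟩ := ess_second hS hF hset hna' huniq hP₀ (hessA _ hP₀)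
  have ctx : Ctx F A p := ⟨hS, hF, hset, hna', hfnA, hAe, hZ2A, hw⟩
  obtain ⟨w, hw1, hw2, hw3, hw4⟩ := hw
  have hcount := counting hS hset hna' hZ2A hw1 hw2 hw3 hw4
  obtain ⟨Z₀, hZ₀⟩ : ∃ Z₀, Z₀ = Zc S ⊓ (commutator ↥S).map S.subtype := ⟨_, rfl⟩
  have hZ₀Z : Z₀ ≤ Zc S := by
    rw [hZ₀]
    exact inf_le_left
  have hZ₀card : Nat.card Z₀ = p := by
    rw [hZ₀]
    exact hcount.1
  have hZ₀p : ∀ z ∈ Z₀, z ^ p = 1 := by
    intro z hz
    have h1 : (⟨z, hz⟩ : Z₀) ^ p = 1 := by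
      rw [← hZ₀card]
      exact pow_card_eq_one'
    exact congrArg Subtype.val h1
  have hZS : ∀ z ∈ Zc S, z ∈ S := fun z hz => (mem_Zc.1 hz).1
  have hZ₀fn : ∀ h : MulAut S, ∀ z ∈ Z₀, fn h z ∈ Z₀ := by
    intro h z hz
    rw [hZ₀] at hz ⊢
    refine ⟨fn_Zc h hz.1, ?_⟩
    obtain ⟨y, hy, hye⟩ := hz.2
    refine ⟨h y, ?_, ?_⟩
    · have h1 := (inferInstance : (commutator ↥S).Characteristic).fixed h⁻¹
      have h2 : h y ∈ (commutator ↥S).comap (h⁻¹).toMonoidHom := by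
        rw [Subgroup.mem_comap]
        show h⁻¹ (h y) ∈ commutator ↥S
        rwa [MulAut.inv_apply_self]
      rwa [h1] at h2
    · rw [← hye]
      exact (fn_coe h y).symm
  have hU : ∀ h₁ ∈ F.autGroup S, ∀ h₂ ∈ F.autGroup S, (∀ z ∈ Z₀, fn h₁ z = z⁻¹) → (∀ z ∈ Zc S, z⁻¹ * fn h₁ z ∈ Z₀) →
      (∀ z ∈ Z₀, fn h₂ z = z⁻¹) → (∀ z ∈ Zc S, z⁻¹ * fn h₂ z ∈ Z₀) → ∀ z ∈ Zc S, fn h₁ z = fn h₂ z := by
    intro h₁ hh₁ h₂ hh₂ h1a h1b h2a h2b z hz
    have h3 := U_lemma hS hF hZ₀p hZ₀Z (θ := h₁⁻¹ * h₂) (Subgroup.mul_mem _ (Subgroup.inv_mem _ hh₁) hh₂) ?_ ?_ z hz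
    · rw [fn_mul _ _ (hZS z hz)] at h3
      have h4 := congrArg (fn h₁) h3
      rw [fn_fn_inv h₁ (fn_mem h₂ (hZS z hz))] at h4
      exact h4.symm
    · intro y hy
      have hyS := hZS y (hZ₀Z hy)
      rw [fn_mul _ _ hyS, h2a y hy, ← h1a y hy, fn_inv_fn h₁ hyS]
    · intro y hy
      have hyS := hZS y hy
      rw [fn_mul _ _ hyS]
      obtain ⟨u, hu⟩ : ∃ u, u = fn h₁⁻¹ (fn h₂ y) := ⟨_, rfl⟩
      rw [← hu]
      have huZ : u ∈ Zc S := hu ▸ fn_Zc _ (fn_Zc _ hy)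
      have h4 := h1b u huZ
      rw [hu, fn_fn_inv h₁ (fn_mem h₂ hyS), ← hu] at h4
      have h5 := h2b y hy
      have h6 := Z₀.mul_mem h5 (Z₀.inv_mem h4)
      have e : y⁻¹ * fn h₂ y * (u⁻¹ * fn h₂ y)⁻¹ = y⁻¹ * u := by group
      rwa [e] at h6
  -- the reference automorphism
  obtain ⟨H₀, hH₀, ⟨g₀, hg₀, hg₀H⟩, hH₀s⟩ := essential_spec hS hF hP₀
  obtain ⟨h₀, hh₀, hh₀a, hh₀b, -⟩ := ctx.abel_data hp2 hP₀ hP₀ab hH₀ hH₀s hg₀ hg₀H
  rw [← hZ₀] at hh₀a hh₀b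
  let Q : Subgroup Ω :=
    { carrier := {z | z ∈ Zc S ∧ fn h₀ z = z}
      mul_mem' := by
        rintro a b ⟨ha1, ha2⟩ ⟨hb1, hb2⟩
        exact ⟨(Zc S).mul_mem ha1 hb1, by rw [fn_map_mul h₀ (hZS a ha1) (hZS b hb1), ha2, hb2]⟩
      one_mem' := ⟨(Zc S).one_mem, fn_map_one' h₀⟩
      inv_mem' := by
        rintro a ⟨ha1, ha2⟩
        exact ⟨(Zc S).inv_mem ha1, by rw [fn_map_inv h₀ (hZS a ha1), ha2]⟩ }
  have hQm : ∀ z, z ∈ Q ↔ z ∈ Zc S ∧ fn h₀ z = z := fun z => Iff.rfl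
  have hQS : ∀ h ∈ F.autGroup S, ∀ z ∈ Q, fn h z ∈ Q := by
    intro h hh z hz
    obtain ⟨hz1, hz2⟩ := (hQm z).1 hz
    refine (hQm _).2 ⟨fn_Zc h hz1, ?_⟩
    have h1 := hU h₀ hh₀ (h * h₀ * h⁻¹) (Subgroup.mul_mem _ (Subgroup.mul_mem _ hh hh₀) (Subgroup.inv_mem _ hh)) hh₀a hh₀b ?_ ?_ (fn h z) (fn_Zc h hz1)
    · rw [h1, fn_mul _ _ (fn_mem h (hZS z hz1)), fn_mul _ _ (fn_mem _ (fn_mem h (hZS z hz1))), fn_inv_fn h (hZS z hz1), hz2]
    · intro y hy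
      have hyS := hZS y (hZ₀Z hy)
      rw [fn_mul _ _ hyS, fn_mul _ _ (fn_mem _ hyS), hh₀a _ (hZ₀fn h⁻¹ y hy), fn_map_inv h (fn_mem _ hyS), fn_fn_inv h hyS]
    · intro y hy
      have hyS := hZS y hy
      rw [fn_mul _ _ hyS, fn_mul _ _ (fn_mem _ hyS)]
      have h2 := hZ₀fn h _ (hh₀b _ (fn_Zc h⁻¹ hy))
      rw [fn_map_mul h (S.inv_mem (fn_mem _ hyS)) (fn_mem _ (fn_mem _ hyS)), fn_map_inv h (fn_mem _ hyS), fn_fn_inv h hyS] at h2
      exact h2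
  -- abelian essential subgroups
  have hQab : ∀ P, F.IsEssential p P → (∀ u ∈ P, ∀ v ∈ P, u * v = v * u) → ∀ α ∈ F.autGroup P, ∀ z ∈ Q, fn α z ∈ Q := by
    intro P hP hab
    obtain ⟨H, hH, ⟨g, hg, hgH⟩, hHs⟩ := essential_spec hS hF hP
    have hZP := hZPe P hP
    have hdata : ∀ c ∈ F.autGroup P, c ∉ H → ∀ z ∈ Zc S, z ∈ Q ↔ fn c⁻¹ z ∈ Zc S := by
      intro c hc hcH z hz
      obtain ⟨h, hh, hha, hhb, hhc⟩ := ctx.abel_data hp2 hP hab hH hHs hc hcH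
      rw [← hZ₀] at hha hhb
      have h1 := hU h₀ hh₀ h hh hh₀a hh₀b hha hhb z hz
      rw [← hhc z hz, ← h1]
      exact ⟨fun h2 => ((hQm z).1 h2).2, fun h2 => (hQm z).2 ⟨hz, h2⟩⟩
    have hout : ∀ c ∈ F.autGroup P, c ∉ H → ∀ z ∈ Q, fn c z ∈ Q := by
      intro c hc hcH z hz
      have hzZ := ((hQm z).1 hz).1
      have hc' : c⁻¹ ∉ H := fun h => hcH (by simpa using H.inv_mem h)
      have h1 := (hdata c⁻¹ (Subgroup.inv_mem _ hc) hc' z hzZ).1 hz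
      rw [inv_inv] at h1
      refine (hdata c hc hcH _ h1).2 ?_
      rw [fn_inv_fn c (hZP hzZ)]
      exact hzZ
    intro α hα z hz
    by_cases hαH : α ∈ H
    · have hg' : g⁻¹ ∉ H := fun h => hgH (by simpa using H.inv_mem h)
      have h1 := hout g⁻¹ (Subgroup.inv_mem _ hg) hg' z hz
      have hαg : α * g ∉ H := fun h => hgH (by simpa using H.mul_mem (H.inv_mem hαH) h)
      have h2 := hout (α * g) (Subgroup.mul_mem _ hα hg) hαg _ h1
      have hzP := hZP ((hQm z).1 hz).1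
      rwa [fn_mul _ _ (fn_mem _ hzP), fn_fn_inv g hzP] at h2
    · exact hout α hα hαH z hz
  have hQnorm : F.IsNormal Q := by
    refine isNormal_of_fn_inv hS hF (fun z hz => ((hQm z).1 hz).1) hZPe (fun P hP α hα z hz => ?_)
    rcases hP with rfl | hP
    · exact hQS α hα z hz
    · by_cases hab : ∀ u ∈ P, ∀ v ∈ P, u * v = v * u
      · exact hQab P hP hab α hα z hz
      · obtain ⟨h, hh, hv⟩ := ctx.lemA hP hab hα
        rw [hv z ((hQm z).1 hz).1]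
        exact hQS h hh z hz
  have hQbot : Q = ⊥ := hbot Q hQnorm
  -- the centre
  have hZle : Zc S ≤ Z₀ := by
    intro z hz
    have hzS := hZS z hz
    have hd := hh₀b z hz
    have hdZ := hZ₀Z hd
    have hfz : fn h₀ z = z * (z⁻¹ * fn h₀ z) := by group
    have h2 : fn h₀ (fn h₀ z) = z := by
      have h3 : fn h₀ (z * (z⁻¹ * fn h₀ z)) = fn h₀ z * (z⁻¹ * fn h₀ z)⁻¹ := by
        rw [fn_map_mul h₀ hzS (hZS _ hdZ), hh₀a _ hd]
      rw [← hfz] at h3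
      rw [h3]
      group
    have h4 : z * fn h₀ z ∈ Q := by
      refine (hQm _).2 ⟨(Zc S).mul_mem hz (fn_Zc h₀ hz), ?_⟩
      rw [fn_map_mul h₀ hzS (fn_mem h₀ hzS), h2]
      exact (mem_Zc.1 hz).2 _ (fn_mem h₀ hzS) |>.symm ▸ rfl
    rw [hQbot, Subgroup.mem_bot] at h4
    have h5 : fn h₀ z = z⁻¹ := eq_inv_of_mul_eq_one_right h4
    rw [h5] at hd
    have h6 : z ^ 2 ∈ Z₀ := by
      have h7 := Z₀.inv_mem hd
      have e : (z⁻¹ * z⁻¹)⁻¹ = z ^ 2 := by group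
      rwa [e] at h7
    have hzo : Nat.Coprime 2 (orderOf z) := by
      obtain ⟨k, hk⟩ := (IsPGroup.iff_orderOf.1 hS) ⟨z, hzS⟩
      have h8 : orderOf z = p ^ k := by
        rw [← hk, Subgroup.orderOf_mk]
      rw [h8]
      exact Nat.Coprime.pow_right _ ((Nat.coprime_primes Nat.prime_two hp.out).2 (Ne.symm hp2))
    obtain ⟨m, hm⟩ := exists_pow_eq_self_of_coprime hzo
    rw [← hm]
    exact Z₀.pow_mem h6 m
  refine ⟨hC1, fun z hz => ?_, ?_⟩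
  · have h1 := hZle hz
    rw [hZ₀] at h1
    exact h1.2
  · intro n hn hn3 hbot'
    have hZcard : Nat.card (Zc S) = p := by
      rw [← hZ₀card]
      exact congrArg (fun K : Subgroup Ω => Nat.card K) (le_antisymm hZle hZ₀Z)
    have hnoncomm : ∀ k, Subgroup.lowerCentralSeries S (k + 1) = ⊥ → Subgroup.lowerCentralSeries S k ≤ Zc S := by
      intro k hk c hc
      have hle : ∀ k, Subgroup.lowerCentralSeries S k ≤ S := by
        intro k
        induction k with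
        | zero => exact le_rfl
        | succ k ih =>
          rw [Subgroup.lowerCentralSeries_succ, Subgroup.commutator_le]
          intro a ha b hb
          have ha' := ih ha
          rw [commutatorElement_def]
          exact S.mul_mem (S.mul_mem (S.mul_mem ha' hb) (S.inv_mem ha')) (S.inv_mem hb)
      refine mem_Zc.2 ⟨hle k hc, fun s hs => ?_⟩
      have h1 : ⁅c, s⁆ ∈ Subgroup.lowerCentralSeries S (k + 1) :=
        Subgroup.commutator_mem_commutator hc hs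
      rw [hk, Subgroup.mem_bot, commutatorElement_eq_one_iff_mul_comm] at h1
      exact h1.symm
    obtain hn3' | hn4 : n = 3 ∨ 4 ≤ n := by omega
    · subst hn3'
      have h1 := hnoncomm 0 hbot'
      obtain ⟨s, hs, s', hs', hss⟩ := hna'
      exact hss ((mem_Zc.1 (h1 hs')).2 s hs)
    · obtain ⟨m, rfl⟩ : ∃ m, n = m + 4 := ⟨n - 4, by omega⟩
      have hidx : ((Zc S).subgroupOf S).index = p ^ (m + 3) := by
        have h1 := Subgroup.card_mul_index ((Zc S).subgroupOf S)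
        rw [card_subgroupOf_inf, inf_eq_left.2 inf_le_left, hZcard, hn] at h1
        apply Nat.eq_of_mul_eq_mul_left hp.out.pos
        rw [h1]
        ring
      have h2 := hcount.2.2.2 (m + 3) hidx (by omega)
      apply h2
      have e : m + 3 - 2 = m + 1 := by omega
      have e2 : m + 4 - 2 = m + 1 + 1 := by omega
      rw [e2] at hbot'
      rw [e]
      exact hnoncomm _ hbot'

end Fusion

end Cfsg.Agent.Lib.Fusion2.AbelIdx
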