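import Cfsg.Agent.Lib.Fusion.Generation
import Cfsg.Agent.Lib.Fusion.NormalCriterion
import Cfsg.Agent.Lib.Fusion.ZJ5
import Cfsg.Agent.Lib.Fusion.Placement

/-!
# The Camina--Herzog criterion for saturated fusion systems over 2-groups
-/

set_option autoImplicit false
set_option linter.unusedSectionVars false

namespace Cfsg.Agent.Lib.Fusion2.CHerzog

open Cfsg Cfsg.FusionSystem Cfsg.Agent.Lib.Fusion

variable {Ω : Type*} [Group Ω] {S : Subgroup Ω} {F : FusionSystem S}

/-- Odd order automorphisms trivial on involutions are trivial, when elements inverted or powered commute. -/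
theorem aut_trivial {G : Type*} [Group G] (hG : IsPGroup 2 G)
    (hstar : ∀ x y : G, y * x * y⁻¹ ∈ Subgroup.zpowers x → y * x * y⁻¹ = x) (β : MulAut G)
    (hodd : Odd (orderOf β)) (hinv : ∀ t : G, t ^ 2 = 1 → β t = t) : β = 1 := by
  obtain ⟨m, hm⟩ := hodd
  have hβ : (β ^ 2) ^ (m + 1) = β := by
    rw [← pow_mul, show 2 * (m + 1) = (2 * m + 1) + 1 by ring, pow_succ, ← hm, pow_orderOf_eq_one, one_mul]
  have key : ∀ (k : ℕ) (x : G), x ^ 2 ^ k = 1 → β x = x := by
    intro k
    induction k with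
    | zero =>
      intro x hx
      rw [pow_zero, pow_one] at hx
      rw [hx, map_one]
    | succ k ih =>
      intro x hx
      have h1 : β (x ^ 2) = x ^ 2 := ih _ (by rw [← pow_mul, ← pow_succ']; exact hx)
      have hu : (β x) ^ 2 = x ^ 2 := by rw [← map_pow, h1]
      obtain ⟨u, hudef⟩ : ∃ u, u = β x := ⟨_, rfl⟩
      rw [← hudef] at hu
      have hc : x * (x⁻¹ * u) * x⁻¹ = (x⁻¹ * u)⁻¹ := by
        have h2 : u * u = x * x := by simpa [pow_two] using hu
        have h3 : u * x⁻¹ = u⁻¹ * x := by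
          rw [eq_inv_mul_iff_mul_eq, ← mul_assoc, h2]
          group
        calc x * (x⁻¹ * u) * x⁻¹ = u * x⁻¹ := by group
          _ = u⁻¹ * x := h3
          _ = (x⁻¹ * u)⁻¹ := by group
      have h4 := hstar (x⁻¹ * u) x (by rw [hc]; exact Subgroup.inv_mem _ (Subgroup.mem_zpowers _))
      have h5 : (x⁻¹ * u)⁻¹ = x⁻¹ * u := by rw [← hc, h4]
      have h6 : (x⁻¹ * u) ^ 2 = 1 := by
        rw [pow_two]
        nth_rewrite 1 [← h5]
        exact inv_mul_cancel _
      have h7 : β (x⁻¹ * u) = x⁻¹ * u := hinv _ h6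
      have h8 : u = x * (x⁻¹ * u) := by group
      have h9 : (β ^ 2) x = x := by
        rw [pow_two, MulAut.mul_apply, ← hudef, h8, map_mul, h7, ← hudef]
        calc u * (x⁻¹ * u) = x * (x⁻¹ * u) * (x⁻¹ * u) := by group
          _ = x * ((x⁻¹ * u) * (x⁻¹ * u)) := by group
          _ = x * (x⁻¹ * u) ^ 2 := by rw [pow_two]
          _ = x := by rw [h6, mul_one]
      have h10 : ∀ n : ℕ, ((β ^ 2) ^ n) x = x := by
        intro n
        induction n with
        | zero => simp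
        | succ n ihn => rw [pow_succ, MulAut.mul_apply, h9, ihn]
      have := h10 (m + 1)
      rwa [hβ] at this
  ext x
  obtain ⟨k, hk⟩ := hG x
  simpa using key k x hk

variable [Finite S]

theorem isNormal_of_abelian_stronglyClosed {p : ℕ} [Fact p.Prime] (hS : IsPGroup p S) (hF : F.IsSaturated p)
    {E : Subgroup Ω} (hE : F.StronglyClosed E) (hab : ∀ x ∈ E, ∀ y ∈ E, x * y = y * x) : F.IsNormal E := by
  have hn := normalizer_of_stronglyClosed hE
  let Q : ℕ → Subgroup Ω := fun i => if i = 0 then ⊥ else if i = 1 then E else S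
  have h0 : Q 0 = ⊥ := rfl
  have h1 : Q 1 = E := rfl
  have h2 : Q 2 = S := rfl
  refine isNormal_of_chain hS hF hE Q 2 h2 ?_ ?_ ?_ ?_
  · intro i hi
    interval_cases i
    · rw [h0]
      refine ⟨bot_le, fun R hR φ hφ x => ?_⟩
      have hx : x = 1 := Subtype.ext (by simpa using hR x.2)
      rw [hx, map_one]
      exact Subgroup.one_mem _
    · rw [h1]; exact hE
    · rw [h2]; exact stronglyClosed_self
  · intro i hi
    interval_cases i
    · rw [h0]; exact bot_le
    · rw [h1, h2]; exact hE.1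
  · intro g hg i hi x hx
    interval_cases i
    · rw [h0, Subgroup.mem_bot]
      rw [h1] at hx
      rw [hab g hg x hx]
      group
    · rw [h1]
      rw [h2] at hx
      have h3 := conj_mem_of_normalizer (hn (S.inv_mem hx)) hg
      have : x⁻¹ * (g * x * g⁻¹) = x⁻¹ * g * x⁻¹⁻¹ * g⁻¹ := by group
      rw [this]
      exact E.mul_mem h3 (E.inv_mem hg)
  · intro U _ α _
    refine ⟨0, fun x hx => ?_⟩
    rw [h0, Subgroup.mem_bot] at hx
    have hx' : x = 1 := Subtype.ext hx
    rw [hx', map_one]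

theorem star (hS : IsPGroup 2 S) (hF : F.IsSaturated 2)
    (h : ∀ x ∈ S, ∃ z ∈ S ⊓ Subgroup.centralizer (S : Set Ω), F.IsConjElt x z) {x y : Ω} (hx : x ∈ S) (hy : y ∈ S)
    (hn : y * x * y⁻¹ ∈ Subgroup.zpowers x) : y * x * y⁻¹ = x := by
  classical
  haveI : Fact (Nat.Prime 2) := ⟨Nat.prime_two⟩
  obtain ⟨z, hz, φ, hφ, hφx⟩ := h x hx
  have hXS : Subgroup.zpowers x ≤ S := (Subgroup.zpowers_le).2 hx
  have hf : IsMapOn F (Subgroup.zpowers x) (toFun φ) := isMapOn_toFun hφ
  have hfx : toFun φ x = z := by rw [toFun_of_mem φ (Subgroup.mem_zpowers x), hφx]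
  have hQi : IsImage (toFun φ) (Subgroup.zpowers x) φ.range := by
    intro w
    constructor
    · rintro ⟨u, rfl⟩
      exact ⟨u, u.2, toFun_coe φ u⟩
    · rintro ⟨u, hu, rfl⟩
      exact ⟨⟨u, hu⟩, (toFun_of_mem φ hu).symm⟩
  have hQz : φ.range ≤ S ⊓ Subgroup.centralizer (S : Set Ω) := by
    rintro _ ⟨⟨u, hu⟩, rfl⟩
    obtain ⟨n, rfl⟩ := Subgroup.mem_zpowers_iff.1 hu
    have : φ ⟨x ^ n, hu⟩ = z ^ n := by
      rw [← hφx, ← map_zpow]
      rfl
    rw [this]
    exact Subgroup.zpow_mem _ hz n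
  have hQS : φ.range ≤ S := hQz.trans inf_le_left
  have hQfix : ∀ s ∈ S, ∀ q ∈ φ.range, s * q * s⁻¹ = q := by
    intro s hs q hq
    have := Subgroup.mem_centralizer_iff.1 (hQz hq).2 s hs
    rw [this]
    group
  have hQfn : F.IsFullyNormalized φ.range := by
    refine ZJ.fullyNormalized_of_normal hQS (fun s hs => ?_)
    refine mem_normalizer_of_conj_mem hQS (fun q hq => ?_)
    rw [hQfix s hs q hq]
    exact hq
  have hPa := (fullyNormalized_spec hS hF hQfn).2
  -- `y` normalizes `⟨x⟩`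
  have hyX : ∀ u ∈ Subgroup.zpowers x, y * u * y⁻¹ ∈ Subgroup.zpowers x := by
    intro u hu
    obtain ⟨n, rfl⟩ := Subgroup.mem_zpowers_iff.1 hu
    rw [← conj_zpow]
    exact Subgroup.zpow_mem _ hn n
  have hyN : y ∈ Subgroup.normalizer ((Subgroup.zpowers x : Subgroup Ω) : Set Ω) := mem_normalizer_of_conj_mem hXS hyX
  have hcI : IsImage (fun u => y * u * y⁻¹) (Subgroup.zpowers x) (Subgroup.zpowers x) := by
    intro u
    constructor
    · intro hu
      refine ⟨y⁻¹ * u * y⁻¹⁻¹, conj_mem_of_normalizer ((Subgroup.normalizer _).inv_mem hyN) hu, by group⟩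
    · rintro ⟨w, hw, rfl⟩
      exact hyX w hw
  obtain ⟨g, hg, hgi, hgf, hfg⟩ := hf.exists_inv hQi
  have hw : IsMapOn F φ.range (fun q => toFun φ (y * g q * y⁻¹)) :=
    (hg.comp (isMapOn_conj hXS hy) (fun q hq => hgi.mem hq)).comp hf (fun q hq => hyX _ (hgi.mem hq))
  have hwi : IsImage (fun q => toFun φ (y * g q * y⁻¹)) φ.range φ.range := (hgi.comp hcI).comp hQi
  obtain ⟨a, ha, hav⟩ := exists_aut_of_map hw hwi
  have := finite_of_le hQS
  -- `Aut(Q)` is a `2`-group
  have hcyc : IsCyclic φ.range := by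
    haveI : IsCyclic (Subgroup.zpowers x) := inferInstance
    exact isCyclic_of_surjective φ.rangeRestrict φ.rangeRestrict_surjective
  have hQp : IsPGroup 2 φ.range := hS.to_le hQS
  have hAp : IsPGroup 2 (MulAut φ.range) := by
    obtain ⟨n, hn'⟩ := IsPGroup.iff_card.1 hQp
    refine IsPGroup.of_card (n := n - 1) ?_
    rw [IsCyclic.card_mulAut, hn']
    rcases n with _ | n
    · simp
    · rw [Nat.totient_prime_pow_succ Nat.prime_two]
      simp
  have hKp : IsPGroup 2 (F.autGroup φ.range) := hAp.to_subgroup _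
  obtain ⟨R, hR⟩ := hPa.2
  have hRtop : (R : Subgroup (F.autGroup φ.range)) = ⊤ := by
    have := R.is_maximal' (Q := ⊤) (hKp.to_subgroup ⊤) le_top
    exact this.symm
  have hamem : a ∈ autInducedBy S φ.range := by
    have h1 : (⟨a, ha⟩ : F.autGroup φ.range) ∈ (R : Subgroup (F.autGroup φ.range)) := by
      rw [hRtop]
      trivial
    rw [hR] at h1
    exact h1
  obtain ⟨s, hs, hsa⟩ := mem_autInducedBy_iff.1 hamem
  have hzQ : toFun φ x ∈ φ.range := hQi.mem (Subgroup.mem_zpowers x)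
  have h1 : fn a (toFun φ x) = toFun φ x := by
    rw [fn_of_mem a hzQ, hsa]
    exact hQfix s hs _ hzQ
  rw [hav _ hzQ] at h1
  simp only [hgf x (Subgroup.mem_zpowers x)] at h1
  exact hf.injOn (hyX x (Subgroup.mem_zpowers x)) (Subgroup.mem_zpowers x) h1

theorem main (hS : IsPGroup 2 S) (hF : F.IsSaturated 2)
    (h : ∀ x ∈ S, ∃ z ∈ S ⊓ Subgroup.centralizer (S : Set Ω), F.IsConjElt x z) : ∀ x ∈ S, ∀ y ∈ S, x * y = y * x := by
  classical
  haveI : Fact (Nat.Prime 2) := ⟨Nat.prime_two⟩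
  have hst : ∀ x ∈ S, ∀ y ∈ S, y * x * y⁻¹ ∈ Subgroup.zpowers x → y * x * y⁻¹ = x :=
    fun x hx y hy hn => star hS hF h hx hy hn
  have hinv2 : ∀ t : Ω, t ^ 2 = 1 → t⁻¹ = t := by
    intro t ht
    rw [inv_eq_iff_mul_eq_one, ← pow_two, ht]
  have hcomm : ∀ t ∈ S, ∀ t' ∈ S, t ^ 2 = 1 → t' ^ 2 = 1 → t * t' = t' * t := by
    intro t ht t' ht' h1 h2
    have ht1 := hinv2 t h1
    have ht2 := hinv2 t' h2
    have hu : t * (t * t') * t⁻¹ = (t * t')⁻¹ := by
      rw [mul_inv_rev, ht1, ht2, ← mul_assoc, ← pow_two, h1, one_mul]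
    have h3 := hst (t * t') (S.mul_mem ht ht') t ht (by rw [hu]; exact Subgroup.inv_mem _ (Subgroup.mem_zpowers _))
    rw [hu, mul_inv_rev, ht1, ht2] at h3
    exact h3.symm
  let E : Subgroup Ω :=
    { carrier := {x | x ∈ S ∧ x ^ 2 = 1}
      one_mem' := ⟨S.one_mem, one_pow _⟩
      mul_mem' := by
        rintro a b ⟨ha, ha2⟩ ⟨hb, hb2⟩
        refine ⟨S.mul_mem ha hb, ?_⟩
        rw [(show Commute a b from hcomm a ha b hb ha2 hb2).mul_pow 2, ha2, hb2, one_mul]
      inv_mem' := by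
        rintro a ⟨ha, ha2⟩
        exact ⟨S.inv_mem ha, by rw [inv_pow, ha2, inv_one]⟩ }
  have hEmem : ∀ t, t ∈ E ↔ t ∈ S ∧ t ^ 2 = 1 := fun t => Iff.rfl
  have hEsc : F.StronglyClosed E := by
    refine ⟨fun t ht => ((hEmem t).1 ht).1, fun R hR φ hφ x => ?_⟩
    refine (hEmem _).2 ⟨val_mem hφ x, ?_⟩
    have hx2 : (x : Ω) ^ 2 = 1 := ((hEmem _).1 (hR x.2)).2
    have hx3 : x ^ 2 = 1 := Subtype.ext (by simpa using hx2)
    rw [← map_pow, hx3, map_one]
  have hEn : F.IsNormal E := isNormal_of_abelian_stronglyClosed hS hF hEsc (fun a ha b hb =>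
    hcomm a ((hEmem a).1 ha).1 b ((hEmem b).1 hb).1 ((hEmem a).1 ha).2 ((hEmem b).1 hb).2)
  -- `E` is central in `S`
  have hEz : ∀ t ∈ E, ∀ s ∈ S, s * t * s⁻¹ = t := by
    intro t ht s hs
    obtain ⟨z, hz, φ, hφ, hφx⟩ := h s hs
    obtain ⟨ψ, hψ, hag, -⟩ := hEn.2 _ φ hφ
    have hsX : s ∈ Subgroup.zpowers s ⊔ E := Subgroup.mem_sup_left (Subgroup.mem_zpowers s)
    have htX : t ∈ Subgroup.zpowers s ⊔ E := Subgroup.mem_sup_right ht
    have h1 : ψ ⟨s, hsX⟩ = z := by
      rw [← hφx, ← hag]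
      rfl
    have h2 : ψ ⟨t, htX⟩ ∈ S := val_mem hψ _
    have h3 : ψ (⟨s, hsX⟩ * ⟨t, htX⟩ * ⟨s, hsX⟩⁻¹) = ψ ⟨t, htX⟩ := by
      rw [map_mul, map_mul, map_inv, h1]
      have := Subgroup.mem_centralizer_iff.1 hz.2 _ h2
      rw [← this]
      group
    have h4 := inj hψ h3
    simpa using congrArg Subtype.val h4
  -- no proper essential subgroup
  have hess : ∀ U : Subgroup Ω, F.IsEssential 2 U → U = S := by
    intro U hU
    have hUS : U ≤ S := hU.1.1
    have hUc : centralizerIn S U ≤ U := hU.1.2 U (isConj_refl hUS)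
    have hEU : E ≤ U := by
      intro t ht
      refine hUc ⟨((hEmem t).1 ht).1, Subgroup.mem_centralizer_iff.2 (fun u hu => ?_)⟩
      have := hEz t ht u (hUS hu)
      rw [mul_inv_eq_iff_eq_mul] at this
      exact this
    have := finite_of_le hUS
    have hUp : IsPGroup 2 U := hS.to_le hUS
    have hrad := isRadical_of_essential hS hU
    let K₂ : Subgroup (F.autGroup U) :=
      { carrier := {α | ∀ t : U, (t : Ω) ∈ E → (α : MulAut U) t = t}
        one_mem' := fun t _ => rfl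
        mul_mem' := by
          intro a b ha hb t ht
          show (a : MulAut U) ((b : MulAut U) t) = t
          rw [hb t ht, ha t ht]
        inv_mem' := by
          intro a ha t ht
          show (a : MulAut U)⁻¹ t = t
          calc (a : MulAut U)⁻¹ t = (a : MulAut U)⁻¹ ((a : MulAut U) t) := by rw [ha t ht]
            _ = t := MulAut.inv_apply_self _ _ _ }
    have hK₂n : K₂.Normal := by
      constructor
      intro b hb a t ht
      show ((a : MulAut U) * (b : MulAut U) * (a : MulAut U)⁻¹) t = t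
      have h1 : (((a : MulAut U)⁻¹ t : U) : Ω) ∈ E := by
        have ha := (F.autGroup U).inv_mem a.2
        have hφ := (mem_autGroup_iff hUS).1 ha
        have := hEsc.2 (E ⊓ U) inf_le_left _ (restrict_mem hφ (inf_le_right : E ⊓ U ≤ U)) ⟨t, ht, t.2⟩
        exact this
      have h2 := hb _ h1
      simp only [MulAut.mul_apply, h2, MulAut.apply_inv_self]
    have hK₂p : IsPGroup 2 K₂ := by
      rintro ⟨α, hα⟩
      have hn0 : orderOf (α : MulAut U) ≠ 0 := by
        have : Finite (MulAut U) := inferInstance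
        exact (orderOf_pos _).ne'
      obtain ⟨k, m, hm, hnm⟩ := Nat.exists_eq_two_pow_mul_odd hn0
      refine ⟨k, ?_⟩
      have hpow : α ^ 2 ^ k ∈ K₂ := K₂.pow_mem hα _
      have hβ : (((α ^ 2 ^ k : F.autGroup U)) : MulAut U) = 1 := by
        apply aut_trivial hUp
        · intro x y hxy
          apply Subtype.ext
          have h1 : ((y : Ω) * x * (y : Ω)⁻¹) ∈ Subgroup.zpowers (x : Ω) := by
            obtain ⟨n, hn⟩ := Subgroup.mem_zpowers_iff.1 hxy
            refine Subgroup.mem_zpowers_iff.2 ⟨n, ?_⟩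
            have := congrArg Subtype.val hn
            simpa using this
          simpa using hst x (hUS x.2) y (hUS y.2) h1
        · rw [Subgroup.coe_pow, orderOf_pow_of_dvd (pow_ne_zero _ two_ne_zero) (by rw [hnm]; exact dvd_mul_right _ _), hnm,
            Nat.mul_div_cancel_left _ (by positivity)]
          exact hm
        · intro t ht
          apply hpow t
          refine (hEmem _).2 ⟨hUS t.2, ?_⟩
          have := congrArg Subtype.val ht
          simpa using this
      apply Subtype.ext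
      apply Subtype.ext
      exact hβ
    have hle : K₂ ≤ pCore 2 (F.autGroup U) := Cfsg.Agent.Lib.Basic.le_pCore hK₂n hK₂p
    have hSU : S ≤ U := by
      refine le_of_inn hS hUS hUc le_rfl (fun s hs => Subgroup.le_normalizer hs) (fun g hg hgn => ?_)
      have hcA : autOfNormalizer hgn ∈ F.autGroup U := autOfNormalizer_mem_autGroup hUS ⟨hg, hgn⟩
      have hcK : (⟨_, hcA⟩ : F.autGroup U) ∈ K₂ := by
        intro t ht
        apply Subtype.ext
        exact hEz t ht g hg
      rw [← hrad.2]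
      exact ⟨⟨_, hcA⟩, hle hcK, rfl⟩
    exact le_antisymm hUS hSU
  -- the centre is strongly closed
  have hZsc : F.StronglyClosed (S ⊓ Subgroup.centralizer (S : Set Ω)) := by
    refine stronglyClosed_of_aut hS hF inf_le_left (fun s hs => ?_) (fun P hP α hα x hx => ?_)
    · refine mem_normalizer_of_conj_mem inf_le_left (fun q hq => ?_)
      have := Subgroup.mem_centralizer_iff.1 hq.2 s hs
      rw [this, mul_inv_cancel_right]
      exact hq
    · have hPS : P = S := by
        rcases hP with h1 | h1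
        · exact h1
        · exact hess P h1
      subst hPS
      refine ⟨(α x).2, Subgroup.mem_centralizer_iff.2 (fun s hs => ?_)⟩
      have h1 : ((α⁻¹ ⟨s, hs⟩ : P) : Ω) * x = x * ((α⁻¹ ⟨s, hs⟩ : P) : Ω) :=
        Subgroup.mem_centralizer_iff.1 hx.2 _ (α⁻¹ ⟨s, hs⟩).2
      have h2 : α⁻¹ ⟨s, hs⟩ * x = x * α⁻¹ ⟨s, hs⟩ := Subtype.ext h1
      have h3 := congrArg (fun w => ((α w : P) : Ω)) h2
      simp only [map_mul, MulAut.apply_inv_self, Subgroup.coe_mul] at h3
      exact h3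
  intro x hx y hy
  have hxZ : x ∈ S ⊓ Subgroup.centralizer (S : Set Ω) := by
    obtain ⟨z, hz, φ, hφ, hφx⟩ := h x hx
    obtain ⟨ψ, hψ, hψv⟩ := F.inv_mem hφ
    have hR : φ.range ≤ S ⊓ Subgroup.centralizer (S : Set Ω) := by
      rintro _ ⟨⟨u, hu⟩, rfl⟩
      obtain ⟨n, rfl⟩ := Subgroup.mem_zpowers_iff.1 hu
      have : φ ⟨x ^ n, hu⟩ = z ^ n := by
        rw [← hφx, ← map_zpow]
        rfl
      rw [this]
      exact Subgroup.zpow_mem _ hz n
    have h1 := hZsc.2 _ hR ψ hψ ⟨φ ⟨x, Subgroup.mem_zpowers x⟩, ⟨_, rfl⟩⟩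
    rw [hψv] at h1
    exact h1
  exact (Subgroup.mem_centralizer_iff.1 hxZ.2 y hy).symm

end Cfsg.Agent.Lib.Fusion2.CHerzog
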