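import Cfsg.Agent.Lib.Fusion2.CenterIdx

/-!
# Centre of index `4`: transvections and the case `p = 2`
-/

set_option autoImplicit false
set_option linter.unusedSectionVars false

namespace Cfsg.Agent.Lib.Fusion2.AbelIdx

open Cfsg Cfsg.FusionSystem Cfsg.Agent.Lib.Fusion
open scoped commutatorElement

section Tv

variable {A : Type*} [Group A]

/-- A transvection with centre `a` (an involution). -/
structure Tv (σ : MulAut A) (a : A) : Prop where
  sq : a * a = 1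
  fix : σ a = a
  form : ∀ u, σ u = u ∨ σ u = u * a

theorem Tv.conj {τ : MulAut A} {a : A} (h : Tv τ a) (g : MulAut A) : Tv (g * τ * g⁻¹) (g a) where
  sq := by rw [← map_mul, h.sq, map_one]
  fix := by simp [MulAut.mul_apply, h.fix]
  form := fun u => by
    have e : (g * τ * g⁻¹) u = g (τ (g⁻¹ u)) := rfl
    rcases h.form (g⁻¹ u) with h1 | h1
    · left
      rw [e, h1, MulAut.apply_inv_self]
    · right
      rw [e, h1, map_mul, MulAut.apply_inv_self]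

theorem Tv.mul_self {τ : MulAut A} {a : A} (h : Tv τ a) : τ * τ = 1 := by
  ext u
  rcases h.form u with h1 | h1
  · simp [MulAut.mul_apply, h1]
  · simp [MulAut.mul_apply, h1, h.fix, mul_assoc, h.sq]

theorem Tv.inv {τ : MulAut A} {a : A} (h : Tv τ a) : τ⁻¹ = τ := inv_eq_of_mul_eq_one_left h.mul_self

theorem Tv.center_eq {τ : MulAut A} {a a' : A} (h : Tv τ a) (h' : Tv τ a') (h1 : τ ≠ 1) : a = a' := by
  by_contra hne
  apply h1
  ext u
  rcases h.form u with h2 | h2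
  · simpa using h2
  · rcases h'.form u with h3 | h3
    · simpa using h3
    · exact (hne (mul_left_cancel (h2.symm.trans h3))).elim

theorem Tv.ne_one {τ : MulAut A} {a : A} (h : Tv τ a) (h1 : τ ≠ 1) : a ≠ 1 := by
  rintro rfl
  apply h1
  ext u
  rcases h.form u with h2 | h2
  · simpa using h2
  · simpa using h2

/-- Two nontrivial elements in a group of order at most two coincide. -/
theorem eq_of_card_le_two {G : Type*} [Group G] [Finite G] (h : Nat.card G ≤ 2) {x y : G} (hx : x ≠ 1) (hy : y ≠ 1) : x = y := by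
  classical
  by_contra hxy
  have hinj : Function.Injective (![1, x, y] : Fin 3 → G) := by
    intro i j hij
    fin_cases i <;> fin_cases j <;> simp_all [eq_comm]
  have := Nat.card_le_card_of_injective _ hinj
  simp at this
  omega

variable [Finite A]

/-- Elements stabilizing a chain form a `p`-group. -/
theorem stab3_pgroup {p : ℕ} [hp : Fact p.Prime] (hA : IsPGroup p A) (U₁ U₂ : Subgroup A) (hU : U₁ ≤ U₂) :
    ∃ W : Subgroup (MulAut A), IsPGroup p W ∧ ∀ τ : MulAut A, (∀ u ∈ U₁, τ u = u) → (∀ u ∈ U₂, u⁻¹ * τ u ∈ U₁) →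
      (∀ u, u⁻¹ * τ u ∈ U₂) → τ ∈ W := by
  obtain ⟨W, hW⟩ : ∃ W : ℕ → Subgroup A, W = fun i => match i with
    | 0 => ⊥
    | 1 => U₁
    | 2 => U₂
    | _ => ⊤ := ⟨_, rfl⟩
  have hW0 : W 0 = ⊥ := by rw [hW]; rfl
  have hW1 : W 1 = U₁ := by rw [hW]; rfl
  have hW2 : W 2 = U₂ := by rw [hW]; rfl
  have hW3 : W 3 = ⊤ := by rw [hW]; rfl
  have hmono : ∀ i < 3, W i ≤ W (i + 1) := by
    intro i hi
    interval_cases i
    · rw [hW0]
      exact bot_le
    · rw [hW1, hW2]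
      exact hU
    · rw [hW2, hW3]
      exact le_top
  refine ⟨stabChain W 3 hmono, stabChain_isPGroup hA W 3 hW0 hmono hW3, ?_⟩
  intro τ h1 h2 h3 i hi x hx
  interval_cases i
  · rw [hW0, Subgroup.mem_bot]
    have : x ∈ U₁ := by
      have e := hx
      rw [show (0 + 1 : ℕ) = 1 from rfl, hW1] at e
      exact e
    rw [h1 x this, inv_mul_cancel]
  · rw [hW1]
    have : x ∈ U₂ := by
      have e := hx
      rw [show (1 + 1 : ℕ) = 2 from rfl, hW2] at e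
      exact e
    exact h2 x this
  · rw [hW2]
    exact h3 x

end Tv

section TvC

variable {A : Type*} [CommGroup A] [Finite A]

theorem tv_eq [Fact (Nat.Prime 2)] (hA : IsPGroup 2 A) {Δ : Subgroup (MulAut A)}
    (hsyl : ∀ W : Subgroup (MulAut A), W ≤ Δ → IsPGroup 2 W → Nat.card W ≤ 2) {σ σ' : MulAut A} {a a' : A} (hσ : σ ∈ Δ)
    (hσ' : σ' ∈ Δ) (h : Tv σ a) (h' : Tv σ' a') (h1 : σ ≠ 1) (h1' : σ' ≠ 1) (hfix : σ a' = a') : σ = σ' := by
  classical
  let U₂ : Subgroup A := MonoidHom.eqLocus σ.toMonoidHom (MonoidHom.id A)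
  have hU₂ : ∀ u, u ∈ U₂ ↔ σ u = u := fun u => Iff.rfl
  have hle : Subgroup.zpowers a' ≤ U₂ := by
    rw [Subgroup.zpowers_le]
    exact (hU₂ _).2 hfix
  have hfixz : ∀ u ∈ Subgroup.zpowers a', σ' u = u ∧ σ u = u := by
    rintro _ ⟨k, rfl⟩
    refine ⟨?_, ?_⟩
    · show σ' (a' ^ k) = a' ^ k
      rw [map_zpow, h'.fix]
    · show σ (a' ^ k) = a' ^ k
      rw [map_zpow, hfix]
  obtain ⟨W, hWp, hW⟩ := stab3_pgroup hA (Subgroup.zpowers a') U₂ hle
  have hσW : σ ∈ W := by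
    refine hW σ (fun u hu => (hfixz u hu).2) (fun u hu => ?_) (fun u => ?_)
    · rw [(hU₂ u).1 hu, inv_mul_cancel]
      exact Subgroup.one_mem _
    · rcases h.form u with h2 | h2
      · rw [h2, inv_mul_cancel]
        exact Subgroup.one_mem _
      · rw [h2, inv_mul_cancel_left]
        exact (hU₂ a).2 h.fix
  have hσ'W : σ' ∈ W := by
    refine hW σ' (fun u hu => (hfixz u hu).1) (fun u _ => ?_) (fun u => hle ?_)
    · rcases h'.form u with h2 | h2
      · rw [h2, inv_mul_cancel]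
        exact Subgroup.one_mem _
      · rw [h2, inv_mul_cancel_left]
        exact Subgroup.mem_zpowers a'
    · rcases h'.form u with h2 | h2
      · rw [h2, inv_mul_cancel]
        exact Subgroup.one_mem _
      · rw [h2, inv_mul_cancel_left]
        exact Subgroup.mem_zpowers a'
  have hWΔ : W ⊓ Δ ≤ Δ := inf_le_right
  have hWp' : IsPGroup 2 ↥(W ⊓ Δ) := hWp.to_le inf_le_left
  have hc := hsyl _ hWΔ hWp'
  have e := eq_of_card_le_two hc (x := ⟨σ, hσW, hσ⟩) (y := ⟨σ', hσ'W, hσ'⟩)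
    (fun he => h1 (congrArg Subtype.val he)) (fun he => h1' (congrArg Subtype.val he))
  exact congrArg Subtype.val e

theorem tv_move [Fact (Nat.Prime 2)] (hA : IsPGroup 2 A) {Δ : Subgroup (MulAut A)}
    (hsyl : ∀ W : Subgroup (MulAut A), W ≤ Δ → IsPGroup 2 W → Nat.card W ≤ 2) {σ σ' : MulAut A} {a a' : A} (hσ : σ ∈ Δ)
    (hσ' : σ' ∈ Δ) (h : Tv σ a) (h' : Tv σ' a') (h1 : σ ≠ 1) (h1' : σ' ≠ 1) (hne : σ ≠ σ') : σ a' = a' * a := by
  rcases h.form a' with h2 | h2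
  · exact (hne (tv_eq hA hsyl hσ hσ' h h' h1 h1' h2)).elim
  · exact h2

/-- The abstract structure of a group of automorphisms generated by transvections with Sylow `2`-subgroups of order two. -/
theorem abstract2 [Fact (Nat.Prime 2)] (hA : IsPGroup 2 A) {Δ : Subgroup (MulAut A)}
    (hsyl : ∀ W : Subgroup (MulAut A), W ≤ Δ → IsPGroup 2 W → Nat.card W ≤ 2) {τ : MulAut A} (hτΔ : τ ∈ Δ) (hτ1 : τ ≠ 1)
    {a₀ : A} (hτ : Tv τ a₀) {g : MulAut A} (hg : g ∈ Δ) (hgτ : g * τ * g⁻¹ ≠ τ) :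
    ∃ (a₁ : A) (C : Subgroup A), a₁ * a₁ = 1 ∧ τ a₁ = a₁ * a₀ ∧ a₀ ≠ 1 ∧ a₁ ≠ 1 ∧ (∀ c ∈ C, τ c = c) ∧ a₀ ∉ C ∧
      (∀ u, ∃ c ∈ C, u = c ∨ u = c * a₀ ∨ u = c * a₁ ∨ u = c * a₀ * a₁) ∧
      (∀ α ∈ Δ, ∀ c ∈ C, α c ∈ C) ∧
      (∀ α ∈ Δ, (α a₀ = a₀ ∨ α a₀ = a₁ ∨ α a₀ = a₀ * a₁) ∧ (α a₁ = a₀ ∨ α a₁ = a₁ ∨ α a₁ = a₀ * a₁)) ∧
      (∀ α ∈ Δ, ∃ κ ∈ Δ, (∀ c ∈ C, κ c = c) ∧ (κ * α) * τ * (κ * α)⁻¹ = τ) := by
  classical
  -- the conjugates
  have hD : ∀ h ∈ Δ, (h * τ * h⁻¹) ∈ Δ ∧ Tv (h * τ * h⁻¹) (h a₀) ∧ h * τ * h⁻¹ ≠ 1 := by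
    intro h hh
    refine ⟨Subgroup.mul_mem _ (Subgroup.mul_mem _ hh hτΔ) (Subgroup.inv_mem _ hh), hτ.conj h, ?_⟩
    intro he
    apply hτ1
    have := congrArg (fun x => h⁻¹ * x * h) he
    simpa [mul_assoc] using this
  obtain ⟨σ, hσdef⟩ : ∃ σ, σ = g * τ * g⁻¹ := ⟨_, rfl⟩
  obtain ⟨a₁, ha₁⟩ : ∃ a₁, a₁ = g a₀ := ⟨_, rfl⟩
  obtain ⟨hσΔ, hσ, hσ1⟩ := hD g hg
  rw [← hσdef, ← ha₁] at hσ
  rw [← hσdef] at hσ1
  rw [← hσdef] at hσΔ hgτ
  have hmv := fun {σ₁ σ₂ : MulAut A} {b₁ b₂ : A} (h1 : σ₁ ∈ Δ) (h2 : σ₂ ∈ Δ) (h3 : Tv σ₁ b₁) (h4 : Tv σ₂ b₂) (h5 : σ₁ ≠ 1) (h6 : σ₂ ≠ 1) (h7 : σ₁ ≠ σ₂) =>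
    tv_move hA hsyl h1 h2 h3 h4 h5 h6 h7
  have hτa₁ : τ a₁ = a₁ * a₀ := hmv hτΔ hσΔ hτ hσ hτ1 hσ1 hgτ.symm
  have hσa₀ : σ a₀ = a₀ * a₁ := hmv hσΔ hτΔ hσ hτ hσ1 hτ1 hgτ
  have ha₀1 : a₀ ≠ 1 := hτ.ne_one hτ1
  have ha₁1 : a₁ ≠ 1 := hσ.ne_one hσ1
  have hττ := hτ.mul_self
  have hσσ := hσ.mul_self
  have hτi := hτ.inv
  have hσi := hσ.inv
  have ha₀a₀ := hτ.sq
  have ha₁a₁ := hσ.sq
  -- the third
  obtain ⟨ρ, hρdef⟩ : ∃ ρ, ρ = τ * σ * τ := ⟨_, rfl⟩
  have hρΔ : ρ ∈ Δ := by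
    rw [hρdef]
    exact Subgroup.mul_mem _ (Subgroup.mul_mem _ hτΔ hσΔ) hτΔ
  have hρ : Tv ρ (a₁ * a₀) := by
    have h1 := hσ.conj τ
    rw [hτi, ← hρdef, hτa₁] at h1
    exact h1
  have hρ1 : ρ ≠ 1 := by
    intro h1
    rw [hρdef] at h1
    apply hσ1
    have h2 := congrArg (fun x => τ * x * τ) h1
    simp only [mul_one] at h2
    have e : τ * (τ * σ * τ) * τ = (τ * τ) * σ * (τ * τ) := by group
    rw [e, hττ, one_mul, mul_one] at h2
    rw [h2]
  have hρv : ∀ u, ρ u = τ (σ (τ u)) := fun u => by rw [hρdef]; rfl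
  have ha₁ne : a₁ * a₀ ≠ 1 := hρ.ne_one hρ1
  -- every conjugate is one of three
  have hthree : ∀ h ∈ Δ, h * τ * h⁻¹ = τ ∨ h * τ * h⁻¹ = σ ∨ h * τ * h⁻¹ = ρ := by
    intro h hh
    by_contra hcon
    push Not at hcon
    obtain ⟨h1, h2, h3⟩ := hcon
    obtain ⟨hδΔ, hδ, hδ1⟩ := hD h hh
    obtain ⟨d, hd⟩ : ∃ d, d = h a₀ := ⟨_, rfl⟩
    rw [← hd] at hδ
    have e1 : τ d = d * a₀ := hmv hτΔ hδΔ hτ hδ hτ1 hδ1 (Ne.symm h1)
    have e2 : σ d = d * a₁ := hmv hσΔ hδΔ hσ hδ hσ1 hδ1 (Ne.symm h2)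
    have e3 : ρ d = d * (a₁ * a₀) := hmv hρΔ hδΔ hρ hδ hρ1 hδ1 (Ne.symm h3)
    rw [hρv, e1, map_mul, e2, hσa₀, map_mul, map_mul, map_mul, e1, hτ.fix, hτa₁] at e3
    have e4 : d * a₀ * (a₁ * a₀) * (a₀ * (a₁ * a₀)) = d * ((a₀ * a₀) * (a₀ * a₀) * (a₁ * a₁)) := by ac_rfl
    rw [e4, ha₀a₀, ha₁a₁, mul_one, mul_one, mul_one] at e3
    exact ha₁ne (mul_eq_left.1 e3.symm)
  -- the braid relation
  have hbr : σ * τ * σ = ρ := by
    have h0 := hthree σ hσΔ
    rw [hσi] at h0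
    rcases h0 with h1 | h1 | h1
    · exfalso
      have h2 : σ (τ (σ a₁)) = τ a₁ := by
        have := congrArg (fun x : MulAut A => x a₁) h1
        exact this
      rw [hσ.fix, hτa₁, map_mul, hσ.fix, hσa₀] at h2
      have h3 : a₁ * (a₀ * a₁) = a₀ * (a₁ * a₁) := by ac_rfl
      rw [h3, ha₁a₁, mul_one] at h2
      apply ha₁1
      rw [mul_comm] at h2
      exact (mul_eq_left.1 h2.symm)
    · exfalso
      apply hgτ
      have h2 : σ * τ = 1 := by
        calc σ * τ = σ * τ * (σ * σ) := by rw [hσσ, mul_one]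
          _ = σ * τ * σ * σ := by group
          _ = σ * σ := by rw [h1]
          _ = 1 := hσσ
      have h3 : τ = σ⁻¹ := eq_inv_of_mul_eq_one_right h2
      rw [hσi] at h3
      exact h3.symm
    · exact h1
  have hρσρ : ρ * σ * ρ = τ := by
    have e : ρ * σ * ρ = (σ * τ * σ) * σ * (τ * σ * τ) := by rw [hbr, hρdef]
    rw [e]
    calc σ * τ * σ * σ * (τ * σ * τ) = σ * τ * (σ * σ) * τ * σ * τ := by group
      _ = σ * (τ * τ) * σ * τ := by rw [hσσ, mul_one]; group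
      _ = (σ * σ) * τ := by rw [hττ, mul_one]
      _ = τ := by rw [hσσ, one_mul]
  have hσρσ : σ * ρ * σ = τ := by
    rw [← hbr]
    calc σ * (σ * τ * σ) * σ = (σ * σ) * τ * (σ * σ) := by group
      _ = τ := by rw [hσσ, one_mul, mul_one]
  let C : Subgroup A := MonoidHom.eqLocus τ.toMonoidHom (MonoidHom.id A) ⊓ MonoidHom.eqLocus σ.toMonoidHom (MonoidHom.id A)
  have hCm : ∀ c, c ∈ C ↔ τ c = c ∧ σ c = c := fun c => Iff.rfl
  have hCρ : ∀ c ∈ C, ρ c = c := by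
    intro c hc
    obtain ⟨h1, h2⟩ := (hCm c).1 hc
    rw [hρv, h1, h2, h1]
  have hCh : ∀ h ∈ Δ, ∀ c ∈ C, (h * τ * h⁻¹) c = c := by
    intro h hh c hc
    obtain ⟨h1, h2⟩ := (hCm c).1 hc
    rcases hthree h hh with e | e | e
    · rw [e, h1]
    · rw [e, h2]
    · rw [e, hCρ c hc]
  refine ⟨a₁, C, ha₁a₁, hτa₁, ha₀1, ha₁1, fun c hc => ((hCm c).1 hc).1, ?_, ?_, ?_, ?_, ?_⟩
  · intro h
    have h1 := ((hCm _).1 h).2
    rw [hσa₀] at h1
    exact ha₁1 (mul_eq_left.1 h1)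
  · intro u
    -- first `τ`
    obtain ⟨u₁, hu₁, hu₁e⟩ : ∃ u₁, τ u₁ = u₁ ∧ (u = u₁ ∨ u = u₁ * a₁) := by
      rcases hτ.form u with h1 | h1
      · exact ⟨u, h1, Or.inl rfl⟩
      · refine ⟨u * a₁, ?_, Or.inr ?_⟩
        · rw [map_mul, h1, hτa₁]
          have e : u * a₀ * (a₁ * a₀) = u * a₁ * (a₀ * a₀) := by ac_rfl
          rw [e, ha₀a₀, mul_one]
        · rw [mul_assoc, ha₁a₁, mul_one]
    obtain ⟨c, hc, hce⟩ : ∃ c ∈ C, u₁ = c ∨ u₁ = c * a₀ := by
      rcases hσ.form u₁ with h1 | h1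
      · exact ⟨u₁, (hCm _).2 ⟨hu₁, h1⟩, Or.inl rfl⟩
      · refine ⟨u₁ * a₀, (hCm _).2 ⟨?_, ?_⟩, Or.inr ?_⟩
        · rw [map_mul, hu₁, hτ.fix]
        · rw [map_mul, h1, hσa₀]
          have e : u₁ * a₁ * (a₀ * a₁) = u₁ * a₀ * (a₁ * a₁) := by ac_rfl
          rw [e, ha₁a₁, mul_one]
        · rw [mul_assoc, ha₀a₀, mul_one]
    refine ⟨c, hc, ?_⟩
    rcases hu₁e with rfl | rfl <;> rcases hce with rfl | rfl
    · exact Or.inl rfl
    · exact Or.inr (Or.inl rfl)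
    · exact Or.inr (Or.inr (Or.inl rfl))
    · exact Or.inr (Or.inr (Or.inr rfl))
  · intro α hα c hc
    have hαi : α⁻¹ ∈ Δ := Subgroup.inv_mem _ hα
    refine (hCm _).2 ⟨?_, ?_⟩
    · have h1 := hCh α⁻¹ hαi c hc
      have h2 : α⁻¹ (τ (α c)) = c := by
        have e : (α⁻¹ * τ * α⁻¹⁻¹) c = α⁻¹ (τ (α c)) := by
          rw [inv_inv]
          rfl
        rw [← e, h1]
      have h3 := congrArg α h2
      rwa [MulAut.apply_inv_self] at h3
    · have h1 := hCh (α⁻¹ * g) (Subgroup.mul_mem _ hαi hg) c hc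
      have h2 : α⁻¹ (σ (α c)) = c := by
        have e : (α⁻¹ * g * τ * (α⁻¹ * g)⁻¹) c = α⁻¹ (σ (α c)) := by
          rw [hσdef, mul_inv_rev, inv_inv]
          rfl
        rw [← e, h1]
      have h3 := congrArg α h2
      rwa [MulAut.apply_inv_self] at h3
  · have hcen : ∀ h ∈ Δ, h a₀ = a₀ ∨ h a₀ = a₁ ∨ h a₀ = a₀ * a₁ := by
      intro h hh
      obtain ⟨-, hδ, hδ1⟩ := hD h hh
      rcases hthree h hh with e | e | e
      · rw [e] at hδ
        exact Or.inl (hδ.center_eq hτ hτ1)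
      · rw [e] at hδ
        exact Or.inr (Or.inl (hδ.center_eq hσ hσ1))
      · rw [e] at hδ
        refine Or.inr (Or.inr ((hδ.center_eq hρ hρ1).trans (mul_comm _ _)))
    intro α hα
    refine ⟨hcen α hα, ?_⟩
    have e : α a₁ = (α * g) a₀ := by
      rw [ha₁]
      rfl
    rw [e]
    exact hcen _ (Subgroup.mul_mem _ hα hg)
  · intro α hα
    have hρi := hρ.inv
    rcases hthree α hα with e | e | e
    · refine ⟨1, Subgroup.one_mem _, fun c _ => rfl, ?_⟩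
      rw [one_mul, e]
    · refine ⟨ρ, hρΔ, hCρ, ?_⟩
      have e2 : ρ * α * τ * (ρ * α)⁻¹ = ρ * (α * τ * α⁻¹) * ρ⁻¹ := by group
      rw [e2, e, hρi, hρσρ]
    · refine ⟨σ, hσΔ, fun c hc => ((hCm c).1 hc).2, ?_⟩
      have e2 : σ * α * τ * (σ * α)⁻¹ = σ * (α * τ * α⁻¹) * σ⁻¹ := by group
      rw [e2, e, hσi, hσρσ]

end TvC

section Wrapper

variable {A : Type*} [Group A] [Finite A]

theorem abstract2' [Fact (Nat.Prime 2)] (hA : IsPGroup 2 A) (hcomm : ∀ x y : A, x * y = y * x) {Δ : Subgroup (MulAut A)}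
    (hsyl : ∀ W : Subgroup (MulAut A), W ≤ Δ → IsPGroup 2 W → Nat.card W ≤ 2) {τ : MulAut A} (hτΔ : τ ∈ Δ) (hτ1 : τ ≠ 1)
    {a₀ : A} (hτ : Tv τ a₀) {g : MulAut A} (hg : g ∈ Δ) (hgτ : g * τ * g⁻¹ ≠ τ) :
    ∃ (a₁ : A) (C : Subgroup A), a₁ * a₁ = 1 ∧ τ a₁ = a₁ * a₀ ∧ a₀ ≠ 1 ∧ a₁ ≠ 1 ∧ (∀ c ∈ C, τ c = c) ∧ a₀ ∉ C ∧
      (∀ u, ∃ c ∈ C, u = c ∨ u = c * a₀ ∨ u = c * a₁ ∨ u = c * a₀ * a₁) ∧
      (∀ α ∈ Δ, ∀ c ∈ C, α c ∈ C) ∧
      (∀ α ∈ Δ, (α a₀ = a₀ ∨ α a₀ = a₁ ∨ α a₀ = a₀ * a₁) ∧ (α a₁ = a₀ ∨ α a₁ = a₁ ∨ α a₁ = a₀ * a₁)) ∧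
      (∀ α ∈ Δ, ∃ κ ∈ Δ, (∀ c ∈ C, κ c = c) ∧ (κ * α) * τ * (κ * α)⁻¹ = τ) := by
  letI : CommGroup A := { (inferInstance : Group A) with mul_comm := hcomm }
  exact abstract2 hA hsyl hτΔ hτ1 hτ hg hgτ

end Wrapper

section Four

variable {Q : Type*} [Group Q] [Finite Q]

theorem four_elems (hcard : Nat.card Q = 4) (hsq : ∀ y : Q, y * y = 1) {x y : Q} (hx : x ≠ 1) (hy : y ≠ 1) (hxy : x ≠ y) (z : Q) :
    z = 1 ∨ z = x ∨ z = y ∨ z = x * y := by
  classical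
  by_contra hcon
  push Not at hcon
  obtain ⟨h1, h2, h3, h4⟩ := hcon
  have h5 : x * y ≠ 1 := by
    intro h
    apply hxy
    have h6 : x = y⁻¹ := eq_inv_of_mul_eq_one_left h
    rw [h6]
    exact inv_eq_of_mul_eq_one_left (hsq y)
  have h6 : x * y ≠ x := fun h => hy (mul_eq_left.1 h)
  have h7 : x * y ≠ y := fun h => hx (mul_eq_right.1 h)
  have hinj : Function.Injective (![1, x, y, x * y, z] : Fin 5 → Q) := by
    intro i j hij
    fin_cases i <;> fin_cases j <;> simp_all [eq_comm]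
  have := Nat.card_le_card_of_injective _ hinj
  simp at this
  omega

theorem aut_v4 (hcard : Nat.card Q = 4) (hsq : ∀ y : Q, y * y = 1) (f : MulAut Q) {n : ℕ} (hn : Odd n) (hfn : f ^ n = 1) (T : Set Q)
    (hT : ∀ y ∈ T, f y ∈ T) (h1 : (1 : Q) ∉ T) (hTno : ∀ x ∈ T, ∀ y ∈ T, x ≠ y → x * y ∉ T) {a : Q} (ha : a ∈ T) : f = 1 := by
  obtain ⟨k, rfl⟩ := hn
  have ha1 : a ≠ 1 := fun h => h1 (h ▸ ha)
  have hff : f * f = 1 → f = 1 := by
    intro h
    have e : f ^ (2 * k + 1) = f := by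
      rw [pow_succ, pow_mul, sq, h, one_pow, one_mul]
    rw [← e, hfn]
  have hval : ∀ x y : Q, (∀ z, z = 1 ∨ z = x ∨ z = y ∨ z = x * y) → f (f x) = x → f (f y) = y → f * f = 1 := by
    intro x y hz hx hy
    ext z
    show f (f z) = z
    rcases hz z with rfl | rfl | rfl | rfl
    · rw [map_one, map_one]
    · exact hx
    · exact hy
    · rw [map_mul, map_mul, hx, hy]
  have hfa : f a = a := by
    by_contra hne
    have hbT := hT a ha
    have hb1 : f a ≠ 1 := fun h => h1 (h ▸ hbT)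
    have hcT := hT _ hbT
    have hfour := four_elems hcard hsq ha1 hb1 (Ne.symm hne)
    rcases hfour (f (f a)) with h2 | h2 | h2 | h2
    · exact h1 (h2 ▸ hcT)
    · have h3 : f (f (f a)) = f a := by rw [h2]
      have := hff (hval a (f a) hfour h2 h3)
      rw [this] at hne
      exact hne rfl
    · exact hne (f.injective h2)
    · exact hTno a ha _ hbT (Ne.symm hne) (h2 ▸ hcT)
  ext z
  show f z = z
  by_cases hz1 : z = 1
  · rw [hz1, map_one]
  by_cases hza : z = a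
  · rw [hza, hfa]
  have hfour := four_elems hcard hsq ha1 hz1 (Ne.symm hza)
  rcases hfour (f z) with h | h | h | h
  · exact absurd (f.injective (h.trans (map_one f).symm)) hz1
  · exact absurd (f.injective (h.trans hfa.symm)) hza
  · exact h
  · have hf2 : f (f z) = z := by
      rw [h, map_mul, hfa, h, ← mul_assoc, hsq, one_mul]
    have hf3 : f (f a) = a := by rw [hfa, hfa]
    have := hff (hval a z hfour hf3 hf2)
    rw [this] at h
    exact absurd (mul_eq_right.1 h.symm) ha1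

end Four

section Quot

variable {G : Type*} [Group G] [Finite G]

theorem map_center_mem (u : MulAut G) {w : G} (hw : w ∈ Subgroup.center G) : u w ∈ Subgroup.center G := by
  rw [Subgroup.mem_center_iff] at hw ⊢
  intro g
  have h1 := hw (u⁻¹ g)
  have h2 := congrArg u h1
  rwa [map_mul, map_mul, MulAut.apply_inv_self] at h2

theorem v4_triv (hidx : (Subgroup.center G).index = 4) (hsq : ∀ s : G, s * s ∈ Subgroup.center G) {ζ : G}
    (hζ : ∀ w ∈ commutator G, w = 1 ∨ w = ζ) (hno : ∀ c ∈ Subgroup.center G, c * c ≠ ζ) {a : G} (ha : a ∉ Subgroup.center G) (haa : a * a = 1)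
    (α : MulAut G) {n : ℕ} (hn : Odd n) (hαn : ∀ s : G, s⁻¹ * (α ^ n) s ∈ Subgroup.center G) :
    ∀ s : G, s⁻¹ * α s ∈ Subgroup.center G := by
  classical
  have hcard : Nat.card (G ⧸ Subgroup.center G) = 4 := by
    rw [← Subgroup.index_eq_card, hidx]
  have hsqQ : ∀ y : G ⧸ Subgroup.center G, y * y = 1 := by
    intro y
    induction y using QuotientGroup.induction_on with
    | H s =>
      rw [← QuotientGroup.mk_mul]
      exact (QuotientGroup.eq_one_iff _).2 (hsq s)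
  have hmapc : (Subgroup.center G).map α.toMonoidHom = Subgroup.center G := by
    ext w
    constructor
    · rintro ⟨z, hz, rfl⟩
      exact map_center_mem α hz
    · intro hw
      exact ⟨α⁻¹ w, map_center_mem α⁻¹ hw, by simp⟩
  let f : MulAut (G ⧸ Subgroup.center G) := QuotientGroup.congr (Subgroup.center G) (Subgroup.center G) α hmapc
  have hf : ∀ s : G, f (s : G ⧸ Subgroup.center G) = ((α s : G) : G ⧸ Subgroup.center G) := fun s => rfl
  have hfk : ∀ (k : ℕ) (s : G), (f ^ k) (s : G ⧸ Subgroup.center G) = (((α ^ k) s : G) : G ⧸ Subgroup.center G) := by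
    intro k
    induction k with
    | zero => intro s; rfl
    | succ k ih =>
      intro s
      rw [pow_succ', MulAut.mul_apply, ih, hf, pow_succ', MulAut.mul_apply]
  have hfn : f ^ n = 1 := by
    ext y
    induction y using QuotientGroup.induction_on with
    | H s =>
      rw [hfk]
      show _ = (s : G ⧸ Subgroup.center G)
      rw [eq_comm, QuotientGroup.eq]
      exact hαn s
  let T : Set (G ⧸ Subgroup.center G) := {y | ∃ w : G, w ∉ Subgroup.center G ∧ w * w = 1 ∧ (w : G ⧸ Subgroup.center G) = y}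
  have hT : ∀ y ∈ T, f y ∈ T := by
    rintro _ ⟨w, hw, hww, rfl⟩
    refine ⟨α w, fun h => hw ?_, by rw [← map_mul, hww, map_one], rfl⟩
    have := map_center_mem α⁻¹ h
    rwa [MulAut.inv_apply_self] at this
  have h1 : (1 : G ⧸ Subgroup.center G) ∉ T := by
    rintro ⟨w, hw, -, he⟩
    exact hw ((QuotientGroup.eq_one_iff _).1 he)
  have hTno : ∀ x ∈ T, ∀ y ∈ T, x ≠ y → x * y ∉ T := by
    rintro _ ⟨u, hu, huu, rfl⟩ _ ⟨v, hv, hvv, rfl⟩ hne ⟨w, hw, hww, he⟩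
    rw [← QuotientGroup.mk_mul, QuotientGroup.eq] at he
    obtain ⟨z, hz⟩ : ∃ z, z = w⁻¹ * (u * v) := ⟨_, rfl⟩
    rw [← hz] at he
    have huv : u * v = w * z := by
      rw [hz]
      group
    have hui : u⁻¹ = u := inv_eq_of_mul_eq_one_left huu
    have hvi : v⁻¹ = v := inv_eq_of_mul_eq_one_left hvv
    have hc : ⁅u, v⁆ = z * z := by
      rw [commutatorElement_def, hui, hvi, mul_assoc (u * v) u v, mul_assoc u v (u * v), ← mul_assoc v u v, ← mul_assoc u (v * u) v]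
      have e1 : u * (v * u) * v = (u * v) * (u * v) := by group
      rw [e1, huv]
      have hzc := Subgroup.mem_center_iff.1 he
      calc w * z * (w * z) = w * (z * w) * z := by group
        _ = w * (w * z) * z := by rw [← hzc]
        _ = (w * w) * (z * z) := by group
        _ = z * z := by rw [hww, one_mul]
    have hmem : ⁅u, v⁆ ∈ commutator G := by
      rw [commutator_def]
      exact Subgroup.commutator_mem_commutator (Subgroup.mem_top _) (Subgroup.mem_top _)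
    rcases hζ _ hmem with h2 | h2
    · -- `u` and `v` commute
      rw [commutatorElement_eq_one_iff_mul_comm] at h2
      apply hu
      rw [Subgroup.mem_center_iff]
      intro s
      have hu1 : (u : G ⧸ Subgroup.center G) ≠ 1 := fun h => hu ((QuotientGroup.eq_one_iff _).1 h)
      have hv1 : (v : G ⧸ Subgroup.center G) ≠ 1 := fun h => hv ((QuotientGroup.eq_one_iff _).1 h)
      have hdec : ∃ b : G, (b = 1 ∨ b = u ∨ b = v ∨ b = u * v) ∧ b⁻¹ * s ∈ Subgroup.center G := by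
        rcases four_elems hcard hsqQ hu1 hv1 hne (s : G ⧸ Subgroup.center G) with h | h | h | h
        · refine ⟨1, Or.inl rfl, ?_⟩
          rw [inv_one, one_mul]
          exact (QuotientGroup.eq_one_iff _).1 h
        · exact ⟨u, Or.inr (Or.inl rfl), QuotientGroup.eq.1 h.symm⟩
        · exact ⟨v, Or.inr (Or.inr (Or.inl rfl)), QuotientGroup.eq.1 h.symm⟩
        · rw [← QuotientGroup.mk_mul] at h
          exact ⟨u * v, Or.inr (Or.inr (Or.inr rfl)), QuotientGroup.eq.1 h.symm⟩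
      obtain ⟨b, hb, hbs⟩ := hdec
      have hbc : b * u = u * b := by
        rcases hb with rfl | rfl | rfl | rfl
        · group
        · rfl
        · exact h2.symm
        · rw [mul_assoc, ← h2]
      have hs : s = b * (b⁻¹ * s) := by group
      rw [hs]
      symm
      have hzc := Subgroup.mem_center_iff.1 hbs
      calc u * (b * (b⁻¹ * s)) = (u * b) * (b⁻¹ * s) := by group
        _ = (b * u) * (b⁻¹ * s) := by rw [hbc]
        _ = b * (u * (b⁻¹ * s)) := by group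
        _ = b * ((b⁻¹ * s) * u) := by rw [hzc]
        _ = b * (b⁻¹ * s) * u := by group
    · exact hno z he (hc.symm.trans h2)
  have hf1 := aut_v4 hcard hsqQ f hn hfn T hT h1 hTno (a := (a : G ⧸ Subgroup.center G)) ⟨a, ha, haa, rfl⟩
  intro s
  have h2 : f (s : G ⧸ Subgroup.center G) = s := by
    rw [hf1]
    rfl
  rw [hf] at h2
  rw [← QuotientGroup.eq]
  exact h2.symm

end Quot

section Fusion

variable {Ω : Type*} [Group Ω] {S : Subgroup Ω} [Finite S] {F : FusionSystem S}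

theorem exists_odd_pow [Fact (Nat.Prime 2)] (hS : IsPGroup 2 S) (hF : F.IsSaturated 2) (hcz : ∀ s t : ↥S, ⁅s, t⁆ ∈ Subgroup.center ↥S)
    {α : MulAut S} (hα : α ∈ F.autGroup S) :
    ∃ n : ℕ, Odd n ∧ ∀ s : ↥S, s⁻¹ * (α ^ n) s ∈ Subgroup.center ↥S := by
  classical
  let K₀ : Subgroup (F.autGroup S) :=
    { carrier := {k | ∀ s : ↥S, s⁻¹ * (k : MulAut S) s ∈ Subgroup.center ↥S}
      mul_mem' := by
        intro u v hu hv s
        show s⁻¹ * (u : MulAut S) ((v : MulAut S) s) ∈ Subgroup.center ↥S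
        have h1 := hv s
        have h2 := map_center_mem (u : MulAut S) h1
        rw [map_mul, map_inv] at h2
        have h3 := Subgroup.mul_mem _ (hu s) h2
        have e : s⁻¹ * (u : MulAut S) s * (((u : MulAut S) s)⁻¹ * (u : MulAut S) ((v : MulAut S) s)) = s⁻¹ * (u : MulAut S) ((v : MulAut S) s) := by group
        rwa [e] at h3
      one_mem' := by
        intro s
        show s⁻¹ * s ∈ _
        rw [inv_mul_cancel]
        exact Subgroup.one_mem _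
      inv_mem' := by
        intro u hu s
        show s⁻¹ * ((u : MulAut S)⁻¹) s ∈ Subgroup.center ↥S
        have h1 := hu ((u : MulAut S)⁻¹ s)
        rw [MulAut.apply_inv_self] at h1
        have h2 := Subgroup.inv_mem _ h1
        have e : (((u : MulAut S)⁻¹ s)⁻¹ * s)⁻¹ = s⁻¹ * ((u : MulAut S)⁻¹) s := by group
        rwa [e] at h2 }
  haveI hK₀ : K₀.Normal := by
    constructor
    intro k hk g s
    show s⁻¹ * (g : MulAut S) ((k : MulAut S) ((g : MulAut S)⁻¹ s)) ∈ Subgroup.center ↥S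
    have h1 := map_center_mem (g : MulAut S) (hk ((g : MulAut S)⁻¹ s))
    rwa [map_mul, map_inv, MulAut.apply_inv_self] at h1
  obtain ⟨R, hR⟩ := (fullyNormalized_spec hS hF (fullyNormalized_self (F := F))).2.2
  have hRK : (R : Subgroup (F.autGroup S)) ≤ K₀ := by
    intro t ht
    rw [hR] at ht
    obtain ⟨g, hg, hgv⟩ := mem_autInducedBy_iff.1 ht
    have hgv' : ∀ w : S, (((t : MulAut S) w : S) : Ω) = g * w * g⁻¹ := hgv
    intro s
    have h1 := hcz s⁻¹ ⟨g, hg⟩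
    rw [commutatorElement_def] at h1
    have e : s⁻¹ * (t : MulAut S) s = s⁻¹ * ⟨g, hg⟩ * s⁻¹⁻¹ * (⟨g, hg⟩ : ↥S)⁻¹ := by
      apply Subtype.ext
      have h2 := hgv' s
      show (s : Ω)⁻¹ * (((t : MulAut S) s : S) : Ω) = (s : Ω)⁻¹ * g * (s : Ω)⁻¹⁻¹ * g⁻¹
      rw [h2]
      group
    rw [e]
    exact h1
  refine ⟨K₀.index, ?_, ?_⟩
  · rw [← Nat.not_even_iff_odd, even_iff_two_dvd]
    intro h
    exact R.not_dvd_index (h.trans (Subgroup.index_dvd_of_le hRK))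
  · have h1 := Subgroup.pow_index_mem K₀ (⟨α, hα⟩ : F.autGroup S)
    intro s
    have h2 := h1 s
    rw [Subgroup.coe_pow] at h2
    exact h2

/-- Sylow subgroups of the automizer. -/
theorem hsyl_of [Fact (Nat.Prime 2)] (hS : IsPGroup 2 S) (hF : F.IsSaturated 2) {E : Subgroup Ω} (hfn : F.IsFullyNormalized E) {τ : MulAut E}
    (hT : ∀ t ∈ autInducedBy S E, t = 1 ∨ t = τ) :
    ∀ W : Subgroup (MulAut E), W ≤ F.autGroup E → IsPGroup 2 W → Nat.card W ≤ 2 := by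
  classical
  haveI := finite_of_le hfn.1
  obtain ⟨R, hR⟩ := (fullyNormalized_spec hS hF hfn).2.2
  intro W hWΔ hWp
  have hW' : IsPGroup 2 (W.subgroupOf (F.autGroup E)) := hWp.comap_subtype
  obtain ⟨Q, hQ⟩ := hW'.exists_le_sylow
  have hc1 : Nat.card W = Nat.card (W.subgroupOf (F.autGroup E)) := (Nat.card_congr (Subgroup.subgroupOfEquivOfLe hWΔ).toEquiv).symm
  have hc2 : Nat.card (W.subgroupOf (F.autGroup E)) ≤ Nat.card (Q : Subgroup (F.autGroup E)) := Subgroup.card_le_of_le hQ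
  have hc3 : Nat.card (Q : Subgroup (F.autGroup E)) = Nat.card (R : Subgroup (F.autGroup E)) := Nat.card_congr (Q.equiv R).toEquiv
  have hc4 : Nat.card (R : Subgroup (F.autGroup E)) ≤ 2 := by
    have hmem : ∀ r : (R : Subgroup (F.autGroup E)), ((r : F.autGroup E) : MulAut E) = 1 ∨ ((r : F.autGroup E) : MulAut E) = τ := by
      rintro ⟨r₀, hr₀⟩
      rw [hR] at hr₀
      exact hT _ hr₀
    have hinj : Function.Injective (fun r : (R : Subgroup (F.autGroup E)) => decide (((r : F.autGroup E) : MulAut E) = 1)) := by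
      intro r r' hrr
      have e1 : ((r : F.autGroup E) : MulAut E) = ((r' : F.autGroup E) : MulAut E) := by
        simp only [decide_eq_decide] at hrr
        rcases hmem r with h1 | h1 <;> rcases hmem r' with h2 | h2
        · rw [h1, h2]
        · exact h1.trans (hrr.1 h1).symm
        · exact (hrr.2 h2).trans h2.symm
        · rw [h1, h2]
      exact Subtype.ext (Subtype.ext e1)
    have := Nat.card_le_card_of_injective _ hinj
    simpa using this
  rw [hc1]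
  exact hc2.trans (hc3.le.trans hc4)

end Fusion

end Cfsg.Agent.Lib.Fusion2.AbelIdx
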