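import Cfsg.Agent.Lib.Fusion2.CenterIdx2

/-!
# Centre of index `4`: the essential subgroups
-/

set_option autoImplicit false
set_option linter.unusedSectionVars false

namespace Cfsg.Agent.Lib.Fusion2.AbelIdx

open Cfsg Cfsg.FusionSystem Cfsg.Agent.Lib.Fusion
open scoped commutatorElement

variable {Ω : Type*} [Group Ω] {S : Subgroup Ω} [Finite S] {F : FusionSystem S}

theorem ess_data2 [Fact (Nat.Prime 2)] (hS : IsPGroup 2 S) (hF : F.IsSaturated 2) (hna : ∃ s ∈ S, ∃ s' ∈ S, s * s' ≠ s' * s)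
    (hidx : ((Zc S).subgroupOf S).index = 2 ^ 2) {E : Subgroup Ω} (hE : F.IsEssential 2 E) {ζ : Ω} (hζZ : ζ ∈ Zc S) (hζ2 : ζ * ζ = 1)
    (hζ : ∀ w ∈ (commutator ↥S).map S.subtype, w = 1 ∨ w = ζ) :
    ∃ (a₁ : Ω) (C : Subgroup Ω), a₁ ∈ E ∧ a₁ ∉ Zc S ∧ a₁ * a₁ = 1 ∧ C ≤ Zc S ∧ ζ ∉ C ∧ (∀ z ∈ Zc S, ∃ c ∈ C, z = c ∨ z = c * ζ) ∧
      (∀ u ∈ E, ∃ c ∈ C, u = c ∨ u = c * ζ ∨ u = c * a₁ ∨ u = c * ζ * a₁) ∧
      (∀ α ∈ F.autGroup E, ∀ c ∈ C, fn α c ∈ C) ∧
      (∀ α ∈ F.autGroup E, (fn α ζ = ζ ∨ fn α ζ = a₁ ∨ fn α ζ = ζ * a₁) ∧ (fn α a₁ = ζ ∨ fn α a₁ = a₁ ∨ fn α a₁ = ζ * a₁)) ∧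
      (∀ α ∈ F.autGroup E, ∃ h ∈ F.autGroup S, ∀ c ∈ C, fn α c = fn h c) := by
  classical
  have hess := ess_struct hS hF hidx hE
  obtain ⟨A, hA, hEA, hZA⟩ := ess_case hS hF hna hidx hE
  obtain ⟨x, hxP, hxA, hform, hPZ, a, haA, haZ, haN, hap, hζa, hcase, -⟩ := abelian_case hS hF hA hna hE hEA hess.hab
  have haS := hA.hAS haA
  have hxS := hess.hES hxP
  have haE : a ∉ E := fun h => haZ (hPZ a h haA)
  have hxZ : x ∉ Zc S := fun h => hxA (hZA h)
  have hfn := hE.2.1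
  haveI := finite_of_le hess.hES
  have hEp : IsPGroup 2 E := hS.to_le hess.hES
  have hcomm : ∀ u v : E, u * v = v * u := fun u v => Subtype.ext (hess.hab u u.2 v v.2)
  -- centrality criterion
  have hcentral : ∀ u : Ω, u ∈ E → a * u * a⁻¹ = u → u ∈ Zc S := by
    intro u hu h1
    refine mem_Zc.2 ⟨hess.hES hu, fun s hs => ?_⟩
    obtain ⟨i, e, he, rfl⟩ := hess.hsetE.hgen a haS haE s hs
    have h2 : a * u = u * a := by
      calc a * u = a * u * a⁻¹ * a := by group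
        _ = u * a := by rw [h1]
    have h3 : a ^ i * u = u * a ^ i := Commute.pow_left h2 i
    calc a ^ i * e * u = a ^ i * (e * u) := by group
      _ = a ^ i * (u * e) := by rw [hess.hab e he u hu]
      _ = (a ^ i * u) * e := by group
      _ = u * (a ^ i * e) := by rw [h3]; group
  -- the commutator
  have hζ' : x * a * x⁻¹ * a⁻¹ = ζ := by
    have hmem : x * a * x⁻¹ * a⁻¹ ∈ (commutator ↥S).map S.subtype := by
      refine ⟨⁅(⟨x, hxS⟩ : ↥S), (⟨a, haS⟩ : ↥S)⁆, ?_, rfl⟩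
      rw [commutator_def]
      exact Subgroup.commutator_mem_commutator (Subgroup.mem_top _) (Subgroup.mem_top _)
    rcases hζ _ hmem with h | h
    · exfalso
      have hxa : x * a = a * x := by
        have h1 : x * a * x⁻¹ = a := by
          calc x * a * x⁻¹ = x * a * x⁻¹ * a⁻¹ * a := by group
            _ = a := by rw [h, one_mul]
        calc x * a = x * a * x⁻¹ * x := by group
          _ = a * x := by rw [h1]
      have hae : ∀ e ∈ E, a * e * a⁻¹ = e := by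
        intro e he
        obtain ⟨j, z, hz, rfl⟩ := hess.hsetZ.hgen x hxP hxZ e he
        have h2 : a * x ^ j = x ^ j * a := (Commute.pow_right (show Commute a x from hxa.symm) j)
        have h3 := (mem_Zc.1 hz).2 a haS
        calc a * (x ^ j * z) * a⁻¹ = (a * x ^ j) * z * a⁻¹ := by group
          _ = x ^ j * (a * z) * a⁻¹ := by rw [h2]; group
          _ = x ^ j * z := by rw [h3]; group
      apply haZ
      refine mem_Zc.2 ⟨haS, fun s hs => ?_⟩
      obtain ⟨i, e, he, rfl⟩ := hess.hsetE.hgen a haS haE s hs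
      have h4 : e * a = a * e := by
        calc e * a = a * e * a⁻¹ * a := by rw [hae e he]
          _ = a * e := by group
      calc a ^ i * e * a = a ^ i * (e * a) := by group
        _ = a ^ i * (a * e) := by rw [h4]
        _ = a ^ (i + 1) * e := by rw [pow_succ]; group
        _ = a * (a ^ i * e) := by rw [pow_succ']; group
    · exact h
  -- the transvection
  obtain ⟨τ, hτ⟩ : ∃ τ, τ = autOfNormalizer haN.2 := ⟨_, rfl⟩
  have hτv : ∀ u : E, ((τ u : E) : Ω) = a * u * a⁻¹ := fun u => by rw [hτ]; rfl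
  have hζE : ζ ∈ E := hess.hZE hζZ
  obtain ⟨a₀, ha₀⟩ : ∃ a₀ : E, (a₀ : Ω) = ζ := ⟨⟨ζ, hζE⟩, rfl⟩
  have hζi : ζ⁻¹ = ζ := inv_eq_of_mul_eq_one_left hζ2
  have hpow : ∀ i : ℕ, ζ ^ i = 1 ∨ ζ ^ i = ζ := by
    intro i
    induction i with
    | zero => exact Or.inl (pow_zero ζ)
    | succ i ih =>
      rcases ih with h | h
      · right
        rw [pow_succ, h, one_mul]
      · left
        rw [pow_succ, h, hζ2]
  have hZA' : Zc S ≤ A := hZA
  have hTv : Tv τ a₀ := by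
    refine ⟨Subtype.ext (by show (a₀ : Ω) * a₀ = 1; rw [ha₀, hζ2]), Subtype.ext ?_, fun u => ?_⟩
    · rw [hτv, ha₀, (mem_Zc.1 hζZ).2 a haS]
      group
    · obtain ⟨i, z, hz, hu⟩ := hess.hsetZ.hgen x hxP hxZ u u.2
      have h1 := abel_act hA hxS hZA' haA (by rw [hζ']; exact hζZ) i hz
      rw [hζ', ← hu, hζi] at h1
      rcases hpow i with h2 | h2
      · left
        apply Subtype.ext
        rw [hτv]
        rw [h2] at h1
        exact (inv_mul_eq_one.1 h1).symm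
      · right
        apply Subtype.ext
        rw [hτv, Subgroup.coe_mul, ha₀]
        rw [h2] at h1
        exact (inv_mul_eq_iff_eq_mul.1 h1)
  have hτ1 : τ ≠ 1 := by
    intro h
    apply haE
    apply hess.hCc
    refine ⟨haS, ?_⟩
    show a ∈ Subgroup.centralizer (E : Set Ω)
    rw [Subgroup.mem_centralizer_iff]
    intro u hu
    have h1 := hτv ⟨u, hu⟩
    rw [h] at h1
    have h2 : u = a * u * a⁻¹ := h1
    calc u * a = a * u * a⁻¹ * a := by rw [← h2]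
      _ = a * u := by group
  have hτin : τ ∈ autInducedBy S E := by
    rw [hτ]
    exact autOfNormalizer_mem_autInducedBy haN.2 haN.1
  have hτΔ : τ ∈ F.autGroup E := autInducedBy_le_autGroup hfn.1 hτin
  have hτni : τ ∉ Inn E := by
    rw [hτ]
    exact fun h => haE (mem_of_autOfNormalizer_mem_inn hess.hES hess.hCc haN h)
  obtain ⟨H, hH, ⟨g, hg, hgH⟩, hHs⟩ := essential_spec hS hF hE
  have hgτ : g * τ * g⁻¹ ≠ τ := by
    intro h
    exact hgH (hHs τ hτin hτni g hg (by rw [h]; exact hτin))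
  have hT : ∀ t ∈ autInducedBy S E, t = 1 ∨ t = τ := by
    intro t ht
    obtain ⟨y, hy, hyv⟩ := mem_autInducedBy_iff.1 ht
    have hyv' : ∀ w : E, ((t w : E) : Ω) = y * w * y⁻¹ := hyv
    obtain ⟨i, e, he, rfl⟩ := hess.hsetE.hgen a haS haE y hy
    have hace : ∀ (b : Ω) (w : E), (b * e) * (w : Ω) * (b * e)⁻¹ = b * w * b⁻¹ := by
      intro b w
      have h1 := hess.hab e he w w.2
      calc (b * e) * (w : Ω) * (b * e)⁻¹ = b * (e * w) * e⁻¹ * b⁻¹ := by group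
        _ = b * (w * e) * e⁻¹ * b⁻¹ := by rw [h1]
        _ = b * w * b⁻¹ := by group
    have ha2 : a ^ 2 ∈ Zc S := hess.pow_mem haS
    obtain ⟨l, hl⟩ := Nat.even_or_odd' i
    rcases hl with rfl | rfl
    · left
      ext w
      show ((t w : E) : Ω) = w
      rw [hyv', hace, pow_mul]
      have h1 := (mem_Zc.1 ((Zc S).pow_mem ha2 l)).2 w (hess.hES w.2)
      rw [← h1]
      group
    · right
      ext w
      show ((t w : E) : Ω) = ((τ w : E) : Ω)
      rw [hyv', hace, hτv, pow_succ, pow_mul]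
      have h1 := (mem_Zc.1 ((Zc S).pow_mem ha2 l)).2 (a * w * a⁻¹) (S.mul_mem (S.mul_mem haS (hess.hES w.2)) (S.inv_mem haS))
      calc (a ^ 2) ^ l * a * (w : Ω) * ((a ^ 2) ^ l * a)⁻¹ = (a ^ 2) ^ l * (a * w * a⁻¹) * ((a ^ 2) ^ l)⁻¹ := by group
        _ = (a * w * a⁻¹) * (a ^ 2) ^ l * ((a ^ 2) ^ l)⁻¹ := by rw [h1]
        _ = a * w * a⁻¹ := by group
  have hsyl := hsyl_of hS hF hfn hT
  obtain ⟨a₁', C₀, h1, h2, h3, h4, h5, h6, h7, h8, h9, h10⟩ := abstract2' hEp hcomm hsyl hτΔ hτ1 hTv hg hgτ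
  have hfixZ' : ∀ u : E, τ u = u → (u : Ω) ∈ Zc S := by
    intro u hu
    refine hcentral u u.2 ?_
    rw [← hτv, hu]
  have hfixZ : ∀ u : E, (u : Ω) ∈ Zc S → τ u = u := by
    intro u hu
    apply Subtype.ext
    rw [hτv, (mem_Zc.1 hu).2 a haS]
    group
  have hcoe : ∀ u v : E, ((u * v : E) : Ω) = (u : Ω) * v := fun u v => rfl
  refine ⟨a₁', C₀.map E.subtype, a₁'.2, ?_, ?_, ?_, ?_, ?_, ?_, ?_, ?_, ?_⟩
  · intro h
    have h11 := hfixZ a₁' h
    rw [h2] at h11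
    exact h3 (mul_eq_left.1 h11)
  · exact congrArg Subtype.val h1
  · rintro _ ⟨c, hc, rfl⟩
    exact hfixZ' c (h5 c hc)
  · rintro ⟨c, hc, he⟩
    have e : c = a₀ := Subtype.ext (he.trans ha₀.symm)
    exact h6 (e ▸ hc)
  · intro z hz
    obtain ⟨c, hc, h11⟩ := h7 ⟨z, hess.hZE hz⟩
    have h12 := hfixZ ⟨z, hess.hZE hz⟩ hz
    have hcζ := h5 c hc
    refine ⟨c, ⟨c, hc, rfl⟩, ?_⟩
    rcases h11 with h11 | h11 | h11 | h11
    · left
      exact congrArg Subtype.val h11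
    · right
      have := congrArg Subtype.val h11
      rw [hcoe, ha₀] at this
      exact this
    · exfalso
      rw [h11, map_mul, hcζ, h2, ← mul_assoc] at h12
      exact h3 (mul_eq_left.1 h12)
    · exfalso
      rw [h11, map_mul, map_mul, hcζ, hTv.fix, h2, ← mul_assoc] at h12
      exact h3 (mul_eq_left.1 h12)
  · intro u hu
    obtain ⟨c, hc, h11⟩ := h7 ⟨u, hu⟩
    refine ⟨c, ⟨c, hc, rfl⟩, ?_⟩
    have e : ∀ v : E, (⟨u, hu⟩ : E) = v → u = v := fun v h => congrArg Subtype.val h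
    rcases h11 with h11 | h11 | h11 | h11
    · exact Or.inl (e _ h11)
    · refine Or.inr (Or.inl ?_)
      rw [e _ h11, hcoe, ha₀]
    · exact Or.inr (Or.inr (Or.inl (e _ h11)))
    · refine Or.inr (Or.inr (Or.inr ?_))
      rw [e _ h11, hcoe, hcoe, ha₀]
  · rintro α hα _ ⟨c, hc, rfl⟩
    exact ⟨α c, h8 α hα c hc, (fn_coe α c).symm⟩
  · intro α hα
    obtain ⟨h11, h12⟩ := h9 α hα
    have e1 : fn α ζ = ((α a₀ : E) : Ω) := by rw [← ha₀]; exact fn_coe α a₀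
    have e2 : fn α (a₁' : Ω) = ((α a₁' : E) : Ω) := fn_coe α a₁'
    rw [e1, e2]
    refine ⟨?_, ?_⟩
    · rcases h11 with h | h | h
      · left
        rw [h, ha₀]
      · right; left
        rw [h]
      · right; right
        rw [h, hcoe, ha₀]
    · rcases h12 with h | h | h
      · left
        rw [h, ha₀]
      · right; left
        rw [h]
      · right; right
        rw [h, hcoe, ha₀]
  · intro α hα
    obtain ⟨κ, hκ, hκc, hκτ⟩ := h10 α hα
    have hn : κ * α ∈ F.autGroup E := Subgroup.mul_mem _ hκ hα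
    have hconj : (κ * α) * autOfNormalizer haN.2 * (κ * α)⁻¹ ∈ autInducedBy S E := by
      rw [← hτ, hκτ]
      exact hτin
    obtain ⟨h, hh, hv⟩ := exists_ext_aut hS hF hfn hess.hsetE hn haS haE haN.2 hconj
    refine ⟨h, hh, ?_⟩
    rintro _ ⟨c, hc, rfl⟩
    show fn α (c : Ω) = fn h (c : Ω)
    rw [hv c, fn_coe]
    show _ = ((κ (α c) : E) : Ω)
    rw [hκc _ (h8 α hα c hc)]

theorem foc_le {p : ℕ} [hp : Fact p.Prime] (hS : IsPGroup p S) (hF : F.IsSaturated p) (hhyp : F.hyperfocalSubgroup p = S) {M : Subgroup Ω}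
    (hMc : ∀ u ∈ S, ∀ g ∈ S, u⁻¹ * (g * u * g⁻¹) ∈ M)
    (hMgen : ∀ P, (P = S ∨ F.IsEssential p P) → ∀ α ∈ F.autGroup P, ∀ u ∈ P, u⁻¹ * fn α u ∈ M) : S ≤ M := by
  have hfoc : F.focalSubgroup ≤ M := by
    rw [focalSubgroup, Subgroup.closure_le]
    rintro _ ⟨P, φ, x, hφ, rfl⟩
    refine alperin_induction hS hF (fun P φ => ∀ u : P, (u : Ω)⁻¹ * φ u ∈ M) ?_ ?_ ?_ ?_ hφ x
    · intro P g hP hg u
      exact hMc u (hP u.2) g hg
    · intro P Q φ ψ _ _ h1 h2 h u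
      have h3 := M.mul_mem (h1 u) (h2 ⟨φ u, h u⟩)
      have e : (u : Ω)⁻¹ * φ u * ((φ u)⁻¹ * ψ ⟨φ u, h u⟩) = (u : Ω)⁻¹ * ψ ⟨φ u, h u⟩ := by group
      rw [e] at h3
      exact h3
    · rintro P φ ψ _ _ h1 h2 ⟨_, ⟨v, rfl⟩⟩
      have h3 := M.inv_mem (h2 v)
      rw [h1 v]
      have e : ((v : Ω)⁻¹ * φ v)⁻¹ = (φ v)⁻¹ * v := by group
      rw [e] at h3
      exact h3
    · intro P hP α hα u
      have h1 := hMgen P hP α hα u u.2
      rw [fn_coe] at h1
      exact h1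
  rw [focal_eq_hyp_sup hS hF, hhyp] at hfoc
  exact le_sup_left.trans hfoc

end Cfsg.Agent.Lib.Fusion2.AbelIdx
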