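import Cfsg.Agent.Lib.Fusion2.CenterIdx3
import Cfsg.Agent.Lib.TwoGroups.Present

/-!
# Centre of index at most `p²`: the theorem
-/

set_option autoImplicit false
set_option linter.unusedSectionVars false

namespace Cfsg.Agent.Lib.Fusion2.AbelIdx

open Cfsg Cfsg.FusionSystem Cfsg.Agent.Lib.Fusion
open scoped commutatorElement

variable {Ω : Type*} [Group Ω] {S : Subgroup Ω} [Finite S] {F : FusionSystem S}

theorem main_two [Fact (Nat.Prime 2)] (hS : IsPGroup 2 S) (hF : F.IsSaturated 2) (hna' : ∃ s ∈ S, ∃ s' ∈ S, s * s' ≠ s' * s)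
    (hidx : ((Zc S).subgroupOf S).index = 2 ^ 2) (hcore : F.core = ⊥) (hhyp : F.hyperfocalSubgroup 2 = S) :
    ∃ a₁ ∈ S, ∃ a₂ ∈ S, ∃ ζ ∈ Zc S, a₁ * a₁ = 1 ∧ a₂ * a₂ = 1 ∧ a₁ * a₂ * (a₁ * a₂) = ζ ∧ ζ ≠ 1 ∧ ζ * ζ = 1 ∧ a₁ ∉ Zc S ∧ a₂ ∉ Zc S ∧
      Nat.card S = 2 ^ 3 := by
  classical
  have hbot : ∀ Q, F.IsNormal Q → Q = ⊥ := by
    intro Q hQ
    have h1 : Q ≤ F.core := le_sSup hQ
    rw [hcore] at h1
    exact le_bot_iff.1 h1
  have hZne : Zc S ≠ ⊥ := by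
    obtain ⟨s, hs, s', hs', hss⟩ := hna'
    haveI : Nontrivial ↥S := by
      refine ⟨⟨⟨s, hs⟩, 1, fun h => hss ?_⟩⟩
      have h1 : s = 1 := congrArg Subtype.val h
      rw [h1]
      group
    haveI hnt := hS.center_nontrivial
    obtain ⟨⟨z, hz⟩, hz1⟩ := exists_ne (1 : Subgroup.center ↥S)
    intro hbot
    apply hz1
    have h2 : (z : Ω) ∈ Zc S := mem_center_iff_Zc.1 hz
    rw [hbot, Subgroup.mem_bot] at h2
    apply Subtype.ext
    exact Subtype.ext h2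
  have hessS : ∀ P, F.IsEssential 2 P → Ess S P 2 := fun P hP => ess_struct hS hF hidx hP
  have hZPe : ∀ P : Subgroup Ω, F.IsEssential 2 P → Zc S ≤ P := fun P hP => (hessS P hP).hZE
  have hex : ∃ P₀, F.IsEssential 2 P₀ := by
    by_contra hcon
    push Not at hcon
    apply hZne
    apply hbot
    refine isNormal_of_fn_inv hS hF le_rfl hZPe (fun P hP α _ z hz => ?_)
    rcases hP with rfl | hP
    · exact fn_Zc α hz
    · exact (hcon P hP).elim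
  obtain ⟨P₀, hP₀⟩ := hex
  obtain ⟨ζ, hζZ, hζ1, hζp, hcomm⟩ := comm_gen hS hF hna' hidx hP₀
  have hζ2 : ζ * ζ = 1 := by
    rw [← sq]
    exact hζp
  have hζi : ζ⁻¹ = ζ := inv_eq_of_mul_eq_one_left hζ2
  have hζmem : ∀ w ∈ (commutator ↥S).map S.subtype, w = 1 ∨ w = ζ := by
    intro w hw
    rw [hcomm] at hw
    obtain ⟨k, rfl⟩ := Subgroup.mem_zpowers_iff.1 hw
    obtain ⟨l, hl⟩ := Int.even_or_odd' k
    rcases hl with rfl | rfl
    · left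
      rw [zpow_mul, zpow_two, hζ2, one_zpow]
    · right
      rw [zpow_add_one, zpow_mul, zpow_two, hζ2, one_zpow, one_mul]
  have hcS : ∀ c ∈ (commutator ↥S).map S.subtype, c ∈ Zc S := by
    intro c hc
    rw [hcomm] at hc
    obtain ⟨k, rfl⟩ := Subgroup.mem_zpowers_iff.1 hc
    exact Subgroup.zpow_mem _ hζZ k
  have hζc := (mem_Zc.1 hζZ).2
  have hζS := (mem_Zc.1 hζZ).1
  have hdata := fun (E : Subgroup Ω) (hE : F.IsEssential 2 E) => ess_data2 hS hF hna' hidx hE hζZ hζ2 hζmem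
  obtain ⟨a₁, C₁, ha₁E, ha₁Z, ha₁a, hC₁Z, hζC₁, hZC₁, hEC₁, hC₁inv, hV₁, hext₁⟩ := hdata P₀ hP₀
  have hno : ∀ c ∈ Zc S, c * c ≠ ζ := by
    intro c hc he
    obtain ⟨c₀, hc₀, h⟩ := hZC₁ c hc
    apply hζC₁
    rcases h with rfl | rfl
    · rw [← he]
      exact C₁.mul_mem hc₀ hc₀
    · have e : c₀ * ζ * (c₀ * ζ) = c₀ * c₀ := by
        calc c₀ * ζ * (c₀ * ζ) = c₀ * (ζ * c₀) * ζ := by group
          _ = c₀ * (c₀ * ζ) * ζ := by rw [hζc c₀ (mem_Zc.1 (hC₁Z hc₀)).1]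
          _ = c₀ * c₀ * (ζ * ζ) := by group
          _ = c₀ * c₀ := by rw [hζ2, mul_one]
      rw [← he, e]
      exact C₁.mul_mem hc₀ hc₀
  have hess₀ := hessS P₀ hP₀
  have hES₀ := hess₀.hES
  have hsubc : ∀ w ∈ commutator ↥S, (w : Ω) ∈ (commutator ↥S).map S.subtype := fun w hw => ⟨w, hw, rfl⟩
  have hcz : ∀ s t : ↥S, ⁅s, t⁆ ∈ Subgroup.center ↥S := by
    intro s t
    rw [mem_center_iff_Zc]
    apply hcS
    apply hsubc
    rw [commutator_def]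
    exact Subgroup.commutator_mem_commutator (Subgroup.mem_top _) (Subgroup.mem_top _)
  have hidx' : (Subgroup.center ↥S).index = 4 := by
    rw [← subgroupOf_Zc, hidx]
    norm_num
  have hsq' : ∀ s : ↥S, s * s ∈ Subgroup.center ↥S := by
    intro s
    rw [mem_center_iff_Zc, ← sq]
    exact hess₀.pow_mem s.2
  have hτriv : ∀ α ∈ F.autGroup S, ∀ s : ↥S, s⁻¹ * α s ∈ Subgroup.center ↥S := by
    intro α hα
    obtain ⟨n, hn, hαn⟩ := exists_odd_pow hS hF hcz hα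
    refine v4_triv (ζ := (⟨ζ, hζS⟩ : ↥S)) (a := (⟨a₁, hES₀ ha₁E⟩ : ↥S)) hidx' hsq' ?_ ?_ ?_ ?_ α hn hαn
    · intro w hw
      rcases hζmem _ (hsubc w hw) with h | h
      · left
        exact Subtype.ext h
      · right
        exact Subtype.ext h
    · intro c hc h
      apply hno (c : Ω) (mem_center_iff_Zc.1 hc)
      exact congrArg Subtype.val h
    · intro h
      exact ha₁Z (mem_center_iff_Zc.1 h)
    · exact Subtype.ext ha₁a
  have htriv : ∀ α ∈ F.autGroup S, ∀ s ∈ S, s⁻¹ * fn α s ∈ Zc S := by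
    intro α hα s hs
    have h1 := hτriv α hα ⟨s, hs⟩
    rw [mem_center_iff_Zc] at h1
    rw [fn_of_mem α hs]
    exact h1
  have hpres : ∀ α ∈ F.autGroup S, ∀ E : Subgroup Ω, Zc S ≤ E → ∀ u ∈ E, u ∈ S → fn α u ∈ E := by
    intro α hα E hZE u hu huS
    have h1 := E.mul_mem hu (hZE (htriv α hα u huS))
    simpa using h1
  have hrestr : ∀ α ∈ F.autGroup S, ∀ E : Subgroup Ω, E ≤ S → Zc S ≤ E → ∃ c ∈ F.autGroup E, ∀ u ∈ E, fn c u = fn α u := by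
    intro α hα E hES hZE
    have hψ := autGroup_hom le_rfl hα
    have hQ : (E.subgroupOf S).map (S.subtype.comp α.toMonoidHom) = E := by
      ext y
      rw [mem_img]
      constructor
      · rintro ⟨h1, h2⟩
        have h3 := hpres α hα E hZE _ h2 (fn_mem _ h1)
        rwa [fn_fn_inv α h1] at h3
      · intro h1
        exact ⟨hES h1, hpres α⁻¹ (Subgroup.inv_mem _ hα) E hZE y h1 (hES h1)⟩
    refine ⟨isoRestrict hψ hES hQ, mem_autGroup_of_isIso (isoRestrict_isIso hψ hES hQ), fun u hu => ?_⟩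
    rw [fn_of_mem _ hu, isoRestrict_coe, fn_of_mem α (hES hu)]
    rfl
  have hζfix : ∀ α : MulAut S, fn α ζ = ζ := by
    intro α
    have hmem : ζ ∈ (commutator ↥S).map S.subtype := by
      rw [hcomm]
      exact Subgroup.mem_zpowers ζ
    obtain ⟨y, hy, hye⟩ := hmem
    have h1 : fn α ζ ∈ (commutator ↥S).map S.subtype := by
      refine ⟨α y, ?_, ?_⟩
      · have h2 := (inferInstance : (commutator ↥S).Characteristic).fixed α⁻¹
        have h3 : α y ∈ (commutator ↥S).comap (α⁻¹).toMonoidHom := by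
          rw [Subgroup.mem_comap]
          show α⁻¹ (α y) ∈ commutator ↥S
          rwa [MulAut.inv_apply_self]
        rwa [h2] at h3
      · rw [← hye]
        exact (fn_coe α y).symm
    rcases hζmem _ h1 with h | h
    · exfalso
      apply hζ1
      have h2 := fn_inv_fn α hζS
      rw [h, fn_map_one'] at h2
      exact h2.symm
    · exact h
  -- consequences for one essential subgroup
  have hgenE : ∀ (E : Subgroup Ω) (a : Ω) (C : Subgroup Ω), F.IsEssential 2 E → a ∉ Zc S → a ∈ E → C ≤ Zc S →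
      (∀ z ∈ Zc S, ∃ c ∈ C, z = c ∨ z = c * ζ) → (∀ α ∈ F.autGroup E, ∀ c ∈ C, fn α c ∈ C) →
      (∀ α ∈ F.autGroup E, (fn α a = ζ ∨ fn α a = a ∨ fn α a = ζ * a)) →
      (∀ θ ∈ F.autGroup S, ∀ c ∈ C, fn θ c ∈ C) ∧ (∀ θ ∈ F.autGroup S, ∀ z ∈ Zc S, z⁻¹ * fn θ z ∈ C) ∧
        (∀ θ ∈ F.autGroup S, a⁻¹ * fn θ a = 1 ∨ a⁻¹ * fn θ a = ζ) := by
    intro E a C hE haZ haE hCZ hZC hCi hVi
    have hess := hessS E hE
    have h1 : ∀ θ ∈ F.autGroup S, ∀ c ∈ C, fn θ c ∈ C := by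
      intro θ hθ c hc
      obtain ⟨c', hc', hv⟩ := hrestr θ hθ E hess.hES hess.hZE
      rw [← hv c (hess.hZE (hCZ hc))]
      exact hCi c' hc' c hc
    refine ⟨h1, ?_, ?_⟩
    · intro θ hθ z hz
      obtain ⟨c, hc, h⟩ := hZC z hz
      have hcS := (mem_Zc.1 (hCZ hc)).1
      rcases h with h | h
      · rw [h]
        exact C.mul_mem (C.inv_mem hc) (h1 θ hθ c hc)
      · rw [h, fn_map_mul θ hcS hζS, hζfix]
        have e : (c * ζ)⁻¹ * (fn θ c * ζ) = c⁻¹ * fn θ c := by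
          have hc2 := hζc (c⁻¹ * fn θ c) (S.mul_mem (S.inv_mem hcS) (fn_mem θ hcS))
          calc (c * ζ)⁻¹ * (fn θ c * ζ) = ζ⁻¹ * ((c⁻¹ * fn θ c) * ζ) := by group
            _ = ζ⁻¹ * (ζ * (c⁻¹ * fn θ c)) := by rw [hc2]
            _ = c⁻¹ * fn θ c := by group
        rw [e]
        exact C.mul_mem (C.inv_mem hc) (h1 θ hθ c hc)
    · intro θ hθ
      obtain ⟨c', hc', hv⟩ := hrestr θ hθ E hess.hES hess.hZE
      rw [← hv a haE]
      rcases hVi c' hc' with h | h | h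
      · exfalso
        have h2 := hv a haE
        rw [h] at h2
        have h3 := fn_Zc θ⁻¹ hζZ
        have h4 : ζ = fn θ a := h2
        have h5 := fn_inv_fn θ (hess.hES haE)
        rw [← h4] at h5
        rw [h5] at h3
        exact haZ h3
      · left
        rw [h, inv_mul_cancel]
      · right
        rw [h, ← hζc a (hess.hES haE), inv_mul_cancel_left]
  obtain ⟨hθC₁, hδ₁, hθa₁⟩ := hgenE P₀ a₁ C₁ hP₀ ha₁Z ha₁E hC₁Z hZC₁ hC₁inv (fun α hα => (hV₁ α hα).2)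
  have hMc₀ : ∀ u ∈ S, ∀ g ∈ S, u⁻¹ * (g * u * g⁻¹) ∈ (commutator ↥S).map S.subtype := by
    intro u hu g hg
    refine ⟨⁅(⟨u, hu⟩ : ↥S)⁻¹, (⟨g, hg⟩ : ↥S)⁆, ?_, ?_⟩
    · rw [commutator_def]
      exact Subgroup.commutator_mem_commutator (Subgroup.mem_top _) (Subgroup.mem_top _)
    · show _ = _
      simp [commutatorElement_def, mul_assoc]
  by_cases h2 : ∃ E₂, F.IsEssential 2 E₂ ∧ E₂ ≠ P₀
  swap
  · exfalso
    push Not at h2
    have hle : S ≤ P₀ := by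
      refine foc_le hS hF hhyp (fun u hu g hg => hess₀.hZE (hcS _ (hMc₀ u hu g hg))) (fun P hP α hα u hu => ?_)
      rcases hP with rfl | hP
      · exact hess₀.hZE (htriv α hα u hu)
      · obtain rfl := h2 P hP
        exact P.mul_mem (P.inv_mem hu) (fn_mem α hu)
    exact essential_ne hS hF hP₀ (le_antisymm hES₀ hle)
  obtain ⟨E₂, hE₂, hE₂ne⟩ := h2
  obtain ⟨a₂, C₂, ha₂E, ha₂Z, ha₂a, hC₂Z, hζC₂, hZC₂, hEC₂, hC₂inv, hV₂, hext₂⟩ := hdata E₂ hE₂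
  obtain ⟨hθC₂, hδ₂, hθa₂⟩ := hgenE E₂ a₂ C₂ hE₂ ha₂Z ha₂E hC₂Z hZC₂ hC₂inv (fun α hα => (hV₂ α hα).2)
  have hess₂ := hessS E₂ hE₂
  have hEeq : ∀ E E' : Subgroup Ω, F.IsEssential 2 E → F.IsEssential 2 E' → ∀ a, a ∉ Zc S → a ∈ E → a ∈ E' → E = E' := by
    have hle : ∀ E E' : Subgroup Ω, F.IsEssential 2 E → F.IsEssential 2 E' → ∀ a, a ∉ Zc S → a ∈ E → a ∈ E' → E ≤ E' := by
      intro E E' hE hE' a haZ haE haE' u hu
      obtain ⟨i, z, hz, rfl⟩ := (hessS E hE).hsetZ.hgen a haE haZ u hu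
      exact E'.mul_mem (E'.pow_mem haE' i) ((hessS E' hE').hZE hz)
    intro E E' hE hE' a haZ haE haE'
    exact le_antisymm (hle E E' hE hE' a haZ haE haE') (hle E' E hE' hE a haZ haE' haE)
  have ha₁E₂ : a₁ ∉ E₂ := fun h => hE₂ne (hEeq _ _ hE₂ hP₀ a₁ ha₁Z h ha₁E)
  have ha₂P₀ : a₂ ∉ P₀ := fun h => hE₂ne (hEeq _ _ hE₂ hP₀ a₂ ha₂Z ha₂E h)
  have ha₁S := hES₀ ha₁E
  have ha₂S := hess₂.hES ha₂E
  -- the relation
  have hξ : a₂ * a₁ * a₂⁻¹ * a₁⁻¹ = ζ := by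
    have hmem : a₂ * a₁ * a₂⁻¹ * a₁⁻¹ ∈ (commutator ↥S).map S.subtype := by
      refine ⟨⁅(⟨a₂, ha₂S⟩ : ↥S), (⟨a₁, ha₁S⟩ : ↥S)⁆, ?_, rfl⟩
      rw [commutator_def]
      exact Subgroup.commutator_mem_commutator (Subgroup.mem_top _) (Subgroup.mem_top _)
    rcases hζmem _ hmem with h | h
    · exfalso
      have hxa : a₂ * a₁ = a₁ * a₂ := by
        have h1 : a₂ * a₁ * a₂⁻¹ = a₁ := by
          calc a₂ * a₁ * a₂⁻¹ = a₂ * a₁ * a₂⁻¹ * a₁⁻¹ * a₁ := by group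
            _ = a₁ := by rw [h, one_mul]
        calc a₂ * a₁ = a₂ * a₁ * a₂⁻¹ * a₂ := by group
          _ = a₁ * a₂ := by rw [h1]
      apply ha₁Z
      refine mem_Zc.2 ⟨ha₁S, fun s hs => ?_⟩
      obtain ⟨i, e, he, rfl⟩ := hess₀.hsetE.hgen a₂ ha₂S ha₂P₀ s hs
      have h3 : a₂ ^ i * a₁ = a₁ * a₂ ^ i := Commute.pow_left hxa i
      calc a₂ ^ i * e * a₁ = a₂ ^ i * (e * a₁) := by group
        _ = a₂ ^ i * (a₁ * e) := by rw [hess₀.hab e he a₁ ha₁E]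
        _ = (a₂ ^ i * a₁) * e := by group
        _ = a₁ * (a₂ ^ i * e) := by rw [h3]; group
    · exact h
  have ha₂a₁ : a₂ * a₁ = ζ * a₁ * a₂ := by
    rw [← hξ]
    group
  have hrel := pow_pow_rel ha₂a₁ (hζc a₂ ha₂S).symm (hζc a₁ ha₁S).symm
  have hsquare : a₁ * a₂ * (a₁ * a₂) = ζ := by
    calc a₁ * a₂ * (a₁ * a₂) = a₁ * (a₂ * a₁) * a₂ := by group
      _ = a₁ * (ζ * a₁ * a₂) * a₂ := by rw [ha₂a₁]
      _ = (a₁ * ζ) * a₁ * (a₂ * a₂) := by group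
      _ = (ζ * a₁) * a₁ := by rw [hζc a₁ ha₁S, ha₂a, mul_one]
      _ = ζ * (a₁ * a₁) := by group
      _ = ζ := by rw [ha₁a, mul_one]
  -- decomposition
  have hpow₁ : ∀ (y : Ω), y * y = 1 → ∀ i : ℕ, y ^ i = 1 ∨ y ^ i = y := by
    intro y hy i
    induction i with
    | zero => exact Or.inl (pow_zero y)
    | succ i ih =>
      rcases ih with h | h
      · right
        rw [pow_succ, h, one_mul]
      · left
        rw [pow_succ, h, hy]
  have hdec4 : ∀ s ∈ S, ∃ z ∈ Zc S, s = z ∨ s = a₁ * z ∨ s = a₂ * z ∨ s = a₁ * a₂ * z := by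
    intro s hs
    obtain ⟨i, e, he, rfl⟩ := hess₀.hsetE.hgen a₂ ha₂S ha₂P₀ s hs
    obtain ⟨j, z, hz, rfl⟩ := hess₀.hsetZ.hgen a₁ ha₁E ha₁Z e he
    rcases hpow₁ a₂ ha₂a i with h | h <;> rcases hpow₁ a₁ ha₁a j with h' | h' <;> rw [h, h']
    · exact ⟨z, hz, Or.inl (by group)⟩
    · exact ⟨z, hz, Or.inr (Or.inl (by group))⟩
    · exact ⟨z, hz, Or.inr (Or.inr (Or.inl (by group)))⟩
    · refine ⟨ζ * z, (Zc S).mul_mem hζZ hz, Or.inr (Or.inr (Or.inr ?_))⟩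
      have h3 := hζc a₁ ha₁S
      calc a₂ * (a₁ * z) = (a₂ * a₁) * z := by group
        _ = ζ * a₁ * a₂ * z := by rw [ha₂a₁]
        _ = (a₁ * ζ) * a₂ * z := by rw [h3]
        _ = (a₁ * (ζ * a₂)) * z := by group
        _ = a₁ * (a₂ * ζ) * z := by rw [hζc a₂ ha₂S]
        _ = a₁ * a₂ * (ζ * z) := by group
  -- no third essential subgroup
  have h3rd : ∀ E, F.IsEssential 2 E → E = P₀ ∨ E = E₂ := by
    intro E hE
    obtain ⟨a₃, C₃, ha₃E, ha₃Z, ha₃a, -⟩ := hdata E hE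
    have hess₃ := hessS E hE
    obtain ⟨z, hz, h⟩ := hdec4 a₃ (hess₃.hES ha₃E)
    rcases h with h | h | h | h
    · exact (ha₃Z (h ▸ hz)).elim
    · left
      have h1 : a₁ = a₃ * z⁻¹ := by rw [h]; group
      refine hEeq _ _ hE hP₀ a₁ ha₁Z ?_ ha₁E
      rw [h1]
      exact E.mul_mem ha₃E (E.inv_mem (hess₃.hZE hz))
    · right
      have h1 : a₂ = a₃ * z⁻¹ := by rw [h]; group
      refine hEeq _ _ hE hE₂ a₂ ha₂Z ?_ ha₂E
      rw [h1]
      exact E.mul_mem ha₃E (E.inv_mem (hess₃.hZE hz))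
    · exfalso
      apply hno z hz
      have hzc := (mem_Zc.1 hz).2
      have h1 : a₃ * a₃ = ζ * (z * z) := by
        rw [h]
        calc a₁ * a₂ * z * (a₁ * a₂ * z) = a₁ * a₂ * (z * (a₁ * a₂)) * z := by group
          _ = a₁ * a₂ * ((a₁ * a₂) * z) * z := by rw [hzc _ (S.mul_mem ha₁S ha₂S)]
          _ = (a₁ * a₂ * (a₁ * a₂)) * (z * z) := by group
          _ = ζ * (z * z) := by rw [hsquare]
      rw [ha₃a] at h1
      have h2 := eq_inv_of_mul_eq_one_right h1.symm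
      rw [hζi] at h2
      exact h2
  -- the subgroups
  let Y : Subgroup Ω := C₁ ⊓ C₂
  have hYZ : Y ≤ Zc S := inf_le_left.trans hC₁Z
  let N : Subgroup Ω :=
    { carrier := {w | ∃ y ∈ Y, w = y ∨ w = y * ζ}
      mul_mem' := by
        rintro w w' ⟨y, hy, h⟩ ⟨y', hy', h'⟩
        have hc := hζc y' (mem_Zc.1 (hYZ hy')).1
        rcases h with h | h <;> rcases h' with h' | h' <;> rw [h, h']
        · exact ⟨_, Y.mul_mem hy hy', Or.inl rfl⟩
        · exact ⟨_, Y.mul_mem hy hy', Or.inr (by group)⟩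
        · refine ⟨y * y', Y.mul_mem hy hy', Or.inr ?_⟩
          calc y * ζ * y' = y * (ζ * y') := by group
            _ = y * y' * ζ := by rw [← hc]; group
        · refine ⟨y * y', Y.mul_mem hy hy', Or.inl ?_⟩
          calc y * ζ * (y' * ζ) = y * (ζ * y') * ζ := by group
            _ = y * y' * (ζ * ζ) := by rw [← hc]; group
            _ = y * y' := by rw [hζ2, mul_one]
      one_mem' := ⟨1, Y.one_mem, Or.inl rfl⟩
      inv_mem' := by
        rintro w ⟨y, hy, h⟩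
        rcases h with h | h <;> rw [h]
        · exact ⟨_, Y.inv_mem hy, Or.inl rfl⟩
        · refine ⟨y⁻¹, Y.inv_mem hy, Or.inr ?_⟩
          rw [mul_inv_rev, hζi]
          exact hζc _ (S.inv_mem (mem_Zc.1 (hYZ hy)).1) |>.symm }
  have hNm : ∀ w, w ∈ N ↔ ∃ y ∈ Y, w = y ∨ w = y * ζ := fun w => Iff.rfl
  have hYN : Y ≤ N := fun y hy => (hNm y).2 ⟨y, hy, Or.inl rfl⟩
  have hζN : ζ ∈ N := (hNm ζ).2 ⟨1, Y.one_mem, Or.inr (by group)⟩
  have hNZ : N ≤ Zc S := by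
    intro w hw
    obtain ⟨y, hy, h⟩ := (hNm w).1 hw
    rcases h with h | h <;> rw [h]
    · exact hYZ hy
    · exact (Zc S).mul_mem (hYZ hy) hζZ
  have hNc : ∀ w ∈ N, ∀ t ∈ S, t * w = w * t := fun w hw t ht => (mem_Zc.1 (hNZ hw)).2 t ht
  have ha₁i : a₁⁻¹ = a₁ := inv_eq_of_mul_eq_one_left ha₁a
  have ha₂i : a₂⁻¹ = a₂ := inv_eq_of_mul_eq_one_left ha₂a
  have hζpowN : ∀ k : ℕ, ζ ^ k ∈ N := fun k => N.pow_mem hζN k
  let M : Subgroup Ω :=
    { carrier := {s | ∃ (i j : ℕ), ∃ w ∈ N, s = a₁ ^ i * a₂ ^ j * w}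
      mul_mem' := by
        rintro s t ⟨i, j, w, hw, rfl⟩ ⟨k, l, w', hw', rfl⟩
        refine ⟨i + k, j + l, ζ ^ (j * k) * (w * w'), N.mul_mem (hζpowN _) (N.mul_mem hw hw'), ?_⟩
        have hc1 := hNc w hw (a₁ ^ k * a₂ ^ l) (S.mul_mem (S.pow_mem ha₁S k) (S.pow_mem ha₂S l))
        have hc2 := hNc (ζ ^ (j * k)) (hζpowN _) (a₁ ^ k) (S.pow_mem ha₁S k)
        have hc3 := hNc (ζ ^ (j * k)) (hζpowN _) (a₁ ^ i) (S.pow_mem ha₁S i)
        have hc4 := hNc (ζ ^ (j * k)) (hζpowN _) (a₁ ^ i * a₂ ^ j * a₂ ^ l) (S.mul_mem (S.mul_mem (S.pow_mem ha₁S i) (S.pow_mem ha₂S j)) (S.pow_mem ha₂S l))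
        have hc5 := hNc (ζ ^ (j * k)) (hζpowN _) (a₁ ^ (i + k) * a₂ ^ (j + l)) (S.mul_mem (S.pow_mem ha₁S _) (S.pow_mem ha₂S _))
        calc a₁ ^ i * a₂ ^ j * w * (a₁ ^ k * a₂ ^ l * w') = a₁ ^ i * a₂ ^ j * (w * (a₁ ^ k * a₂ ^ l)) * w' := by group
          _ = a₁ ^ i * a₂ ^ j * ((a₁ ^ k * a₂ ^ l) * w) * w' := by rw [← hc1]
          _ = a₁ ^ i * (a₂ ^ j * a₁ ^ k) * a₂ ^ l * (w * w') := by group
          _ = a₁ ^ i * (ζ ^ (j * k) * a₁ ^ k * a₂ ^ j) * a₂ ^ l * (w * w') := by rw [hrel]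
          _ = a₁ ^ i * (a₁ ^ k * ζ ^ (j * k) * a₂ ^ j) * a₂ ^ l * (w * w') := by rw [← hc2]
          _ = a₁ ^ (i + k) * (ζ ^ (j * k) * a₂ ^ j) * a₂ ^ l * (w * w') := by rw [pow_add]; group
          _ = (a₁ ^ (i + k) * ζ ^ (j * k)) * a₂ ^ j * a₂ ^ l * (w * w') := by group
          _ = (ζ ^ (j * k) * a₁ ^ (i + k)) * a₂ ^ j * a₂ ^ l * (w * w') := by rw [hNc (ζ ^ (j * k)) (hζpowN _) _ (S.pow_mem ha₁S _)]
          _ = ζ ^ (j * k) * (a₁ ^ (i + k) * a₂ ^ (j + l)) * (w * w') := by rw [pow_add a₂]; group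
          _ = (a₁ ^ (i + k) * a₂ ^ (j + l)) * ζ ^ (j * k) * (w * w') := by rw [hc5]
          _ = _ := by group
      one_mem' := ⟨0, 0, 1, N.one_mem, by simp⟩
      inv_mem' := by
        rintro s ⟨i, j, w, hw, rfl⟩
        refine ⟨i, j, ζ ^ (j * i) * w⁻¹, N.mul_mem (hζpowN _) (N.inv_mem hw), ?_⟩
        have hc1 := hNc (ζ ^ (j * i)) (hζpowN _) (a₁ ^ i * a₂ ^ j) (S.mul_mem (S.pow_mem ha₁S _) (S.pow_mem ha₂S _))
        have hc2 := hNc w⁻¹ (N.inv_mem hw) (a₂ ^ j * a₁ ^ i) (S.mul_mem (S.pow_mem ha₂S _) (S.pow_mem ha₁S _))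
        have e1 : (a₁ ^ i)⁻¹ = a₁ ^ i := by rw [← inv_pow, ha₁i]
        have e2 : (a₂ ^ j)⁻¹ = a₂ ^ j := by rw [← inv_pow, ha₂i]
        calc (a₁ ^ i * a₂ ^ j * w)⁻¹ = w⁻¹ * (a₂ ^ j)⁻¹ * (a₁ ^ i)⁻¹ := by group
          _ = w⁻¹ * (a₂ ^ j * a₁ ^ i) := by rw [e1, e2]; group
          _ = (a₂ ^ j * a₁ ^ i) * w⁻¹ := by rw [hc2]
          _ = (ζ ^ (j * i) * a₁ ^ i * a₂ ^ j) * w⁻¹ := by rw [hrel]
          _ = (ζ ^ (j * i) * (a₁ ^ i * a₂ ^ j)) * w⁻¹ := by group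
          _ = ((a₁ ^ i * a₂ ^ j) * ζ ^ (j * i)) * w⁻¹ := by rw [hc1]
          _ = _ := by group }
  have hMm : ∀ s, s ∈ M ↔ ∃ (i j : ℕ), ∃ w ∈ N, s = a₁ ^ i * a₂ ^ j * w := fun s => Iff.rfl
  have hNM : N ≤ M := fun w hw => (hMm w).2 ⟨0, 0, w, hw, by simp⟩
  have ha₁M : a₁ ∈ M := (hMm _).2 ⟨1, 0, 1, N.one_mem, by simp⟩
  have ha₂M : a₂ ∈ M := (hMm _).2 ⟨0, 1, 1, N.one_mem, by simp⟩
  have hζM : ζ ∈ M := hNM hζN
  -- the maps
  have hδY : ∀ θ ∈ F.autGroup S, ∀ z ∈ Zc S, z⁻¹ * fn θ z ∈ Y := fun θ hθ z hz => ⟨hδ₁ θ hθ z hz, hδ₂ θ hθ z hz⟩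
  have hδa : ∀ a : Ω, (∀ θ ∈ F.autGroup S, a⁻¹ * fn θ a = 1 ∨ a⁻¹ * fn θ a = ζ) → ∀ θ ∈ F.autGroup S, a⁻¹ * fn θ a ∈ N := by
    intro a h θ hθ
    rcases h θ hθ with h | h <;> rw [h]
    · exact N.one_mem
    · exact hζN
  have hδmul : ∀ θ ∈ F.autGroup S, ∀ s ∈ S, ∀ t ∈ S, (s * t)⁻¹ * fn θ (s * t) = (s⁻¹ * fn θ s) * (t⁻¹ * fn θ t) := by
    intro θ hθ s hs t ht
    rw [fn_map_mul θ hs ht]
    have hc := (mem_Zc.1 (htriv θ hθ s hs)).2 t⁻¹ (S.inv_mem ht)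
    calc (s * t)⁻¹ * (fn θ s * fn θ t) = (t⁻¹ * (s⁻¹ * fn θ s)) * fn θ t := by group
      _ = ((s⁻¹ * fn θ s) * t⁻¹) * fn θ t := by rw [hc]
      _ = _ := by group
  have hgenM : ∀ (E : Subgroup Ω) (a : Ω) (C : Subgroup Ω), F.IsEssential 2 E → a ∈ M → a ∈ E → C ≤ Zc S →
      (∀ α ∈ F.autGroup E, (fn α ζ = ζ ∨ fn α ζ = a ∨ fn α ζ = ζ * a) ∧ (fn α a = ζ ∨ fn α a = a ∨ fn α a = ζ * a)) →
      (∀ u ∈ E, ∃ c ∈ C, u = c ∨ u = c * ζ ∨ u = c * a ∨ u = c * ζ * a) →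
      (∀ α ∈ F.autGroup E, ∃ h ∈ F.autGroup S, ∀ c ∈ C, fn α c = fn h c) →
      ∀ α ∈ F.autGroup E, ∀ u ∈ E, u⁻¹ * fn α u ∈ M := by
    intro E a C hE haM haE hCZ hV hdec hext α hα u hu
    have hess := hessS E hE
    obtain ⟨c, hc, huc⟩ := hdec u hu
    have hcE := hess.hZE (hCZ hc)
    have hζE := hess.hZE hζZ
    obtain ⟨hV1, hV2⟩ := hV α hα
    have hfnζ : fn α ζ ∈ M := by
      rcases hV1 with h | h | h <;> rw [h]
      · exact hζM
      · exact haM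
      · exact M.mul_mem hζM haM
    have hfna : fn α a ∈ M := by
      rcases hV2 with h | h | h <;> rw [h]
      · exact hζM
      · exact haM
      · exact M.mul_mem hζM haM
    have hcM : c⁻¹ * fn α c ∈ M := by
      obtain ⟨h, hh, hv⟩ := hext α hα
      rw [hv c hc]
      exact hNM (hYN (hδY h hh c (hCZ hc)))
    have hgen : ∀ v ∈ E, v ∈ M → fn α v ∈ M → (c * v)⁻¹ * fn α (c * v) ∈ M := by
      intro v hvE hvM hfv
      rw [fn_map_mul α hcE hvE]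
      have h3 := M.mul_mem (M.mul_mem (M.inv_mem hvM) hcM) hfv
      have e : (c * v)⁻¹ * (fn α c * fn α v) = v⁻¹ * (c⁻¹ * fn α c) * fn α v := by group
      rw [e]
      exact h3
    rcases huc with rfl | rfl | rfl | rfl
    · exact hcM
    · exact hgen ζ hζE hζM hfnζ
    · exact hgen a haE haM hfna
    · rw [mul_assoc]
      refine hgen (ζ * a) (E.mul_mem hζE haE) (M.mul_mem hζM haM) ?_
      rw [fn_map_mul α hζE haE]
      exact M.mul_mem hfnζ hfna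
  have hle : S ≤ M := by
    refine foc_le hS hF hhyp (fun u hu g hg => ?_) (fun P hP α hα u hu => ?_)
    · rcases hζmem _ (hMc₀ u hu g hg) with h | h <;> rw [h]
      · exact M.one_mem
      · exact hζM
    · rcases hP with rfl | hP
      · obtain ⟨z, hz, h⟩ := hdec4 u hu
        have hzS := (mem_Zc.1 hz).1
        have hδz := hNM (hYN (hδY α hα z hz))
        have hδ₁' := hNM (hδa a₁ hθa₁ α hα)
        have hδ₂' := hNM (hδa a₂ hθa₂ α hα)
        rcases h with h | h | h | h <;> rw [h]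
        · exact hδz
        · rw [hδmul α hα _ ha₁S _ hzS]
          exact M.mul_mem hδ₁' hδz
        · rw [hδmul α hα _ ha₂S _ hzS]
          exact M.mul_mem hδ₂' hδz
        · rw [hδmul α hα _ (Subgroup.mul_mem _ ha₁S ha₂S) _ hzS, hδmul α hα _ ha₁S _ ha₂S]
          exact M.mul_mem (M.mul_mem hδ₁' hδ₂') hδz
      · rcases h3rd P hP with rfl | rfl
        · exact hgenM P a₁ C₁ hP ha₁M ha₁E hC₁Z hV₁ hEC₁ hext₁ α hα u hu
        · exact hgenM P a₂ C₂ hP ha₂M ha₂E hC₂Z hV₂ hEC₂ hext₂ α hα u hu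
  -- the centre
  have hZN : Zc S ≤ N := by
    intro z hz
    obtain ⟨i, j, w, hw, he⟩ := (hMm z).1 (hle (mem_Zc.1 hz).1)
    have hb : a₁ ^ i * a₂ ^ j ∈ Zc S := by
      have h1 := (Zc S).mul_mem hz ((Zc S).inv_mem (hNZ hw))
      have e : z * w⁻¹ = a₁ ^ i * a₂ ^ j := by
        rw [he]
        group
      rwa [e] at h1
    have hb1 : a₁ ^ i * a₂ ^ j = 1 := by
      rcases hpow₁ a₁ ha₁a i with h | h <;> rcases hpow₁ a₂ ha₂a j with h' | h' <;> rw [h, h'] at hb ⊢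
      · exact one_mul 1
      · exact (ha₂Z (by simpa using hb)).elim
      · exact (ha₁Z (by simpa using hb)).elim
      · exfalso
        apply ha₁E₂
        have h1 : a₁ = (a₁ * a₂) * a₂⁻¹ := by group
        rw [h1]
        exact E₂.mul_mem (hess₂.hZE hb) (E₂.inv_mem ha₂E)
    rw [he, hb1, one_mul]
    exact hw
  have hC₁C₂ : C₁ = C₂ := by
    have key : ∀ (C D : Subgroup Ω), ζ ∉ C → C ≤ Zc S → (Y ≤ C) → (Y ≤ D) → C ≤ D := by
      intro C D hζC hCZ hYC hYD c hc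
      obtain ⟨y, hy, h⟩ := (hNm c).1 (hZN (hCZ hc))
      rcases h with h | h
      · rw [h]
        exact hYD hy
      · exfalso
        apply hζC
        have h1 : ζ = y⁻¹ * c := by
          rw [h]
          group
        rw [h1]
        exact C.mul_mem (C.inv_mem (hYC hy)) hc
    exact le_antisymm (key C₁ C₂ hζC₁ hC₁Z inf_le_left inf_le_right) (key C₂ C₁ hζC₂ hC₂Z inf_le_right inf_le_left)
  have hnormal : F.IsNormal C₁ := by
    refine isNormal_of_fn_inv hS hF hC₁Z hZPe (fun P hP α hα z hz => ?_)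
    rcases hP with rfl | hP
    · exact hθC₁ α hα z hz
    · rcases h3rd P hP with rfl | rfl
      · exact hC₁inv α hα z hz
      · rw [hC₁C₂] at hz ⊢
        exact hC₂inv α hα z hz
  have hC₁bot := hbot _ hnormal
  have hZeq : Zc S = Subgroup.zpowers ζ := by
    apply le_antisymm
    · intro z hz
      obtain ⟨c, hc, h⟩ := hZC₁ z hz
      rw [hC₁bot, Subgroup.mem_bot] at hc
      rcases h with h | h
      · rw [h, hc]
        exact Subgroup.one_mem _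
      · rw [h, hc, one_mul]
        exact Subgroup.mem_zpowers ζ
    · exact (Subgroup.zpowers_le).2 hζZ
  have hcardZ : Nat.card (Zc S) = 2 := by
    rw [hZeq, Nat.card_zpowers]
    exact orderOf_eq_prime (by rw [sq, hζ2]) hζ1
  have hcS' : Nat.card S = 2 ^ 3 := by
    have h1 := Subgroup.card_mul_index ((Zc S).subgroupOf S)
    rw [card_subgroupOf_inf, inf_eq_left.2 inf_le_left, hcardZ, hidx] at h1
    rw [← h1]
    norm_num
  exact ⟨a₁, ha₁S, a₂, ha₂S, ζ, hζZ, ha₁a, ha₂a, hsquare, hζ1, hζ2, ha₁Z, ha₂Z, hcS'⟩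

/-- **S5265** -/
theorem main65 (p : ℕ) [hp : Fact p.Prime] (hS : IsPGroup p ↥S) (hF : F.IsSaturated p) (hS1 : S ≠ ⊥) (hcore : F.core = ⊥)
    (hhyp : F.hyperfocalSubgroup p = S) (hZ : (Subgroup.center ↥S).index ≤ p ^ 2) :
    Cfsg.IsExtraspecial p ↥S ∧ Nat.card S = p ^ 3 ∧ (p ≠ 2 → Monoid.exponent ↥S = p) ∧ (p = 2 → Nonempty (↥S ≃* DihedralGroup 4)) := by
  classical
  have hbot : ∀ Q, F.IsNormal Q → Q = ⊥ := by
    intro Q hQ
    have h1 : Q ≤ F.core := le_sSup hQ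
    rw [hcore] at h1
    exact le_bot_iff.1 h1
  have hna : ¬ IsMulCommutative ↥S := by
    intro hab
    have hcomm : ∀ u ∈ S, ∀ v ∈ S, u * v = v * u := fun u hu v hv => congrArg Subtype.val (hab.is_comm.comm ⟨u, hu⟩ ⟨v, hv⟩)
    have hZS : Zc S = S := by
      refine inf_eq_left.2 (fun s hs => ?_)
      rw [Subgroup.mem_centralizer_iff]
      intro t ht
      exact hcomm t ht s hs
    have hnoess : ∀ P, ¬ F.IsEssential p P := by
      intro P hP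
      apply essential_ne hS hF hP
      apply le_antisymm hP.1.1
      intro s hs
      refine hP.1.2 P ⟨P.subtype, subtype_mem F hP.1.1, P.range_subtype⟩ ⟨hs, ?_⟩
      show s ∈ Subgroup.centralizer (P : Set Ω)
      rw [Subgroup.mem_centralizer_iff]
      intro t ht
      exact hcomm t (hP.1.1 ht) s hs
    have h4 : Zc S = ⊥ := by
      apply hbot
      refine isNormal_of_fn_inv hS hF le_rfl (fun P hP => (hnoess P hP).elim) (fun P hP α _ z hz => ?_)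
      rcases hP with rfl | hP
      · exact fn_Zc α hz
      · exact (hnoess P hP).elim
    exact hS1 (hZS.symm.trans h4)
  have hna' := exists_noncomm hna
  have hidx := index_Zc hS hna hZ
  have hnc : ¬ ∀ x y : ↥S, x * y = y * x := fun h => hna ⟨⟨h⟩⟩
  by_cases hp2 : p = 2
  · subst hp2
    obtain ⟨a₁, ha₁, a₂, ha₂, ζ, hζZ, h1, h2, h3, hζ1, hζ2, ha₁Z, ha₂Z, hc⟩ := main_two hS hF hna' hidx hcore hhyp
    refine ⟨isExtraspecial_of_card_p3 hc hnc, hc, fun h => (h rfl).elim, fun _ => ?_⟩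
    obtain ⟨ρ, hρ⟩ : ∃ ρ : ↥S, (ρ : Ω) = a₁ * a₂ := ⟨⟨a₁ * a₂, S.mul_mem ha₁ ha₂⟩, rfl⟩
    obtain ⟨σ, hσ⟩ : ∃ σ : ↥S, (σ : Ω) = a₁ := ⟨⟨a₁, ha₁⟩, rfl⟩
    have hr1 : (a₁ * a₂) ^ 2 = ζ := by rw [sq, h3]
    have hord : orderOf ρ = 4 := by
      have h4 : orderOf (a₁ * a₂) = 2 ^ (1 + 1) := by
        apply orderOf_eq_prime_pow (p := 2)
        · rw [pow_one, hr1]
          exact hζ1
        · rw [show (2 ^ (1 + 1) : ℕ) = 2 * 2 by norm_num, pow_mul, hr1, sq, hζ2]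
      rw [← hρ] at h4
      have h5 : orderOf ρ = orderOf (ρ : Ω) := (Subgroup.orderOf_coe ρ).symm
      rw [h5, h4]
      norm_num
    haveI : NeZero 4 := ⟨by norm_num⟩
    refine Cfsg.Agent.Lib.TwoGroups.nonempty_mulEquiv_dihedral_of ρ σ hord ?_ ?_ ?_ ?_
    · apply Subtype.ext
      show (σ : Ω) * σ = 1
      rw [hσ, h1]
    · apply Subtype.ext
      show (σ : Ω) * ρ * (σ : Ω)⁻¹ = (ρ : Ω)⁻¹
      rw [hσ, hρ, mul_inv_rev, inv_eq_of_mul_eq_one_left h1, inv_eq_of_mul_eq_one_left h2]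
      calc a₁ * (a₁ * a₂) * a₁ = (a₁ * a₁) * a₂ * a₁ := by group
        _ = a₂ * a₁ := by rw [h1, one_mul]
    · intro hmem
      obtain ⟨k, hk⟩ := Subgroup.mem_zpowers_iff.1 hmem
      have hk' : (a₁ * a₂) ^ k = a₁ := by
        have := congrArg Subtype.val hk
        rw [Subgroup.coe_zpow, hρ, hσ] at this
        exact this
      obtain ⟨l, hl⟩ := Int.even_or_odd' k
      rcases hl with rfl | rfl
      · apply ha₁Z
        rw [← hk', zpow_mul, zpow_two, h3]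
        exact Subgroup.zpow_mem _ hζZ l
      · apply ha₂Z
        rw [zpow_add_one, zpow_mul, zpow_two, h3] at hk'
        have hz : ζ ^ l ∈ Zc S := Subgroup.zpow_mem _ hζZ l
        have hc1 := (mem_Zc.1 hz).2 a₁ ha₁
        have h5 : a₂ = (ζ ^ l)⁻¹ := by
          have h6 : a₁ * (ζ ^ l * a₂) = a₁ := by
            calc a₁ * (ζ ^ l * a₂) = (a₁ * ζ ^ l) * a₂ := by group
              _ = (ζ ^ l * a₁) * a₂ := by rw [hc1]
              _ = ζ ^ l * (a₁ * a₂) := by group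
              _ = a₁ := hk'
          have h7 := mul_eq_left.1 h6
          exact eq_inv_of_mul_eq_one_right h7
        rw [h5]
        exact (Zc S).inv_mem hz
    · rw [hc]
      norm_num
  · obtain ⟨hc, hexp⟩ := main_odd hS hF hp2 hna' hidx hcore
    refine ⟨isExtraspecial_of_card_p3 hc hnc, hc, fun _ => ?_, fun h => (hp2 h).elim⟩
    haveI : Nontrivial ↥S := by
      obtain ⟨s, hs, s', hs', hss⟩ := hna'
      refine ⟨⟨⟨s, hs⟩, 1, fun h => hss ?_⟩⟩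
      have h1 : s = 1 := congrArg Subtype.val h
      rw [h1]
      group
    rw [Monoid.exponent_eq_prime_iff hp.out]
    intro g hg
    refine orderOf_eq_prime ?_ hg
    exact Subtype.ext (hexp g g.2)

end Cfsg.Agent.Lib.Fusion2.AbelIdx
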