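import Cfsg.Agent.Lib.Fusion2.Heis
import Cfsg.Agent.Lib.Basic.Nilpotent

/-!
# A normal abelian subgroup of small exponent on which `p'`-automorphisms act faithfully

A relative form of Thompson's critical subgroup theorem.
-/

set_option autoImplicit false
set_option linter.unusedSectionVars false

namespace Cfsg.Agent.Lib.Fusion2.CritSub

open Subgroup Cfsg.Agent.Lib.Fusion2
open scoped commutatorElement

variable {G : Type*} [Group G] {p : ℕ}

/-- The critical subgroup over `A`. -/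
theorem exists_D (W A : Subgroup G) [hA : A.Normal] (p : ℕ) :
    ∃ D : Subgroup G, ∀ x, x ∈ D ↔ x ∈ W ∧ (∀ a ∈ A, x * a = a * x) ∧ x ^ p ∈ A ∧ ∀ y, ⁅x, y⁆ ∈ A := by
  let π := QuotientGroup.mk' A
  have hπ : ∀ w, π w = 1 ↔ w ∈ A := fun w => QuotientGroup.eq_one_iff w
  have hcm : ∀ x y, ⁅x, y⁆ ∈ A ↔ Commute (π x) (π y) := by
    intro x y
    rw [← hπ, commutatorElement_def]
    simp only [map_mul, map_inv]
    rw [← commutatorElement_def, commutatorElement_eq_one_iff_commute]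
  refine ⟨{ carrier := {x | x ∈ W ∧ (∀ a ∈ A, x * a = a * x) ∧ x ^ p ∈ A ∧ ∀ y, ⁅x, y⁆ ∈ A}, mul_mem' := ?_, one_mem' := ?_, inv_mem' := ?_ }, fun x => Iff.rfl⟩
  · rintro x₁ x₂ ⟨h1, h2, h3, h4⟩ ⟨h5, h6, h7, h8⟩
    refine ⟨W.mul_mem h1 h5, fun a ha => ?_, ?_, fun y => ?_⟩
    · rw [mul_assoc, h6 a ha, ← mul_assoc, h2 a ha, mul_assoc]
    · rw [← hπ, map_pow, map_mul]
      have hc : Commute (π x₁) (π x₂) := (hcm _ _).1 (h4 x₂)
      rw [hc.mul_pow, ← map_pow, ← map_pow, (hπ _).2 h3, (hπ _).2 h7, one_mul]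
    · rw [hcm, map_mul]
      exact ((hcm _ _).1 (h4 y)).mul_left ((hcm _ _).1 (h8 y))
  · refine ⟨W.one_mem, fun a _ => by simp, by simp [A.one_mem], fun y => by simp [A.one_mem]⟩
  · rintro x ⟨h1, h2, h3, h4⟩
    refine ⟨W.inv_mem h1, fun a ha => ?_, ?_, fun y => ?_⟩
    · have := h2 a ha
      calc x⁻¹ * a = x⁻¹ * (a * x) * x⁻¹ := by group
        _ = x⁻¹ * (x * a) * x⁻¹ := by rw [this]
        _ = a * x⁻¹ := by group
    · rw [inv_pow]
      exact A.inv_mem h3
    · rw [hcm, map_inv]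
      exact ((hcm _ _).1 (h4 y)).inv_left

/-- A map fixing the difference `x⁻¹ α(x)` and of order prime to `p` fixes `x`. -/
theorem fix_of_diff [Finite G] (hG : IsPGroup p G) (hp : p.Prime) {α : MulAut G} {n : ℕ} (hn : n.Coprime p) (hαn : α ^ n = 1) {x : G}
    (hz : α (x⁻¹ * α x) = x⁻¹ * α x) : α x = x := by
  obtain ⟨z, hzdef⟩ : ∃ z, z = x⁻¹ * α x := ⟨_, rfl⟩
  rw [← hzdef] at hz
  have hax : α x = x * z := by
    rw [hzdef]
    group
  have hm : ∀ m : ℕ, (α ^ m) x = x * z ^ m := by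
    intro m
    induction m with
    | zero => simp
    | succ m ih =>
      rw [pow_succ', MulAut.mul_apply, ih, map_mul, map_pow, hz, hax, pow_succ', mul_assoc]
  have h1 := hm n
  rw [hαn] at h1
  have h2 : z ^ n = 1 := by
    have : x = x * z ^ n := h1
    exact (mul_eq_left.1 this.symm)
  obtain ⟨k, hk⟩ := hG z
  have h3 : orderOf z ∣ n := orderOf_dvd_of_pow_eq_one h2
  have h4 : orderOf z ∣ p ^ k := orderOf_dvd_of_pow_eq_one hk
  have h5 : orderOf z = 1 := Nat.eq_one_of_dvd_coprimes (hn.pow_right k) h3 h4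
  have h6 : z = 1 := orderOf_eq_one_iff.1 h5
  rw [hax, h6, mul_one]

variable [Finite G] [hp : Fact p.Prime]

/-- The relative critical subgroup theorem. -/
theorem exists_faithful (hG : IsPGroup p G) (W : Subgroup G) [hWn : W.Normal] (Γ : Subgroup (MulAut G))
    (hΓW : ∀ α ∈ Γ, ∀ w ∈ W, α w ∈ W) (hWΓ : ∀ α ∈ Γ, (∃ n : ℕ, n.Coprime p ∧ α ^ n = 1) → ∀ x, x⁻¹ * α x ∈ W)
    {e : ℕ} (he : p ∣ e) (he2 : p ∣ e.choose 2) :
    ∃ B : Subgroup G, B ≤ W ∧ (∀ a ∈ B, ∀ b ∈ B, a * b = b * a) ∧ (∀ b ∈ B, b ^ e = 1) ∧ B.Normal ∧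
      ∀ α ∈ Γ, (∃ n : ℕ, n.Coprime p ∧ α ^ n = 1) → (∀ b ∈ B, α b = b) → α = 1 := by
  classical
  have hpp := hp.out
  -- a maximal invariant abelian subgroup
  let 𝒜 : Set (Subgroup G) := {A | A ≤ W ∧ (∀ a ∈ A, ∀ b ∈ A, a * b = b * a) ∧ A.Normal ∧ ∀ α ∈ Γ, ∀ a ∈ A, α a ∈ A}
  have hbot : (⊥ : Subgroup G) ∈ 𝒜 := by
    refine ⟨bot_le, fun a ha b hb => ?_, inferInstance, fun α _ a ha => ?_⟩
    · rw [mem_bot.1 ha, mem_bot.1 hb]
    · rw [mem_bot.1 ha, map_one]
      exact one_mem _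
  obtain ⟨A, -, hAmax⟩ := (Set.toFinite 𝒜).exists_le_maximal hbot
  obtain ⟨hAW, hAc, hAn, hAinv⟩ := hAmax.prop
  obtain ⟨D, hD⟩ := exists_D W A p
  have hAD : A ≤ D := by
    intro a ha
    refine (hD a).2 ⟨hAW ha, fun b hb => hAc a ha b hb, A.pow_mem ha p, fun y => ?_⟩
    rw [commutatorElement_def]
    have := hAn.conj_mem a⁻¹ (A.inv_mem ha) y
    rw [mul_assoc, mul_assoc, ← mul_assoc y]
    exact A.mul_mem ha this
  have hDW : D ≤ W := fun x hx => ((hD x).1 hx).1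
  have hDcA : ∀ x ∈ D, ∀ a ∈ A, x * a = a * x := fun x hx => ((hD x).1 hx).2.1
  have hDp : ∀ x ∈ D, x ^ p ∈ A := fun x hx => ((hD x).1 hx).2.2.1
  have hDcom : ∀ x ∈ D, ∀ y, ⁅x, y⁆ ∈ A := fun x hx => ((hD x).1 hx).2.2.2
  have hDn : D.Normal := by
    refine ⟨fun x hx g => ?_⟩
    refine (hD _).2 ⟨hWn.conj_mem x (hDW hx) g, fun a ha => ?_, ?_, fun y => ?_⟩
    · have h1 := hDcA x hx _ (hAn.conj_mem a ha g⁻¹)
      simp only [inv_inv] at h1
      calc g * x * g⁻¹ * a = g * (x * (g⁻¹ * a * g)) * g⁻¹ := by group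
        _ = g * ((g⁻¹ * a * g) * x) * g⁻¹ := by rw [h1]
        _ = a * (g * x * g⁻¹) := by group
    · rw [conj_pow]
      exact hAn.conj_mem _ (hDp x hx) g
    · have h1 := hDcom x hx (g⁻¹ * y * g)
      have h2 := hAn.conj_mem _ h1 g
      have e1 : g * ⁅x, g⁻¹ * y * g⁆ * g⁻¹ = ⁅g * x * g⁻¹, y⁆ := by
        simp only [commutatorElement_def]
        group
      rwa [e1] at h2
  have hAinv' : ∀ α ∈ Γ, ∀ a ∈ A, α.symm a ∈ A := fun α hα a ha => hAinv α⁻¹ (Γ.inv_mem hα) a ha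
  have hDinv : ∀ α ∈ Γ, ∀ x ∈ D, α x ∈ D := by
    intro α hα x hx
    refine (hD _).2 ⟨hΓW α hα x (hDW hx), fun a ha => ?_, ?_, fun y => ?_⟩
    · have h1 := hDcA x hx _ (hAinv' α hα a ha)
      have h2 := congrArg α h1
      simpa [map_mul] using h2
    · rw [← map_pow]
      exact hAinv α hα _ (hDp x hx)
    · have h1 := hAinv α hα _ (hDcom x hx (α.symm y))
      have e1 : α ⁅x, α.symm y⁆ = ⁅α x, y⁆ := by
        simp [commutatorElement_def, map_mul, map_inv]
      rwa [e1] at h1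
  -- `Z(D) = A`
  have hZ : ∀ x ∈ D, (∀ d ∈ D, x * d = d * x) → x ∈ A := by
    intro x hx hxc
    let Z₁ : Subgroup G := D ⊓ centralizer (D : Set G)
    have hZ₁ : Z₁ ∈ 𝒜 := by
      refine ⟨inf_le_left.trans hDW, fun a ha b hb => ?_, ?_, fun α hα a ha => ?_⟩
      · exact (mem_centralizer_iff.1 hb.2 a ha.1)
      · exact Subgroup.normal_inf_normal D (centralizer (D : Set G))
      · refine ⟨hDinv α hα a ha.1, ?_⟩
        show α a ∈ centralizer (D : Set G)
        rw [mem_centralizer_iff]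
        intro d hd
        have h1 := mem_centralizer_iff.1 ha.2 _ (hDinv α⁻¹ (Γ.inv_mem hα) d hd)
        have h2 := congrArg α h1
        have e1 : α ((α⁻¹ : MulAut G) d) = d := by simp
        rw [map_mul, map_mul, e1] at h2
        exact h2
    have hle : A ≤ Z₁ := fun a ha => ⟨hAD ha, by
      show a ∈ centralizer (D : Set G)
      rw [mem_centralizer_iff]
      intro d hd
      exact hDcA d hd a ha⟩
    have h2 := hAmax.le_of_ge hZ₁ hle
    refine h2 ⟨hx, ?_⟩
    show x ∈ centralizer (D : Set G)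
    rw [mem_centralizer_iff]
    intro d hd
    exact (hxc d hd).symm
  -- `C_W(D) ≤ D`
  have hC : ∀ c ∈ W, (∀ d ∈ D, c * d = d * c) → c ∈ D := by
    by_contra hcon
    push_neg at hcon
    obtain ⟨c₀, hc₀W, hc₀c, hc₀D⟩ := hcon
    let C₁ : Subgroup G := W ⊓ centralizer (D : Set G)
    haveI hC₁n : C₁.Normal := Subgroup.normal_inf_normal W (centralizer (D : Set G))
    have hC₁m : ∀ c, c ∈ C₁ ↔ c ∈ W ∧ ∀ d ∈ D, c * d = d * c := by
      intro c
      constructor
      · rintro ⟨h1, h2⟩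
        exact ⟨h1, fun d hd => (mem_centralizer_iff.1 h2 d hd).symm⟩
      · rintro ⟨h1, h2⟩
        refine ⟨h1, ?_⟩
        show c ∈ centralizer (D : Set G)
        rw [mem_centralizer_iff]
        intro d hd
        exact (h2 d hd).symm
    let π := QuotientGroup.mk' D
    have hπ : ∀ w, π w = 1 ↔ w ∈ D := fun w => QuotientGroup.eq_one_iff w
    have hπs : Function.Surjective π := QuotientGroup.mk'_surjective D
    haveI hN : (C₁.map π).Normal := Subgroup.Normal.map hC₁n π hπs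
    have hNne : C₁.map π ≠ ⊥ := by
      intro hb
      have : π c₀ ∈ C₁.map π := ⟨c₀, (hC₁m c₀).2 ⟨hc₀W, hc₀c⟩, rfl⟩
      rw [hb, mem_bot] at this
      exact hc₀D ((hπ _).1 this)
    have hGQ : IsPGroup p (G ⧸ D) := hG.of_surjective π hπs
    haveI : Group.IsNilpotent (G ⧸ D) := hGQ.isNilpotent
    have hinf := Cfsg.Agent.Lib.Basic.normal_inf_center_ne_bot (C₁.map π) hNne
    obtain ⟨⟨z, hz⟩, hz1'⟩ := Subgroup.ne_bot_iff_exists_ne_one.1 hinf
    have hz1 : z ≠ 1 := fun e => hz1' (Subtype.ext e)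
    obtain ⟨⟨c, hcC, rfl⟩, hzc⟩ := hz
    -- pass to an element of order `p` modulo `D`
    obtain ⟨k₀, hk₀⟩ := hGQ (π c)
    have hex : ∃ k, (π c) ^ p ^ k = 1 := ⟨k₀, hk₀⟩
    have hmin := Nat.find_min hex (m := Nat.find hex - 1)
    have hspec := Nat.find_spec hex
    have hne0 : Nat.find hex ≠ 0 := by
      intro h0
      rw [h0, pow_zero, pow_one] at hspec
      exact hz1 hspec
    obtain ⟨j, hj⟩ : ∃ j, Nat.find hex = j + 1 := Nat.exists_eq_succ_of_ne_zero hne0
    rw [hj] at hmin hspec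
    have hj1 : (π c) ^ p ^ j ≠ 1 := hmin (by omega)
    have hj2 : ((π c) ^ p ^ j) ^ p = 1 := by
      rw [← pow_mul, ← pow_succ]
      exact hspec
    obtain ⟨c', hc'⟩ : ∃ c', c' = c ^ p ^ j := ⟨_, rfl⟩
    have hc'C : c' ∈ C₁ := hc' ▸ C₁.pow_mem hcC _
    have hπc' : π c' = (π c) ^ p ^ j := by rw [hc', map_pow]
    have hc'D : c' ∉ D := fun h => hj1 (hπc' ▸ (hπ _).2 h)
    have hc'p : c' ^ p ∈ D := by
      rw [← hπ, map_pow, hπc']
      exact hj2
    have hc'com : ∀ y, ⁅c', y⁆ ∈ D := by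
      intro y
      rw [← hπ, commutatorElement_def, map_mul, map_mul, map_mul, map_inv, map_inv, hπc']
      have h3 : Commute ((π c) ^ p ^ j) (π y) := by
        apply Commute.pow_left
        exact (mem_center_iff.1 hzc (π y)).symm
      rw [h3.eq]
      group
    obtain ⟨hc'W, hc'c⟩ := (hC₁m c').1 hc'C
    apply hc'D
    refine (hD c').2 ⟨hc'W, fun a ha => hc'c a (hAD ha), ?_, fun y => ?_⟩
    · refine hZ _ hc'p (fun d hd => ?_)
      exact ((hC₁m _).1 (C₁.pow_mem hc'C p)).2 d hd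
    · refine hZ _ (hc'com y) (fun d hd => ?_)
      have h4 : ⁅c', y⁆ ∈ C₁ := by
        rw [commutatorElement_def]
        have h5 := hC₁n.conj_mem c'⁻¹ (C₁.inv_mem hc'C) y
        rw [mul_assoc, mul_assoc, ← mul_assoc y]
        exact C₁.mul_mem hc'C h5
      exact ((hC₁m _).1 h4).2 d hd
  -- the elements of `A` of small exponent
  obtain ⟨Ae, hAe⟩ : ∃ Ae : Subgroup G, ∀ x, x ∈ Ae ↔ x ∈ A ∧ x ^ e = 1 := by
    refine ⟨{ carrier := {x | x ∈ A ∧ x ^ e = 1}, mul_mem' := ?_, one_mem' := ⟨A.one_mem, one_pow e⟩, inv_mem' := ?_ }, fun x => Iff.rfl⟩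
    · rintro a b ⟨h1, h2⟩ ⟨h3, h4⟩
      refine ⟨A.mul_mem h1 h3, ?_⟩
      have hcm : Commute a b := hAc a h1 b h3
      rw [hcm.mul_pow, h2, h4, one_mul]
    · rintro a ⟨h1, h2⟩
      exact ⟨A.inv_mem h1, by rw [inv_pow, h2, inv_one]⟩
  -- a maximal abelian subgroup of `D` of small exponent
  let ℬ : Set (Subgroup G) := {B | Ae ≤ B ∧ B ≤ D ∧ (∀ a ∈ B, ∀ b ∈ B, a * b = b * a) ∧ ∀ b ∈ B, b ^ e = 1}
  have hAeB : Ae ∈ ℬ := ⟨le_rfl, fun x hx => hAD ((hAe x).1 hx).1, fun a ha b hb => hAc a ((hAe a).1 ha).1 b ((hAe b).1 hb).1, fun b hb => ((hAe b).1 hb).2⟩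
  obtain ⟨B, -, hBmax⟩ := (Set.toFinite ℬ).exists_le_maximal hAeB
  obtain ⟨hAeBle, hBD, hBc, hBe⟩ := hBmax.prop
  have hBn : B.Normal := by
    refine ⟨fun b hb g => ?_⟩
    obtain ⟨c, hcdef⟩ : ∃ c, c = ⁅b, g⁆⁻¹ := ⟨_, rfl⟩
    have hcA : c ∈ A := hcdef ▸ A.inv_mem (hDcom b (hBD hb) g)
    have hgb : g * b * g⁻¹ = c * b := by
      rw [hcdef, commutatorElement_def]
      group
    have hcb : Commute c b := (hDcA b (hBD hb) c hcA).symm
    have h1 : (g * b * g⁻¹) ^ e = 1 := by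
      rw [conj_pow, hBe b hb]
      group
    rw [hgb, hcb.mul_pow, hBe b hb, mul_one] at h1
    rw [hgb]
    exact B.mul_mem (hAeBle ((hAe c).2 ⟨hcA, h1⟩)) hb
  refine ⟨B, hBD.trans hDW, hBc, hBe, hBn, ?_⟩
  -- faithfulness
  intro α hα hαn hαB
  obtain ⟨n, hn, hαn'⟩ := hαn
  have hdiff : ∀ {x : G}, α (x⁻¹ * α x) = x⁻¹ * α x → α x = x := fun h => fix_of_diff hG hpp hn hαn' h
  have hAfix : ∀ a ∈ A, α a = a := by
    have key : ∀ k : ℕ, ∀ a ∈ A, a ^ p ^ k = 1 → α a = a := by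
      intro k
      induction k with
      | zero =>
        intro a _ h
        have : a = 1 := by simpa using h
        rw [this, map_one]
      | succ k ih =>
        intro a ha h
        have h1 : α (a ^ p) = a ^ p := ih _ (A.pow_mem ha p) (by rw [← pow_mul, ← pow_succ']; exact h)
        have haα := hAinv α hα a ha
        have hzA : a⁻¹ * α a ∈ A := A.mul_mem (A.inv_mem ha) haα
        have hzp : (a⁻¹ * α a) ^ p = 1 := by
          have hcm : Commute a⁻¹ (α a) := hAc _ (A.inv_mem ha) _ haα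
          rw [hcm.mul_pow, inv_pow, ← map_pow, h1]
          group
        have hze : (a⁻¹ * α a) ^ e = 1 := by
          obtain ⟨q, rfl⟩ := he
          rw [pow_mul, hzp, one_pow]
        exact hdiff (hαB _ (hAeBle ((hAe _).2 ⟨hzA, hze⟩)))
    intro a ha
    obtain ⟨k, hk⟩ := hG a
    exact key k a ha hk
  have hDfix : ∀ x ∈ D, α x = x := by
    intro x hx
    have hαx : α x ∈ D := hDinv α hα x hx
    have hx' : x⁻¹ ∈ D := D.inv_mem hx
    obtain ⟨z, hzdef⟩ : ∃ z, z = x⁻¹ * α x := ⟨_, rfl⟩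
    have hzD : z ∈ D := hzdef ▸ D.mul_mem hx' hαx
    -- the commutator
    obtain ⟨c, hcdef⟩ : ∃ c, c = (α x)⁻¹ * (x⁻¹ * α x * x⁻¹⁻¹) := ⟨_, rfl⟩
    have hcA : c ∈ A := by
      have h1 := hDcom _ (D.inv_mem hαx) x⁻¹
      have e1 : ⁅(α x)⁻¹, x⁻¹⁆ = c := by
        rw [hcdef, commutatorElement_def]
        group
      rwa [e1] at h1
    have hc1 : x⁻¹ * c = c * x⁻¹ := hDcA _ hx' c hcA
    have hc2 : α x * c = c * α x := hDcA _ hαx c hcA
    have hconj : x⁻¹ * α x * x⁻¹⁻¹ = α x * c := by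
      rw [hcdef]
      group
    have hcp : c ^ p = 1 := by
      -- `X^k Y X^{-k} = Y c^k`
      have hk : ∀ k : ℕ, x⁻¹ ^ k * α x * (x⁻¹ ^ k)⁻¹ = α x * c ^ k := by
        intro k
        induction k with
        | zero => simp
        | succ k ih =>
          have e1 : x⁻¹ ^ (k + 1) * α x * (x⁻¹ ^ (k + 1))⁻¹ = x⁻¹ * (x⁻¹ ^ k * α x * (x⁻¹ ^ k)⁻¹) * x⁻¹⁻¹ := by
            rw [pow_succ']
            group
          rw [e1, ih]
          have hcx : x⁻¹ * c ^ k = c ^ k * x⁻¹ := (show Commute (x⁻¹) (c ^ k) from (show Commute x⁻¹ c from hc1).pow_right k)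
          calc x⁻¹ * (α x * c ^ k) * x⁻¹⁻¹ = x⁻¹ * α x * (x⁻¹⁻¹ * (x⁻¹ * c ^ k)) * x⁻¹⁻¹ := by group
            _ = x⁻¹ * α x * (x⁻¹⁻¹ * (c ^ k * x⁻¹)) * x⁻¹⁻¹ := by rw [hcx]
            _ = (x⁻¹ * α x * x⁻¹⁻¹) * c ^ k := by group
            _ = α x * c * c ^ k := by rw [hconj]
            _ = α x * c ^ (k + 1) := by rw [pow_succ']; group
      have h1 := hk p
      have h2 : x⁻¹ ^ p ∈ A := by
        rw [inv_pow]
        exact A.inv_mem (hDp x hx)
      have h3 := hDcA _ hαx _ h2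
      have h4 : x⁻¹ ^ p * α x * (x⁻¹ ^ p)⁻¹ = α x := by
        rw [← h3]
        group
      rw [h4] at h1
      exact (mul_eq_left.1 h1.symm)
    have hze : z ^ e = 1 := by
      rw [hzdef, Cfsg.Agent.Lib.Fusion2.class2_pow hc1 hc2 hconj e]
      have h1 : (c⁻¹) ^ (e.choose 2) = 1 := by
        obtain ⟨q, hq⟩ := he2
        rw [hq, pow_mul, inv_pow, hcp, inv_one, one_pow]
      have h2 : α x ^ e = x ^ e := by
        obtain ⟨q, hq⟩ := he
        rw [hq, pow_mul, pow_mul, ← map_pow, hAfix _ (hDp x hx)]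
      rw [h1, h2, inv_pow]
      group
    have hzB : ∀ b ∈ B, z * b = b * z := by
      intro b hb
      have hbD := hBD hb
      have h1 := hAfix _ (hDcom x hx b)
      have e1 : α ⁅x, b⁆ = ⁅α x, b⁆ := by
        simp only [commutatorElement_def, map_mul, map_inv, hαB b hb]
      rw [e1] at h1
      simp only [commutatorElement_def] at h1
      have h2 : α x * b * (α x)⁻¹ = x * b * x⁻¹ := mul_right_cancel h1
      rw [hzdef]
      calc x⁻¹ * α x * b = x⁻¹ * (α x * b * (α x)⁻¹) * α x := by group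
        _ = x⁻¹ * (x * b * x⁻¹) * α x := by rw [h2]
        _ = b * (x⁻¹ * α x) := by group
    -- enlarge `B`
    let B' : Subgroup G := B ⊔ zpowers z
    have hB'c : ∀ a ∈ B', ∀ b ∈ B', a * b = b * a := by
      have hcz : ∀ a ∈ B', a ∈ centralizer (B : Set G) ⊓ centralizer (zpowers z : Set G) := by
        intro a ha
        refine (sup_le ?_ ?_ : B' ≤ _) ha
        · intro b hb
          refine ⟨?_, ?_⟩
          · show b ∈ centralizer (B : Set G)
            rw [mem_centralizer_iff]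
            intro b' hb'
            exact hBc b' hb' b hb
          · show b ∈ centralizer (zpowers z : Set G)
            rw [mem_centralizer_iff]
            rintro _ ⟨k, rfl⟩
            have : Commute z b := hzB b hb
            exact (this.zpow_left k)
        · rintro _ ⟨k, rfl⟩
          refine ⟨?_, ?_⟩
          · show z ^ k ∈ centralizer (B : Set G)
            rw [mem_centralizer_iff]
            intro b' hb'
            have : Commute z b' := hzB b' hb'
            exact ((this.zpow_left k).symm)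
          · show z ^ k ∈ centralizer (zpowers z : Set G)
            rw [mem_centralizer_iff]
            rintro _ ⟨k', rfl⟩
            show z ^ k' * z ^ k = z ^ k * z ^ k'
            rw [← zpow_add, ← zpow_add, add_comm]
      have hle : B' ≤ centralizer (B' : Set G) := by
        intro a ha
        rw [mem_centralizer_iff]
        intro b hb
        obtain ⟨h1, h2⟩ := hcz a ha
        have hle2 : B' ≤ centralizer ({a} : Set G) := by
          refine sup_le ?_ ?_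
          · intro b' hb'
            rw [mem_centralizer_iff]
            rintro _ rfl
            exact (mem_centralizer_iff.1 h1 b' hb').symm
          · intro b' hb'
            rw [mem_centralizer_iff]
            rintro _ rfl
            exact (mem_centralizer_iff.1 h2 b' hb').symm
        exact (mem_centralizer_iff.1 (hle2 hb) a rfl).symm
      intro a ha b hb
      exact (mem_centralizer_iff.1 (hle hb) a ha)
    have hB'e : ∀ b ∈ B', b ^ e = 1 := by
      intro b hb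
      obtain ⟨C₂, hC₂⟩ : ∃ C₂ : Subgroup G, ∀ u, u ∈ C₂ ↔ u ∈ B' ∧ u ^ e = 1 := by
        refine ⟨{ carrier := {u | u ∈ B' ∧ u ^ e = 1}, mul_mem' := ?_, one_mem' := ⟨B'.one_mem, one_pow e⟩, inv_mem' := ?_ }, fun x => Iff.rfl⟩
        · rintro a b ⟨h1, h2⟩ ⟨h3, h4⟩
          refine ⟨B'.mul_mem h1 h3, ?_⟩
          have hcm : Commute a b := hB'c a h1 b h3
          rw [hcm.mul_pow, h2, h4, one_mul]
        · rintro a ⟨h1, h2⟩
          exact ⟨B'.inv_mem h1, by rw [inv_pow, h2, inv_one]⟩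
      have hle : B' ≤ C₂ := by
        refine sup_le (fun u hu => (hC₂ u).2 ⟨le_sup_left (a := B) hu, hBe u hu⟩) ?_
        rw [zpowers_le]
        exact (hC₂ z).2 ⟨le_sup_right (b := zpowers z) (mem_zpowers z), hze⟩
      exact ((hC₂ b).1 (hle hb)).2
    have hB'mem : B' ∈ ℬ := by
      refine ⟨hAeBle.trans le_sup_left, sup_le hBD ?_, hB'c, hB'e⟩
      rw [zpowers_le]
      exact hzD
    have hz'B : z ∈ B := by
      have hle := hBmax.le_of_ge hB'mem le_sup_left
      exact hle (le_sup_right (b := zpowers z) (mem_zpowers z))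
    apply hdiff
    rw [← hzdef]
    exact hαB z hz'B
  have hWfix : ∀ x ∈ W, α x = x := by
    intro x hx
    apply hdiff
    refine hDfix _ (hC _ (W.mul_mem (W.inv_mem hx) (hΓW α hα x hx)) (fun d hd => ?_))
    have h1 : x * d * x⁻¹ ∈ D := hDn.conj_mem d hd x
    have h2 := hDfix _ h1
    simp only [map_mul, map_inv, hDfix d hd] at h2
    calc x⁻¹ * α x * d = x⁻¹ * (α x * d * (α x)⁻¹) * α x := by group
      _ = x⁻¹ * (x * d * x⁻¹) * α x := by rw [h2]
      _ = d * (x⁻¹ * α x) := by group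
  apply MulEquiv.ext
  intro x
  show α x = x
  apply hdiff
  exact hWfix _ (hWΓ α hα ⟨n, hn, hαn'⟩ x)

end Cfsg.Agent.Lib.Fusion2.CritSub
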