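import Cfsg.Agent.Lib.Fusion2.GTRel3

/-!
# An abstract `ZJ`-theorem for a family of abelian subgroups
-/

set_option autoImplicit false
set_option linter.unusedSectionVars false
set_option linter.style.haveILetI false

namespace Cfsg.Agent.Lib.Fusion2.GTRel

open Cfsg Subgroup Cfsg.Agent.Lib.LocalEven2
open scoped commutatorElement

variable {p : ℕ} [hpf : Fact p.Prime]

section abstractZJ

variable {G : Type*} [Group G] [Finite G]

theorem abstract_zj (P : Sylow p G) (𝒜 : Set (Subgroup G))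
    (hA : ∀ A ∈ 𝒜, A ≤ P) (hAc : ∀ A ∈ 𝒜, ∀ a ∈ A, ∀ b ∈ A, a * b = b * a) (hne : 𝒜.Nonempty)
    (hst : QStable p G) (hc : centralizer ((pCore p G : Subgroup G) : Set G) ≤ pCore p G)
    (hco : ∀ Y : Subgroup G, (P : Subgroup G) ≤ Y → Y = P ∨ Y = ⊤)
    (hPZ : (P : Subgroup G) ≤ normalizer ((⨅ A ∈ 𝒜, A : Subgroup G) : Set G))
    (hRinv : (∃ A ∈ 𝒜, A ≤ pCore p G) → (⨅ A ∈ {A | A ∈ 𝒜 ∧ A ≤ pCore p G}, A : Subgroup G).Normal)
    (hrep : ∀ B : Subgroup G, B ≤ P → ⁅⁅B, B⁆, B⁆ = ⊥ → (∃ A ∈ 𝒜, ⁅B, B⁆ ≤ A ∧ ¬ B ≤ A) →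
      ∃ A ∈ 𝒜, ⁅B, B⁆ ≤ A ∧ ¬ B ≤ A ∧ B ≤ normalizer (A : Set G)) :
    (⨅ A ∈ 𝒜, A : Subgroup G).Normal := by
  classical
  by_contra hnot
  obtain ⟨Q, hQdef⟩ : ∃ Q : Subgroup G, Q = pCore p G := ⟨_, rfl⟩
  rw [← hQdef] at hc hRinv
  have hQn : Q.Normal := hQdef ▸ Cfsg.Agent.Lib.Basic.pCore_normal (G := G) p
  have hQp : IsPGroup p Q := hQdef ▸ Cfsg.Agent.Lib.Basic.pCore_isPGroup (G := G) p
  have hQP : Q ≤ P := hQdef ▸ Cfsg.Agent.Lib.Basic.pCore_le_sylow P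
  have hQmax : ∀ N : Subgroup G, N.Normal → IsPGroup p N → N ≤ Q := fun N h1 h2 =>
    hQdef ▸ Cfsg.Agent.Lib.Basic.le_pCore h1 h2
  obtain ⟨Z, hZdef⟩ : ∃ Z : Subgroup G, Z = ⨅ A ∈ 𝒜, A := ⟨_, rfl⟩
  rw [← hZdef] at hnot hPZ
  have hZA : ∀ A ∈ 𝒜, Z ≤ A := fun A hA' => by
    rw [hZdef]
    exact iInf₂_le A hA'
  have hZle : ∀ B : Subgroup G, (∀ A ∈ 𝒜, B ≤ A) → B ≤ Z := fun B hB => by
    rw [hZdef]
    exact le_iInf₂ hB
  obtain ⟨A₀', hA₀'⟩ := hne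
  have hZc : ∀ a ∈ Z, ∀ b ∈ Z, a * b = b * a := fun a ha b hb =>
    hAc A₀' hA₀' a (hZA _ hA₀' ha) b (hZA _ hA₀' hb)
  have hK : ∀ B : Subgroup G, B.Normal → IsPGroup p B → ∃ K : Subgroup G, K.Normal ∧
      (∀ k ∈ K, ∃ n : ℕ, k ^ p ^ n ∈ centralizer (B : Set G)) ∧
      ∀ a, ⁅⁅B, zpowers a⁆, zpowers a⁆ = ⊥ → a ∈ K := by
    intro B hB hBp
    obtain ⟨K, h1, h2, h3, h4⟩ := hst B hBp
    have hNtop : normalizer (B : Set G) = ⊤ := Subgroup.normalizer_eq_top_iff.2 hB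
    rw [hNtop] at h1 h2 h4
    exact ⟨K, Subgroup.normalizer_eq_top_iff.1 (top_le_iff.1 h2), h3, fun a ha => h4 a (mem_top a) ha⟩
  have hdich : ∀ B : Subgroup G, B.Normal → IsPGroup p B → ∀ A : Subgroup G, A ≤ P →
      (∀ a ∈ A, ⁅⁅B, zpowers a⁆, zpowers a⁆ = ⊥) →
      A ≤ Q ∨ ∀ g : G, ∃ c ∈ centralizer (B : Set G), ∃ t ∈ (P : Subgroup G), g = c * t := by
    intro B hB hBp A hAP hq
    obtain ⟨K, hKn, hKp, hKa⟩ := hK B hB hBp
    rcases hco (K ⊔ P) le_sup_right with hs | hs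
    · left
      have hKP : K ≤ P := by
        rw [← hs]
        exact le_sup_left
      have hKQ := hQmax K hKn (P.isPGroup'.to_le hKP)
      intro a ha
      exact hKQ (hKa a (hq a ha))
    · right
      haveI := hB
      exact top_of_sup_eq_top hKn hKp P hs
  have hF6 : ∀ B : Subgroup G, Z ≤ B →
      (∀ g : G, ∃ c ∈ centralizer (B : Set G), ∃ t ∈ (P : Subgroup G), g = c * t) → False := by
    intro B hZB hall
    apply hnot
    constructor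
    intro z hz g
    obtain ⟨c, hc₁, t, ht, rfl⟩ := hall g
    have h1 : t * z * t⁻¹ ∈ Z := (mem_normalizer_iff.1 (hPZ ht) z).1 hz
    have h2 := mem_centralizer_iff.1 hc₁ _ (hZB h1)
    have e2 : c * t * z * (c * t)⁻¹ = c * (t * z * t⁻¹) * c⁻¹ := by group
    rw [e2, ← h2]
    have e3 : t * z * t⁻¹ * c * c⁻¹ = t * z * t⁻¹ := by group
    rw [e3]
    exact h1
  have hZQ : Z ≤ Q := by
    obtain ⟨K, hKn, hKp, hKa⟩ := hK Q hQn hQp
    have hKQ : K ≤ Q := by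
      apply hQmax K hKn
      rintro ⟨k, hk⟩
      obtain ⟨n', hn'⟩ := hKp k hk
      obtain ⟨m, hm⟩ := hQp ⟨_, hc hn'⟩
      refine ⟨n' + m, Subtype.ext ?_⟩
      show k ^ p ^ (n' + m) = 1
      rw [pow_add, pow_mul]
      exact congrArg Subtype.val hm
    intro z hz
    exact hKQ (hKa z (quad_of_normalizes hZc (hQP.trans hPZ) hz))
  obtain ⟨V, hVdef⟩ : ∃ V : Subgroup G, V = normalClosure (Z : Set G) := ⟨_, rfl⟩
  have hVn : V.Normal := by rw [hVdef]; infer_instance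
  have hZV : Z ≤ V := by rw [hVdef]; exact subset_normalClosure
  have hVQ : V ≤ Q := by rw [hVdef]; exact normalClosure_le_normal hZQ
  have hVp : IsPGroup p V := hQp.to_le hVQ
  have hgenV : ∀ y ∈ Group.conjugatesOfSet (Z : Set G), ∃ z ∈ Z, ∃ g : G, y = g * z * g⁻¹ := by
    intro y hy
    obtain ⟨a, ha, hc'⟩ := Group.mem_conjugatesOfSet_iff.1 hy
    obtain ⟨c, hc'⟩ := isConj_iff.1 hc'
    exact ⟨a, ha, c, hc'.symm⟩
  -- Step 3
  have hA0 : ∃ A ∈ 𝒜, A ≤ Q := by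
    let S : Set (Subgroup G) := {B | B.Normal ∧ B ≤ V ∧
      ¬ ∀ g : G, ∃ c ∈ centralizer (B : Set G), ∃ t ∈ (P : Subgroup G), g = c * t}
    have hVS : V ∈ S := ⟨hVn, le_rfl, fun h => hF6 V hZV h⟩
    obtain ⟨B, ⟨hBn, hBV, hBS⟩, hmin⟩ :=
      Set.exists_min_image S (fun B : Subgroup G => Nat.card B) (Set.toFinite _) ⟨V, hVS⟩
    haveI := hBn
    haveI := hVn
    have hBp : IsPGroup p B := hVp.to_le hBV
    have hBP : B ≤ P := hBV.trans (hVQ.trans hQP)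
    have hBne : B ≠ ⊥ := by
      rintro rfl
      apply hBS
      intro g
      refine ⟨g, ?_, 1, P.one_mem, by group⟩
      rw [mem_centralizer_iff]
      intro h hh
      rw [Subgroup.mem_bot.1 hh]; group
    have hWn : (⁅B, V⁆).Normal := Subgroup.commutator_normal B V
    have hWB : ⁅B, V⁆ ≤ B := Subgroup.commutator_le_left B V
    have hWne := commutator_ne_of_isPGroup hVp hBV hBne
    have hWlt : ⁅B, V⁆ < B := lt_of_le_of_ne hWB hWne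
    have hWall : ∀ g : G, ∃ c ∈ centralizer ((⁅B, V⁆ : Subgroup G) : Set G), ∃ t ∈ (P : Subgroup G), g = c * t := by
      by_contra hcon
      have := hmin _ ⟨hWn, hWB.trans hBV, hcon⟩
      exact absurd (Cfsg.Agent.Lib.OddLocal.card_lt_of_lt hWlt) (not_lt.2 this)
    have hXW : ⁅B, Z⁆ ≤ ⁅B, V⁆ := Subgroup.commutator_mono le_rfl hZV
    have hXZ : ⁅B, Z⁆ ≤ Z := by
      rw [Subgroup.commutator_le]
      intro b hb z hz
      rw [commutatorElement_def]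
      exact Z.mul_mem ((mem_normalizer_iff.1 (hPZ (hBP hb)) z).1 hz) (Z.inv_mem hz)
    have hXn : ∀ x ∈ ⁅B, Z⁆, ∀ g : G, g * x * g⁻¹ ∈ ⁅B, Z⁆ := by
      intro x hx g
      obtain ⟨c, hc₁, t, ht, rfl⟩ := hWall g
      have h1 : t * x * t⁻¹ ∈ ⁅B, Z⁆ := conj_mem_commutator (fun b hb => hBn.conj_mem b hb t)
        (fun z hz => (mem_normalizer_iff.1 (hPZ ht) z).1 hz) x hx
      have h2 := mem_centralizer_iff.1 hc₁ _ (hXW h1)
      have e2 : c * t * x * (c * t)⁻¹ = c * (t * x * t⁻¹) * c⁻¹ := by group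
      rw [e2, ← h2]
      have e3 : t * x * t⁻¹ * c * c⁻¹ = t * x * t⁻¹ := by group
      rw [e3]
      exact h1
    have hBVX : ⁅B, V⁆ ≤ ⁅B, Z⁆ := by
      rw [Subgroup.commutator_le]
      intro b hb v hv
      rw [hVdef] at hv
      unfold normalClosure at hv
      induction hv using Subgroup.closure_induction generalizing b with
      | mem y hy =>
        obtain ⟨z, hz, g, rfl⟩ := hgenV y hy
        have h1 : g⁻¹ * b * g⁻¹⁻¹ ∈ B := hBn.conj_mem b hb g⁻¹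
        have h2 : ⁅g⁻¹ * b * g⁻¹⁻¹, z⁆ ∈ ⁅B, Z⁆ := Subgroup.commutator_mem_commutator h1 hz
        have e2 : ⁅b, g * z * g⁻¹⁆ = g * ⁅g⁻¹ * b * g⁻¹⁻¹, z⁆ * g⁻¹ := by
          simp only [commutatorElement_def]; group
        rw [e2]
        exact hXn _ h2 g
      | one =>
        rw [commutatorElement_one_right]; exact one_mem _
      | mul v w _ _ ihv ihw =>
        have e2 : ⁅b, v * w⁆ = ⁅b, v⁆ * (v * ⁅b, w⁆ * v⁻¹) := by
          simp only [commutatorElement_def]; group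
        rw [e2]
        exact mul_mem (ihv b hb) (hXn _ (ihw b hb) v)
      | inv v _ ihv =>
        have e2 : ⁅b, v⁻¹⁆ = v⁻¹ * (⁅b, v⁆)⁻¹ * v⁻¹⁻¹ := by
          simp only [commutatorElement_def]; group
        rw [e2]
        exact hXn _ (inv_mem (ihv b hb)) v⁻¹
    have hXV : ∀ x ∈ ⁅B, Z⁆, ∀ v ∈ V, x * v = v * x := by
      intro x hx v hv
      rw [hVdef] at hv
      have hle : closure (Group.conjugatesOfSet (Z : Set G)) ≤ centralizer ({x} : Set G) := by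
        refine (closure_le _).2 ?_
        intro y hy
        obtain ⟨z, hz, g, rfl⟩ := hgenV y hy
        rw [SetLike.mem_coe, mem_centralizer_iff]
        intro u hu
        rw [Set.mem_singleton_iff.1 hu]
        have h1 : g⁻¹ * x * g⁻¹⁻¹ ∈ ⁅B, Z⁆ := hXn x hx g⁻¹
        have h2 := hZc _ (hXZ h1) z hz
        calc x * (g * z * g⁻¹) = g * ((g⁻¹ * x * g⁻¹⁻¹) * z) * g⁻¹ := by group
          _ = g * (z * (g⁻¹ * x * g⁻¹⁻¹)) * g⁻¹ := by rw [h2]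
          _ = _ := by group
      exact mem_centralizer_iff.1 (hle hv) x rfl
    have hB'X : ⁅B, B⁆ ≤ ⁅B, Z⁆ := (Subgroup.commutator_mono le_rfl hBV).trans hBVX
    have hB2 : ⁅⁅B, B⁆, B⁆ = ⊥ := by
      rw [eq_bot_iff, Subgroup.commutator_le]
      intro u hu v hv
      rw [Subgroup.mem_bot, commutatorElement_eq_one_iff_mul_comm]
      exact hXV u (hB'X hu) v (hBV hv)
    have hB'Z : ⁅B, B⁆ ≤ Z := hB'X.trans hXZ
    have hex : ∃ A ∈ 𝒜, B ≤ normalizer (A : Set G) := by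
      by_cases hall : ∃ A ∈ 𝒜, ¬ B ≤ A
      · obtain ⟨A₁, hA₁, hn₁⟩ := hall
        obtain ⟨A, hA', -, -, hBN⟩ := hrep B hBP hB2 ⟨A₁, hA₁, hB'Z.trans (hZA _ hA₁), hn₁⟩
        exact ⟨A, hA', hBN⟩
      · push Not at hall
        exact ⟨A₀', hA₀', (hall _ hA₀').trans Subgroup.le_normalizer⟩
    obtain ⟨A, hA', hBN⟩ := hex
    refine ⟨A, hA', ?_⟩
    rcases hdich B hBn hBp A (hA A hA') (fun a ha => quad_of_normalizes (hAc A hA') hBN ha) with h | h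
    · exact h
    · exact absurd h hBS
  -- Step 4
  obtain ⟨A₀, hA₀, hA₀Q⟩ := hA0
  have hV₄n := hRinv ⟨A₀, hA₀, hA₀Q⟩
  obtain ⟨V₄, hV₄def⟩ : ∃ V₄ : Subgroup G, V₄ = ⨅ A ∈ {A | A ∈ 𝒜 ∧ A ≤ Q}, A := ⟨_, rfl⟩
  rw [← hV₄def] at hV₄n
  have hV₄A : ∀ A ∈ 𝒜, A ≤ Q → V₄ ≤ A := fun A h1 h2 => by
    rw [hV₄def]
    exact iInf₂_le (f := fun (A : Subgroup G) (_ : A ∈ {A | A ∈ 𝒜 ∧ A ≤ Q}) => A) A ⟨h1, h2⟩
  have hZV₄ : Z ≤ V₄ := by
    rw [hV₄def]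
    exact le_iInf₂ fun A hA' => hZA A hA'.1
  have hV₄Q : V₄ ≤ Q := (hV₄A A₀ hA₀ hA₀Q).trans hA₀Q
  have hV₄p : IsPGroup p V₄ := hQp.to_le hV₄Q
  have hV₄c : ∀ a ∈ V₄, ∀ b ∈ V₄, a * b = b * a := fun a ha b hb =>
    hAc A₀ hA₀ a (hV₄A A₀ hA₀ hA₀Q ha) b (hV₄A A₀ hA₀ hA₀Q hb)
  have hcomm : ⁅V₄, V₄⁆ = ⊥ := by
    rw [eq_bot_iff, Subgroup.commutator_le]
    intro u hu v hv
    rw [Subgroup.mem_bot, commutatorElement_eq_one_iff_mul_comm]
    exact hV₄c u hu v hv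
  have hall : ∀ A ∈ 𝒜, V₄ ≤ A := by
    by_contra hcon
    push Not at hcon
    obtain ⟨A₁, hA₁, hn₁⟩ := hcon
    obtain ⟨A, hA', -, hnA, hN⟩ := hrep V₄ (hV₄Q.trans hQP) (by rw [hcomm, Subgroup.commutator_bot_left])
      ⟨A₁, hA₁, by rw [hcomm]; exact bot_le, hn₁⟩
    rcases hdich V₄ hV₄n hV₄p A (hA A hA') (fun a ha => quad_of_normalizes (hAc A hA') hN ha) with h | h
    · exact hnA (hV₄A A hA' h)
    · exact hF6 V₄ hZV₄ h
  apply hnot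
  have hZeq : Z = V₄ := le_antisymm hZV₄ (hZle V₄ hall)
  rw [hZeq]
  exact hV₄n

end abstractZJ

end Cfsg.Agent.Lib.Fusion2.GTRel
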