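import Cfsg.Agent.Lib.Fusion2.GTFam

/-!
# The Glauberman--Thompson theorem for a family of abelian subgroups
-/

set_option autoImplicit false
set_option linter.unusedSectionVars false
set_option linter.style.haveILetI false

namespace Cfsg.Agent.Lib.Fusion2.GTRel

open Cfsg Cfsg.FusionSystem Cfsg.Agent.Lib.Fusion Cfsg.Agent.Lib.Fusion.GT Subgroup Cfsg.Agent.Lib.LocalEven2
open scoped commutatorElement

universe u

variable {p : ℕ} [hpf : Fact p.Prime]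
variable {Ω : Type u} [Group Ω] {S : Subgroup Ω} {F : FusionSystem S}

section psi

variable {Y : Type*} [Group Y] (j : S →* Y)

theorem mem_psi {A : Subgroup Ω} {y : Y} : y ∈ (A.subgroupOf S).map j ↔ ∃ s : S, (s : Ω) ∈ A ∧ j s = y := by
  constructor
  · rintro ⟨s, hs, rfl⟩
    exact ⟨s, hs, rfl⟩
  · rintro ⟨s, hs, rfl⟩
    exact ⟨s, hs, rfl⟩

theorem psi_iInf (hj : Function.Injective j) {𝒞 : Set (Subgroup Ω)} (hne : 𝒞.Nonempty) :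
    (⨅ A' ∈ (fun A : Subgroup Ω => (A.subgroupOf S).map j) '' 𝒞, A') = ((⨅ A ∈ 𝒞, A : Subgroup Ω).subgroupOf S).map j := by
  ext y
  simp only [Subgroup.mem_iInf, mem_psi]
  constructor
  · intro h
    obtain ⟨A₀, hA₀⟩ := hne
    obtain ⟨s, -, rfl⟩ := (mem_psi j).1 (h _ ⟨A₀, hA₀, rfl⟩)
    refine ⟨s, fun A hA => ?_, rfl⟩
    obtain ⟨s', hs', he⟩ := (mem_psi j).1 (h _ ⟨A, hA, rfl⟩)
    rw [← hj he]
    exact hs'
  · rintro ⟨s, hs, rfl⟩ _ ⟨A, hA, rfl⟩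
    exact (mem_psi j).2 ⟨s, hs A hA, rfl⟩

theorem map_le_psi_iff (hj : Function.Injective j) {C : Subgroup S} {A : Subgroup Ω} :
    C.map j ≤ (A.subgroupOf S).map j ↔ C.map S.subtype ≤ A := by
  constructor
  · rintro h _ ⟨c, hc, rfl⟩
    obtain ⟨s, hs, he⟩ := (mem_psi j).1 (h ⟨c, hc, rfl⟩)
    rw [← hj he]
    exact hs
  · rintro h _ ⟨c, hc, rfl⟩
    exact (mem_psi j).2 ⟨c, h ⟨c, hc, rfl⟩, rfl⟩

end psi

/-- The key step in the minimal overgroups of the Sylow subgroup. -/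
theorem fam_key {L : Type u} [Group L] [Finite L] {ι : S →* L} [Finite S] (hreal : F.IsRealizedBy ι) (T : Sylow p L) (hT : (T : Subgroup L) = ι.range)
    (X : Subgroup L) (hTX : (T : Subgroup L) ≤ X)
    (hco : ∀ Y : Subgroup X, (T : Subgroup L).subgroupOf X ≤ Y → Y = (T : Subgroup L).subgroupOf X ∨ Y = ⊤)
    (hst : QStable p X) (hcen : centralizer ((pCore p X : Subgroup X) : Set X) ≤ pCore p X)
    {𝒜 : Set (Subgroup Ω)} (hAS : ∀ A ∈ 𝒜, A ≤ S) (hAc : ∀ A ∈ 𝒜, ∀ a ∈ A, ∀ b ∈ A, a * b = b * a) (hne : 𝒜.Nonempty)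
    (hSZ : S ≤ normalizer ((⨅ A ∈ 𝒜, A : Subgroup Ω) : Set Ω))
    (hinv : ∀ Q : Subgroup Ω, Q ≤ S → (∃ A ∈ 𝒜, A ≤ Q) → ∀ f : Ω → Ω, IsMapOn F Q f → IsImage f Q Q → ∀ x ∈ Q,
      x ∈ (⨅ A ∈ {A : Subgroup Ω | A ∈ 𝒜 ∧ A ≤ Q}, A) → f x ∈ (⨅ A ∈ {A : Subgroup Ω | A ∈ 𝒜 ∧ A ≤ Q}, A))
    (hrep : ∀ B : Subgroup Ω, B ≤ S → ⁅⁅B, B⁆, B⁆ = ⊥ → (∃ A ∈ 𝒜, ⁅B, B⁆ ≤ A ∧ ¬ B ≤ A) →
      ∃ A ∈ 𝒜, ⁅B, B⁆ ≤ A ∧ ¬ B ≤ A ∧ B ≤ normalizer (A : Set Ω)) :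
    X ≤ normalizer ((((⨅ A ∈ 𝒜, A : Subgroup Ω).subgroupOf S).map ι : Subgroup L) : Set L) := by
  classical
  have hι := hreal.1
  have hιX : ∀ s, ι s ∈ X := fun s => hTX (by rw [hT]; exact ⟨s, rfl⟩)
  let j : S →* X := ι.codRestrict X hιX
  have hjv : ∀ s, (j s : L) = ι s := fun s => rfl
  have hj : Function.Injective j := fun a b h => hι (congrArg Subtype.val h)
  let Ps : Sylow p X := T.subtype hTX
  have hPs : (Ps : Subgroup X) = (T : Subgroup L).subgroupOf X := Sylow.coe_subtype _ _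
  have hrange : ∀ x : X, x ∈ (Ps : Subgroup X) ↔ ∃ s, j s = x := by
    intro x
    rw [hPs, Subgroup.mem_subgroupOf, hT]
    constructor
    · rintro ⟨s, hs⟩
      exact ⟨s, Subtype.ext hs⟩
    · rintro ⟨s, rfl⟩
      exact ⟨s, rfl⟩
  let Ψ : Subgroup Ω → Subgroup X := fun A => (A.subgroupOf S).map j
  have hmain : ((⨅ A' ∈ Ψ '' 𝒜, A' : Subgroup X)).Normal := by
    refine abstract_zj Ps (Ψ '' 𝒜) ?_ ?_ (hne.image _) hst hcen ?_ ?_ ?_ ?_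
    · rintro _ ⟨A, hA, rfl⟩ _ ⟨s, hs, rfl⟩
      exact (hrange _).2 ⟨s, rfl⟩
    · rintro _ ⟨A, hA, rfl⟩ _ ⟨s, hs, rfl⟩ _ ⟨t, ht, rfl⟩
      have h1 := hAc A hA _ hs _ ht
      have h2 : s * t = t * s := Subtype.ext h1
      rw [← map_mul, ← map_mul, h2]
    · intro Y hY
      rw [hPs] at hY ⊢
      exact hco Y hY
    · rw [psi_iInf j hj hne]
      intro t ht
      obtain ⟨s, rfl⟩ := (hrange t).1 ht
      apply Cfsg.Agent.Lib.PGroups.mem_normalizer_of_conj_le'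
      rintro _ ⟨s₁, hs₁, rfl⟩
      refine ⟨s * s₁ * s⁻¹, ?_, by simp⟩
      exact (mem_normalizer_iff.1 (hSZ s.2) _).1 hs₁
    · rintro ⟨_, ⟨A₀, hA₀, rfl⟩, hA₀R⟩
      have hRn := Cfsg.Agent.Lib.Basic.pCore_normal (G := X) p
      have hRP : pCore p X ≤ (Ps : Subgroup X) := Cfsg.Agent.Lib.Basic.pCore_le_sylow Ps
      let W : Subgroup L := (pCore p X).map X.subtype
      have hW : W ≤ ι.range := by
        rintro _ ⟨r, hr, rfl⟩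
        obtain ⟨s, rfl⟩ := (hrange r).1 (hRP hr)
        exact ⟨s, rfl⟩
      let Q₀ : Subgroup Ω := (W.comap ι).map S.subtype
      have hQ₀S : Q₀ ≤ S := image_le W
      have hQ₀ : ∀ s : S, (s : Ω) ∈ Q₀ ↔ j s ∈ pCore p X := by
        intro s
        constructor
        · intro h
          obtain ⟨r, hr, he⟩ := mem_of_mem_image h
          have : r = j s := Subtype.ext he
          rwa [← this]
        · intro h
          exact mem_image_of_mem ⟨j s, h, rfl⟩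
      have hle : ∀ A, A ≤ S → ((Ψ A) ≤ pCore p X ↔ A ≤ Q₀) := by
        intro A hAS'
        constructor
        · intro h a ha
          exact (hQ₀ ⟨a, hAS' ha⟩).2 (h ⟨⟨a, hAS' ha⟩, ha, rfl⟩)
        · rintro h _ ⟨s, hs, rfl⟩
          exact (hQ₀ s).1 (h hs)
      have hset : {A' | A' ∈ Ψ '' 𝒜 ∧ A' ≤ pCore p X} = Ψ '' {A | A ∈ 𝒜 ∧ A ≤ Q₀} := by
        ext A'
        constructor
        · rintro ⟨⟨A, hA, rfl⟩, h⟩
          exact ⟨A, ⟨hA, (hle A (hAS A hA)).1 h⟩, rfl⟩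
        · rintro ⟨A, ⟨hA, h⟩, rfl⟩
          exact ⟨⟨A, hA, rfl⟩, (hle A (hAS A hA)).2 h⟩
      have hne₀ : {A | A ∈ 𝒜 ∧ A ≤ Q₀}.Nonempty := ⟨A₀, hA₀, (hle A₀ (hAS A₀ hA₀)).1 hA₀R⟩
      rw [hset, psi_iInf j hj hne₀]
      constructor
      rintro _ ⟨s, hs, rfl⟩ g
      have hgN : (g : L) ∈ normalizer (W : Set L) := by
        apply Cfsg.Agent.Lib.PGroups.mem_normalizer_of_conj_le'
        rintro _ ⟨r, hr, rfl⟩
        exact ⟨g * r * g⁻¹, hRn.conj_mem r hr g, rfl⟩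
      obtain ⟨f, hm, hi, hv⟩ := exists_map_of_subgroup hreal hW hgN
      have hsQ : (s : Ω) ∈ Q₀ := by
        have hs' : (s : Ω) ∈ (⨅ A ∈ {A | A ∈ 𝒜 ∧ A ≤ Q₀}, A : Subgroup Ω) := hs
        simp only [Subgroup.mem_iInf] at hs'
        exact hne₀.choose_spec.2 (hs' _ hne₀.choose_spec)
      have hf := hinv Q₀ hQ₀S ⟨A₀, hA₀, (hle A₀ (hAS A₀ hA₀)).1 hA₀R⟩ f hm hi s hsQ hs
      refine ⟨toS S (f s), ?_, ?_⟩
      · rw [SetLike.mem_coe, Subgroup.mem_subgroupOf, coe_toS (hm.mem_S hsQ)]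
        exact hf
      · apply Subtype.ext
        show ι (toS S (f s)) = (g : L) * ι s * (g : L)⁻¹
        exact hv s hsQ
    · rintro B' hB'P hB2 ⟨_, ⟨A₁, hA₁, rfl⟩, h1, h2⟩
      let BS : Subgroup S := B'.comap j
      have hBS : BS.map j = B' := by
        apply Subgroup.map_comap_eq_self
        intro x hx
        obtain ⟨s, rfl⟩ := (hrange x).1 (hB'P hx)
        exact ⟨s, rfl⟩
      have hc1 : (⁅BS, BS⁆).map j = ⁅B', B'⁆ := by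
        rw [Subgroup.map_commutator, hBS]
      have hc2 : (⁅⁅BS, BS⁆, BS⁆).map j = ⁅⁅B', B'⁆, B'⁆ := by
        rw [Subgroup.map_commutator, hc1, hBS]
      have hBS2 : ⁅⁅BS, BS⁆, BS⁆ = ⊥ := by
        rw [hB2] at hc2
        exact (Subgroup.map_eq_bot_iff_of_injective _ hj).1 hc2
      obtain ⟨A, hA, h3, h4, h5⟩ := hrep (BS.map S.subtype) (map_subtype_le _)
        (by rw [← Subgroup.map_commutator, ← Subgroup.map_commutator, hBS2, Subgroup.map_bot])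
        ⟨A₁, hA₁, by
          rw [← Subgroup.map_commutator, ← map_le_psi_iff j hj, hc1]
          exact h1, by
          rw [← map_le_psi_iff j hj, hBS]
          exact h2⟩
      refine ⟨Ψ A, ⟨A, hA, rfl⟩, ?_, ?_, ?_⟩
      · rw [← Subgroup.map_commutator, ← map_le_psi_iff j hj, hc1] at h3
        exact h3
      · rw [← map_le_psi_iff j hj, hBS] at h4
        exact h4
      · intro x hx
        rw [← hBS] at hx
        obtain ⟨s, hs, rfl⟩ := hx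
        apply Cfsg.Agent.Lib.PGroups.mem_normalizer_of_conj_le'
        rintro _ ⟨a, ha, rfl⟩
        refine ⟨s * a * s⁻¹, ?_, by simp⟩
        exact (mem_normalizer_iff.1 (h5 ⟨s, hs, rfl⟩) _).1 ha
  rw [psi_iInf j hj hne] at hmain
  have hmap : ((((⨅ A ∈ 𝒜, A : Subgroup Ω).subgroupOf S).map ι : Subgroup L)) =
      (((⨅ A ∈ 𝒜, A : Subgroup Ω).subgroupOf S).map j).map X.subtype := by
    rw [Subgroup.map_map]
    rfl
  rw [hmap]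
  exact le_normalizer_map_of_normal hmain

/-- The Glauberman--Thompson theorem for a family of abelian subgroups. -/
theorem gt_fam (hodd : p ≠ 2) [Finite S] (hS : IsPGroup p S) (hF : F.IsSaturated p)
    {𝒜 : Set (Subgroup Ω)} (hAS : ∀ A ∈ 𝒜, A ≤ S) (hAc : ∀ A ∈ 𝒜, ∀ a ∈ A, ∀ b ∈ A, a * b = b * a) (hne : 𝒜.Nonempty)
    (hSZ : S ≤ normalizer ((⨅ A ∈ 𝒜, A : Subgroup Ω) : Set Ω))
    (hinv : ∀ Q : Subgroup Ω, Q ≤ S → (∃ A ∈ 𝒜, A ≤ Q) → ∀ f : Ω → Ω, IsMapOn F Q f → IsImage f Q Q → ∀ x ∈ Q,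
      x ∈ (⨅ A ∈ {A : Subgroup Ω | A ∈ 𝒜 ∧ A ≤ Q}, A) → f x ∈ (⨅ A ∈ {A : Subgroup Ω | A ∈ 𝒜 ∧ A ≤ Q}, A))
    (hrep : ∀ B : Subgroup Ω, B ≤ S → ⁅⁅B, B⁆, B⁆ = ⊥ → (∃ A ∈ 𝒜, ⁅B, B⁆ ≤ A ∧ ¬ B ≤ A) →
      ∃ A ∈ 𝒜, ⁅B, B⁆ ≤ A ∧ ¬ B ≤ A ∧ B ≤ normalizer (A : Set Ω))
    (h2 : LocP p F (⨅ A ∈ 𝒜, A : Subgroup Ω)) : AllP p F := by
  obtain ⟨A₀, hA₀⟩ := hne
  have hZS : (⨅ A ∈ 𝒜, A : Subgroup Ω) ≤ S := (iInf₂_le A₀ hA₀).trans (hAS A₀ hA₀)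
  refine gt_rel hodd hS hF ?_
  intro U hUS hne' hT E hE hEs hEn h1
  have hTS : normalizerIn S U ≤ S := normalizerIn_le U
  haveI := finite_of_le hTS
  have hTp : IsPGroup p (normalizerIn S U) := hS.to_le hTS
  have hEF : ∀ P, E.Hom P ⊆ F.Hom P := fun P φ hφ => by
    rw [hE P] at hφ
    exact hφ.1
  refine allP_of_trivMod_gen hodd hTp hEs hEn h1 (fun x hx => hSZ (hTS hx)) (hZS.trans hT.ge) ?_ ?_
  · intro R f hZR hRN hm hi hiZ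
    have hRS : R ≤ S := hm.le.trans hTS
    exact h2 R f hZR (fun x hx => ⟨hRS hx, hSZ (hRS hx)⟩) (IsMapOn.of_normalizer hE hm) hi hiZ
  · intro L _ _ ι hG T' hT' X hTX hco hst hcen
    exact fam_key (F := E) hG.2.1 T' hT' X hTX.le hco hst hcen (fun A hA => (hAS A hA).trans hT.ge) hAc ⟨A₀, hA₀⟩
      (fun x hx => hSZ (hTS hx))
      (fun Q hQ hex f ⟨φ, hφ, hv⟩ hi x hx h3 => hinv Q (hQ.trans hTS) hex f ⟨φ, hEF _ hφ, hv⟩ hi x hx h3)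
      (fun B hB h3 h4 => hrep B (hB.trans hTS) h3 h4)

end Cfsg.Agent.Lib.Fusion2.GTRel
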