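import Cfsg.Agent.Lib.Fusion.GTMain

/-!
# A relative form of the Glauberman--Thompson reduction for fusion systems
-/

set_option autoImplicit false
set_option linter.unusedSectionVars false
set_option linter.style.haveILetI false

namespace Cfsg.Agent.Lib.Fusion2.GTRel

open Cfsg Cfsg.FusionSystem Cfsg.Agent.Lib.Fusion Cfsg.Agent.Lib.Fusion.GT

universe u

variable {p : ℕ} [hpf : Fact p.Prime]
variable {Ω : Type u} [Group Ω] {S : Subgroup Ω} {F : FusionSystem S}

/-- The reduction in the Glauberman--Thompson theorem: if the normalizer systems of nontrivial normal subgroups `U` of `S`,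
in which every automorphism has `p`-power order modulo `U`, have only automorphisms of `p`-power order, then so has the system. -/
theorem gt_rel (hodd : p ≠ 2) [Finite S] (hS : IsPGroup p S) (hF : F.IsSaturated p)
    (Hyp : ∀ U : Subgroup Ω, U ≤ S → U ≠ ⊥ → normalizerIn S U = S → ∀ E : FusionSystem (normalizerIn S U), F.IsNormalizerSystem U E →
      E.IsSaturated p → E.IsNormal U → TrivMod p E U → AllP p E) : AllP p F := by
  have claim : ∀ U : Subgroup Ω, U ≤ S → U ≠ ⊥ → LocP p F U := by
    let key : Subgroup Ω → ℕ := fun U => Nat.card (normalizerIn S U) * (Nat.card S + 1) + Nat.card U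
    have hkey : ∀ U, U ≤ S → key U < (Nat.card S + 1) * (Nat.card S + 1) := by
      intro U hU
      have h1 : Nat.card (normalizerIn S U) ≤ Nat.card S := card_le_card_S (normalizerIn_le U)
      have h2 : Nat.card U ≤ Nat.card S := card_le_card_S hU
      show _ * _ + _ < _
      nlinarith
    suffices H : ∀ d U, U ≤ S → U ≠ ⊥ → (Nat.card S + 1) * (Nat.card S + 1) - key U = d → LocP p F U from
      fun U h1 h2 => H _ U h1 h2 rfl
    intro d
    induction d using Nat.strong_induction_on with
    | _ d IHd =>
    intro U hUS hne hd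
    have up : ∀ V, V ≤ S → V ≠ ⊥ → key U < key V → LocP p F V := fun V hVS hVn hk =>
      IHd _ (by have := hkey V hVS; have := hkey U hUS; omega) V hVS hVn rfl
    have hcU : Nat.card U ≤ Nat.card S := card_le_card_S hUS
    by_cases hfn : F.IsFullyNormalized U
    · obtain ⟨E, hE⟩ := kSystem_normalizer F hUS
      have hEs := isSaturated_normalizerSystem hS hF hfn hE
      have hTS : normalizerIn S U ≤ S := normalizerIn_le U
      haveI := finite_of_le hTS
      have hTp : IsPGroup p (normalizerIn S U) := hS.to_le hTS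
      have hUT : U ≤ normalizerIn S U := le_normalizerIn hUS
      by_cases hT : normalizerIn S U = S
      · have hEn := isNormal_normalizerSystem hUS hE
        have hcT : Nat.card (normalizerIn S U) = Nat.card S := by
          rw [hT]
        have h1 : TrivMod p E U := trivMod_of_factor (fun Ω' _ S' _ F' hc hp hs hl => gt_main hodd _ Ω' S' F' rfl hp hs hl) hTp hEs hEn hne (by
          intro R₀ hlt hR₀ hnorm R f hR₀R hRN hm hi hiR₀
          have hR₀S := hR₀.trans hTS
          have hk : key U < key R₀ := by
            have h3 : Nat.card (normalizerIn S U) ≤ Nat.card (normalizerIn S R₀) := by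
              refine card_le_of_le (S := S) (fun x hx => ⟨hx.1, hnorm hx⟩) (normalizerIn_le _)
            have h4 : Nat.card U < Nat.card R₀ := card_lt_of_lt hlt hR₀S
            show _ * _ + _ < _ * _ + _
            nlinarith
          have hne' : R₀ ≠ ⊥ := fun h => hne (le_bot_iff.1 (h ▸ hlt.le))
          exact up R₀ hR₀S hne' hk R f hR₀R (fun x hx => ⟨(hm.le.trans hTS) hx, (hRN hx).2⟩) (IsMapOn.of_normalizer hE hm) hi hiR₀)
        exact locP_of_allP hE (Hyp U hUS hne hT E hE hEs hEn h1)
      · have hTlt : normalizerIn S U < S := lt_of_le_of_ne hTS hT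
        have hcT : Nat.card (normalizerIn S U) < Nat.card S := card_lt_of_lt hTlt le_rfl
        refine locP_of_allP hE (gt_main hodd _ Ω (normalizerIn S U) E rfl hTp hEs ?_)
        intro R f hZR hRN hm hi hiZ
        have hm' := IsMapOn.of_normalizer hE hm
        have hVS : centerThompsonAOf (normalizerIn S U) ≤ S := (center_le _).trans hTS
        have hTne : normalizerIn S U ≠ ⊥ := fun h => hne (le_bot_iff.1 (h ▸ hUT))
        have hVne := center_ne_bot hTp hTne
        have hk : key U < key (centerThompsonAOf (normalizerIn S U)) := by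
          obtain ⟨g, hgN, hgT⟩ := exists_mem_normalizerIn_not_mem hS hTlt
          have h1 : normalizerIn S (normalizerIn S U) ≤ normalizerIn S (centerThompsonAOf (normalizerIn S U)) := fun x hx => ⟨hx.1, center_normalizer hx.2⟩
          have h2 : normalizerIn S U < normalizerIn S (normalizerIn S U) :=
            lt_of_le_of_ne (le_normalizerIn hTS) (fun he => hgT (he ▸ hgN))
          have h3 : Nat.card (normalizerIn S U) < Nat.card (normalizerIn S (centerThompsonAOf (normalizerIn S U))) :=
            card_lt_of_lt (h2.trans_le h1) (normalizerIn_le _)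
          show _ * _ + _ < _ * _ + _
          nlinarith
        exact up _ hVS hVne hk R f hZR (fun x hx => ⟨hTS (hRN hx).1, (hRN hx).2⟩) hm' hi hiZ
    · obtain ⟨Q, hc, hQ⟩ := exists_fullyNormalized_conj (F := F) hUS
      have hcard : Nat.card (normalizerIn S U) < Nat.card (normalizerIn S Q) := by
        by_contra hle
        push Not at hle
        apply hfn
        refine ⟨hUS, fun W hW => ?_⟩
        exact (hQ.2 W (isConj_trans (isConj_symm hc) hW)).trans hle
      obtain ⟨e, -⟩ := isConj_iff.1 hc
      have hcQ : Nat.card U = Nat.card Q := Nat.card_congr e.toEquiv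
      have hQne : Q ≠ ⊥ := by
        rintro rfl
        apply hne
        rw [Subgroup.card_bot] at hcQ
        have := finite_of_le hUS
        exact Subgroup.eq_bot_of_card_eq _ hcQ
      have hk : key U < key Q := by
        show _ * _ + _ < _ * _ + _
        nlinarith
      exact (up Q hQ.1 hQne hk).transport hS hF hQ hc
  intro R f hm hi
  by_cases hR : R = ⊥
  · subst hR
    refine ⟨0, fun x hx => ?_⟩
    rw [Subgroup.mem_bot] at hx
    subst hx
    simpa using hm.map_one
  · exact claim R hm.le hR R f le_rfl (le_normalizerIn hm.le) hm hi hi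

/-- Inner systems have only automorphisms of `p`-power order. -/
theorem allP_inner [Finite S] (hS : IsPGroup p S) : AllP p (innerFusionSystem S) := by
  rintro R f ⟨φ, ⟨hRS, g, hg, hv⟩, hφ⟩ hi
  obtain ⟨k, hk⟩ := hS ⟨g, hg⟩
  have hk' : g ^ p ^ k = 1 := congrArg Subtype.val hk
  refine ⟨k, fun x hx => ?_⟩
  have hR : ∀ y ∈ R, f y ∈ R := fun y hy => hi.mem hy
  have hv' : ∀ y ∈ R, f y = g * y * g⁻¹ := fun y hy => by
    rw [← hφ ⟨y, hy⟩, hv ⟨y, hy⟩]
  rw [iter_conj hR hv' _ hx, hk']
  simp

/-- A `p`-odd non-inner saturated system contains a non-inner constrained saturated subsystem. -/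
theorem exists_constrained (hodd : p ≠ 2) [Finite S] (hS : IsPGroup p S) (hF : F.IsSaturated p)
    (hne : ∃ P : Subgroup Ω, F.Hom P ≠ (innerFusionSystem S).Hom P) :
    ∃ E : FusionSystem S, E ≤ F ∧ E.IsConstrained p ∧ ∃ P : Subgroup Ω, E.Hom P ≠ (innerFusionSystem S).Hom P := by
  by_contra hno
  push Not at hno
  obtain ⟨P, hP⟩ := hne
  apply hP
  refine hom_eq_inner_of_allP hS hF (gt_rel hodd hS hF ?_) P
  intro U hUS hne hT E hE hEs hEn h1
  have hTS : normalizerIn S U ≤ S := normalizerIn_le U
  haveI := finite_of_le hTS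
  have hTp : IsPGroup p (normalizerIn S U) := hS.to_le hTS
  have key : ∀ (T : Subgroup Ω) (hT : T = S) (E : FusionSystem T), (∀ P, E.Hom P ⊆ F.Hom P) → E.IsConstrained p →
      ∀ P, E.Hom P = (innerFusionSystem T).Hom P := by
    rintro T rfl E h1 h2
    exact hno E h1 h2
  have hEF : ∀ P, E.Hom P ⊆ F.Hom P := fun P φ hφ => by
    rw [hE P] at hφ
    exact hφ.1
  have h2 := key _ hT E hEF (isConstrained_of_trivMod hTp hEs hEn h1)
  intro R f hm hi
  obtain ⟨φ, hφ, hv⟩ := hm
  rw [h2 R] at hφ
  exact allP_inner hTp R f ⟨φ, hφ, hv⟩ hi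

end Cfsg.Agent.Lib.Fusion2.GTRel
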