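import Cfsg.Agent.Lib.Fusion2.GTRel

/-!
# The model step of the Glauberman--Thompson theorem, for general candidate subgroups
-/

set_option autoImplicit false
set_option linter.unusedSectionVars false
set_option linter.style.haveILetI false

namespace Cfsg.Agent.Lib.Fusion2.GTRel

open Cfsg Cfsg.FusionSystem Cfsg.Agent.Lib.Fusion Cfsg.Agent.Lib.Fusion.GT Subgroup

universe u

variable {p : ℕ} [hpf : Fact p.Prime]

/-- Structure theorem with a general candidate: if `L / H` is `p'`-by-`p`, `H` a self-centralizing normal `p`-subgroup, the normalizer of `Z'`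
is a `p`-group and `Z'` is normal in the minimal overgroups of `P`, then `L` is a `p`-group. -/
theorem eq_top_of_section_gen {L : Type u} [Group L] [Finite L] (hodd : p ≠ 2) (P : Sylow p L) {H K : Subgroup L} (hHn : H.Normal)
    (hHp : IsPGroup p H) (hC : centralizer (H : Set L) ≤ H) (hKn : K.Normal) (hHK : H ≤ K) {m : ℕ} (hm : ∀ u ∈ K, u ^ m ∈ H)
    (hcop : m.Coprime p) (hm0 : 0 < m) (htop : ∀ g : L, ∃ n : ℕ, g ^ p ^ n ∈ K) {Z' : Subgroup L}
    (hZ : IsPGroup p (normalizer (Z' : Set L)))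
    (hkey : ∀ X : Subgroup L, (P : Subgroup L) < X →
      (∀ Y : Subgroup X, (P : Subgroup L).subgroupOf X ≤ Y → Y = (P : Subgroup L).subgroupOf X ∨ Y = ⊤) →
      Cfsg.Agent.Lib.LocalEven2.QStable p X → centralizer ((pCore p X : Subgroup X) : Set X) ≤ pCore p X →
      X ≤ normalizer (Z' : Set L)) : (P : Subgroup L) = ⊤ := by
  classical
  by_contra hne
  have hlt : (P : Subgroup L) < ⊤ := lt_top_iff_ne_top.2 hne
  let 𝒮 : Set (Subgroup L) := {X | (P : Subgroup L) < X}
  obtain ⟨X, hX, hXmin⟩ := (Set.toFinite 𝒮).exists_minimal ⟨⊤, hlt⟩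
  have hPX : (P : Subgroup L) ≤ X := le_of_lt hX
  haveI hHnn := hHn
  have hHP : H ≤ P := Cfsg.Agent.Lib.Basic.normal_pGroup_le_sylow hHn hHp P
  let P' : Subgroup X := (P : Subgroup L).subgroupOf X
  let H' : Subgroup X := H.subgroupOf X
  let K' : Subgroup X := K.subgroupOf X
  have hP'p : IsPGroup p P' := P.isPGroup'.comap_of_injective X.subtype X.subtype_injective
  have hH'n : H'.Normal := inferInstance
  have hK'n : K'.Normal := by
    haveI := hKn
    infer_instance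
  have hH'P : H' ≤ P' := by
    intro x hx
    rw [Subgroup.mem_subgroupOf] at hx ⊢
    exact hHP hx
  have hHK' : H' ≤ K' := by
    intro x hx
    rw [Subgroup.mem_subgroupOf] at hx ⊢
    exact hHK hx
  have hm' : ∀ u ∈ K', u ^ m ∈ H' := by
    intro u hu
    rw [Subgroup.mem_subgroupOf] at hu ⊢
    exact hm _ hu
  have hco : ∀ Y : Subgroup X, P' ≤ Y → Y = P' ∨ Y = ⊤ := by
    intro Y hY
    have hPY : (P : Subgroup L) ≤ Y.map X.subtype := by
      intro x hx
      exact ⟨⟨x, hPX hx⟩, hY (by rw [Subgroup.mem_subgroupOf]; exact hx), rfl⟩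
    by_cases hYe : Y.map X.subtype = P
    · left
      apply le_antisymm _ hY
      intro y hy
      rw [Subgroup.mem_subgroupOf, ← hYe]
      exact ⟨y, hy, rfl⟩
    · right
      have hmem : Y.map X.subtype ∈ 𝒮 := lt_of_le_of_ne hPY (Ne.symm hYe)
      have h1 := hXmin hmem (map_subtype_le Y)
      rw [eq_top_iff]
      intro x _
      obtain ⟨y, hy, hyx⟩ := h1 x.2
      have : y = x := Subtype.ext hyx
      rwa [← this]
  have hcomm := comm_of_coatom hP'p hH'n hH'P hK'n hHK' hm' hcop hco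
  have hs : SS p H' K' m :=
    { hH := hH'n
      hHp := hHp.comap_of_injective X.subtype X.subtype_injective
      hK := hK'n
      hcomm := hcomm
      hm := hm'
      hcop := hcop
      hm0 := hm0
      htop := fun g => by
        obtain ⟨n, hn⟩ := htop (g : L)
        exact ⟨n, by rw [Subgroup.mem_subgroupOf]; exact hn⟩ }
  have hst := qStable_of_SS hodd hs
  have hcen : centralizer ((pCore p X : Subgroup X) : Set X) ≤ pCore p X := by
    have h1 : H' ≤ pCore p X := Cfsg.Agent.Lib.Basic.le_pCore hH'n (hHp.comap_of_injective X.subtype X.subtype_injective)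
    intro z hz
    apply h1
    rw [Subgroup.mem_subgroupOf]
    apply hC
    rw [mem_centralizer_iff]
    intro h hh
    have hhX : h ∈ X := hPX (hHP hh)
    have h2 := (mem_centralizer_iff.1 hz) ⟨h, hhX⟩ (h1 (by rw [Subgroup.mem_subgroupOf]; exact hh))
    exact congrArg Subtype.val h2
  have hXN := hkey X hX hco hst hcen
  have hXp : IsPGroup p X := hZ.to_le hXN
  have := P.is_maximal' hXp hPX
  exact hX.ne this.symm

variable {Ω : Type u} [Group Ω] {S : Subgroup Ω} {F : FusionSystem S}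
variable {L : Type u} [Group L] {ι : S →* L}

/-- The normalizer of the image of a subgroup consists of `p`-elements, when the corresponding normalizer system has only `p`-automorphisms. -/
theorem isPGroup_normalizer_gen [Finite S] (hS : IsPGroup p S) [Finite L] (hreal : F.IsRealizedBy ι) (T : Sylow p L) (hT : (T : Subgroup L) = ι.range)
    (hcen : Subgroup.centralizer ((pCore p L : Subgroup L) : Set L) ≤ pCore p L) {Z₀ : Subgroup Ω} {Z' : Subgroup L}
    (hZ₀n : S ≤ normalizer (Z₀ : Set Ω)) (hZ' : ∀ y, y ∈ Z' ↔ ∃ s : S, (s : Ω) ∈ Z₀ ∧ ι s = y) (hZ₀S : Z₀ ≤ S)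
    (h2 : LocP p F Z₀) : IsPGroup p (Subgroup.normalizer (Z' : Set L)) := by
  have hι := hreal.1
  rintro ⟨g, hg⟩
  have hH : pCore p L ≤ ι.range := by
    rw [← hT]
    exact Cfsg.Agent.Lib.Basic.pCore_le_sylow T
  have hZ : Z' ≤ ι.range := by
    intro y hy
    obtain ⟨s, -, rfl⟩ := (hZ' y).1 hy
    exact ⟨s, rfl⟩
  have hWr : Z' ⊔ pCore p L ≤ ι.range := sup_le hZ hH
  have hgH : g ∈ Subgroup.normalizer ((pCore p L : Subgroup L) : Set L) := by
    have hn := Cfsg.Agent.Lib.Basic.pCore_normal (G := L) p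
    rw [Subgroup.mem_normalizer_iff]
    intro h
    constructor
    · exact fun hh => hn.conj_mem h hh g
    · intro hh
      have := hn.conj_mem _ hh g⁻¹
      simpa [mul_assoc] using this
  have hgW : g ∈ Subgroup.normalizer ((Z' ⊔ pCore p L : Subgroup L) : Set L) := by
    apply mem_normalizer_of_isImage
    have hc : ∀ X : Subgroup L, IsImage (fun x => g * x * g⁻¹) X ((X.map (MulAut.conj g).toMonoidHom)) := by
      intro X y
      constructor
      · rintro ⟨x, hx, rfl⟩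
        exact ⟨x, hx, rfl⟩
      · rintro ⟨x, hx, rfl⟩
        exact ⟨x, hx, rfl⟩
    intro y
    have h1 : (Z' ⊔ pCore p L).map (MulAut.conj g).toMonoidHom = Z' ⊔ pCore p L := by
      rw [Subgroup.map_sup]
      congr 1
      · exact (hc _).unique (isImage_conj_of_normalizer hg)
      · exact (hc _).unique (isImage_conj_of_normalizer hgH)
    have h2 := hc (Z' ⊔ pCore p L) y
    rwa [h1] at h2
  obtain ⟨f, hm, hi, hv⟩ := exists_map_of_subgroup hreal hWr hgW
  have hRS := image_le (ι := ι) (Z' ⊔ pCore p L)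
  have hZS : Z₀ ≤ ((Z' ⊔ pCore p L).comap ι).map S.subtype := by
    intro z hz
    have hzS : z ∈ S := hZ₀S hz
    refine ⟨⟨z, hzS⟩, Subgroup.mem_sup_left ((hZ' _).2 ⟨⟨z, hzS⟩, hz, rfl⟩), rfl⟩
  have hRN : ((Z' ⊔ pCore p L).comap ι).map S.subtype ≤ normalizerIn S Z₀ := fun x hx =>
    ⟨hRS hx, hZ₀n (hRS hx)⟩
  have hiZ : IsImage f Z₀ Z₀ := by
    intro y
    constructor
    · intro hy
      have hyS := hZ₀S hy
      have h3 : ι ⟨y, hyS⟩ ∈ Z' := (hZ' _).2 ⟨⟨y, hyS⟩, hy, rfl⟩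
      have h4 : g⁻¹ * ι ⟨y, hyS⟩ * g ∈ Z' := by
        have := (Subgroup.mem_normalizer_iff.1 hg (g⁻¹ * ι ⟨y, hyS⟩ * g)).2
        apply this
        have e2 : g * (g⁻¹ * ι ⟨y, hyS⟩ * g) * g⁻¹ = ι ⟨y, hyS⟩ := by group
        rwa [e2]
      obtain ⟨x, hx, he⟩ := (hZ' _).1 h4
      refine ⟨x, hx, ?_⟩
      have h5 := hv x (hZS hx)
      rw [he] at h5
      have h6 : ι (toS S (f x)) = ι ⟨y, hyS⟩ := by
        rw [h5]
        group
      have h7 := congrArg Subtype.val (hι h6)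
      rwa [coe_toS (hm.mem_S (hZS hx))] at h7
    · rintro ⟨x, hx, rfl⟩
      have hxS := hZ₀S hx
      have h3 : ι ⟨x, hxS⟩ ∈ Z' := (hZ' _).2 ⟨⟨x, hxS⟩, hx, rfl⟩
      have h4 : g * ι ⟨x, hxS⟩ * g⁻¹ ∈ Z' := (Subgroup.mem_normalizer_iff.1 hg _).1 h3
      rw [← hv ⟨x, hxS⟩ (hZS hx)] at h4
      obtain ⟨t, ht, he⟩ := (hZ' _).1 h4
      have h5 := hι he
      have h6 := congrArg Subtype.val h5
      rw [coe_toS (hm.mem_S (hZS hx))] at h6
      simpa [h6] using ht
  obtain ⟨k, hk⟩ := h2 _ f hZS hRN hm hi hiZ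
  have hgc : g ^ p ^ k ∈ Subgroup.centralizer ((pCore p L : Subgroup L) : Set L) := by
    rw [Subgroup.mem_centralizer_iff]
    intro y hy
    obtain ⟨s, rfl⟩ := hH hy
    have hsR : (s : Ω) ∈ ((Z' ⊔ pCore p L).comap ι).map S.subtype :=
      mem_image_of_mem (Subgroup.mem_sup_right hy)
    have h3 := iter_conj_iota hRS (fun x hx => hi.mem hx) hv (p ^ k) s hsR
    rw [hk _ hsR, toS_coe] at h3
    have h4 : ι s * g ^ p ^ k = g ^ p ^ k * ι s := by
      conv_lhs => rw [h3]
      group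
    exact h4
  obtain ⟨j, hj⟩ := Cfsg.Agent.Lib.Basic.pCore_isPGroup (G := L) p ⟨_, hcen hgc⟩
  refine ⟨k + j, Subtype.ext ?_⟩
  have h3 := congrArg Subtype.val hj
  show g ^ p ^ (k + j) = 1
  rw [pow_add, pow_mul]
  exact h3

/-- The main step: the model is `S`, for a general candidate. -/
theorem range_eq_top_gen (hodd : p ≠ 2) [Finite S] (hS : IsPGroup p S) {U : Subgroup Ω} (hU : F.IsNormal U) (h1 : TrivMod p F U)
    {Z₀ : Subgroup Ω} {Z' : Subgroup L}
    (hZ₀n : S ≤ normalizer (Z₀ : Set Ω)) (hZ' : ∀ y, y ∈ Z' ↔ ∃ s : S, (s : Ω) ∈ Z₀ ∧ ι s = y) (hZ₀S : Z₀ ≤ S)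
    (h2 : LocP p F Z₀) (hG : F.IsModel p L ι)
    (hkey : ∀ T : Sylow p L, (T : Subgroup L) = ι.range → ∀ X : Subgroup L, (T : Subgroup L) < X →
      (∀ Y : Subgroup X, (T : Subgroup L).subgroupOf X ≤ Y → Y = (T : Subgroup L).subgroupOf X ∨ Y = ⊤) →
      Cfsg.Agent.Lib.LocalEven2.QStable p X → centralizer ((pCore p X : Subgroup X) : Set X) ≤ pCore p X →
      X ≤ normalizer (Z' : Set L)) : ι.range = ⊤ := by
  have hG' := hG
  obtain ⟨hfin, hreal, ⟨T, hT⟩, hcen⟩ := hG
  have hUS := hU.1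
  have hsc := stronglyClosed_of_isNormal hU
  have hn := normalizer_of_stronglyClosed hsc
  have hUn : ((U.subgroupOf S).map ι).Normal := by
    constructor
    rintro _ ⟨x, hx, rfl⟩ g
    have hx' : (x : Ω) ∈ U := hx
    obtain ⟨q', hq', he⟩ := conj_mem_image_of_model hUS hn hU hG' g hx'
    refine ⟨toS S q', ?_, he.symm⟩
    show ((toS S q' : S) : Ω) ∈ U
    rwa [coe_toS (hUS hq')]
  have hU'p : IsPGroup p ((U.subgroupOf S).map ι) := (hS.to_subgroup _).map ι
  have hU'H : (U.subgroupOf S).map ι ≤ pCore p L := Cfsg.Agent.Lib.Basic.le_pCore hUn hU'p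
  obtain ⟨N, hNn, hNc⟩ := exists_complement_quotient hreal T hT hUS h1
  have hHn := Cfsg.Agent.Lib.Basic.pCore_normal (G := L) p
  have hHp := Cfsg.Agent.Lib.Basic.pCore_isPGroup (G := L) p
  have hKn : (N.comap (QuotientGroup.mk' ((U.subgroupOf S).map ι))).Normal := hNn.comap _
  have hK'n : (N.comap (QuotientGroup.mk' ((U.subgroupOf S).map ι)) ⊔ pCore p L).Normal := Subgroup.sup_normal _ _
  have hpow : ∀ u ∈ N.comap (QuotientGroup.mk' ((U.subgroupOf S).map ι)) ⊔ pCore p L, u ^ Nat.card N ∈ pCore p L := by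
    intro u hu
    obtain ⟨k, hk, h, hh, rfl⟩ := Subgroup.mem_sup_of_normal_right.1 hu
    have h3 : k ^ Nat.card N ∈ pCore p L := by
      apply hU'H
      apply (QuotientGroup.eq_one_iff _).1
      show QuotientGroup.mk' ((U.subgroupOf S).map ι) (k ^ Nat.card N) = 1
      rw [map_pow]
      exact congrArg Subtype.val (pow_card_eq_one' (x := (⟨_, hk⟩ : N)))
    have h4 : ∀ n : ℕ, (k * h) ^ n * (k ^ n)⁻¹ ∈ pCore p L := by
      intro n
      induction n with
      | zero => simp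
      | succ n ih =>
        have e : (k * h) ^ (n + 1) * (k ^ (n + 1))⁻¹ = ((k * h) ^ n * (k ^ n)⁻¹) * (k ^ (n + 1) * h * (k ^ (n + 1))⁻¹) := by
          rw [pow_succ, pow_succ k]
          simp only [mul_inv_rev, mul_assoc, inv_mul_cancel_left]
        rw [e]
        exact (pCore p L).mul_mem ih (hHn.conj_mem _ hh _)
    have h5 := (pCore p L).mul_mem (h4 (Nat.card N)) h3
    simpa using h5
  have hidx : (T.mapSurjective (QuotientGroup.mk'_surjective ((U.subgroupOf S).map ι)) : Subgroup (L ⧸ (U.subgroupOf S).map ι)).index = Nat.card N := hNc.index_eq_card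
  have hcop : (Nat.card N).Coprime p := by
    rw [Nat.coprime_comm, Nat.Prime.coprime_iff_not_dvd hpf.out, ← hidx]
    exact Sylow.not_dvd_index _
  have htop : ∀ g : L, ∃ n : ℕ, g ^ p ^ n ∈ N.comap (QuotientGroup.mk' ((U.subgroupOf S).map ι)) ⊔ pCore p L := by
    intro g
    obtain ⟨n, hn⟩ := IsPGroup.iff_card.1 (Sylow.isPGroup' (T.mapSurjective (QuotientGroup.mk'_surjective ((U.subgroupOf S).map ι))))
    refine ⟨n, Subgroup.mem_sup_left ?_⟩
    show QuotientGroup.mk' ((U.subgroupOf S).map ι) (g ^ p ^ n) ∈ N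
    rw [map_pow, ← hn, ← hNc.symm.index_eq_card]
    exact Subgroup.pow_index_mem _ _
  have hZ := isPGroup_normalizer_gen hS hreal T hT hcen hZ₀n hZ' hZ₀S h2
  have htopT := eq_top_of_section_gen hodd T hHn hHp hcen hK'n le_sup_right hpow hcop Nat.card_pos htop hZ (hkey T hT)
  rw [← hT, htopT]

/-- Theorem B with a general candidate subgroup. -/
theorem allP_of_trivMod_gen (hodd : p ≠ 2) [Finite S] (hS : IsPGroup p S) (hF : F.IsSaturated p) {U : Subgroup Ω} (hU : F.IsNormal U) (h1 : TrivMod p F U)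
    {Z₀ : Subgroup Ω} (hZ₀n : S ≤ normalizer (Z₀ : Set Ω)) (hZ₀S : Z₀ ≤ S) (h2 : LocP p F Z₀)
    (hkey : ∀ (L : Type u) (_ : Group L) (_ : Finite L) (ι : S →* L), F.IsModel p L ι → ∀ T : Sylow p L, (T : Subgroup L) = ι.range → ∀ X : Subgroup L, (T : Subgroup L) < X →
      (∀ Y : Subgroup X, (T : Subgroup L).subgroupOf X ≤ Y → Y = (T : Subgroup L).subgroupOf X ∨ Y = ⊤) →
      Cfsg.Agent.Lib.LocalEven2.QStable p X → centralizer ((pCore p X : Subgroup X) : Set X) ≤ pCore p X →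
      X ≤ normalizer (((Z₀.subgroupOf S).map ι : Subgroup L) : Set L)) : AllP p F := by
  obtain ⟨G, _, ι, hG⟩ := exists_model hS (isConstrained_of_trivMod hS hF hU h1)
  refine allP_of_range_eq_top hG (range_eq_top_gen hodd hS hU h1 (Z' := (Z₀.subgroupOf S).map ι) hZ₀n ?_ hZ₀S h2 hG (hkey G _ hG.1 ι hG))
  intro y
  constructor
  · rintro ⟨s, hs, rfl⟩
    exact ⟨s, hs, rfl⟩
  · rintro ⟨s, hs, rfl⟩
    exact ⟨s, hs, rfl⟩

end Cfsg.Agent.Lib.Fusion2.GTRel
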