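import Cfsg.Agent.Lib.Fusion2.GTRel2

/-!
# The Glauberman--Thompson theorem relative to a strongly closed subgroup
-/

set_option autoImplicit false
set_option linter.unusedSectionVars false
set_option linter.style.haveILetI false

namespace Cfsg.Agent.Lib.Fusion2.GTRel

open Cfsg Cfsg.FusionSystem Cfsg.Agent.Lib.Fusion Cfsg.Agent.Lib.Fusion.GT Subgroup

universe u

variable {p : ℕ} [hpf : Fact p.Prime]
variable {Ω : Type u} [Group Ω] {S : Subgroup Ω} {F : FusionSystem S}

theorem le_normalizer_map_of_normal {L : Type*} [Group L] {X : Subgroup L} {Y : Subgroup X} (hY : Y.Normal) :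
    X ≤ normalizer ((Y.map X.subtype : Subgroup L) : Set L) := by
  intro x hx
  rw [mem_normalizer_iff]
  intro y
  constructor
  · rintro ⟨y', hy', rfl⟩
    exact ⟨⟨x, hx⟩ * y' * ⟨x, hx⟩⁻¹, hY.conj_mem y' hy' _, rfl⟩
  · rintro ⟨w, hw, hwe⟩
    have hwe' : (w : L) = x * y * x⁻¹ := hwe
    have h1 := hY.conj_mem w hw (⟨x, hx⟩⁻¹)
    refine ⟨_, h1, ?_⟩
    show x⁻¹ * (w : L) * (x⁻¹)⁻¹ = y
    rw [hwe']; group

/-- The image of a strongly closed subgroup in a realizing group is strongly closed. -/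
theorem stronglyClosed_image {L : Type u} [Group L] {ι : S →* L} (hreal : F.IsRealizedBy ι) {D : Subgroup Ω} (hD : F.StronglyClosed D) {s : S}
    (hs : (s : Ω) ∈ D) {g : L} (hg : g * ι s * g⁻¹ ∈ ι.range) : g * ι s * g⁻¹ ∈ (D.subgroupOf S).map ι := by
  have hRD : zpowers (s : Ω) ≤ D := (zpowers_le).2 hs
  have hRS : zpowers (s : Ω) ≤ S := hRD.trans hD.1
  obtain ⟨f, ⟨φ, hφ, hv⟩, hf⟩ := exists_map_of_gconj hreal hRS g (by
    intro y hy
    obtain ⟨k, hk⟩ := mem_zpowers_iff.1 hy
    have hys : y = s ^ k := Subtype.ext (by rw [coe_zpow, hk])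
    have e : g * ι y * g⁻¹ = (g * ι s * g⁻¹) ^ k := by
      rw [hys, map_zpow, conj_zpow]
    rw [e]
    exact ι.range.zpow_mem hg k)
  have h1 := hf s (mem_zpowers (s : Ω))
  have h2 : f s ∈ D := by
    have := hD.2 _ hRD φ hφ ⟨s, mem_zpowers (s : Ω)⟩
    rwa [hv] at this
  rw [← h1]
  refine ⟨toS S (f s), ?_, rfl⟩
  show ((toS S (f s) : S) : Ω) ∈ D
  rwa [coe_toS (hD.1 h2)]

theorem center_image_D {L : Type u} [Group L] {ι : S →* L} (hι : Function.Injective ι) [Finite S] {D : Subgroup Ω} (hDS : D ≤ S) :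
    ((centerThompsonAOf D).subgroupOf S).map ι = centerThompsonAOf ((D.subgroupOf S).map ι) := by
  have h1 : (D.subgroupOf S).map S.subtype = D := by
    rw [Subgroup.subgroupOf_map_subtype]
    exact inf_eq_left.2 hDS
  have h2 : centerThompsonAOf D = (centerThompsonAOf (D.subgroupOf S)).map S.subtype := by
    rw [center_map S.subtype_injective, h1]
  rw [← center_map hι, h2]
  congr 1
  rw [Subgroup.subgroupOf, Subgroup.comap_map_eq_self_of_injective S.subtype_injective]

theorem allP_of_trivMod_D (hodd : p ≠ 2) [Finite S] (hS : IsPGroup p S) (hF : F.IsSaturated p) {U : Subgroup Ω} (hU : F.IsNormal U) (h1 : TrivMod p F U)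
    {D : Subgroup Ω} (hD : F.StronglyClosed D) (h2 : LocP p F (centerThompsonAOf D)) : AllP p F := by
  have hDS := hD.1
  haveI : Finite D := finite_of_le hDS
  have hn := normalizer_of_stronglyClosed hD
  refine allP_of_trivMod_gen hodd hS hF hU h1 (fun x hx => center_normalizer (hn hx)) ((center_le D).trans hDS) h2 ?_
  intro L _ _ ι hG T hT X hTX hco hst hcen
  obtain ⟨-, hreal, -, -⟩ := hG
  have hι := hreal.1
  rw [center_image_D hι hDS]
  have hPX : (T : Subgroup L) ≤ X := hTX.le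
  let Ps : Sylow p X := T.subtype hPX
  have hPs : (Ps : Subgroup X) = (T : Subgroup L).subgroupOf X := Sylow.coe_subtype _ _
  let D₁ : Subgroup L := (D.subgroupOf S).map ι
  have hD₁T : D₁ ≤ T := by
    rw [hT]
    rintro _ ⟨s, -, rfl⟩
    exact ⟨s, rfl⟩
  have hsc : IsStronglyClosed (D₁.subgroupOf X) (Ps : Subgroup X) := by
    rw [hPs]
    constructor
    · intro x hx
      rw [Subgroup.mem_subgroupOf] at hx ⊢
      exact hD₁T hx
    · intro x hx g hg
      rw [Subgroup.mem_subgroupOf] at hx hg ⊢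
      obtain ⟨s, hs, hse⟩ := hx
      have hg' : (g : L) * ι s * (g : L)⁻¹ ∈ ι.range := by
        rw [← hT, hse]
        exact hg
      have := stronglyClosed_image hreal hD hs hg'
      rw [hse] at this
      exact this
  have he : ∀ x ∈ D₁, x ^ Nat.card L = 1 := fun x _ => pow_card_eq_one'
  have hzj := Cfsg.Agent.Lib.LocalEven2.zj_aux hodd (Nat.card L) _ X Ps (D₁.subgroupOf X) hsc hst hcen rfl
  have hz₁ : centerThompsonAOf D₁ = (Cfsg.Agent.Lib.LocalEven2.zjZ (Nat.card L) (D₁.subgroupOf X)).map X.subtype := by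
    rw [Cfsg.Agent.Lib.LocalEven2.centerThompsonA_eq _ he, Cfsg.Agent.Lib.LocalEven2.zjZ_map X.subtype_injective,
      Subgroup.subgroupOf_map_subtype, inf_eq_left.2 (hD₁T.trans hPX)]
  show X ≤ normalizer ((centerThompsonAOf D₁ : Subgroup L) : Set L)
  rw [hz₁]
  exact le_normalizer_map_of_normal hzj

/-- The Glauberman--Thompson theorem relative to a strongly closed subgroup. -/
theorem gt_D (hodd : p ≠ 2) [Finite S] (hS : IsPGroup p S) (hF : F.IsSaturated p) {D : Subgroup Ω} (hD : F.StronglyClosed D)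
    (h2 : LocP p F (centerThompsonAOf D)) : AllP p F := by
  have hDS := hD.1
  haveI : Finite D := finite_of_le hDS
  have hn := normalizer_of_stronglyClosed hD
  refine gt_rel hodd hS hF ?_
  intro U hUS hne hT E hE hEs hEn h1
  have hTS : normalizerIn S U ≤ S := normalizerIn_le U
  haveI := finite_of_le hTS
  have hTp : IsPGroup p (normalizerIn S U) := hS.to_le hTS
  have hEF : ∀ P, E.Hom P ⊆ F.Hom P := fun P φ hφ => by
    rw [hE P] at hφ
    exact hφ.1
  refine allP_of_trivMod_D hodd hTp hEs hEn h1 (D := D) ⟨hDS.trans hT.ge, fun R hR φ hφ x => hD.2 R hR φ (hEF R hφ) x⟩ ?_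
  intro R f hZR hRN hm hi hiZ
  have hRS : R ≤ S := hm.le.trans hTS
  exact h2 R f hZR (fun x hx => ⟨hRS hx, center_normalizer (hn (hRS hx))⟩) (IsMapOn.of_normalizer hE hm) hi hiZ

/-- If `F` is inner and `S` normalizes `Z`, then `N_F(Z)` is inner. -/
theorem normalizer_inner_of_inner {Z : Subgroup Ω} (hZ : S ≤ normalizer (Z : Set Ω)) (hin : ∀ P : Subgroup Ω, F.Hom P = (innerFusionSystem S).Hom P)
    (N : FusionSystem (normalizerIn S Z)) (hN : F.IsNormalizerSystem Z N) (P : Subgroup Ω) :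
    N.Hom P = (innerFusionSystem (normalizerIn S Z)).Hom P := by
  apply Set.Subset.antisymm
  · intro φ hφ
    have hφN := hφ
    rw [hN P] at hφ
    have h1 := hφ.1
    rw [hin P] at h1
    obtain ⟨hPS, g, hg, hv⟩ := h1
    exact ⟨N.le_of_mem hφN |>.1, g, ⟨hg, hZ hg⟩, hv⟩
  · exact inner_le N P

end Cfsg.Agent.Lib.Fusion2.GTRel
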