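import Cfsg.Agent.Lib.Fusion.Functor
import Cfsg.Agent.Lib.Fusion.KSystem
import Cfsg.Agent.Lib.LocalEven.GWFinal
import Cfsg.Agent.Lib.LocalEven2.ZJ

/-!
# Glauberman's theorem on the centre of `N_F(J(S))`
-/

set_option autoImplicit false
set_option linter.unusedSectionVars false
set_option linter.style.haveILetI false

universe u

namespace Cfsg.Agent.Lib.Fusion2.GWF

open Cfsg Cfsg.FusionSystem Cfsg.Agent.Lib.Fusion

variable {W : ∀ (Q : Type u) [Group Q], Subgroup Q} {Ω : Type u} [Group Ω] {S : Subgroup Ω} {F : FusionSystem S} {p : ℕ} [hp : Fact p.Prime]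

/-- The local condition. -/
def LocCond (W : ∀ (Q : Type u) [Group Q], Subgroup Q) (z : Ω) (U : Subgroup Ω) : Prop :=
  ∀ (E : FusionSystem (normalizerIn S U)), F.IsNormalizerSystem U E → ∀ (L : Type u) [Group L] (ι : normalizerIn S U →* L), E.IsModel p L ι →
    ∀ (R : Sylow p L), (R : Subgroup L) = ι.range → ∀ (hz : z ∈ normalizerIn S U), ι ⟨z, hz⟩ ∈ Cfsg.pCore p L →
    (∀ n ∈ Subgroup.normalizer (((W ↥(R : Subgroup L)).map (R : Subgroup L).subtype : Subgroup L) : Set L), n * ι ⟨z, hz⟩ = ι ⟨z, hz⟩ * n) →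
    ι ⟨z, hz⟩ ∈ Subgroup.center L

variable [Finite S]

/-- The local step: the condition on the model of `N_F(U)` reduces the action of `Aut_F(U)` on `z` to that of automorphisms of `W(N_S(U))`. -/
theorem local_step' (hS : IsPGroup p S) (hF : F.IsSaturated p)
    (hW2 : ∀ (Q R : Type u) [Group Q] [Group R] [Finite Q], IsPGroup p Q → ∀ φ : Q ≃* R, (W Q).map φ.toMonoidHom = W R)
    (hWZ : ∀ (Q : Type u) [Group Q] [Finite Q], IsPGroup p Q → Subgroup.center Q ≤ W Q)
    {z : Ω} (hzS : z ∈ S) (hzc : ∀ s ∈ S, s * z = z * s) {U : Subgroup Ω} (hU : F.IsFullyNormalized U) (hUc : F.IsCentric U) {α : MulAut U} (hα : α ∈ F.autGroup U)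
    (hC : LocCond (p := p) (F := F) W z U)
    (h : ∀ f, IsMapOn F (wOn W (normalizerIn S U)) f → IsImage f (wOn W (normalizerIn S U)) (wOn W (normalizerIn S U)) → f z = z) : fn α z = z := by
  classical
  have hUS := hU.1
  obtain ⟨E, hE⟩ := kSystem_normalizer F hUS
  haveI hTf : Finite (normalizerIn S U) := finite_of_le (normalizerIn_le U)
  have hsat : E.IsSaturated p := isSaturated_normalizerSystem hS hF hU hE
  have hN := isNormal_normalizerSystem hUS hE
  have hCc := isCentric_normalizerSystem hUc hE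
  have hSN : IsPGroup p (normalizerIn S U) := hS.to_le (normalizerIn_le U)
  have hQ : U ≤ normalizerIn S U := hN.1
  have hn : normalizerIn S U ≤ Subgroup.normalizer (U : Set Ω) := fun x hx => hx.2
  obtain ⟨L, hL, ι, hmodel⟩ := exists_model hSN ⟨hsat, U, hN, hCc⟩
  obtain ⟨πL, hd⟩ := exists_modelData (hQ := hQ) (hn := hn) hN hCc hmodel hSN
  have hmodel' := hmodel
  obtain ⟨hfin, hreal, ⟨R, hR⟩, hcen⟩ := hmodel
  have hι := hreal.1
  have hαE : α ∈ E.autGroup U := by
    rw [autGroup_normalizerSystem hUS hE]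
    exact hα
  obtain ⟨g, hg⟩ := hd.surj ⟨α, hαE⟩
  have hzU : z ∈ U := by
    refine hUc.2 U (isConj_refl hUS) ⟨hzS, ?_⟩
    show z ∈ Subgroup.centralizer (U : Set Ω)
    rw [Subgroup.mem_centralizer_iff]
    intro y hy
    exact hzc y (hUS hy)
  have hzT : z ∈ normalizerIn S U := hQ hzU
  -- the functor on `R`
  let e : ↥(normalizerIn S U) ≃* ↥(R : Subgroup L) := (MonoidHom.ofInjective hι).trans (MulEquiv.subgroupCongr hR.symm)
  have he : ∀ t, ((e t : ↥(R : Subgroup L)) : L) = ι t := fun _ => rfl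
  have hW : (W ↥(normalizerIn S U)).map e.toMonoidHom = W ↥(R : Subgroup L) := hW2 _ _ hSN e
  have hmemR : ∀ y : L, y ∈ (W ↥(R : Subgroup L)).map (R : Subgroup L).subtype ↔ ∃ t : normalizerIn S U, (t : Ω) ∈ wOn W (normalizerIn S U) ∧ ι t = y := by
    intro y
    rw [← hW]
    constructor
    · rintro ⟨_, ⟨t, ht, rfl⟩, rfl⟩
      exact ⟨t, mem_wOn.2 ⟨t.2, ht⟩, rfl⟩
    · rintro ⟨t, ht, rfl⟩
      obtain ⟨h1, h2⟩ := mem_wOn.1 ht
      exact ⟨e t, ⟨t, h2, rfl⟩, rfl⟩
  set Y : Subgroup L := (W ↥(R : Subgroup L)).map (R : Subgroup L).subtype with hY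
  have hzw : (⟨z, hzT⟩ : normalizerIn S U) ∈ W ↥(normalizerIn S U) := by
    apply hWZ _ hSN
    rw [Subgroup.mem_center_iff]
    intro t
    apply Subtype.ext
    exact hzc t ((normalizerIn_le U) t.2)
  have hzV : z ∈ wOn W (normalizerIn S U) := mem_wOn.2 ⟨hzT, hzw⟩
  have hzY : ι ⟨z, hzT⟩ ∈ Y := (hmemR _).2 ⟨_, hzV, rfl⟩
  have hYR : Y ≤ ι.range := by
    rw [← hR]
    rintro _ ⟨x, -, rfl⟩
    exact x.2
  -- the main claim
  have key : ∀ g₁ ∈ Subgroup.normalizer (Y : Set L), g₁ * ι ⟨z, hzT⟩ * g₁⁻¹ = ι ⟨z, hzT⟩ := by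
    intro g₁ hg₁
    have hVT := wOn_le (W := W) (normalizerIn S U)
    have hgc : ∀ x : normalizerIn S U, (x : Ω) ∈ wOn W (normalizerIn S U) → g₁ * ι x * g₁⁻¹ ∈ ι.range := by
      intro x hx
      have h1 : ι x ∈ Y := (hmemR _).2 ⟨x, hx, rfl⟩
      exact hYR ((Subgroup.mem_normalizer_iff.1 hg₁ _).1 h1)
    obtain ⟨β, hβ, hβv⟩ := exists_map_of_gconj hreal hVT g₁ hgc
    have hβF : IsMapOn F (wOn W (normalizerIn S U)) β := by
      obtain ⟨φ, hφ, hv⟩ := hβ
      rw [hE] at hφ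
      exact ⟨φ, hφ.1, hv⟩
    have hβi : IsImage β (wOn W (normalizerIn S U)) (wOn W (normalizerIn S U)) := by
      intro y
      constructor
      · intro hy
        have hyT := hVT hy
        have h1 : ι ⟨y, hyT⟩ ∈ Y := (hmemR _).2 ⟨⟨y, hyT⟩, hy, rfl⟩
        have h2 : g₁⁻¹ * ι ⟨y, hyT⟩ * g₁⁻¹⁻¹ ∈ Y := (Subgroup.mem_normalizer_iff.1 (Subgroup.inv_mem _ hg₁) _).1 h1
        obtain ⟨t, ht, htv⟩ := (hmemR _).1 h2
        refine ⟨t, ht, ?_⟩
        have h3 := hβv t ht
        rw [htv] at h3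
        have h4 : ι (toS (normalizerIn S U) (β t)) = ι ⟨y, hyT⟩ := by
          rw [h3]
          group
        have h5 := hι h4
        have h6 := congrArg (fun s : normalizerIn S U => (s : Ω)) h5
        simp only at h6
        rwa [coe_toS (hβ.mem_S ht)] at h6
      · rintro ⟨x, hx, rfl⟩
        have hxT := hVT hx
        have h1 : ι ⟨x, hxT⟩ ∈ Y := (hmemR _).2 ⟨⟨x, hxT⟩, hx, rfl⟩
        have h2 := (Subgroup.mem_normalizer_iff.1 hg₁ _).1 h1
        rw [← hβv ⟨x, hxT⟩ hx] at h2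
        obtain ⟨t, ht, htv⟩ := (hmemR _).1 h2
        have h5 := hι htv
        have h6 := congrArg (fun s : normalizerIn S U => (s : Ω)) h5
        simp only at h6
        rw [coe_toS (hβ.mem_S hx)] at h6
        rw [← h6]
        exact ht
    have hfix := h β hβF hβi
    have h1 := hβv ⟨z, hzT⟩ hzV
    simp only at h1
    rw [hfix, toS_of_mem hzT] at h1
    exact h1.symm
  have hOn := Cfsg.Agent.Lib.Basic.pCore_normal (G := L) p
  have hOp := Cfsg.Agent.Lib.Basic.pCore_isPGroup (G := L) p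
  have hzO : ι ⟨z, hzT⟩ ∈ pCore p L := by
    let j : U →* L := ι.comp (Subgroup.inclusion hQ)
    have hNn : j.range.Normal := ⟨by
      rintro _ ⟨y, rfl⟩ g
      exact ⟨_, (hd.conj g y).symm⟩⟩
    have hNp : IsPGroup p j.range := (hSN.to_le hQ).of_surjective j.rangeRestrict j.rangeRestrict_surjective
    exact Cfsg.Agent.Lib.Basic.le_pCore hNn hNp ⟨⟨z, hzU⟩, rfl⟩
  have hcentral : ι ⟨z, hzT⟩ ∈ Subgroup.center L := by
    refine hC E hE L ι hmodel' R hR hzT hzO (fun g₁ hg₁ => ?_)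
    have := key g₁ hg₁
    calc g₁ * ι ⟨z, hzT⟩ = g₁ * ι ⟨z, hzT⟩ * g₁⁻¹ * g₁ := by group
      _ = ι ⟨z, hzT⟩ * g₁ := by rw [this]
  have h1 := hd.conj g ⟨z, hzU⟩
  have h2 : Subgroup.inclusion hQ ⟨z, hzU⟩ = ⟨z, hzT⟩ := rfl
  rw [h2] at h1
  have h3 : g * ι ⟨z, hzT⟩ * g⁻¹ = ι ⟨z, hzT⟩ := by
    rw [Subgroup.mem_center_iff.1 hcentral g]
    group
  rw [h3, hg] at h1
  have h4 := hι h1
  have h5 := congrArg (fun s : normalizerIn S U => (s : Ω)) h4
  rw [fn_of_mem _ hzU]
  exact h5.symm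


/-- A subgroup of `Z(N_F(W(S)))` all of whose elements satisfy the local condition is central. -/
theorem isCentral_of_local (hS : IsPGroup p S) (hF : F.IsSaturated p)
    (hW2 : ∀ (Q R : Type u) [Group Q] [Group R] [Finite Q], IsPGroup p Q → ∀ φ : Q ≃* R, (W Q).map φ.toMonoidHom = W R)
    (hWZ : ∀ (Q : Type u) [Group Q] [Finite Q], IsPGroup p Q → Subgroup.center Q ≤ W Q)
    (N : FusionSystem (normalizerIn S ((W ↥S).map S.subtype))) (hN : F.IsNormalizerSystem ((W ↥S).map S.subtype) N)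
    (A : Subgroup Ω) (hA : A ≤ N.center)
    (hC : ∀ z ∈ A, ∀ U, F.IsFullyNormalized U → F.IsCentric U → LocCond (p := p) (F := F) W z U) : F.IsCentral A := by
  classical
  have hYS : wOn W S ≤ S := wOn_le S
  have hSN' : S ≤ Subgroup.normalizer ((wOn W S : Subgroup Ω) : Set Ω) := fun x hx => wOn_normalizer hS hW2 le_rfl hx (Subgroup.le_normalizer hx)
  have hNS : normalizerIn S (wOn W S) = S := le_antisymm (normalizerIn_le _) (fun x hx => ⟨hx, hSN' hx⟩)
  have hYfn : F.IsFullyNormalized (wOn W S) := by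
    refine ⟨hYS, fun Q _ => ?_⟩
    rw [hNS]
    exact card_le_card_S (normalizerIn_le Q)
  haveI hTf : Finite (normalizerIn S (wOn W S)) := finite_of_le (normalizerIn_le _)
  have hcenN : N.IsCentral N.center := sSup_mem_of_closed (S := normalizerIn S (wOn W S)) {Q | N.IsCentral Q} (fun Q hQ => hQ.1) isCentral_bot (fun _ hA _ hB => isCentral_sup hA hB)
  have hNcS : N.center ≤ S := hcenN.1.trans (normalizerIn_le _)
  refine isCentral_of_singleton hS hF (hA.trans hNcS) (fun z hzA y hy => ?_)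
  have hz : z ∈ N.center := hA hzA
  have hzS := hNcS hz
  have hzc : ∀ s ∈ S, s * z = z * s := by
    intro s hs
    have hsT : s ∈ normalizerIn S (wOn W S) := ⟨hs, hSN' hs⟩
    have h1 := singleton_of_isCentral hcenN z hz _ (isConjElt_of_hom (N.conj_mem (hcenN.1) hsT) ⟨z, hz⟩)
    have h2 : s * z * s⁻¹ = z := h1
    calc s * z = s * z * s⁻¹ * s := by group
      _ = z * s := by rw [h2]
  have hz₀ : ∀ f, IsMapOn F (wOn W S) f → IsImage f (wOn W S) (wOn W S) → f z = z := by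
    intro f hf hi
    have hzY : z ∈ wOn W S := by
      refine mem_wOn.2 ⟨hzS, hWZ _ hS ?_⟩
      rw [Subgroup.mem_center_iff]
      intro t
      apply Subtype.ext
      exact hzc t t.2
    obtain ⟨φ, hφ, hv⟩ := hf
    have hφN : φ ∈ N.Hom (wOn W S) := by
      rw [hN]
      have hle : wOn W S ⊔ wOn W S ≤ wOn W S := sup_le le_rfl le_rfl
      refine ⟨hφ, fun x hx => ⟨hYS hx, hSN' (hYS hx)⟩, fun x => ⟨val_mem hφ x, hSN' (val_mem hφ x)⟩, φ.comp (Subgroup.inclusion hle), restrict_mem hφ hle, fun x => rfl, ?_⟩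
      ext y
      constructor
      · rintro ⟨x, hx, rfl⟩
        show φ (Subgroup.inclusion hle x) ∈ wOn W S
        rw [hv]
        exact hi.mem hx
      · intro hy
        obtain ⟨x, hx, rfl⟩ := hi.exists_of_mem hy
        exact ⟨⟨x, Subgroup.mem_sup_left hx⟩, hx, hv ⟨x, hx⟩⟩
    have h1 := singleton_of_isCentral hcenN z hz _ (isConjElt_of_hom hφN ⟨z, hzY⟩)
    rw [← hv ⟨z, hzY⟩]
    exact h1
  have hall := fix_all hS hF hzS hzc (wOn W) (fun T hT hzT => ?_) (fun T _ => wOn_le T) (fun T hT g hg hgn => wOn_normalizer hS hW2 hT hg hgn)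
    (fun U hU hUc α hα h => local_step' hS hF hW2 hWZ hzS hzc hU hUc hα (hC z hzA U hU hUc) h) hz₀
  · obtain ⟨φ, hφ, hφy⟩ := hy
    rw [← hφy]
    exact ((fix_of_aut hS hF hzS hzc 0 (fun U h1 h2 _ α hα => hall U h1 h2 α hα) hφ (Nat.zero_le _) ⟨z, Subgroup.mem_zpowers z⟩).1 rfl)
  · refine mem_wOn.2 ⟨hzT, ?_⟩
    haveI := finite_of_le hT
    refine hWZ _ (hS.to_le hT) ?_
    rw [Subgroup.mem_center_iff]
    intro t
    apply Subtype.ext
    exact hzc t (hT t.2)

/-- The centre of `F` lies in the centre of `N_F(Y)`, `Y` a subgroup normal in `S`. -/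
theorem center_le_normalizer (hS : IsPGroup p S) (hF : F.IsSaturated p) {Y : Subgroup Ω} (hYS : Y ≤ S) (hSN' : S ≤ Subgroup.normalizer (Y : Set Ω))
    (N : FusionSystem (normalizerIn S Y)) (hN : F.IsNormalizerSystem Y N) : F.center ≤ N.center := by
  have hNS : normalizerIn S Y = S := le_antisymm (normalizerIn_le _) (fun x hx => ⟨hx, hSN' hx⟩)
  have hYfn : F.IsFullyNormalized Y := by
    refine ⟨hYS, fun Q _ => ?_⟩
    rw [hNS]
    exact card_le_card_S (normalizerIn_le Q)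
  have hNsat : N.IsSaturated p := isSaturated_normalizerSystem hS hF hYfn hN
  haveI hTf : Finite (normalizerIn S Y) := finite_of_le (normalizerIn_le _)
  have hSNp : IsPGroup p (normalizerIn S Y) := hS.to_le (normalizerIn_le _)
  have hcenF : F.IsCentral F.center := sSup_mem_of_closed (S := S) {Q | F.IsCentral Q} (fun Q hQ => hQ.1) isCentral_bot (fun _ hA _ hB => isCentral_sup hA hB)
  apply le_sSup
  show N.IsCentral F.center
  have hle : F.center ≤ normalizerIn S Y := by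
    rw [hNS]
    exact hcenF.1
  refine isCentral_of_singleton hSNp hNsat hle (fun z hz y hy => ?_)
  obtain ⟨φ, hφ, hφy⟩ := hy
  rw [hN] at hφ
  exact singleton_of_isCentral hcenF z hz y ⟨φ, hφ.1, hφy⟩

/-! ### The Thompson subgroup -/

theorem thompsonA_type (Q : Type u) [Group Q] : thompsonSubgroupA Q = Cfsg.Agent.Lib.LocalEven2.zjJ 0 (⊤ : Subgroup Q) := by
  have h1 : maxAbelianSubgroups Q = Cfsg.Agent.Lib.LocalEven2.zjFam 0 (⊤ : Subgroup Q) := by
    ext A
    constructor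
    · rintro ⟨h1, h2⟩
      refine ⟨le_top, fun a ha b hb => Cfsg.Agent.Lib.LocalEven2.comm_of_abelian h1 ha hb, fun a _ => pow_zero a, ?_⟩
      intro B _ h3 _
      exact h2 B (Cfsg.Agent.Lib.LocalEven2.abelian_of_comm h3)
    · rintro ⟨-, h2, -, h4⟩
      refine ⟨Cfsg.Agent.Lib.LocalEven2.abelian_of_comm h2, ?_⟩
      intro B hB
      exact h4 B le_top (fun a ha b hb => Cfsg.Agent.Lib.LocalEven2.comm_of_abelian hB ha hb) (fun a _ => pow_zero a)
  unfold thompsonSubgroupA Cfsg.Agent.Lib.LocalEven2.zjJ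
  rw [h1]

theorem thompsonA_map (Q R : Type u) [Group Q] [Group R] (φ : Q ≃* R) :
    (thompsonSubgroupA Q).map φ.toMonoidHom = thompsonSubgroupA R := by
  rw [thompsonA_type, thompsonA_type, Cfsg.Agent.Lib.LocalEven2.zjJ_map (f := φ.toMonoidHom) φ.injective,
    Subgroup.map_top_of_surjective _ φ.surjective]

theorem center_le_thompsonA (Q : Type u) [Group Q] [Finite Q] : Subgroup.center Q ≤ thompsonSubgroupA Q := by
  intro z hz
  rw [thompsonA_type]
  have hc : ∀ y, y * z = z * y := fun y => ((Subgroup.mem_center_iff.1 hz) y)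
  obtain ⟨A, hA⟩ := Cfsg.Agent.Lib.LocalEven2.zjFam_nonempty 0 (⊤ : Subgroup Q)
  apply Cfsg.Agent.Lib.LocalEven2.le_zjJ hA
  have hX : ∀ a ∈ (A : Set Q) ∪ {z}, ∀ b ∈ (A : Set Q) ∪ {z}, a * b = b * a := by
    rintro a (ha | rfl) b (hb | rfl)
    · exact hA.2.1 a ha b hb
    · exact (hc a)
    · exact (hc b).symm
    · rfl
  have hB := Cfsg.Agent.Lib.LocalEven2.comm_of_closure' hX
  have h1 := hA.2.2.2 (Subgroup.closure ((A : Set Q) ∪ {z})) le_top hB (fun a _ => pow_zero a)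
  have h2 : A ≤ Subgroup.closure ((A : Set Q) ∪ {z}) := fun a ha => Subgroup.subset_closure (Or.inl ha)
  have h3 : A = Subgroup.closure ((A : Set Q) ∪ {z}) := Subgroup.eq_of_le_of_card_ge h2 h1
  rw [h3]
  exact Subgroup.subset_closure (Or.inr rfl)

/-- The local condition for the Thompson subgroup. -/
theorem locCond_thompson (hS : IsPGroup p S) {z : Ω} {U : Subgroup Ω} (hU : F.IsFullyNormalized U) (hUc : F.IsCentric U)
    (hcond : p ≠ 2 ∨ (∃ w ∈ S ⊓ Subgroup.centralizer (S : Set Ω), w ^ p = z) ∨ F.IsSectionFree p (Equiv.Perm (Fin 4))) :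
    LocCond (p := p) (F := F) thompsonSubgroupA.{u} z U := by
  intro E hE L _ ι hL R hR hz hzO hcomm
  haveI : Finite L := hL.1
  have ht := Cfsg.Agent.Lib.Basic.pCore_le_sylow (G := L) (p := p) R
  have hnorm := Cfsg.Agent.Lib.Basic.pCore_normal (G := L) p
  have he : (thompsonSubgroupA ↥(R : Subgroup L)).map (R : Subgroup L).subtype = Cfsg.Agent.Lib.LocalEven.GJ (R : Subgroup L) :=
    Cfsg.Agent.Lib.LocalEven2.thompsonA_eq _ (fun _ _ => pow_card_eq_one')
  rw [he] at hcomm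
  have hmain := Cfsg.Agent.Lib.LocalEven.glauberman_weakly_closed R (ι ⟨z, hz⟩) (ht hzO) hcomm (by
    rcases hcond with h | ⟨w, hw, hwz⟩ | h
    · exact Or.inl h
    · refine Or.inr (Or.inl ?_)
      have hwc : ∀ s ∈ S, s * w = w * s := fun s hs => (Subgroup.mem_centralizer_iff.1 hw.2 s hs)
      have hwT : w ∈ normalizerIn S U := by
        refine ⟨hw.1, ?_⟩
        refine Subgroup.mem_normalizer_iff.2 (fun x => ?_)
        constructor
        · intro hx
          have := hwc x (hU.1 hx)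
          rw [← this]
          simpa using hx
        · intro hx
          have h1 : w * x * w⁻¹ ∈ S := hU.1 hx
          have h2 := hwc _ h1
          have h3 : x = w⁻¹ * (w * x * w⁻¹) * w := by group
          have h4 : w * x * w⁻¹ = x := by
            have hxS : x ∈ S := by
              have hwi : w⁻¹ ∈ S := S.inv_mem hw.1
              have : x = w⁻¹ * (w * x * w⁻¹) * w⁻¹⁻¹ := by group
              rw [this]
              exact S.mul_mem (S.mul_mem hwi h1) (S.inv_mem hwi)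
            have := hwc x hxS
            rw [← this]
            group
          rwa [h4] at hx
      refine ⟨ι ⟨w, hwT⟩, ⟨?_, ?_⟩, ?_⟩
      · rw [hR]
        exact ⟨_, rfl⟩
      · show ι ⟨w, hwT⟩ ∈ Subgroup.centralizer (((R : Subgroup L) : Subgroup L) : Set L)
        rw [Subgroup.mem_centralizer_iff]
        intro r hr
        rw [SetLike.mem_coe, hR] at hr
        obtain ⟨t, rfl⟩ := hr
        rw [← map_mul, ← map_mul]
        congr 1
        apply Subtype.ext
        exact hwc t ((normalizerIn_le U) t.2)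
      · rw [← map_pow]
        congr 1
        exact Subtype.ext hwz
    · exact Or.inr (Or.inr (h U hU hUc E hE L ι hL)))
  rw [Subgroup.mem_center_iff]
  intro g
  have h1 : g * ι ⟨z, hz⟩ * g⁻¹ ∈ (R : Subgroup L) := ht (hnorm.conj_mem _ hzO g)
  have h2 := hmain g h1
  calc g * ι ⟨z, hz⟩ = g * ι ⟨z, hz⟩ * g⁻¹ * g := by group
    _ = ι ⟨z, hz⟩ * g := by rw [h2]

theorem isCentral_thompson (hS : IsPGroup p S) (hF : F.IsSaturated p)
    (N : FusionSystem (normalizerIn S (thompsonSubgroupAOf S))) (hN : F.IsNormalizerSystem (thompsonSubgroupAOf S) N)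
    (A : Subgroup Ω) (hA : A ≤ N.center)
    (hcond : ∀ z ∈ A, p ≠ 2 ∨ (∃ w ∈ S ⊓ Subgroup.centralizer (S : Set Ω), w ^ p = z) ∨ F.IsSectionFree p (Equiv.Perm (Fin 4))) :
    F.IsCentral A :=
  isCentral_of_local (W := thompsonSubgroupA.{u}) hS hF (fun Q R _ _ _ _ φ => thompsonA_map Q R φ) (fun Q _ _ _ => center_le_thompsonA Q) N hN A hA
    (fun z hz _ hU hUc => locCond_thompson hS hU hUc (hcond z hz))

theorem thompsonA_normal : S ≤ Subgroup.normalizer ((thompsonSubgroupAOf S : Subgroup Ω) : Set Ω) := by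
  intro g hg
  refine Subgroup.mem_normalizer_iff.2 (fun x => ?_)
  have key : ∀ g ∈ S, ∀ x, x ∈ thompsonSubgroupAOf S → g * x * g⁻¹ ∈ thompsonSubgroupAOf S := by
    intro g hg x hx
    obtain ⟨y, hy, rfl⟩ := hx
    have h1 := thompsonA_map ↥S ↥S (MulAut.conj (⟨g, hg⟩ : S))
    refine ⟨(MulAut.conj (⟨g, hg⟩ : S)) y, ?_, rfl⟩
    show _ ∈ thompsonSubgroupA ↥S
    rw [← h1]
    exact ⟨y, hy, rfl⟩
  constructor
  · exact key g hg x
  · intro hx
    have := key g⁻¹ (S.inv_mem hg) _ hx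
    simpa [mul_assoc] using this

end Cfsg.Agent.Lib.Fusion2.GWF
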