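import Cfsg.Agent.Lib.Fusion2.StabCore
import Cfsg.Agent.Lib.Fusion2.PStable
import Cfsg.Agent.Lib.Fusion.QdFactor2
import Cfsg.Agent.Lib.Invol.BaerSuzuki

/-!
# `p`-stability passes to the factor system modulo a subgroup fixed by all maps, for `p` odd
-/

set_option autoImplicit false
set_option linter.unusedSectionVars false
set_option linter.style.haveILetI false

universe u v

namespace Cfsg.Agent.Lib.Fusion2.StabF

open Cfsg Cfsg.FusionSystem Cfsg.Agent.Lib.Fusion Cfsg.Agent.Lib.Fusion.Qd Cfsg.Agent.Lib.Fusion2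
open Cfsg.Agent.Lib.Fusion2.Stab

variable {Ω : Type u} [Group Ω] {S : Subgroup Ω} [Finite S] {F : FusionSystem S} {p : ℕ} [hp : Fact p.Prime]

/-- Two automorphisms quadratic modulo a subgroup fixed by the automizer generate a `p`-group. -/
theorem pair_isPGroup (hodd : p ≠ 2) (hS : IsPGroup p S) (hst : PStab p F) {Q : Subgroup Ω} (hQS : Q ≤ S)
    (Z : Subgroup Q) (hZ : ∀ g ∈ F.autGroup Q, ∀ z ∈ Z, g z = z) {a b : MulAut Q} (ha : a ∈ F.autGroup Q)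
    (hb : b ∈ F.autGroup Q) (hEa : ∀ x, Ee a x ∈ Z) (hEb : ∀ x, Ee b x ∈ Z) :
    IsPGroup p (Subgroup.closure ({a, b} : Set (MulAut Q))) := by
  classical
  haveI hfQ : Finite Q := finite_of_le hQS
  haveI := finite_mulAut (A := Q)
  have hcl : Subgroup.closure ({a, b} : Set (MulAut Q)) ≤ F.autGroup Q := by
    rw [Subgroup.closure_le]
    rintro t (rfl | rfl)
    · exact ha
    · exact hb
  by_contra hnot
  have hnp : ∃ h ∈ Subgroup.closure ({a, b} : Set (MulAut Q)), ∀ k : ℕ, ∃ x, (h ^ (p ^ k)) x ≠ x := by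
    by_contra hcon
    apply hnot
    rintro ⟨h, hh⟩
    by_contra hk
    apply hcon
    refine ⟨h, hh, fun k => ?_⟩
    by_contra hx
    push_neg at hx
    apply hk
    refine ⟨k, Subtype.ext ?_⟩
    apply MulEquiv.ext
    intro x
    simpa using hx x
  obtain ⟨R, h₁, h₂, hh₁, hh₂, hR₁, hR₂, hE₁, hE₂, w, hw, hwk⟩ :=
    Stab.core hodd (hS.to_le hQS) a b Z (fun h hh z hz => hZ h (hcl hh) z hz) hEa hEb hnp
  obtain ⟨R', hR'⟩ : ∃ R', R' = R.map Q.subtype := ⟨_, rfl⟩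
  have hR'Q : R' ≤ Q := by
    rw [hR']
    exact Subgroup.map_subtype_le R
  have hmem : ∀ {x : Q}, (x : Ω) ∈ R' ↔ x ∈ R := by
    intro x
    rw [hR']
    constructor
    · rintro ⟨y, hy, hye⟩
      have : y = x := Subtype.ext hye
      rwa [← this]
    · intro hx
      exact ⟨x, hx, rfl⟩
  have key : ∀ t, t ∈ F.autGroup Q → (∀ x ∈ R, t x ∈ R) → (∀ x ∈ R, Ee t x = 1) →
      ∃ c ∈ opAut F p R', ∀ x ∈ R, fn c (x : Ω) = (t x : Ω) := by
    intro t ht hs hq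
    have hinv : ∀ x ∈ R, t⁻¹ x ∈ R := inv_of_closure (s := {t}) (fun g hg b hb => by
      rw [Set.mem_singleton_iff.1 hg]
      exact hs b hb) _ (Subgroup.inv_mem _ (Subgroup.subset_closure rfl))
    have hf : IsMapOn F R' (fn t) := (isMapOn_fn hQS ht).mono hR'Q
    have hi : IsImage (fn t) R' R' := by
      intro y
      constructor
      · intro hy
        have hy' : (⟨y, hR'Q hy⟩ : Q) ∈ R := hmem.1 hy
        refine ⟨((t⁻¹ ⟨y, hR'Q hy⟩ : Q) : Ω), hmem.2 (hinv _ hy'), ?_⟩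
        rw [fn_coe]
        simp
      · rintro ⟨x, hx, rfl⟩
        have hx' : (⟨x, hR'Q hx⟩ : Q) ∈ R := hmem.1 hx
        have e : fn t x = ((t ⟨x, hR'Q hx⟩ : Q) : Ω) := fn_of_mem t (hR'Q hx)
        rw [e]
        exact hmem.2 (hs _ hx')
    obtain ⟨c, hc, hcv⟩ := exists_aut_of_map hf hi
    have hcv' : ∀ (y : R') (y₀ : Q), y₀ ∈ R → (y : Ω) = y₀ → ((c y : R') : Ω) = (t y₀ : Q) := by
      intro y y₀ hy₀ he
      rw [← fn_coe, hcv _ y.2, he, fn_coe]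
    have hq' : IsQuad c := by
      intro y
      have hy₀ : (⟨y, hR'Q y.2⟩ : Q) ∈ R := hmem.1 y.2
      obtain ⟨y₀, hy₀e⟩ : ∃ y₀ : Q, y₀ = ⟨y, hR'Q y.2⟩ := ⟨_, rfl⟩
      rw [← hy₀e] at hy₀
      have hyc : (y : Ω) = y₀ := by rw [hy₀e]
      apply Subtype.ext
      have h1 : ((c y⁻¹ : R') : Ω) = (t y₀⁻¹ : Q) :=
        hcv' _ _ (Subgroup.inv_mem _ hy₀) (by simp [hyc])
      have h2 : ((c (c y) : R') : Ω) = (t (t y₀) : Q) :=
        hcv' _ _ (hs _ hy₀) (hcv' _ _ hy₀ hyc)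
      have h3 := hq y₀ hy₀
      have h4 : ((Ee t y₀ : Q) : Ω) = 1 := by rw [h3]; rfl
      simp only [Ee, Subgroup.coe_mul] at h4
      simp only [Subgroup.coe_mul, Subgroup.coe_one, h1, h2, ← hyc] at h4 ⊢
      exact h4
    exact ⟨c, pStab_all hst (hR'Q.trans hQS) hc hq', fun x hx => by
      rw [hcv _ (hmem.2 hx), fn_coe]⟩
  have hstab : ∀ t ∈ Subgroup.closure ({h₁, h₂} : Set (MulAut Q)), ∀ x ∈ R, t x ∈ R :=
    inv_of_closure (fun g hg b hb => by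
      rcases hg with rfl | rfl
      · exact hR₁ b hb
      · exact hR₂ b hb)
  have hall : ∀ t ∈ Subgroup.closure ({h₁, h₂} : Set (MulAut Q)),
      ∃ c ∈ opAut F p R', ∀ x ∈ R, fn c (x : Ω) = (t x : Ω) := by
    intro t ht
    induction ht using Subgroup.closure_induction with
    | mem t ht =>
      rcases ht with rfl | rfl
      · exact key _ (hcl hh₁) hR₁ hE₁
      · exact key _ (hcl hh₂) hR₂ hE₂
    | one =>
      refine ⟨1, Subgroup.one_mem _, fun x hx => ?_⟩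
      rw [fn_one (hmem.2 hx)]
      rfl
    | mul s t hs ht ihs iht =>
      obtain ⟨c, hc, hcv⟩ := ihs
      obtain ⟨d, hd, hdv⟩ := iht
      refine ⟨c * d, Subgroup.mul_mem _ hc hd, fun x hx => ?_⟩
      rw [fn_mul _ _ (hmem.2 hx), hdv x hx, hcv _ (hstab t ht x hx)]
      rfl
    | inv t ht iht =>
      obtain ⟨c, hc, hcv⟩ := iht
      refine ⟨c⁻¹, Subgroup.inv_mem _ hc, fun x hx => ?_⟩
      have hy := hstab _ (Subgroup.inv_mem _ ht) x hx
      have h1 := hcv _ hy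
      have h2 : t (t⁻¹ x) = x := by simp
      rw [h2] at h1
      rw [← h1, fn_inv_fn c (hmem.2 hy)]
  obtain ⟨c, hc, hcv⟩ := hall w hw
  obtain ⟨k, hk⟩ := opAut_isPGroup (F := F) (p := p) (Q := R') ⟨c, hc⟩
  have hk' : c ^ p ^ k = 1 := congrArg Subtype.val hk
  have hpow : ∀ n : ℕ, ∀ x ∈ R, fn (c ^ n) (x : Ω) = ((w ^ n) x : Q) := by
    intro n
    induction n with
    | zero =>
      intro x hx
      rw [pow_zero, fn_one (hmem.2 hx)]
      rfl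
    | succ n ih =>
      intro x hx
      rw [pow_succ, fn_mul _ _ (hmem.2 hx), hcv x hx, ih _ (hstab w hw x hx)]
      rfl
  obtain ⟨x, hx, hxne⟩ := hwk k
  apply hxne
  apply Subtype.ext
  rw [← hpow _ x hx, hk', fn_one (hmem.2 hx)]

/-- An automorphism quadratic modulo a subgroup fixed by the automizer lies in `O_p`. -/
theorem mem_opAut_of_Ee (hodd : p ≠ 2) (hS : IsPGroup p S) (hst : PStab p F) {Q : Subgroup Ω} (hQS : Q ≤ S)
    (Z : Subgroup Q) (hZ : ∀ g ∈ F.autGroup Q, ∀ z ∈ Z, g z = z) {χ : MulAut Q} (hχ : χ ∈ F.autGroup Q)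
    (hE : ∀ x, Ee χ x ∈ Z) : χ ∈ opAut F p Q := by
  classical
  haveI : Finite (F.autGroup Q) := finite_autGroup (S := S) hQS
  let Δ : Set (F.autGroup Q) := {g | ∃ h : F.autGroup Q, g = h * ⟨χ, hχ⟩ * h⁻¹}
  have hΔ : Cfsg.Agent.Lib.Invol.ConjClosed Δ := by
    rintro _ ⟨h, rfl⟩ g
    exact ⟨g * h, by group⟩
  have hgood : ∀ g ∈ Δ, ∀ x, Ee (g : MulAut Q) x ∈ Z := by
    rintro _ ⟨h, rfl⟩ x
    have h1 := hE ((h : MulAut Q)⁻¹ x)
    have h2 := hZ _ h.2 _ h1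
    have h3 : Ee (((h * ⟨χ, hχ⟩ * h⁻¹ : F.autGroup Q)) : MulAut Q) x = (h : MulAut Q) (Ee χ ((h : MulAut Q)⁻¹ x)) := by
      simp [Ee]
    rw [h3, h2]
    exact h1
  have hpair : ∀ a ∈ Δ, ∀ b ∈ Δ, IsPGroup p (Subgroup.closure ({a, b} : Set (F.autGroup Q))) := by
    intro a ha b hb
    have h1 := pair_isPGroup hodd hS hst hQS Z hZ a.2 b.2 (hgood a ha) (hgood b hb)
    rintro ⟨g, hg⟩
    have h2 : (g : MulAut Q) ∈ Subgroup.closure ({(a : MulAut Q), (b : MulAut Q)} : Set (MulAut Q)) := by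
      have h3 : (Subgroup.closure ({a, b} : Set (F.autGroup Q))).map (F.autGroup Q).subtype ≤
          Subgroup.closure ({(a : MulAut Q), (b : MulAut Q)} : Set (MulAut Q)) := by
        rw [MonoidHom.map_closure, Set.image_pair]
        exact le_rfl
      exact h3 ⟨g, hg, rfl⟩
    obtain ⟨k, hk⟩ := h1 ⟨g, h2⟩
    refine ⟨k, Subtype.ext (Subtype.ext ?_)⟩
    simpa using congrArg Subtype.val hk
  have hcl := Cfsg.Agent.Lib.Invol.isPGroup_closure_of_pairs p _ rfl Δ hΔ hpair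
  have hnorm : (Subgroup.closure Δ).Normal := by
    refine ⟨fun n hn g => ?_⟩
    induction hn using Subgroup.closure_induction with
    | mem a ha => exact Subgroup.subset_closure (hΔ a ha g)
    | one => simp
    | mul a b _ _ h1 h2 =>
      have : g * (a * b) * g⁻¹ = (g * a * g⁻¹) * (g * b * g⁻¹) := by group
      rw [this]
      exact Subgroup.mul_mem _ h1 h2
    | inv a _ h1 =>
      have : g * a⁻¹ * g⁻¹ = (g * a * g⁻¹)⁻¹ := by group
      rw [this]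
      exact Subgroup.inv_mem _ h1
  have hle := Cfsg.Agent.Lib.Basic.le_pCore hnorm hcl
  refine ⟨⟨χ, hχ⟩, hle (Subgroup.subset_closure ⟨1, by simp⟩), rfl⟩

variable {Ω' : Type v} [Group Ω'] {S' : Subgroup Ω'} {θ : S →* Ω'} {E : FusionSystem S'} {U : Subgroup Ω}

/-- Automorphisms of the factor system lift. -/
theorem exists_lift_aut (hE : F.IsFactorSystem U θ E) {Qb : Subgroup Ω'} (hQb : Qb ≤ S') {α : MulAut Qb}
    (hα : α ∈ E.autGroup Qb) :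
    ∃ γ ∈ F.autGroup (preimageAlong θ Qb), ∀ x ∈ preimageAlong θ Qb, thf θ (fn γ x) = fn α (thf θ x) := by
  have h1 := isMapOn_fn hQb hα
  obtain ⟨-, f, hf, hfv⟩ := exists_lift_of_map hE h1
  obtain ⟨Q', hQ'⟩ := hf.exists_image le_rfl
  have hle : Q' ≤ preimageAlong θ Qb := fun y hy => by
    obtain ⟨x, hx, rfl⟩ := hQ'.exists_of_mem hy
    refine mem_preimage_iff.2 ⟨hf.mem_S hx, ?_⟩
    rw [hfv x hx]
    exact fn_mem α (mem_preimage_iff.1 hx).2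
  have he : Q' = preimageAlong θ Qb :=
    eq_of_le_of_card_le (S := S) hle (preimageAlong_le θ Qb) (IsImage.card_eq hf le_rfl hQ').le
  rw [he] at hQ'
  obtain ⟨γ, hγ, hγv⟩ := exists_aut_of_map hf hQ'
  exact ⟨γ, hγ, fun x hx => by rw [hγv x hx, hfv x hx]⟩

/-- `γ` lifts `α`. -/
def Lf (θ : S →* Ω') {Q : Subgroup Ω} {Qb : Subgroup Ω'} (γ : MulAut Q) (α : MulAut Qb) : Prop :=
  ∀ x ∈ Q, thf θ (fn γ x) = fn α (thf θ x)

theorem Lf.one {Q : Subgroup Ω} {Qb : Subgroup Ω'} (hm : ∀ x ∈ Q, thf θ x ∈ Qb) :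
    Lf θ (1 : MulAut Q) (1 : MulAut Qb) := fun x hx => by
  rw [fn_one hx, fn_one (hm x hx)]

theorem Lf.mul {Q : Subgroup Ω} {Qb : Subgroup Ω'} (hm : ∀ x ∈ Q, thf θ x ∈ Qb) {γ₁ γ₂ : MulAut Q} {α₁ α₂ : MulAut Qb}
    (h₁ : Lf θ γ₁ α₁) (h₂ : Lf θ γ₂ α₂) : Lf θ (γ₁ * γ₂) (α₁ * α₂) := fun x hx => by
  rw [fn_mul _ _ hx, fn_mul _ _ (hm x hx), h₁ _ (fn_mem γ₂ hx), h₂ x hx]

theorem Lf.inv {Q : Subgroup Ω} {Qb : Subgroup Ω'} (hm : ∀ x ∈ Q, thf θ x ∈ Qb) {γ : MulAut Q} {α : MulAut Qb}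
    (h : Lf θ γ α) : Lf θ γ⁻¹ α⁻¹ := fun x hx => by
  have h1 := h _ (fn_mem γ⁻¹ hx)
  rw [fn_fn_inv γ hx] at h1
  rw [h1, fn_inv_fn α (hm _ (fn_mem γ⁻¹ hx))]

theorem Lf.pow {Q : Subgroup Ω} {Qb : Subgroup Ω'} (hm : ∀ x ∈ Q, thf θ x ∈ Qb) {γ : MulAut Q} {α : MulAut Qb}
    (h : Lf θ γ α) (n : ℕ) : Lf θ (γ ^ n) (α ^ n) := by
  induction n with
  | zero => simpa using Lf.one hm
  | succ n ih =>
    rw [pow_succ, pow_succ]
    exact Lf.mul hm ih h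

/-- `p`-stability passes to the factor system modulo a subgroup fixed by all maps. -/
theorem pStab_of_factor (hodd : p ≠ 2) (hS : IsPGroup p S)
    (hfix : ∀ (P : Subgroup Ω) (φ : P →* Ω), φ ∈ F.Hom P → ∀ x : P, (x : Ω) ∈ U → φ x = x)
    (hE : F.IsFactorSystem U θ E) (hst : PStab p F) : PStab p E := by
  classical
  haveI := finite_S' hE
  intro Qb hQbn χb hχb hq
  have hQbS : Qb ≤ S' := hQbn.1
  obtain ⟨Q, hQ⟩ : ∃ Q, Q = preimageAlong θ Qb := ⟨_, rfl⟩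
  have hQS : Q ≤ S := hQ ▸ preimageAlong_le θ Qb
  have hQmem : ∀ {x : Ω}, x ∈ Q ↔ x ∈ S ∧ thf θ x ∈ Qb := fun {x} => by
    rw [hQ]
    exact mem_preimage_iff
  have hm : ∀ x ∈ Q, thf θ x ∈ Qb := fun x hx => (hQmem.1 hx).2
  have hlift : ∀ α ∈ E.autGroup Qb, ∃ γ ∈ F.autGroup Q, Lf θ γ α := by
    intro α hα
    have := exists_lift_aut hE hQbS hα
    rw [← hQ] at this
    exact this
  let W : Subgroup (MulAut Qb) :=
    { carrier := {α | α ∈ E.autGroup Qb ∧ ∃ γ ∈ opAut F p Q, Lf θ γ α}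
      mul_mem' := by
        rintro a b ⟨ha, γ₁, h₁, hl₁⟩ ⟨hb, γ₂, h₂, hl₂⟩
        exact ⟨Subgroup.mul_mem _ ha hb, γ₁ * γ₂, Subgroup.mul_mem _ h₁ h₂, Lf.mul hm hl₁ hl₂⟩
      one_mem' := ⟨Subgroup.one_mem _, 1, Subgroup.one_mem _, Lf.one hm⟩
      inv_mem' := by
        rintro a ⟨ha, γ, h, hl⟩
        exact ⟨Subgroup.inv_mem _ ha, γ⁻¹, Subgroup.inv_mem _ h, Lf.inv hm hl⟩ }
  have hWle : W ≤ E.autGroup Qb := fun α hα => hα.1
  have hWp : IsPGroup p W := by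
    rintro ⟨α, hα, γ, hγ, hl⟩
    obtain ⟨k, hk⟩ := opAut_isPGroup (F := F) (p := p) (Q := Q) ⟨γ, hγ⟩
    have hk' : γ ^ p ^ k = 1 := congrArg Subtype.val hk
    refine ⟨k, Subtype.ext ?_⟩
    apply fn_ext
    intro y hy
    obtain ⟨x, hxS, rfl⟩ := exists_thf hE (hQbS hy)
    have hx : x ∈ Q := hQmem.2 ⟨hxS, hy⟩
    have h1 := Lf.pow hm hl (p ^ k) x hx
    rw [hk', fn_one hx] at h1
    show fn (α ^ p ^ k) _ = fn 1 _
    rw [← h1, fn_one hy]
  have hWn : ∀ β ∈ E.autGroup Qb, ∀ α ∈ W, β * α * β⁻¹ ∈ W := by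
    rintro β hβ α ⟨hα, γ, hγ, hl⟩
    obtain ⟨γ', hγ', hl'⟩ := hlift β hβ
    refine ⟨Subgroup.mul_mem _ (Subgroup.mul_mem _ hβ hα) (Subgroup.inv_mem _ hβ), γ' * γ * γ'⁻¹,
      opAut_conj hγ' hγ, Lf.mul hm (Lf.mul hm hl' hl) (Lf.inv hm hl')⟩
  have hWO := le_opAut hWle hWp hWn
  apply hWO
  obtain ⟨χ₀, hχ₀, hv⟩ := hlift χb hχb
  refine ⟨hχb, χ₀, ?_, hv⟩
  haveI : Finite Q := finite_of_le hQS
  let q : Q →* Qb := MonoidHom.codRestrict (θ.comp (Subgroup.inclusion hQS)) Qb (fun x => by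
    have := hm x x.2
    rwa [thf_of_mem (hQS x.2)] at this)
  have hqv : ∀ x : Q, ((q x : Qb) : Ω') = thf θ (x : Ω) := fun x => (thf_of_mem (hQS x.2)).symm
  have hqχ : ∀ x : Q, q (χ₀ x) = χb (q x) := by
    intro x
    apply Subtype.ext
    rw [hqv, ← fn_coe, hv _ x.2, ← hqv, fn_coe]
  have hZ : ∀ g ∈ F.autGroup Q, ∀ z ∈ U.subgroupOf Q, g z = z := by
    intro g hg z hz
    apply Subtype.ext
    exact hfix Q _ (autGroup_hom hQS hg) z hz
  refine mem_opAut_of_Ee hodd hS hst hQS (U.subgroupOf Q) hZ hχ₀ (fun x => ?_)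
  have h1 : q (Ee χ₀ x) = 1 := by
    have h2 := hq (q x)
    simp only [Ee, map_mul, hqχ, map_inv]
    simpa using h2
  have h2 : thf θ ((Ee χ₀ x : Q) : Ω) = 1 := by
    rw [← hqv, h1]
    rfl
  exact (thf_eq_one_iff hE (hQS (Ee χ₀ x).2)).1 h2

/-- A subsystem inherits `p`-stability. -/
theorem pStab_of_le {T : Subgroup Ω} {E : FusionSystem T} (hT : T ≤ S) (hEF : ∀ P, E.Hom P ⊆ F.Hom P)
    (h : PStab p F) : PStab p E := by
  intro Q hQ χ hχ hq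
  have hQS : Q ≤ S := hQ.1.trans hT
  haveI := finite_autGroup (S := S) (E := F) hQS
  have hle : E.autGroup Q ≤ F.autGroup Q := by
    refine (Subgroup.closure_le _).2 ?_
    intro α hα
    exact Subgroup.subset_closure (hEF Q hα)
  exact mem_pCore_of_le hle hχ (pStab_all h hQS (hle hχ) hq)

theorem pStab_of_setup {fix : Prop} {U T : Subgroup Ω} {E : FusionSystem T} (A : AdmisSetup F p fix U E)
    (h : PStab p F) : PStab p E := by
  refine pStab_of_le A.T_le (fun P φ hφ => ?_) h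
  obtain ⟨φ', hφ', hv⟩ := isMapOn_of_setup A (isMapOn_toFun hφ)
  have : φ' = φ := by
    ext x
    rw [hv x, toFun_coe]
  rwa [← this]

end Cfsg.Agent.Lib.Fusion2.StabF
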