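import Cfsg.Agent.Lib.Fusion2.GWF
import Cfsg.Agent.Lib.Fusion2.StabFactor
import Cfsg.Agent.Lib.Fusion2.NormalAPI
import Cfsg.Agent.Lib.Fusion2.GTRel3
import Cfsg.Agent.Lib.Fusion.ZJ6

/-!
# Thompson's and Frobenius' criteria for fusion systems, `p` odd or `S₄`-free
-/

set_option autoImplicit false
set_option linter.unusedSectionVars false
set_option linter.style.haveILetI false

universe u

namespace Cfsg.Agent.Lib.Fusion2.GWF

open Cfsg Cfsg.FusionSystem Cfsg.Agent.Lib.Fusion Cfsg.Agent.Lib.Fusion.GT Cfsg.Agent.Lib.Fusion.Qd Cfsg.Agent.Lib.Fusion.ZJ Cfsg.Agent.Lib.Fusion2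

section thompson

theorem centralizer_le_thompsonA (Q : Type u) [Group Q] [Finite Q] {z : Q}
    (hz : z ∈ Subgroup.centralizer (thompsonSubgroupA Q : Set Q)) : z ∈ thompsonSubgroupA Q := by
  rw [thompsonA_type] at hz ⊢
  obtain ⟨A, hA⟩ := Cfsg.Agent.Lib.LocalEven2.zjFam_nonempty 0 (⊤ : Subgroup Q)
  have hAJ := Cfsg.Agent.Lib.LocalEven2.le_zjJ hA
  apply hAJ
  have hc : ∀ y ∈ A, y * z = z * y := fun y hy => (Subgroup.mem_centralizer_iff.1 hz y (hAJ hy))
  have hX : ∀ a ∈ (A : Set Q) ∪ {z}, ∀ b ∈ (A : Set Q) ∪ {z}, a * b = b * a := by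
    rintro a (ha | rfl) b (hb | rfl)
    · exact hA.2.1 a ha b hb
    · exact hc a ha
    · exact (hc b hb).symm
    · rfl
  have hB := Cfsg.Agent.Lib.LocalEven2.comm_of_closure' hX
  have h1 := hA.2.2.2 (Subgroup.closure ((A : Set Q) ∪ {z})) le_top hB (fun a _ => pow_zero a)
  have h2 : A ≤ Subgroup.closure ((A : Set Q) ∪ {z}) := fun a ha => Subgroup.subset_closure (Or.inl ha)
  have h3 : A = Subgroup.closure ((A : Set Q) ∪ {z}) := Subgroup.eq_of_le_of_card_ge h2 h1
  rw [h3]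
  exact Subgroup.subset_closure (Or.inr rfl)

theorem thompsonA_subgroupOf {Ω : Type u} [Group Ω] (S : Subgroup Ω) :
    (thompsonSubgroupAOf S).subgroupOf S = thompsonSubgroupA ↥S := by
  unfold thompsonSubgroupAOf Subgroup.subgroupOf
  exact Subgroup.comap_map_eq_self_of_injective S.subtype_injective _

theorem thompsonA_char {Ω : Type u} [Group Ω] (S : Subgroup Ω) :
    ((thompsonSubgroupAOf S).subgroupOf S).Characteristic := by
  rw [thompsonA_subgroupOf]
  refine ⟨fun φ => ?_⟩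
  have h1 := thompsonA_map ↥S ↥S φ
  ext x
  constructor
  · intro hx
    have h2 : φ x ∈ thompsonSubgroupA ↥S := hx
    rw [← h1] at h2
    obtain ⟨y, hy, hye⟩ := h2
    have : y = x := φ.injective hye
    rwa [← this]
  · intro hx
    show φ x ∈ thompsonSubgroupA ↥S
    rw [← h1]
    exact ⟨x, hx, rfl⟩

end thompson

variable {Ω : Type u} [Group Ω] {S : Subgroup Ω} {F : FusionSystem S} {p : ℕ} [hp : Fact p.Prime]

/-- An automorphism trivial on `V` and on the quotient has `p`-power order. -/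
theorem ppow_of_stab {T V : Subgroup Ω} {h : Ω → Ω} (hT : IsMapOn F T h) (hV : V ≤ T) (hVf : Finite V) (hVp : IsPGroup p V)
    (hfix : ∀ v ∈ V, h v = v) (hx : ∀ x ∈ T, x⁻¹ * h x ∈ V) : PPow p T h := by
  obtain ⟨m, hm⟩ : ∃ m, Nat.card V = p ^ m := IsPGroup.iff_card.1 hVp
  refine ⟨m, fun x hxT => ?_⟩
  have hj := hx x hxT
  obtain ⟨j, hjd⟩ : ∃ j, j = x⁻¹ * h x := ⟨_, rfl⟩
  rw [← hjd] at hj
  have hit : ∀ n : ℕ, h^[n] x = x * j ^ n := by
    intro n
    induction n with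
    | zero => simp
    | succ n ih =>
      have hxj : h x = x * j := by
        rw [hjd]
        group
      rw [Function.iterate_succ_apply', ih, hT.map_mul hxT (T.pow_mem (hV hj) n), hfix _ (V.pow_mem hj n), hxj, pow_succ']
      group
  rw [hit, ← hm]
  have h3 : j ^ Nat.card V = 1 := by
    have := pow_card_eq_one' (G := V) (x := ⟨j, hj⟩)
    exact congrArg Subtype.val this
  rw [h3, mul_one]

variable [Finite S]

/-- A central subgroup modulo which all automorphisms have `p`-power order. -/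
theorem allP_of_central_trivMod (hS : IsPGroup p S) {Z : Subgroup Ω} (hZ : F.IsCentral Z) (h : TrivMod p F Z) : AllP p F := by
  intro R f hf hi
  have hZc := isCentral_le hZ
  have hRS : R ≤ S := hf.le
  obtain ⟨φ, hφ, hv⟩ := hf
  obtain ⟨ψ, hψ, hag, hfix⟩ := hZ.2 R φ hφ
  have hg : IsMapOn F (R ⊔ Z) (toFun ψ) := isMapOn_toFun hψ
  have hgR : ∀ x ∈ R, toFun ψ x = f x := fun x hx => by
    rw [← hv ⟨x, hx⟩, ← hag ⟨x, hx⟩]
    exact toFun_of_mem ψ (Subgroup.mem_sup_left hx)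
  have hgZ : ∀ z ∈ Z, toFun ψ z = z := fun z hz => by
    rw [toFun_of_mem ψ (Subgroup.mem_sup_right hz)]
    exact hfix ⟨z, hz⟩
  have hiR : IsImage (toFun ψ) R R := hi.congr (fun x hx => (hgR x hx).symm)
  have hiZ : IsImage (toFun ψ) Z Z := IsImage.refl Z |>.congr (fun x hx => (hgZ x hx).symm)
  have hRZ : R ≤ Subgroup.normalizer (Z : Set Ω) := fun x hx =>
    Subgroup.centralizer_le_normalizer _ (by
      rw [Subgroup.mem_centralizer_iff]
      intro z hz
      exact (Subgroup.mem_centralizer_iff.1 (hZc hz).2 x (hRS hx)).symm)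
  have hiT := hg.image_sup hiR hiZ hRZ
  obtain ⟨k, hk⟩ := h (R ⊔ Z) (toFun ψ) le_sup_right hg hiT
  have hm : ∀ x ∈ R ⊔ Z, toFun ψ x ∈ R ⊔ Z := fun x hx => hiT.mem hx
  have hZS : Z ≤ S := hZ.1
  haveI hZf : Finite Z := finite_of_le hZS
  obtain ⟨m, hm'⟩ := ppow_of_stab (iter_isMapOn hg hm (p ^ k)) le_sup_right hZf (hS.to_le hZS)
    (fun v hv => by
      have : ∀ n : ℕ, (toFun ψ)^[n] v = v := by
        intro n
        induction n with
        | zero => rfl
        | succ n ih => rw [Function.iterate_succ_apply, hgZ v hv, ih]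
      exact this _) hk
  refine ⟨k + m, fun x hx => ?_⟩
  have hxT : x ∈ R ⊔ Z := Subgroup.mem_sup_left hx
  have h1 := iter_congr (fun y hy => hi.mem hy) (fun y hy => (hgR y hy).symm) (p ^ (k + m)) hx
  rw [h1, pow_add, iter_pow_of_power]
  exact hm' x hxT

/-- `N_F(J(S))` has only automorphisms of `p`-power order if `Aut_F(J(S))` is a `p`-group. -/
theorem allP_normalizer_thompson (hS : IsPGroup p S) (N : FusionSystem (normalizerIn S (thompsonSubgroupAOf S)))
    (hN : F.IsNormalizerSystem (thompsonSubgroupAOf S) N) (hJ : IsPGroup p (F.autGroup (thompsonSubgroupAOf S))) : AllP p N := by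
  classical
  intro R f hf hi
  have hJS : thompsonSubgroupAOf S ≤ S := by
    rintro _ ⟨x, -, rfl⟩
    exact x.2
  haveI hJf : Finite (thompsonSubgroupAOf S) := finite_of_le hJS
  obtain ⟨φ, hφ, hv⟩ := hf
  have hφ' := hφ
  rw [hN] at hφ'
  obtain ⟨-, hRT, -, ψ, hψ, hag, hmap⟩ := hφ'
  have hg : IsMapOn F (R ⊔ thompsonSubgroupAOf S) (toFun ψ) := isMapOn_toFun hψ
  have hgR : ∀ x ∈ R, toFun ψ x = f x := fun x hx => by
    rw [← hv ⟨x, hx⟩, ← hag ⟨x, hx⟩]
    exact toFun_of_mem ψ (Subgroup.mem_sup_left hx)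
  have hiR : IsImage (toFun ψ) R R := hi.congr (fun x hx => (hgR x hx).symm)
  have hiJ : IsImage (toFun ψ) (thompsonSubgroupAOf S) (thompsonSubgroupAOf S) := by
    intro y
    constructor
    · intro hy
      rw [← hmap] at hy
      obtain ⟨x, hx, rfl⟩ := hy
      exact ⟨x, hx, toFun_coe ψ x⟩
    · rintro ⟨x, hx, rfl⟩
      have h1 : ψ ⟨x, Subgroup.mem_sup_right hx⟩ ∈ ((thompsonSubgroupAOf S).subgroupOf (R ⊔ thompsonSubgroupAOf S)).map ψ :=
        ⟨⟨x, Subgroup.mem_sup_right hx⟩, hx, rfl⟩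
      rw [hmap] at h1
      rw [toFun_of_mem ψ (Subgroup.mem_sup_right hx)]
      exact h1
  have hRn : R ≤ Subgroup.normalizer ((thompsonSubgroupAOf S : Subgroup Ω) : Set Ω) := fun x hx => (hRT hx).2
  have hiT := hg.image_sup hiR hiJ hRn
  obtain ⟨c, hc, hcv⟩ := exists_aut_of_map (hg.mono le_sup_right) hiJ
  obtain ⟨k, hk⟩ := hJ ⟨c, hc⟩
  have hk' : c ^ p ^ k = 1 := congrArg Subtype.val hk
  have hm : ∀ x ∈ R ⊔ thompsonSubgroupAOf S, toFun ψ x ∈ R ⊔ thompsonSubgroupAOf S := fun x hx => hiT.mem hx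
  have hfixJ : ∀ y ∈ thompsonSubgroupAOf S, (toFun ψ)^[p ^ k] y = y := by
    intro y hy
    have h1 := iter_congr (f := toFun ψ) (g := fn c) (R := thompsonSubgroupAOf S) (fun z hz => hiJ.mem hz) (fun z hz => (hcv z hz).symm) (p ^ k) hy
    rw [h1, fn_iter c _ hy, hk', fn_one hy]
  have hTS : R ⊔ thompsonSubgroupAOf S ≤ S := hg.le
  have hiter := iter_isMapOn hg hm (p ^ k)
  obtain ⟨m, hm'⟩ := ppow_of_stab hiter le_sup_right hJf (hS.to_le hJS) hfixJ (fun x hx => by
    -- the quotient is trivial since `J` contains its centralizer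
    have hxS := hTS hx
    have hin : (toFun ψ)^[p ^ k] x ∈ S := hiter.mem_S hx
    have hcen : x⁻¹ * (toFun ψ)^[p ^ k] x ∈ Subgroup.centralizer ((thompsonSubgroupAOf S : Subgroup Ω) : Set Ω) := by
      rw [Subgroup.mem_centralizer_iff]
      intro y hy
      have hxy : x * y * x⁻¹ ∈ thompsonSubgroupAOf S := (Subgroup.mem_normalizer_iff.1 (thompsonA_normal hxS) y).1 hy
      have hyT : y ∈ R ⊔ thompsonSubgroupAOf S := Subgroup.mem_sup_right hy
      have h1 := hfixJ _ hxy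
      have h2 : (toFun ψ)^[p ^ k] (x * y * x⁻¹) = (toFun ψ)^[p ^ k] x * y * ((toFun ψ)^[p ^ k] x)⁻¹ := by
        rw [hiter.map_mul (Subgroup.mul_mem _ hx hyT) (Subgroup.inv_mem _ hx), hiter.map_mul hx hyT, hiter.map_inv hx, hfixJ y hy]
      rw [h2] at h1
      have h3 : ((toFun ψ)^[p ^ k] x) * y = x * y * x⁻¹ * ((toFun ψ)^[p ^ k] x) := by
        calc ((toFun ψ)^[p ^ k] x) * y = ((toFun ψ)^[p ^ k] x) * y * ((toFun ψ)^[p ^ k] x)⁻¹ * ((toFun ψ)^[p ^ k] x) := by group
          _ = _ := by rw [h1]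
      calc y * (x⁻¹ * (toFun ψ)^[p ^ k] x) = x⁻¹ * (x * y * x⁻¹ * (toFun ψ)^[p ^ k] x) := by group
        _ = x⁻¹ * ((toFun ψ)^[p ^ k] x * y) := by rw [h3]
        _ = _ := by group
    have hel : x⁻¹ * (toFun ψ)^[p ^ k] x ∈ S := S.mul_mem (S.inv_mem hxS) hin
    have h5 : (⟨_, hel⟩ : S) ∈ Subgroup.centralizer (thompsonSubgroupA ↥S : Set ↥S) := by
      rw [Subgroup.mem_centralizer_iff]
      intro y hy
      apply Subtype.ext
      exact Subgroup.mem_centralizer_iff.1 hcen _ ⟨y, hy, rfl⟩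
    exact ⟨_, centralizer_le_thompsonA ↥S h5, rfl⟩)
  refine ⟨k + m, fun x hx => ?_⟩
  have hxT : x ∈ R ⊔ thompsonSubgroupAOf S := Subgroup.mem_sup_left hx
  have h1 := iter_congr (fun y hy => hi.mem hy) (fun y hy => (hgR y hy).symm) (p ^ (k + m)) hx
  rw [h1, pow_add, iter_pow_of_power]
  exact hm' x hxT

/-- If `N_F(J(S))` is inner, `Z(S)` is central in `F`, for `p` odd or `F` `S₄`-free. -/
theorem central_of_normalizer_inner (hS : IsPGroup p S) (hF : F.IsSaturated p)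
    (hc : p ≠ 2 ∨ F.IsSectionFree p (Equiv.Perm (Fin 4)))
    (N : FusionSystem (normalizerIn S (thompsonSubgroupAOf S))) (hN : F.IsNormalizerSystem (thompsonSubgroupAOf S) N)
    (hin : ∀ P, N.Hom P = (innerFusionSystem (normalizerIn S (thompsonSubgroupAOf S))).Hom P) :
    F.IsCentral (S ⊓ Subgroup.centralizer (S : Set Ω)) := by
  have hSn : normalizerIn S (thompsonSubgroupAOf S) = S :=
    le_antisymm (normalizerIn_le _) (fun x hx => ⟨hx, thompsonA_normal hx⟩)
  have hJS : thompsonSubgroupAOf S ≤ S := by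
    rintro _ ⟨x, -, rfl⟩
    exact x.2
  have hJfn : F.IsFullyNormalized (thompsonSubgroupAOf S) := ZJ.fullyNormalized_of_normal hJS thompsonA_normal
  have hNsat : N.IsSaturated p := isSaturated_normalizerSystem hS hF hJfn hN
  haveI hTf : Finite (normalizerIn S (thompsonSubgroupAOf S)) := finite_of_le (normalizerIn_le _)
  have hTp : IsPGroup p (normalizerIn S (thompsonSubgroupAOf S)) := hS.to_le (normalizerIn_le _)
  have hZN : N.IsCentral (S ⊓ Subgroup.centralizer (S : Set Ω)) := by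
    refine isCentral_of_singleton hTp hNsat (by rw [hSn]; exact inf_le_left) (fun z hz y hy => ?_)
    obtain ⟨φ, hφ, rfl⟩ := hy
    rw [hin] at hφ
    obtain ⟨-, g, hg, hv⟩ := hφ
    rw [hv]
    have h1 := Subgroup.mem_centralizer_iff.1 hz.2 g hg.1
    show g * z * g⁻¹ = z
    rw [h1]
    group
  exact isCentral_thompson hS hF N hN _ (le_sSup hZN) (fun z _ => hc.elim Or.inl (fun h => Or.inr (Or.inr h)))

/-- Thompson's criterion. -/
theorem inner_of_thompson (hS : IsPGroup p S) (hF : F.IsSaturated p)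
    (hc : p ≠ 2 ∨ F.IsSectionFree p (Equiv.Perm (Fin 4)))
    (hC : ∀ C : FusionSystem (centralizerIn S (S ⊓ Subgroup.centralizer (S : Set Ω))), F.IsCentralizerSystem (S ⊓ Subgroup.centralizer (S : Set Ω)) C →
      ∀ P : Subgroup Ω, C.Hom P = (innerFusionSystem (centralizerIn S (S ⊓ Subgroup.centralizer (S : Set Ω)))).Hom P)
    (hN : ∀ N : FusionSystem (normalizerIn S (thompsonSubgroupAOf S)), F.IsNormalizerSystem (thompsonSubgroupAOf S) N →
      ∀ P : Subgroup Ω, N.Hom P = (innerFusionSystem (normalizerIn S (thompsonSubgroupAOf S))).Hom P) :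
    ∀ P : Subgroup Ω, F.Hom P = (innerFusionSystem S).Hom P := by
  have hJS : thompsonSubgroupAOf S ≤ S := by
    rintro _ ⟨x, -, rfl⟩
    exact x.2
  obtain ⟨N, hN'⟩ := kSystem_normalizer F hJS
  have hcen := central_of_normalizer_inner hS hF hc N hN' (hN N hN')
  obtain ⟨C, hC'⟩ := kSystem_centralizer F (inf_le_left : S ⊓ Subgroup.centralizer (S : Set Ω) ≤ S)
  have hSC : S ≤ centralizerIn S (S ⊓ Subgroup.centralizer (S : Set Ω)) := fun x hx => ⟨hx, by
    show x ∈ Subgroup.centralizer (((S ⊓ Subgroup.centralizer (S : Set Ω) : Subgroup Ω)) : Set Ω)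
    rw [Subgroup.mem_centralizer_iff]
    intro z hz
    exact (Subgroup.mem_centralizer_iff.1 hz.2 x hx).symm⟩
  intro P
  apply Set.Subset.antisymm
  · intro φ hφ
    obtain ⟨ψ, hψ, hag, hfix⟩ := hcen.2 P φ hφ
    have h1 : φ ∈ C.Hom P := by
      rw [hC' P]
      exact ⟨hφ, (le_of_hom hφ).trans hSC, fun x => hSC (val_mem hφ x), ψ, hψ, hag, hfix⟩
    rw [hC C hC' P] at h1
    obtain ⟨-, g, hg, hv⟩ := h1
    exact ⟨le_of_hom hφ, g, hg.1, hv⟩
  · exact inner_le F P

/-- `Z(S)` and the quotient. -/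
theorem preimage_char {S : Subgroup Ω} [hn : ((S ⊓ Subgroup.centralizer (S : Set Ω)).subgroupOf S).Normal]
    {Qb : Subgroup (↥S ⧸ (S ⊓ Subgroup.centralizer (S : Set Ω)).subgroupOf S)} (hchar : (Qb.subgroupOf ⊤).Characteristic) :
    ((preimageAlong (QuotientGroup.mk' ((S ⊓ Subgroup.centralizer (S : Set Ω)).subgroupOf S)) Qb).subgroupOf S).Characteristic := by
  refine ⟨fun φ => ?_⟩
  have hZ : ((S ⊓ Subgroup.centralizer (S : Set Ω)).subgroupOf S).map φ.toMonoidHom = (S ⊓ Subgroup.centralizer (S : Set Ω)).subgroupOf S := by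
    have hzc : ∀ x : S, x ∈ (S ⊓ Subgroup.centralizer (S : Set Ω)).subgroupOf S ↔ ∀ y : S, y * x = x * y := by
      intro x
      constructor
      · intro hx y
        apply Subtype.ext
        exact Subgroup.mem_centralizer_iff.1 hx.2 y y.2
      · intro hx
        refine ⟨x.2, ?_⟩
        show (x : Ω) ∈ Subgroup.centralizer (S : Set Ω)
        rw [Subgroup.mem_centralizer_iff]
        intro y hy
        exact congrArg Subtype.val (hx ⟨y, hy⟩)
    ext y
    constructor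
    · rintro ⟨x, hx, rfl⟩
      have hx' := (hzc x).1 hx
      refine (hzc _).2 (fun w => ?_)
      obtain ⟨w', rfl⟩ := φ.surjective w
      have := hx' w'
      show φ w' * φ x = φ x * φ w'
      rw [← map_mul, ← map_mul, this]
    · intro hy
      refine ⟨φ.symm y, ?_, by simp⟩
      have hy' := (hzc y).1 hy
      refine (hzc _).2 (fun w => ?_)
      have := hy' (φ w)
      apply φ.injective
      rw [map_mul, map_mul, MulEquiv.apply_symm_apply]
      exact this
  let φb := QuotientGroup.congr _ _ φ hZ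
  have hφb : ∀ s : S, φb (QuotientGroup.mk' _ s) = QuotientGroup.mk' _ (φ s) := fun s => rfl
  let e : ↥(⊤ : Subgroup (↥S ⧸ (S ⊓ Subgroup.centralizer (S : Set Ω)).subgroupOf S)) ≃* ↥(⊤ : Subgroup (↥S ⧸ (S ⊓ Subgroup.centralizer (S : Set Ω)).subgroupOf S)) :=
    Subgroup.topEquiv.trans (φb.trans Subgroup.topEquiv.symm)
  have h1 := hchar.fixed e
  have hmem : ∀ s : S, QuotientGroup.mk' _ s ∈ Qb ↔ QuotientGroup.mk' _ (φ s) ∈ Qb := by
    intro s
    have h2 : (⟨QuotientGroup.mk' _ s, trivial⟩ : ↥(⊤ : Subgroup (↥S ⧸ (S ⊓ Subgroup.centralizer (S : Set Ω)).subgroupOf S))) ∈ Qb.subgroupOf ⊤ ↔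
      (⟨QuotientGroup.mk' _ s, trivial⟩ : ↥(⊤ : Subgroup (↥S ⧸ (S ⊓ Subgroup.centralizer (S : Set Ω)).subgroupOf S))) ∈ (Qb.subgroupOf ⊤).comap e.toMonoidHom := by
      rw [h1]
    exact h2
  ext s
  constructor
  · intro hs
    have h2 : ((φ s : S) : Ω) ∈ preimageAlong (QuotientGroup.mk' ((S ⊓ Subgroup.centralizer (S : Set Ω)).subgroupOf S)) Qb := hs
    obtain ⟨h3, h4⟩ := mem_preimageAlong.1 h2
    exact mem_preimageAlong.2 ⟨s.2, (hmem s).2 h4⟩
  · intro hs
    have h2 : (s : Ω) ∈ preimageAlong (QuotientGroup.mk' ((S ⊓ Subgroup.centralizer (S : Set Ω)).subgroupOf S)) Qb := hs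
    obtain ⟨h3, h4⟩ := mem_preimageAlong.1 h2
    exact mem_preimageAlong.2 ⟨(φ s).2, (hmem s).1 h4⟩

/-- If `Aut_F(Q)` is a `p`-group for all nontrivial characteristic `Q`, all automorphisms have `p`-power order. -/
theorem allP_of_char {p : ℕ} [Fact p.Prime] : ∀ (n : ℕ) (Ω : Type u) [Group Ω] (S : Subgroup Ω) [Finite S], Nat.card S = n → IsPGroup p S →
    ∀ F : FusionSystem S, F.IsSaturated p → (p ≠ 2 ∨ F.IsSectionFree p (Equiv.Perm (Fin 4))) →
    (∀ Q : Subgroup Ω, Q ≤ S → Q ≠ ⊥ → (Q.subgroupOf S).Characteristic → IsPGroup p (F.autGroup Q)) → AllP p F := by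
  classical
  intro n
  induction n using Nat.strong_induction_on with
  | _ n IH =>
  intro Ω _ S _ hn hS F hF hc h
  by_cases hbot : S = ⊥
  · intro R f hf hi
    refine ⟨0, fun x hx => ?_⟩
    have hxS := hf.le hx
    rw [hbot, Subgroup.mem_bot] at hxS
    subst hxS
    simpa using hf.map_one
  have hJS : thompsonSubgroupAOf S ≤ S := by
    rintro _ ⟨x, -, rfl⟩
    exact x.2
  haveI hnt : Nontrivial S := (Subgroup.nontrivial_iff_ne_bot S).2 hbot
  haveI hcn : Nontrivial (Subgroup.center S) := hS.center_nontrivial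
  obtain ⟨z, hz⟩ := exists_ne (1 : Subgroup.center S)
  have hzZ : ((z : S) : Ω) ∈ S ⊓ Subgroup.centralizer (S : Set Ω) := by
    refine ⟨(z : S).2, ?_⟩
    show ((z : S) : Ω) ∈ Subgroup.centralizer (S : Set Ω)
    rw [Subgroup.mem_centralizer_iff]
    intro y hy
    exact congrArg Subtype.val (Subgroup.mem_center_iff.1 z.2 ⟨y, hy⟩)
  have hz1 : ((z : S) : Ω) ≠ 1 := fun h1 => hz (Subtype.ext (Subtype.ext h1))
  have hZne : S ⊓ Subgroup.centralizer (S : Set Ω) ≠ ⊥ := fun h0 => by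
    rw [h0, Subgroup.mem_bot] at hzZ
    exact hz1 hzZ
  have hJne : thompsonSubgroupAOf S ≠ ⊥ := by
    intro h0
    have h1 : (z : S) ∈ thompsonSubgroupA ↥S := center_le_thompsonA ↥S z.2
    have h2 : ((z : S) : Ω) ∈ thompsonSubgroupAOf S := ⟨_, h1, rfl⟩
    rw [h0, Subgroup.mem_bot] at h2
    exact hz1 h2
  have hJA := h _ hJS hJne (thompsonA_char S)
  obtain ⟨N, hN⟩ := kSystem_normalizer F hJS
  have hJfn : F.IsFullyNormalized (thompsonSubgroupAOf S) := ZJ.fullyNormalized_of_normal hJS thompsonA_normal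
  have hNsat : N.IsSaturated p := isSaturated_normalizerSystem hS hF hJfn hN
  haveI hTf : Finite (normalizerIn S (thompsonSubgroupAOf S)) := finite_of_le (normalizerIn_le _)
  have hTp : IsPGroup p (normalizerIn S (thompsonSubgroupAOf S)) := hS.to_le (normalizerIn_le _)
  have hNin := hom_eq_inner_of_allP hTp hNsat (allP_normalizer_thompson hS N hN hJA)
  have hcen := central_of_normalizer_inner hS hF hc N hN hNin
  have hZS : S ⊓ Subgroup.centralizer (S : Set Ω) ≤ S := inf_le_left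
  have hZsc : F.StronglyClosed (S ⊓ Subgroup.centralizer (S : Set Ω)) :=
    ⟨hZS, fun R hR φ hφ x => by
      rw [isCentral_fixed hcen hφ x (hR x.2)]
      exact hR x.2⟩
  haveI hZn : ((S ⊓ Subgroup.centralizer (S : Set Ω)).subgroupOf S).Normal := ⟨by
    intro w hw c
    have hw' : (w : Ω) ∈ S ⊓ Subgroup.centralizer (S : Set Ω) := hw
    have e : ((c * w * c⁻¹ : S) : Ω) = w := by
      show (c : Ω) * w * (c : Ω)⁻¹ = w
      rw [Subgroup.mem_centralizer_iff.1 hw'.2 c c.2]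
      group
    show ((c * w * c⁻¹ : S) : Ω) ∈ S ⊓ Subgroup.centralizer (S : Set Ω)
    rw [e]
    exact hw'⟩
  have hker : ∀ s : S, QuotientGroup.mk' ((S ⊓ Subgroup.centralizer (S : Set Ω)).subgroupOf S) s = 1 ↔ (s : Ω) ∈ S ⊓ Subgroup.centralizer (S : Set Ω) :=
    fun s => QuotientGroup.eq_one_iff s
  have hr : (QuotientGroup.mk' ((S ⊓ Subgroup.centralizer (S : Set Ω)).subgroupOf S)).range = ⊤ :=
    MonoidHom.range_eq_top.2 (QuotientGroup.mk'_surjective _)
  obtain ⟨Eb, hEb⟩ := exists_factorSystem hZsc hker hr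
  have hMor := isSurjectiveMorphism_of_factor hS hF hZsc hEb
  have hEbsat : Eb.IsSaturated p := isSaturated_of_surjective hS hF hMor
  have hEbc : p ≠ 2 ∨ Eb.IsSectionFree p (Equiv.Perm (Fin 4)) :=
    hc.imp id (fun hf => isSectionFree_of_factor hS hF hZsc hf hEb)
  have hQp : IsPGroup p (↥S ⧸ (S ⊓ Subgroup.centralizer (S : Set Ω)).subgroupOf S) := hS.to_quotient _
  have hcardlt : Nat.card (⊤ : Subgroup (↥S ⧸ (S ⊓ Subgroup.centralizer (S : Set Ω)).subgroupOf S)) < n := by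
    rw [Subgroup.card_top, ← hn]
    have h1 := Subgroup.card_eq_card_quotient_mul_card_subgroup ((S ⊓ Subgroup.centralizer (S : Set Ω)).subgroupOf S)
    have h3 : 0 < Nat.card (↥S ⧸ (S ⊓ Subgroup.centralizer (S : Set Ω)).subgroupOf S) := Nat.card_pos
    have hm : (⟨(z : S), hzZ⟩ : (S ⊓ Subgroup.centralizer (S : Set Ω)).subgroupOf S) ≠ 1 := fun h0 =>
      hz1 (congrArg (fun t : (S ⊓ Subgroup.centralizer (S : Set Ω)).subgroupOf S => ((t : S) : Ω)) h0)
    haveI : Nontrivial ((S ⊓ Subgroup.centralizer (S : Set Ω)).subgroupOf S) := ⟨⟨_, _, hm⟩⟩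
    have h4 : 1 < Nat.card ((S ⊓ Subgroup.centralizer (S : Set Ω)).subgroupOf S) := Finite.one_lt_card
    nlinarith
  have hEbh : ∀ Qb : Subgroup (↥S ⧸ (S ⊓ Subgroup.centralizer (S : Set Ω)).subgroupOf S), Qb ≤ ⊤ → Qb ≠ ⊥ → (Qb.subgroupOf ⊤).Characteristic → IsPGroup p (Eb.autGroup Qb) := by
    intro Qb _ hne hchar
    have hQS := preimageAlong_le (QuotientGroup.mk' ((S ⊓ Subgroup.centralizer (S : Set Ω)).subgroupOf S)) Qb
    have hQne : preimageAlong (QuotientGroup.mk' ((S ⊓ Subgroup.centralizer (S : Set Ω)).subgroupOf S)) Qb ≠ ⊥ := by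
      intro h0
      have := U_le_preimage hEb Qb hzZ
      rw [h0, Subgroup.mem_bot] at this
      exact hz1 this
    have hA := h _ hQS hQne (preimage_char hchar)
    rintro ⟨α, hα⟩
    obtain ⟨γ, hγ, hl⟩ := StabF.exists_lift_aut hEb le_top hα
    obtain ⟨k, hk⟩ := hA ⟨γ, hγ⟩
    have hk' : γ ^ p ^ k = 1 := congrArg Subtype.val hk
    have hm : ∀ x ∈ preimageAlong (QuotientGroup.mk' ((S ⊓ Subgroup.centralizer (S : Set Ω)).subgroupOf S)) Qb, thf (QuotientGroup.mk' ((S ⊓ Subgroup.centralizer (S : Set Ω)).subgroupOf S)) x ∈ Qb := fun x hx => (mem_preimage_iff.1 hx).2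
    refine ⟨k, Subtype.ext ?_⟩
    apply fn_ext
    intro y hy
    obtain ⟨x, hxS, rfl⟩ := exists_thf hEb (show y ∈ ⊤ from trivial)
    have hx := mem_preimage_iff.2 ⟨hxS, hy⟩
    have h1 := StabF.Lf.pow hm hl (p ^ k) x hx
    rw [hk', fn_one hx] at h1
    show fn (α ^ p ^ k) _ = fn 1 _
    rw [← h1, fn_one hy]
  have hall := IH _ hcardlt _ ⊤ rfl (hQp.to_subgroup ⊤) Eb hEbsat hEbc hEbh
  exact allP_of_central_trivMod hS hcen (trivMod_of_allP hMor.1 hker hall)

/-- Glauberman's theorem for fusion systems. -/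
theorem glauberman_center (hS : IsPGroup p S) (hF : F.IsSaturated p)
    (N : FusionSystem (normalizerIn S (thompsonSubgroupAOf S))) (hN : F.IsNormalizerSystem (thompsonSubgroupAOf S) N) :
    Subgroup.closure ((fun z : Ω => z ^ p) '' ((S ⊓ Subgroup.centralizer (S : Set Ω) : Subgroup Ω) : Set Ω)) ⊓ N.center ≤ F.center ∧
      (p ≠ 2 ∨ F.IsSectionFree p (Equiv.Perm (Fin 4)) → N.center = F.center) := by
  have hJS : thompsonSubgroupAOf S ≤ S := by
    rintro _ ⟨x, -, rfl⟩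
    exact x.2
  have hpow : ∀ z ∈ Subgroup.closure ((fun z : Ω => z ^ p) '' ((S ⊓ Subgroup.centralizer (S : Set Ω) : Subgroup Ω) : Set Ω)),
      ∃ w ∈ S ⊓ Subgroup.centralizer (S : Set Ω), w ^ p = z := by
    intro z hz
    induction hz using Subgroup.closure_induction with
    | mem y hy =>
      obtain ⟨w, hw, rfl⟩ := hy
      exact ⟨w, hw, rfl⟩
    | one => exact ⟨1, Subgroup.one_mem _, one_pow p⟩
    | mul a b _ _ iha ihb =>
      obtain ⟨u, hu, rfl⟩ := iha
      obtain ⟨v, hv, rfl⟩ := ihb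
      refine ⟨u * v, Subgroup.mul_mem _ hu hv, ?_⟩
      have hc : Commute u v := (Subgroup.mem_centralizer_iff.1 hv.2 u hu.1)
      exact hc.mul_pow p
    | inv a _ iha =>
      obtain ⟨u, hu, rfl⟩ := iha
      exact ⟨u⁻¹, Subgroup.inv_mem _ hu, inv_pow u p⟩
  constructor
  · refine le_sSup (isCentral_thompson hS hF N hN _ inf_le_right (fun z hz => Or.inr (Or.inl (hpow z hz.1))))
  · intro hc
    apply le_antisymm
    · exact le_sSup (isCentral_thompson hS hF N hN _ le_rfl (fun z _ => hc.elim Or.inl (fun h => Or.inr (Or.inr h))))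
    · exact center_le_normalizer hS hF hJS thompsonA_normal N hN

end Cfsg.Agent.Lib.Fusion2.GWF
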