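import Cfsg.Agent.Lib.Fusion2.StabZJ
import Cfsg.Agent.Lib.Fusion2.NormalAPI
import Cfsg.Agent.Lib.Fusion.GroupFusion

/-!
# The ZJ theorem and constraint for `p`-stable saturated fusion systems, `p` odd
-/

set_option autoImplicit false
set_option linter.unusedSectionVars false
set_option linter.style.haveILetI false

universe u

namespace Cfsg.Agent.Lib.Fusion2.StabZJ

open Cfsg Cfsg.FusionSystem Cfsg.Agent.Lib.Fusion Cfsg.Agent.Lib.Fusion.ZJ Cfsg.Agent.Lib.Fusion2 Cfsg.Agent.Lib.LocalEven2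
open Subgroup

/-- `Z(J(Q))`, for the Thompson subgroup of abelian subgroups of largest order. -/
def WW (Q : Type u) [Group Q] : Subgroup Q := zjZ 0 (⊤ : Subgroup Q)

theorem center_le_WW {Q : Type u} [Group Q] [Finite Q] : center Q ≤ WW Q := by
  intro z hz
  unfold WW
  rw [mem_zjZ]
  have hc : ∀ y, y * z = z * y := fun y => ((mem_center_iff.1 hz) y)
  refine ⟨?_, ?_, pow_zero z⟩
  · obtain ⟨A, hA⟩ := zjFam_nonempty 0 (⊤ : Subgroup Q)
    apply le_zjJ hA
    have hX : ∀ a ∈ (A : Set Q) ∪ {z}, ∀ b ∈ (A : Set Q) ∪ {z}, a * b = b * a := by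
      rintro a (ha | rfl) b (hb | rfl)
      · exact hA.2.1 a ha b hb
      · exact (hc a)
      · exact (hc b).symm
      · rfl
    have hB := comm_of_closure' hX
    have h1 := hA.2.2.2 (closure ((A : Set Q) ∪ {z})) le_top hB (fun a _ => pow_zero a)
    have h2 : A ≤ closure ((A : Set Q) ∪ {z}) := fun a ha => subset_closure (Or.inl ha)
    have h3 : A = closure ((A : Set Q) ∪ {z}) := Subgroup.eq_of_le_of_card_ge h2 h1
    rw [h3]
    exact subset_closure (Or.inr rfl)
  · rw [mem_centralizer_iff]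
    intro y _
    exact hc y

variable {p : ℕ} [hp : Fact p.Prime]

theorem involves_unit (L : Type*) [Group L] : Involves Unit L := by
  refine ⟨⊥, ⊥, ?_, ⟨?_⟩⟩
  · infer_instance
  · haveI : Subsingleton (↥(⊥ : Subgroup L) ⧸ (⊥ : Subgroup L).subgroupOf ⊥) := by
      constructor
      intro a b
      obtain ⟨a, rfl⟩ := QuotientGroup.mk_surjective a
      obtain ⟨b, rfl⟩ := QuotientGroup.mk_surjective b
      have ha : a = 1 := Subsingleton.elim _ _
      have hb : b = 1 := Subsingleton.elim _ _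
      rw [ha, hb]
    exact
      { toFun := fun _ => ()
        invFun := fun _ => 1
        left_inv := fun _ => Subsingleton.elim _ _
        right_inv := fun _ => rfl
        map_mul' := fun _ _ => rfl }

theorem WW_functorial : Functorial.{u} p Unit WW where
  ne_bot := by
    intro Q _ _ hQ hnt hb
    haveI := hQ.center_nontrivial
    obtain ⟨z, hz⟩ := exists_ne (1 : center Q)
    have h1 := center_le_WW z.2
    rw [hb, Subgroup.mem_bot] at h1
    exact hz (Subtype.ext h1)
  map := by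
    intro Q R _ _ _ _ φ
    unfold WW
    rw [zjZ_map (f := φ.toMonoidHom) φ.injective, Subgroup.map_top_of_surjective _ φ.surjective]
  normal := fun L _ _ _ _ hinv => absurd (involves_unit L) hinv

theorem WW_map {G : Type u} [Group G] (T : Subgroup G) : (WW ↥T).map T.subtype = zjZ 0 T := by
  unfold WW
  rw [zjZ_map T.subtype_injective]
  congr 1
  ext x
  simp

theorem WW_NF (hodd : p ≠ 2) : NF p WW.{u} := by
  intro L _ _ P hq hc
  rw [WW_map]
  exact zj_aux hodd 0 _ L P (P : Subgroup L) ⟨le_rfl, fun x hx g hg => hg⟩ hq hc rfl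

variable {Ω : Type u} [Group Ω] {S : Subgroup Ω} [Finite S] {F : FusionSystem S}

theorem isNormal_WW (hodd : p ≠ 2) (hS : IsPGroup p S) (hF : F.IsSaturated p) (hst : PStab p F) :
    F.IsNormal (wOn WW S) :=
  isNormal_wOn' hodd WW_functorial (WW_NF hodd) _ Ω S rfl hS F hF hst

theorem core_ne_bot (hodd : p ≠ 2) (hS : IsPGroup p S) (hF : F.IsSaturated p) (hst : PStab p F) (hne : S ≠ ⊥) :
    F.core ≠ ⊥ := by
  intro h0
  have hN := isNormal_WW hodd hS hF hst
  have hle : wOn WW S ≤ F.core := le_sSup hN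
  rw [h0] at hle
  haveI : Nontrivial S := (Subgroup.nontrivial_iff_ne_bot S).2 hne
  apply (WW_functorial (p := p)).ne_bot _ hS ‹_›
  rw [eq_bot_iff]
  intro y hy
  have h1 : (y : Ω) ∈ wOn WW S := ⟨y, hy, rfl⟩
  have h2 := hle h1
  rw [Subgroup.mem_bot] at h2 ⊢
  exact Subtype.ext h2

theorem isConstrained_of_pStab (hodd : p ≠ 2) (hS : IsPGroup p S) (hF : F.IsSaturated p) (hst : PStab p F) :
    F.IsConstrained p := by
  classical
  refine ⟨hF, F.core, core_isNormal F, ?_⟩
  have hN := core_isNormal F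
  obtain ⟨U, hU⟩ : ∃ U, U = F.core := ⟨_, rfl⟩
  rw [← hU] at hN ⊢
  have hUS : U ≤ S := hN.1
  have hn : S ≤ Subgroup.normalizer (U : Set Ω) := fun s hs => normalizer_of_stronglyClosed (stronglyClosed_of_isNormal hN) hs
  have hUn : F.IsFullyNormalized U := fullyNormalized_of_normal hUS hn
  refine isCentric_of_centralizer_le hS hF hUn ?_
  by_cases hne : S = ⊥
  · intro x hx
    have h1 : x ∈ S := hx.1
    rw [hne, Subgroup.mem_bot] at h1
    rw [h1]
    exact U.one_mem
  by_contra hCU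
  have hUne : U ≠ ⊥ := hU ▸ core_ne_bot hodd hS hF hst hne
  obtain ⟨E, hE⟩ := kSystem_normalizer F hUS
  have hMT : SmallerOK' p WW.{u} (Nat.card S) := fun Ω' _ S' _ _ hp F' hs hf => isNormal_WW hodd hp hs hf
  obtain ⟨U₂, hlt, hN₂⟩ := exists_larger_normal' hodd WW_functorial (WW_NF hodd) hS hF hst hMT hUn hUne hCU hE
  have hNS := normalizerIn_eq_self hn
  have hN₂F : F.IsNormal U₂ := by
    refine ⟨hN₂.1.trans (normalizerIn_le U), fun P φ hφ => ?_⟩
    have hφE : φ ∈ E.Hom P := by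
      rw [hE]
      obtain ⟨ψ, hψ, hag, hmap⟩ := hN.2 P φ hφ
      refine ⟨hφ, ?_, fun x => ?_, ψ, hψ, hag, hmap⟩
      · rw [hNS]
        exact le_of_hom hφ
      · rw [hNS]
        exact val_mem hφ x
    obtain ⟨ψ, hψ, hag, hmap⟩ := hN₂.2 P φ hφE
    rw [hE] at hψ
    exact ⟨ψ, hψ.1, hag, hmap⟩
  have hle : U₂ ≤ U := hU ▸ le_sSup hN₂F
  exact absurd hlt (not_lt_of_ge hle)

end Cfsg.Agent.Lib.Fusion2.StabZJ
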