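import Cfsg.Agent.Lib.Fusion2.GWF2
import Cfsg.Agent.Lib.Fusion2.StabFinal
import Cfsg.Agent.Lib.Fusion2.GTRel

/-!
# Sparse fusion systems are constrained, `p` odd or `S₄`-free
-/

set_option autoImplicit false
set_option linter.unusedSectionVars false
set_option linter.style.haveILetI false

universe u

namespace Cfsg.Agent.Lib.Fusion2.GWF

open Cfsg Cfsg.FusionSystem Cfsg.Agent.Lib.Fusion Cfsg.Agent.Lib.Fusion.GT Cfsg.Agent.Lib.Fusion.Qd Cfsg.Agent.Lib.Fusion.ZJ Cfsg.Agent.Lib.Fusion2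

/-- The centre as a functor. -/
def wCenter (Q : Type u) [Group Q] : Subgroup Q := Subgroup.center Q

theorem wCenter_functorial {p : ℕ} [Fact p.Prime] : Functorial.{u} p Unit wCenter where
  ne_bot := by
    intro Q _ _ hQ hnt hb
    haveI := hQ.center_nontrivial
    obtain ⟨z, hz⟩ := exists_ne (1 : Subgroup.center Q)
    have h1 : (z : Q) ∈ wCenter Q := z.2
    rw [hb, Subgroup.mem_bot] at h1
    exact hz (Subtype.ext h1)
  map := by
    intro Q R _ _ _ _ φ
    ext y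
    constructor
    · rintro ⟨x, hx, rfl⟩
      refine Subgroup.mem_center_iff.2 (fun w => ?_)
      obtain ⟨w', rfl⟩ := φ.surjective w
      have := Subgroup.mem_center_iff.1 hx w'
      show φ w' * φ x = φ x * φ w'
      rw [← map_mul, ← map_mul, this]
    · intro hy
      refine ⟨φ.symm y, Subgroup.mem_center_iff.2 (fun w => ?_), by simp⟩
      have := Subgroup.mem_center_iff.1 hy (φ w)
      apply φ.injective
      rw [map_mul, map_mul, MulEquiv.apply_symm_apply]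
      exact this
  normal := fun L _ _ _ _ hinv => absurd (StabZJ.involves_unit L) hinv

theorem wJ_functorial {p : ℕ} [Fact p.Prime] : Functorial.{u} p Unit thompsonSubgroupA where
  ne_bot := by
    intro Q _ _ hQ hnt hb
    haveI := hQ.center_nontrivial
    obtain ⟨z, hz⟩ := exists_ne (1 : Subgroup.center Q)
    have h1 : (z : Q) ∈ thompsonSubgroupA Q := center_le_thompsonA Q z.2
    rw [hb, Subgroup.mem_bot] at h1
    exact hz (Subtype.ext h1)
  map := fun Q R _ _ _ _ φ => thompsonA_map Q R φ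
  normal := fun L _ _ _ _ hinv => absurd (StabZJ.involves_unit L) hinv

theorem wOn_center_top {Ω' : Type u} [Group Ω'] (T : Subgroup Ω') :
    wOn wCenter T = T ⊓ Subgroup.centralizer (T : Set Ω') := by
  ext x
  constructor
  · rintro ⟨y, hy, rfl⟩
    refine ⟨y.2, ?_⟩
    show (y : Ω') ∈ Subgroup.centralizer (T : Set Ω')
    rw [Subgroup.mem_centralizer_iff]
    intro t ht
    exact congrArg Subtype.val (Subgroup.mem_center_iff.1 hy ⟨t, ht⟩)
  · rintro ⟨h1, h2⟩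
    refine ⟨⟨x, h1⟩, Subgroup.mem_center_iff.2 (fun t => ?_), rfl⟩
    apply Subtype.ext
    exact Subgroup.mem_centralizer_iff.1 h2 t t.2

variable {Ω : Type u} [Group Ω] {S : Subgroup Ω} [Finite S] {F : FusionSystem S} {p : ℕ} [hp : Fact p.Prime]

theorem exists_normalizer_over (hS : IsPGroup p S) (hF : F.IsSaturated p) {Y : Subgroup Ω} (hYS : Y ≤ S)
    (hn : S ≤ Subgroup.normalizer (Y : Set Ω)) :
    ∃ E : FusionSystem S, E.IsSaturated p ∧ ∀ P, E.Hom P = F.normalizerHom Y P := by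
  obtain ⟨N, hN⟩ := kSystem_normalizer F hYS
  have hsat := isSaturated_normalizerSystem hS hF (ZJ.fullyNormalized_of_normal hYS hn) hN
  have e := ZJ.normalizerIn_eq_self hn
  have : ∃ E : FusionSystem (normalizerIn S Y), E.IsSaturated p ∧ ∀ P, E.Hom P = F.normalizerHom Y P := ⟨N, hsat, hN⟩
  rwa [e] at this

/-- Sparse systems. -/
def Sparse (F : FusionSystem S) (p : ℕ) : Prop :=
  ∀ E : FusionSystem S, E.IsSaturated p → E.IsSubsystemOf F →
    (∀ P : Subgroup Ω, E.Hom P = F.Hom P) ∨ (∀ P : Subgroup Ω, E.Hom P = (innerFusionSystem S).Hom P)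

theorem inner_of_sparse (hS : IsPGroup p S) (hF : F.IsSaturated p) (hsp : Sparse F p) {Y : Subgroup Ω} (hYS : Y ≤ S)
    (hn : S ≤ Subgroup.normalizer (Y : Set Ω)) (hYU : ¬ Y ≤ F.core) {T : Subgroup Ω} {f : Ω → Ω} (hf : IsMapOn F T f) (hYT : Y ≤ T)
    (hi : IsImage f Y Y) : ∃ s ∈ S, ∀ x ∈ T, f x = s * x * s⁻¹ := by
  obtain ⟨E, hEs, hE⟩ := exists_normalizer_over hS hF hYS hn
  have hNS := ZJ.normalizerIn_eq_self hn
  rcases hsp E hEs (fun P φ hφ => by
    rw [hE] at hφ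
    exact hφ.1) with h | h
  · exfalso
    apply hYU
    refine le_sSup ⟨hYS, fun P φ hφ => ?_⟩
    rw [← h P, hE] at hφ
    obtain ⟨-, -, -, ψ, hψ, hag, hmap⟩ := hφ
    exact ⟨ψ, hψ, hag, hmap⟩
  · obtain ⟨φ, hφ, hv⟩ := hf
    have hle : T ⊔ Y ≤ T := sup_le le_rfl hYT
    have hφE : φ ∈ E.Hom T := by
      rw [hE]
      refine ⟨hφ, ?_, ?_, φ.comp (Subgroup.inclusion hle), restrict_mem hφ hle, fun x => rfl, ?_⟩
      · rw [hNS]
        exact le_of_hom hφ
      · intro x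
        rw [hNS]
        exact val_mem hφ x
      · ext y
        constructor
        · rintro ⟨x, hx, rfl⟩
          show φ (Subgroup.inclusion hle x) ∈ Y
          rw [hv]
          exact hi.mem hx
        · intro hy
          obtain ⟨x, hx, rfl⟩ := hi.exists_of_mem hy
          exact ⟨⟨x, Subgroup.mem_sup_right hx⟩, hx, hv ⟨x, hYT hx⟩⟩
    rw [h] at hφE
    obtain ⟨-, s, hs, hsv⟩ := hφE
    refine ⟨s, hs, fun x hx => ?_⟩
    rw [← hv ⟨x, hx⟩, hsv ⟨x, hx⟩]

/-- Extension of a map normalizing `U` to `C U`. -/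
theorem exists_ext_centralizer (hS : IsPGroup p S) (hF : F.IsSaturated p) {U C : Subgroup Ω} {F₀ : FusionSystem C}
    (A₀ : AdmisSetup F p True U F₀) (hUn : F.IsFullyNormalized U) {g : Ω → Ω} (hgU : IsMapOn F U g) (hi : IsImage g U U) :
    ∃ β₀, IsMapOn F (C ⊔ U) β₀ ∧ (∀ x ∈ U, β₀ x = g x) ∧ IsImage β₀ U U ∧ IsImage β₀ C C ∧ IsImage β₀ (U ⊓ C) (U ⊓ C) := by
  have hUS := A₀.hQ
  have hCS : C ≤ S := A₀.T_le
  have hmemC : ∀ {x : Ω}, x ∈ C → x ∈ S ∧ x ∈ Subgroup.centralizer (U : Set Ω) := fun hx =>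
    ⟨(A₀.mem_T.1 hx).1, (A₀.mem_T.1 hx).2.2 trivial⟩
  have hmemC' : ∀ {x : Ω}, x ∈ S → x ∈ Subgroup.centralizer (U : Set Ω) → x ∈ C := fun h1 h2 =>
    A₀.mem_T.2 ⟨h1, Subgroup.centralizer_le_normalizer _ h2, fun _ => h2⟩
  have hrec := receptive_of_fullyNormalized hS hF hUn
  obtain ⟨β₀, hβ₀, hβv⟩ := hgU.exists_ext_set hrec hi
  have hle : C ⊔ U ≤ extSet S S U g := sup_le (fun c hc => ⟨hCS hc, (A₀.mem_T.1 hc).2.1, 1, S.one_mem, fun x hx => by
    rw [comm_of_mem_centralizer (hmemC hc).2 hx]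
    simp⟩) (le_extSet hgU)
  have hβ : IsMapOn F (C ⊔ U) β₀ := hβ₀.mono hle
  have hβU : IsImage β₀ U U := hi.congr (fun x hx => (hβv x hx).symm)
  have hCR : ∀ {x : Ω}, x ∈ C → x ∈ C ⊔ U := fun hx => Subgroup.mem_sup_left hx
  have hUR : ∀ {x : Ω}, x ∈ U → x ∈ C ⊔ U := fun hx => Subgroup.mem_sup_right hx
  have hβCm : ∀ c ∈ C, β₀ c ∈ C := by
    intro c hc
    refine hmemC' (hβ.mem_S (hCR hc)) ?_
    rw [Subgroup.mem_centralizer_iff]
    intro z hz
    obtain ⟨u, hu, rfl⟩ := hβU.exists_of_mem hz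
    rw [← hβ.map_mul (hUR hu) (hCR hc), ← hβ.map_mul (hCR hc) (hUR hu), Subgroup.mem_centralizer_iff.1 (hmemC hc).2 u hu]
  have hβC : IsImage β₀ C C := by
    obtain ⟨C', hC'⟩ := hβ.exists_image (le_sup_left : C ≤ C ⊔ U)
    have hle' : C' ≤ C := fun y hy => by
      obtain ⟨x, hx, rfl⟩ := hC'.exists_of_mem hy
      exact hβCm x hx
    have hc := IsImage.card_eq hβ le_sup_left hC'
    have he : C' = C := eq_of_le_of_card_le (S := S) hle' hCS hc.le
    rwa [he] at hC'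
  have hβZ : IsImage β₀ (U ⊓ C) (U ⊓ C) := by
    intro y
    constructor
    · rintro ⟨hyU, hyC⟩
      obtain ⟨u, hu, hue⟩ := hβU.exists_of_mem hyU
      obtain ⟨c, hc, hce⟩ := hβC.exists_of_mem hyC
      have h1 : u = c := hβ.injOn (hUR hu) (hCR hc) (hue.trans hce.symm)
      exact ⟨u, ⟨hu, h1 ▸ hc⟩, hue⟩
    · rintro ⟨x, ⟨hxU, hxC⟩, rfl⟩
      exact ⟨hβU.mem hxU, hβC.mem hxC⟩
  exact ⟨β₀, hβ, hβv, hβU, hβC, hβZ⟩

set_option maxHeartbeats 1000000 in
/-- A sparse system is constrained. -/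
theorem constrained_of_sparse (hS : IsPGroup p S) (hF : F.IsSaturated p)
    (hni : ¬ ∀ P : Subgroup Ω, F.Hom P = (innerFusionSystem S).Hom P) (hsp : Sparse F p)
    (hc : p ≠ 2 ∨ F.IsSectionFree p (Equiv.Perm (Fin 4))) : F.IsConstrained p := by
  classical
  refine ⟨hF, F.core, core_isNormal F, ?_⟩
  have hUN := core_isNormal F
  obtain ⟨U, hU⟩ : ∃ U, U = F.core := ⟨_, rfl⟩
  rw [← hU] at hUN ⊢
  have hUS : U ≤ S := hUN.1
  have hUsn : S ≤ Subgroup.normalizer (U : Set Ω) := fun s hs => normalizer_of_stronglyClosed (stronglyClosed_of_isNormal hUN) hs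
  have hUn : F.IsFullyNormalized U := ZJ.fullyNormalized_of_normal hUS hUsn
  refine isCentric_of_centralizer_le hS hF hUn ?_
  by_contra hCU
  apply hni
  apply hom_eq_inner_of_allP hS hF
  have hUfc := (fullyNormalized_spec hS hF hUn).1
  obtain ⟨F₀, hF₀⟩ := kSystem_centralizer F hUS
  have A₀ := admisSetup_centralizer hS hF hUfc hF₀
  have hCS : centralizerIn S U ≤ S := A₀.T_le
  haveI hfC : Finite (centralizerIn S U) := finite_of_le hCS
  have hCp : IsPGroup p (centralizerIn S U) := hS.to_le hCS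
  have hF₀sat : F₀.IsSaturated p := A₀.isSaturated
  have hfixZ : ∀ (R : Subgroup Ω) (φ : R →* Ω), φ ∈ F₀.Hom R → ∀ x : R, (x : Ω) ∈ U ⊓ centralizerIn S U → φ x = x := by
    intro R φ hφ x hx
    obtain ⟨-, -, g, hg, hag, hr⟩ := (A₀.hE R _).1 (isMapOn_toFun hφ)
    have h1 := hr.2 trivial x hx.1
    rw [hag x x.2, toFun_coe] at h1
    exact h1
  have hZsc : F₀.StronglyClosed (U ⊓ centralizerIn S U) :=
    ⟨inf_le_right, fun R hR φ hφ x => by
      rw [hfixZ R φ hφ x (hR x.2)]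
      exact hR x.2⟩
  haveI hZn : ((U ⊓ centralizerIn S U).subgroupOf (centralizerIn S U)).Normal := ⟨by
    intro z hz c
    have hz' : (z : Ω) ∈ U ⊓ centralizerIn S U := hz
    have e : ((c * z * c⁻¹ : centralizerIn S U) : Ω) = z := by
      show (c : Ω) * z * (c : Ω)⁻¹ = z
      rw [comm_of_mem_centralizer c.2.2 hz'.1]
      group
    show ((c * z * c⁻¹ : centralizerIn S U) : Ω) ∈ U ⊓ centralizerIn S U
    rw [e]
    exact hz'⟩
  have hker : ∀ s : centralizerIn S U, QuotientGroup.mk' ((U ⊓ centralizerIn S U).subgroupOf (centralizerIn S U)) s = 1 ↔ (s : Ω) ∈ U ⊓ centralizerIn S U :=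
    fun s => QuotientGroup.eq_one_iff s
  have hr : (QuotientGroup.mk' ((U ⊓ centralizerIn S U).subgroupOf (centralizerIn S U))).range = ⊤ :=
    MonoidHom.range_eq_top.2 (QuotientGroup.mk'_surjective _)
  obtain ⟨Eb, hEb⟩ := exists_factorSystem hZsc hker hr
  have hMor := isSurjectiveMorphism_of_factor hCp hF₀sat hZsc hEb
  have hEbsat : Eb.IsSaturated p := isSaturated_of_surjective hCp hF₀sat hMor
  have hEbc : p ≠ 2 ∨ Eb.IsSectionFree p (Equiv.Perm (Fin 4)) :=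
    hc.imp id (fun hf => isSectionFree_of_factor hCp hF₀sat hZsc (isSectionFree_of_admisSetup A₀ hf) hEb)
  have hQp : IsPGroup p (↥(centralizerIn S U) ⧸ (U ⊓ centralizerIn S U).subgroupOf (centralizerIn S U)) := hCp.to_quotient _
  -- `Q` is nontrivial
  obtain ⟨c₀, hc₀, hc₀U⟩ := SetLike.not_le_iff_exists.1 hCU
  haveI hnt : Nontrivial ↥(⊤ : Subgroup (↥(centralizerIn S U) ⧸ (U ⊓ centralizerIn S U).subgroupOf (centralizerIn S U))) := by
    refine ⟨⟨⟨QuotientGroup.mk' _ ⟨c₀, hc₀⟩, trivial⟩, 1, fun h => hc₀U ?_⟩⟩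
    have h1 : QuotientGroup.mk' ((U ⊓ centralizerIn S U).subgroupOf (centralizerIn S U)) ⟨c₀, hc₀⟩ = 1 := congrArg Subtype.val h
    exact ((hker _).1 h1).1
  -- the subgroup attached to a functor
  have hRinv : ∀ (W : ∀ (Q : Type u) [Group Q], Subgroup Q), Functorial p Unit W →
      ∀ β₀, IsMapOn F (centralizerIn S U ⊔ U) β₀ → IsImage β₀ U U → IsImage β₀ (centralizerIn S U) (centralizerIn S U) → IsImage β₀ (U ⊓ centralizerIn S U) (U ⊓ centralizerIn S U) →
      IsImage β₀ (preimageAlong (QuotientGroup.mk' ((U ⊓ centralizerIn S U).subgroupOf (centralizerIn S U))) (wOn W ⊤) ⊔ U) (preimageAlong (QuotientGroup.mk' ((U ⊓ centralizerIn S U).subgroupOf (centralizerIn S U))) (wOn W ⊤) ⊔ U) := by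
    intro W hW β₀ hβ hβU hβC hβZ
    have h1 := isImage_preimage_wOn hW hS hCS hβ hβC hβZ inf_le_right
    have hRC := preimageAlong_le (QuotientGroup.mk' ((U ⊓ centralizerIn S U).subgroupOf (centralizerIn S U))) (wOn W (⊤ : Subgroup (↥(centralizerIn S U) ⧸ (U ⊓ centralizerIn S U).subgroupOf (centralizerIn S U))))
    exact (hβ.mono (sup_le_sup_right hRC U)).image_sup h1 hβU (fun x hx => Subgroup.centralizer_le_normalizer _ (hRC hx).2)
  have hYS : ∀ (W : ∀ (Q : Type u) [Group Q], Subgroup Q),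
      preimageAlong (QuotientGroup.mk' ((U ⊓ centralizerIn S U).subgroupOf (centralizerIn S U))) (wOn W ⊤) ⊔ U ≤ S :=
    fun W => sup_le ((preimageAlong_le _ _).trans hCS) hUS
  have hYC : ∀ (W : ∀ (Q : Type u) [Group Q], Subgroup Q),
      preimageAlong (QuotientGroup.mk' ((U ⊓ centralizerIn S U).subgroupOf (centralizerIn S U))) (wOn W ⊤) ⊔ U ≤ centralizerIn S U ⊔ U :=
    fun W => sup_le_sup_right (preimageAlong_le _ _) U
  have hCsU : centralizerIn S U ⊔ U ≤ S := sup_le hCS hUS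
  have hSnC : ∀ s ∈ S, ∀ c ∈ centralizerIn S U, s * c * s⁻¹ ∈ centralizerIn S U := by
    intro s hs c hc
    refine ⟨S.mul_mem (S.mul_mem hs hc.1) (S.inv_mem hs), ?_⟩
    show s * c * s⁻¹ ∈ Subgroup.centralizer (U : Set Ω)
    rw [Subgroup.mem_centralizer_iff]
    intro u hu
    have hu' : s⁻¹ * u * s⁻¹⁻¹ ∈ U := (Subgroup.mem_normalizer_iff.1 (hUsn (S.inv_mem hs)) u).1 hu
    have h1 := Subgroup.mem_centralizer_iff.1 hc.2 _ hu'
    have h2 : u = s * (s⁻¹ * u * s⁻¹⁻¹) * s⁻¹ := by group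
    calc u * (s * c * s⁻¹) = s * ((s⁻¹ * u * s⁻¹⁻¹) * c) * s⁻¹ := by group
      _ = s * (c * (s⁻¹ * u * s⁻¹⁻¹)) * s⁻¹ := by rw [h1]
      _ = _ := by group
  have hImg : ∀ {V : Subgroup Ω}, V ≤ S → ∀ s ∈ S, s ∈ Subgroup.normalizer (V : Set Ω) → IsImage (fun x => s * x * s⁻¹) V V := by
    intro V hV s hs hsn y
    constructor
    · intro hy
      refine ⟨s⁻¹ * y * s⁻¹⁻¹, (Subgroup.mem_normalizer_iff.1 (Subgroup.inv_mem _ hsn) y).1 hy, by group⟩
    · rintro ⟨x, hx, rfl⟩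
      exact (Subgroup.mem_normalizer_iff.1 hsn x).1 hx
  have hYn : ∀ (W : ∀ (Q : Type u) [Group Q], Subgroup Q), Functorial p Unit W →
      S ≤ Subgroup.normalizer ((preimageAlong (QuotientGroup.mk' ((U ⊓ centralizerIn S U).subgroupOf (centralizerIn S U))) (wOn W ⊤) ⊔ U : Subgroup Ω) : Set Ω) := by
    intro W hW s hs
    have hsC : s ∈ Subgroup.normalizer ((centralizerIn S U : Subgroup Ω) : Set Ω) := mem_normalizer_of_conj_mem hCS (hSnC s hs)
    have hsZ : s ∈ Subgroup.normalizer ((U ⊓ centralizerIn S U : Subgroup Ω) : Set Ω) :=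
      mem_normalizer_of_conj_mem (inf_le_left.trans hUS) (fun x hx =>
        ⟨(Subgroup.mem_normalizer_iff.1 (hUsn hs) x).1 hx.1, hSnC s hs x hx.2⟩)
    have h1 := hRinv W hW (fun x => s * x * s⁻¹) (isMapOn_conj hCsU hs) (hImg hUS s hs (hUsn hs)) (hImg hCS s hs hsC)
      (hImg (inf_le_left.trans hUS) s hs hsZ)
    exact mem_normalizer_of_conj_mem (hYS W) (fun x hx => h1.mem hx)
  have hYnotU : ∀ (W : ∀ (Q : Type u) [Group Q], Subgroup Q), Functorial p Unit W →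
      ¬ preimageAlong (QuotientGroup.mk' ((U ⊓ centralizerIn S U).subgroupOf (centralizerIn S U))) (wOn W ⊤) ⊔ U ≤ F.core := by
    intro W hW hle
    rw [← hU] at hle
    have hRU : preimageAlong (QuotientGroup.mk' ((U ⊓ centralizerIn S U).subgroupOf (centralizerIn S U))) (wOn W (⊤ : Subgroup (↥(centralizerIn S U) ⧸ (U ⊓ centralizerIn S U).subgroupOf (centralizerIn S U)))) ≤ U :=
      le_sup_left.trans hle
    have hne := hW.ne_bot _ (hQp.to_subgroup ⊤) hnt
    apply hne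
    rw [eq_bot_iff]
    rintro ⟨y, hyt⟩ hy
    obtain ⟨x, rfl⟩ := QuotientGroup.mk'_surjective _ y
    have hxR : (x : Ω) ∈ preimageAlong (QuotientGroup.mk' ((U ⊓ centralizerIn S U).subgroupOf (centralizerIn S U))) (wOn W (⊤ : Subgroup (↥(centralizerIn S U) ⧸ (U ⊓ centralizerIn S U).subgroupOf (centralizerIn S U)))) :=
      mem_preimageAlong.2 ⟨x.2, mem_wOn.2 ⟨trivial, hy⟩⟩
    have hxU := hRU hxR
    rw [Subgroup.mem_bot]
    apply Subtype.ext
    exact (hker x).2 ⟨hxU, x.2⟩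
  -- maps of the factor system preserving the `W`-part are inner
  have hInner : ∀ (W : ∀ (Q : Type u) [Group Q], Subgroup Q), Functorial p Unit W →
      ∀ (Pb : Subgroup _) (fb : _ → _), IsMapOn Eb Pb fb → wOn W ⊤ ≤ Pb → IsImage fb (wOn W ⊤) (wOn W ⊤) →
      ∃ c, ∀ x ∈ Pb, fb x = c * x * c⁻¹ := by
    intro W hW Pb fb hfb hX hiX
    obtain ⟨hPb, f₁, hf₁, hf₁v⟩ := exists_lift_of_map hEb hfb
    obtain ⟨hP₁, hvals, g, hg, hag, hrel⟩ := (A₀.hE _ f₁).1 hf₁
    obtain ⟨R, hR⟩ : ∃ R, R = preimageAlong (QuotientGroup.mk' ((U ⊓ centralizerIn S U).subgroupOf (centralizerIn S U))) (wOn W (⊤ : Subgroup (↥(centralizerIn S U) ⧸ (U ⊓ centralizerIn S U).subgroupOf (centralizerIn S U)))) := ⟨_, rfl⟩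
    have hRP : R ≤ preimageAlong (QuotientGroup.mk' ((U ⊓ centralizerIn S U).subgroupOf (centralizerIn S U))) Pb := by
      intro x hx
      rw [hR] at hx
      obtain ⟨hxC, hxW⟩ := mem_preimage_iff.1 hx
      exact mem_preimage_iff.2 ⟨hxC, hX hxW⟩
    have hRC : R ≤ centralizerIn S U := by
      rw [hR]
      exact preimageAlong_le _ _
    -- `g` preserves `R`
    have hf₁R : ∀ x ∈ R, f₁ x ∈ R := by
      intro x hx
      have hx' := hx
      rw [hR] at hx'
      obtain ⟨hxC, hxW⟩ := mem_preimage_iff.1 hx'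
      rw [hR]
      refine mem_preimage_iff.2 ⟨hvals x (hRP hx), ?_⟩
      rw [hf₁v x (hRP hx)]
      exact hiX.mem hxW
    have hiR : IsImage f₁ R R := by
      obtain ⟨R', hR'⟩ := (hf₁.mono hRP).exists_image le_rfl
      have hle' : R' ≤ R := fun y hy => by
        obtain ⟨x, hx, rfl⟩ := hR'.exists_of_mem hy
        exact hf₁R x hx
      have hc := IsImage.card_eq (hf₁.mono hRP) le_rfl hR'
      have he : R' = R := eq_of_le_of_card_le (S := centralizerIn S U) hle' hRC hc.le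
      rwa [he] at hR'
    have hgR : IsImage g R R := hiR.congr (fun x hx => (hag x (hRP hx)).symm)
    have hmono : R ⊔ U ≤ preimageAlong (QuotientGroup.mk' ((U ⊓ centralizerIn S U).subgroupOf (centralizerIn S U))) Pb ⊔ U :=
      sup_le_sup_right hRP U
    have hgY : IsImage g (R ⊔ U) (R ⊔ U) :=
      (hg.mono hmono).image_sup hgR hrel.1 (fun x hx => Subgroup.centralizer_le_normalizer _ (hRC hx).2)
    have hYn' := hYn W hW
    have hYU' := hYnotU W hW
    have hYS' := hYS W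
    rw [← hR] at hYn' hYU' hYS'
    obtain ⟨s, hs, hsv⟩ := inner_of_sparse hS hF hsp hYS' hYn' hYU' hg hmono hgY
    -- `s` centralizes `U`
    have hsC : s ∈ centralizerIn S U := by
      refine ⟨hs, ?_⟩
      show s ∈ Subgroup.centralizer (U : Set Ω)
      rw [Subgroup.mem_centralizer_iff]
      intro u hu
      have h1 := hsv u (Subgroup.mem_sup_right hu)
      rw [hrel.2 trivial u hu] at h1
      calc u * s = (s * u * s⁻¹) * s := by rw [← h1]
        _ = s * u := by group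
    refine ⟨QuotientGroup.mk' _ ⟨s, hsC⟩, fun x hx => ?_⟩
    obtain ⟨y, hyC, rfl⟩ := exists_thf hEb (show x ∈ (⊤ : Subgroup _) from trivial)
    have hy : y ∈ preimageAlong (QuotientGroup.mk' ((U ⊓ centralizerIn S U).subgroupOf (centralizerIn S U))) Pb := mem_preimage_iff.2 ⟨hyC, hx⟩
    rw [← hf₁v y hy, ← hag y hy, hsv y (Subgroup.mem_sup_left hy), thf_conj hsC hyC, thf_of_mem hsC]
  -- the factor system is inner
  have hEbInner : ∀ P, Eb.Hom P = (innerFusionSystem (⊤ : Subgroup (↥(centralizerIn S U) ⧸ (U ⊓ centralizerIn S U).subgroupOf (centralizerIn S U)))).Hom P := by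
    refine inner_of_thompson (hQp.to_subgroup ⊤) hEbsat hEbc ?_ ?_
    · intro C' hC' P
      apply Set.Subset.antisymm
      · intro φ hφ
        have hφ' := hφ
        rw [hC' P] at hφ'
        obtain ⟨-, hPC, -, ψ, hψ, hag, hfix⟩ := hφ'
        have hg := isMapOn_toFun hψ
        have hZe := wOn_center_top (⊤ : Subgroup (↥(centralizerIn S U) ⧸ (U ⊓ centralizerIn S U).subgroupOf (centralizerIn S U)))
        have hle : wOn wCenter (⊤ : Subgroup (↥(centralizerIn S U) ⧸ (U ⊓ centralizerIn S U).subgroupOf (centralizerIn S U))) ≤ P ⊔ ((⊤ : Subgroup (↥(centralizerIn S U) ⧸ (U ⊓ centralizerIn S U).subgroupOf (centralizerIn S U))) ⊓ Subgroup.centralizer ((⊤ : Subgroup (↥(centralizerIn S U) ⧸ (U ⊓ centralizerIn S U).subgroupOf (centralizerIn S U))) : Set (↥(centralizerIn S U) ⧸ (U ⊓ centralizerIn S U).subgroupOf (centralizerIn S U)))) := by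
          rw [hZe]
          exact le_sup_right
        have hfixZ' : ∀ z ∈ wOn wCenter (⊤ : Subgroup (↥(centralizerIn S U) ⧸ (U ⊓ centralizerIn S U).subgroupOf (centralizerIn S U))), toFun ψ z = z := by
          intro z hz
          rw [toFun_of_mem ψ (hle hz)]
          rw [hZe] at hz
          exact hfix ⟨z, hz⟩
        have hiZ : IsImage (toFun ψ) (wOn wCenter ⊤) (wOn wCenter ⊤) := (IsImage.refl _).congr (fun z hz => (hfixZ' z hz).symm)
        obtain ⟨c, hcv⟩ := hInner wCenter wCenter_functorial _ _ hg hle hiZ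
        refine ⟨hPC, c, ⟨trivial, ?_⟩, fun x => ?_⟩
        · show c ∈ Subgroup.centralizer _
          rw [Subgroup.mem_centralizer_iff]
          intro z hz
          exact (Subgroup.mem_centralizer_iff.1 hz.2 c trivial).symm
        · rw [← hag x, ← hcv _ (Subgroup.mem_sup_left x.2)]
          exact (toFun_of_mem ψ _).symm
      · exact inner_le C' P
    · intro N hN P
      apply Set.Subset.antisymm
      · intro φ hφ
        have hφ' := hφ
        rw [hN P] at hφ'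
        obtain ⟨-, hPC, -, ψ, hψ, hag, hmap⟩ := hφ'
        have hg := isMapOn_toFun hψ
        have hiJ : IsImage (toFun ψ) (thompsonSubgroupAOf ⊤) (thompsonSubgroupAOf ⊤) := by
          intro y
          constructor
          · intro hy
            rw [← hmap] at hy
            obtain ⟨x, hx, rfl⟩ := hy
            exact ⟨x, hx, toFun_coe ψ x⟩
          · rintro ⟨x, hx, rfl⟩
            have h1 : ψ ⟨x, Subgroup.mem_sup_right hx⟩ ∈ ((thompsonSubgroupAOf ⊤).subgroupOf (P ⊔ thompsonSubgroupAOf ⊤)).map ψ :=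
              ⟨⟨x, Subgroup.mem_sup_right hx⟩, hx, rfl⟩
            rw [hmap] at h1
            rw [toFun_of_mem ψ (Subgroup.mem_sup_right hx)]
            exact h1
        obtain ⟨c, hcv⟩ := hInner thompsonSubgroupA wJ_functorial _ _ hg le_sup_right hiJ
        refine ⟨hPC, c, ⟨trivial, thompsonA_normal trivial⟩, fun x => ?_⟩
        rw [← hag x, ← hcv _ (Subgroup.mem_sup_left x.2)]
        exact (toFun_of_mem ψ _).symm
      · exact inner_le N P
  have hAllEb : AllP p Eb := by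
    intro R f hf hi
    obtain ⟨φ, hφ, hv⟩ := hf
    rw [hEbInner R] at hφ
    exact Cfsg.Agent.Lib.Fusion2.GTRel.allP_inner (hQp.to_subgroup ⊤) R f ⟨φ, hφ, hv⟩ hi
  have hZ₀ : F₀.IsCentral (U ⊓ centralizerIn S U) := by
    refine isCentral_of_singleton hCp hF₀sat inf_le_right (fun z hz y hy => ?_)
    obtain ⟨φ, hφ, rfl⟩ := hy
    exact hfixZ _ φ hφ _ hz
  have hAllF₀ : AllP p F₀ := allP_of_central_trivMod hCp hZ₀ (trivMod_of_allP hMor.1 hker hAllEb)
  -- the main argument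
  intro R f hf hi
  have hRS : R ≤ S := hf.le
  obtain ⟨g, hg, hgR, hgU⟩ := ZJ.IsNormal.exists_ext hUN hf
  have hgRi : IsImage g R R := hi.congr (fun x hx => (hgR x hx).symm)
  have hgT : IsImage g (R ⊔ U) (R ⊔ U) := hg.image_sup hgRi hgU (fun x hx => hUsn (hRS hx))
  obtain ⟨β₀, hβ, hβv, hβU, hβC, hβZ⟩ := exists_ext_centralizer hS hF A₀ hUn (hg.mono le_sup_right) hgU
  have hYi := hRinv thompsonSubgroupA wJ_functorial β₀ hβ hβU hβC hβZ
  obtain ⟨s, hs, hsv⟩ := inner_of_sparse hS hF hsp (hYS thompsonSubgroupA) (hYn thompsonSubgroupA wJ_functorial)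
    (hYnotU thompsonSubgroupA wJ_functorial) hβ (hYC thompsonSubgroupA) hYi
  have hgUs : ∀ x ∈ U, g x = s * x * s⁻¹ := fun x hx => by
    rw [← hβv x hx]
    exact hsv x (Subgroup.mem_sup_right hx)
  obtain ⟨k, hk⟩ := hS ⟨s, hs⟩
  have hk' : s ^ p ^ k = 1 := congrArg Subtype.val hk
  have hgUm : ∀ x ∈ U, g x ∈ U := fun x hx => hgU.mem hx
  have hfixU : ∀ x ∈ U, g^[p ^ k] x = x := by
    intro x hx
    rw [iter_conj hgUm hgUs (p ^ k) hx, hk']
    group
  have hTm : ∀ x ∈ R ⊔ U, g x ∈ R ⊔ U := fun x hx => hgT.mem hx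
  have hh := iter_isMapOn hg hTm (p ^ k)
  have hhi := iter_isImage hg hgT (p ^ k)
  obtain ⟨h, hhd⟩ : ∃ h, h = g^[p ^ k] := ⟨_, rfl⟩
  rw [← hhd] at hh hhi hfixU
  have hUT : ∀ {u : Ω}, u ∈ U → u ∈ R ⊔ U := fun hu => Subgroup.mem_sup_right hu
  have hcen : ∀ (h' : Ω → Ω), IsMapOn F (R ⊔ U) h' → (∀ u ∈ U, h' u = u) → ∀ x ∈ R ⊔ U, x⁻¹ * h' x ∈ Subgroup.centralizer (U : Set Ω) := by
    intro h' hh' hfx x hx
    have hxS : x ∈ S := hh'.le hx
    rw [Subgroup.mem_centralizer_iff]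
    intro y hy
    have hxy : x * y * x⁻¹ ∈ U := (Subgroup.mem_normalizer_iff.1 (hUsn hxS) y).1 hy
    have h1 := hfx _ hxy
    have h2 : h' (x * y * x⁻¹) = h' x * y * (h' x)⁻¹ := by
      rw [hh'.map_mul (Subgroup.mul_mem _ hx (hUT hy)) (Subgroup.inv_mem _ hx), hh'.map_mul hx (hUT hy), hh'.map_inv hx, hfx y hy]
    rw [h2] at h1
    have h3 : (h' x) * y = x * y * x⁻¹ * (h' x) := by
      calc (h' x) * y = (h' x) * y * (h' x)⁻¹ * (h' x) := by group
        _ = _ := by rw [h1]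
    calc y * (x⁻¹ * h' x) = x⁻¹ * (x * y * x⁻¹ * h' x) := by group
      _ = x⁻¹ * (h' x * y) := by rw [h3]
      _ = _ := by group
  have hmemC' : ∀ {x : Ω}, x ∈ S → x ∈ Subgroup.centralizer (U : Set Ω) → x ∈ centralizerIn S U := fun h1 h2 =>
    ⟨h1, h2⟩
  -- maps fixing `U` preserve `T₀`
  have hT₀C : (R ⊔ U) ⊓ centralizerIn S U ≤ centralizerIn S U := inf_le_right
  have hT₀T : (R ⊔ U) ⊓ centralizerIn S U ≤ R ⊔ U := inf_le_left
  have hhT₀ : ∀ x ∈ (R ⊔ U) ⊓ centralizerIn S U, h x ∈ centralizerIn S U := by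
    intro x hx
    refine hmemC' (hh.mem_S (hT₀T hx)) ?_
    rw [Subgroup.mem_centralizer_iff]
    intro u hu
    have h1 := Subgroup.mem_centralizer_iff.1 hx.2.2 u hu
    rw [← hfixU u hu, ← hh.map_mul (hUT hu) (hT₀T hx), ← hh.map_mul (hT₀T hx) (hUT hu), h1]
  have hh₀m : ∀ x ∈ (R ⊔ U) ⊓ centralizerIn S U, h x ∈ (R ⊔ U) ⊓ centralizerIn S U :=
    fun x hx => ⟨hhi.mem (hT₀T hx), hhT₀ x hx⟩
  have hh₀ : IsMapOn F₀ ((R ⊔ U) ⊓ centralizerIn S U) h :=
    (A₀.hE _ h).2 ⟨hT₀C, hhT₀, h, hh.mono (sup_le hT₀T le_sup_right), fun _ _ => rfl,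
      ⟨(IsImage.refl U).congr (fun u hu => (hfixU u hu).symm), fun _ u hu => hfixU u hu⟩⟩
  have hhi₀ : IsImage h ((R ⊔ U) ⊓ centralizerIn S U) ((R ⊔ U) ⊓ centralizerIn S U) := by
    obtain ⟨T', hT'⟩ := hh₀.exists_image le_rfl
    have hle' : T' ≤ (R ⊔ U) ⊓ centralizerIn S U := fun y hy => by
      obtain ⟨x, hx, rfl⟩ := hT'.exists_of_mem hy
      exact hh₀m x hx
    have hc := IsImage.card_eq hh₀ le_rfl hT'
    have he : T' = (R ⊔ U) ⊓ centralizerIn S U := eq_of_le_of_card_le (S := centralizerIn S U) hle' hT₀C hc.le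
    rwa [he] at hT'
  obtain ⟨m, hm⟩ := hAllF₀ _ h hh₀ hhi₀
  have hhm : ∀ x ∈ R ⊔ U, h x ∈ R ⊔ U := fun x hx => hhi.mem hx
  have hh₁ := iter_isMapOn hh hhm (p ^ m)
  have hfixU₁ : ∀ u ∈ U, h^[p ^ m] u = u := by
    intro u hu
    have hfp : Function.IsFixedPt h u := hfixU u hu
    exact hfp.iterate _
  haveI hT₀f : Finite ((R ⊔ U) ⊓ centralizerIn S U : Subgroup Ω) := finite_of_le (hT₀C.trans hCS)
  obtain ⟨n, hn⟩ := ppow_of_stab hh₁ hT₀T hT₀f (hS.to_le (hT₀C.trans hCS)) hm (fun x hx => by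
    refine ⟨Subgroup.mul_mem _ (Subgroup.inv_mem _ hx) (iter_mem hhm _ hx), ?_⟩
    exact hmemC' (S.mul_mem (S.inv_mem (hh.le hx)) (hh₁.mem_S hx)) (hcen _ hh₁ hfixU₁ x hx))
  refine ⟨k + m + n, fun x hx => ?_⟩
  have hxT : x ∈ R ⊔ U := Subgroup.mem_sup_left hx
  have h1 := iter_congr (fun y hy => hi.mem hy) (fun y hy => (hgR y hy).symm) (p ^ (k + m + n)) hx
  rw [h1, pow_add, pow_add, iter_pow_of_power, Function.iterate_mul g (p ^ k) (p ^ m), ← hhd]
  exact hn x hxT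

end Cfsg.Agent.Lib.Fusion2.GWF
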