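import Cfsg.Agent.Lib.Fusion.FixElt

/-!
# Subgroups of `Z(S)` invariant under a saturated fusion system: a descending induction
-/

set_option autoImplicit false

namespace Cfsg.Agent.Lib.Fusion2.InvSub

open Cfsg Cfsg.FusionSystem Cfsg.Agent.Lib.Fusion

variable {Ω : Type*} [Group Ω] {S : Subgroup Ω} {F : FusionSystem S}

variable [Finite S] {p : ℕ} [Fact p.Prime]

omit [Fact p.Prime] in
/-- An injective self-map of a subgroup of a finite `S` is onto. -/
theorem surj_of_inj {D : Subgroup Ω} (hD : D ≤ S) {f : Ω → Ω} (hf : ∀ z ∈ D, f z ∈ D) (hinj : ∀ a ∈ D, ∀ b ∈ D, f a = f b → a = b) :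
    ∀ z ∈ D, ∃ w ∈ D, f w = z := by
  haveI : Finite D := finite_of_le hD
  have h : Function.Injective (fun w : D => (⟨f w, hf w w.2⟩ : D)) := by
    intro a b e
    exact Subtype.ext (hinj a a.2 b b.2 (congrArg Subtype.val e))
  have h2 := Finite.injective_iff_surjective.1 h
  intro z hz
  obtain ⟨w, hw⟩ := h2 ⟨z, hz⟩
  exact ⟨w, w.2, congrArg Subtype.val hw⟩

/-- Alperin, with a size condition. -/
theorem inv_of_aut (hS : IsPGroup p S) (hF : F.IsSaturated p) {D : Subgroup Ω} (hDS : D ≤ S) (hDc : ∀ s ∈ S, ∀ z ∈ D, s * z = z * s) (m : ℕ)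
    (h : ∀ U, F.IsFullyNormalized U → F.IsCentric U → m ≤ Nat.card (normalizerIn S U) → ∀ α ∈ F.autGroup U, ∀ z ∈ D, fn α z ∈ D)
    {X : Subgroup Ω} {φ : X →* Ω} (hφ : φ ∈ F.Hom X) (hm : m ≤ Nat.card X) (x : X) : (x : Ω) ∈ D ↔ φ x ∈ D := by
  have key := alperin_induction hS hF (fun P φ => Nat.card P < m ∨ ∀ x : P, (x : Ω) ∈ D ↔ φ x ∈ D) ?_ ?_ ?_ ?_ hφ
  · rcases key with h1 | h1
    · omega
    · exact h1 x
  · intro P g hP hg
    refine Or.inr (fun x => ?_)
    have h1 : ∀ z ∈ D, g * z * g⁻¹ = z := by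
      intro z hz
      rw [hDc g hg z hz]
      group
    show (x : Ω) ∈ D ↔ g * (x : Ω) * g⁻¹ ∈ D
    constructor
    · intro hx
      rw [h1 _ hx]
      exact hx
    · intro hx
      have h2 := h1 _ hx
      have h3 : g * (g * (x : Ω) * g⁻¹) * g⁻¹ = g * (x : Ω) * g⁻¹ := h2
      have h4 : g * (x : Ω) * g⁻¹ = (x : Ω) := by
        have : g * (g * (x : Ω) * g⁻¹) * g⁻¹ = g * (g * (x : Ω) * g⁻¹) * g⁻¹ := rfl
        have h5 := mul_left_cancel (a := g) (b := g * (x : Ω) * g⁻¹ * g⁻¹) (c := (x : Ω) * g⁻¹) (by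
          calc g * (g * (x : Ω) * g⁻¹ * g⁻¹) = g * (g * (x : Ω) * g⁻¹) * g⁻¹ := by group
            _ = g * (x : Ω) * g⁻¹ := h3
            _ = g * ((x : Ω) * g⁻¹) := by group)
        have h6 := mul_right_cancel h5
        exact h6
      rwa [h4] at hx
  · intro P Q φ ψ hφ hψ h1 h2 hh
    by_cases hPm : Nat.card P < m
    · exact Or.inl hPm
    right
    have hQP : Nat.card P ≤ Nat.card Q := by
      have := finite_of_le (le_of_hom hψ)
      exact Nat.card_le_card_of_injective (φ.codRestrict Q hh) (fun a b e => inj hφ (congrArg Subtype.val e))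
    have h1' := h1.resolve_left hPm
    have h2' := h2.resolve_left (by omega)
    intro x
    have h3 := h1' x
    have h4 := h2' (φ.codRestrict Q hh x)
    rw [h3]
    exact h4
  · intro P φ ψ hφ hψ hψx h1
    have hc : Nat.card φ.range = Nat.card P := (Nat.card_congr (isoOfHom hφ rfl).toEquiv).symm
    rcases h1 with h1 | h1
    · left
      rwa [hc]
    · right
      rintro ⟨_, y, rfl⟩
      have h2 : ψ ⟨φ y, ⟨y, rfl⟩⟩ = (y : Ω) := hψx y
      have h3 := h1 y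
      show φ y ∈ D ↔ ψ ⟨φ y, ⟨y, rfl⟩⟩ ∈ D
      rw [h2]
      exact h3.symm
  · intro P hP α hα
    by_cases hPm : Nat.card P < m
    · exact Or.inl hPm
    right
    have hPS : P ≤ S := by
      rcases hP with rfl | hP
      · exact le_rfl
      · exact hP.1.1
    have hPn := fullyNormalized_of_mem P hP
    have hPc : F.IsCentric P := by
      rcases hP with rfl | hP
      · exact isCentric_self
      · exact hP.1
    have hDP : D ≤ P := by
      intro z hz
      refine hPc.2 P (isConj_refl hPS) ⟨hDS hz, ?_⟩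
      show z ∈ Subgroup.centralizer (P : Set Ω)
      rw [Subgroup.mem_centralizer_iff]
      intro y hy
      exact hDc y (hPS hy) z hz
    have hcard : m ≤ Nat.card (normalizerIn S P) :=
      (not_lt.1 hPm).trans (card_le_of_le (S := S) (le_normalizerIn hPS) (normalizerIn_le P))
    have hfix := h P hPn hPc hcard α hα
    have hfix' : ∀ z (hz : z ∈ D), ((α ⟨z, hDP hz⟩ : P) : Ω) ∈ D := by
      intro z hz
      have := hfix z hz
      rwa [fn_of_mem α (hDP hz)] at this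
    have hsurj := surj_of_inj (f := fn α) hDS (hfix) (fun a ha b hb e => by
      rw [fn_of_mem α (hDP ha), fn_of_mem α (hDP hb)] at e
      have := α.injective (Subtype.ext e)
      exact congrArg Subtype.val this)
    intro x
    show (x : Ω) ∈ D ↔ ((α x : P) : Ω) ∈ D
    constructor
    · intro hx
      exact hfix' x hx
    · intro hx
      obtain ⟨w, hw, hwe⟩ := hsurj _ hx
      rw [fn_of_mem α (hDP hw)] at hwe
      have : α ⟨w, hDP hw⟩ = α x := Subtype.ext hwe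
      have := α.injective this
      rw [← this]
      exact hw

omit [Fact p.Prime] in
/-- Transport of the invariance along a map preserving `D`. -/
theorem inv_transport {D : Subgroup Ω} (hDS : D ≤ S) {X P P' : Subgroup Ω} {ζ : Ω → Ω} (hζ : IsMapOn F X ζ) (hPX : P ≤ X) (hi : IsImage ζ P P') (hz : D ≤ P)
    (hζz : ∀ z ∈ D, ζ z ∈ D) (h' : ∀ f, IsMapOn F P' f → IsImage f P' P' → ∀ z ∈ D, f z ∈ D) : ∀ f, IsMapOn F P f → IsImage f P P → ∀ z ∈ D, f z ∈ D := by
  intro f hf hfi z hzD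
  obtain ⟨g, hg, hgi, hgl, hgr⟩ := (hζ.mono hPX).exists_inv hi
  have hDP' : D ≤ P' := by
    intro z hz'
    obtain ⟨w, hw, rfl⟩ := surj_of_inj hDS hζz (fun a ha b hb e => hζ.injOn (hPX (hz ha)) (hPX (hz hb)) e) z hz'
    exact hi.mem (hz hw)
  have hm : IsMapOn F P' (fun y => ζ (f (g y))) :=
    (hg.comp hf (fun y hy => hgi.mem hy)).comp (hζ.mono hPX) (fun y hy => hfi.mem (hgi.mem hy))
  have hi' : IsImage (fun y => ζ (f (g y))) P' P' := (hgi.comp hfi).comp hi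
  have hgz : g (ζ z) = z := hgl z (hz hzD)
  have h1 : ζ (f (g (ζ z))) ∈ D := h' _ hm hi' (ζ z) (hζz z hzD)
  rw [hgz] at h1
  obtain ⟨w, hw, hwe⟩ := surj_of_inj hDS hζz (fun a ha b hb e => hζ.injOn (hPX (hz ha)) (hPX (hz hb)) e) _ h1
  have : w = f z := hζ.injOn (hPX (hz hw)) (hPX (hfi.mem (hz hzD))) hwe
  rw [← this]
  exact hw

omit [Fact p.Prime] in
/-- Extension of automorphisms to `V C_S(V)`. -/
theorem inv_of_centralizer {D V : Subgroup Ω} (hrec : F.IsReceptive V) (hz : D ≤ V)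
    (h : ∀ f, IsMapOn F (V ⊔ centralizerIn S V) f → IsImage f (V ⊔ centralizerIn S V) (V ⊔ centralizerIn S V) → ∀ z ∈ D, f z ∈ D) :
    ∀ f, IsMapOn F V f → IsImage f V V → ∀ z ∈ D, f z ∈ D := by
  intro f hf hi z hzD
  obtain ⟨f', hf', hf'v⟩ := hf.exists_ext_set hrec hi
  have hVE := le_extSet hf
  have hCE : centralizerIn S V ≤ extSet S S V f := by
    rintro c ⟨hc1, hc2⟩
    refine ⟨hc1, Subgroup.centralizer_le_normalizer _ hc2, 1, S.one_mem, fun x hx => ?_⟩
    have : c * x * c⁻¹ = x := by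
      rw [← Subgroup.mem_centralizer_iff.1 hc2 x hx]
      group
    rw [this]
    group
  have hHE : V ⊔ centralizerIn S V ≤ extSet S S V f := sup_le hVE hCE
  have hHS : V ⊔ centralizerIn S V ≤ S := sup_le hrec.1 (centralizerIn_le V)
  have hiV : IsImage f' V V := hi.congr (fun x hx => (hf'v x hx).symm)
  obtain ⟨W, hW⟩ := hf'.exists_preimage (T := V ⊔ centralizerIn S V)
  have hHW : V ⊔ centralizerIn S V ≤ W := by
    refine sup_le (fun x hx => (hW x).2 ⟨hVE hx, Subgroup.mem_sup_left (hiV.mem hx)⟩) (fun c hc => (hW c).2 ⟨hCE hc, ?_⟩)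
    refine Subgroup.mem_sup_right ⟨hf'.mem_S (hCE hc), ?_⟩
    show f' c ∈ Subgroup.centralizer (V : Set Ω)
    rw [Subgroup.mem_centralizer_iff]
    intro y hy
    obtain ⟨x, hx, rfl⟩ := hiV.exists_of_mem hy
    rw [← hf'.map_mul (hVE hx) (hCE hc), ← hf'.map_mul (hCE hc) (hVE hx)]
    congr 1
    exact Subgroup.mem_centralizer_iff.1 hc.2 x hx
  obtain ⟨H', hH'⟩ := hf'.exists_image hHE
  have hle : H' ≤ V ⊔ centralizerIn S V := by
    intro y hy
    obtain ⟨x, hx, rfl⟩ := hH'.exists_of_mem hy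
    exact ((hW x).1 (hHW hx)).2
  have hcard := IsImage.card_eq hf' hHE hH'
  have heq : H' = V ⊔ centralizerIn S V := eq_of_le_of_card_le (S := S) hle hHS hcard.le
  rw [heq] at hH'
  have := h f' (hf'.mono hHE) hH' z hzD
  rw [← hf'v z (hz hzD)]
  exact this

/-- Automorphisms of subgroups with a large normalizer preserve `D`, from the automorphisms of large fully normalized centric
subgroups. -/
theorem inv_of_large (hS : IsPGroup p S) (hF : F.IsSaturated p) {D : Subgroup Ω} (hDS : D ≤ S) (hDc : ∀ s ∈ S, ∀ z ∈ D, s * z = z * s) (m : ℕ)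
    (h : ∀ U, F.IsFullyNormalized U → F.IsCentric U → m ≤ Nat.card (normalizerIn S U) → ∀ α ∈ F.autGroup U, ∀ z ∈ D, fn α z ∈ D)
    {V₀ : Subgroup Ω} (hV₀ : V₀ ≤ S) (hz : D ≤ V₀) (hcard : m ≤ Nat.card (normalizerIn S V₀)) :
    ∀ f, IsMapOn F V₀ f → IsImage f V₀ V₀ → ∀ z ∈ D, f z ∈ D := by
  have hmap : ∀ {X : Subgroup Ω} {φ : X →* Ω}, φ ∈ F.Hom X → m ≤ Nat.card X → D ≤ X → ∀ z ∈ D, toFun φ z ∈ D := by
    intro X φ hφ hm hzX z hzD
    rw [toFun_of_mem φ (hzX hzD)]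
    exact (inv_of_aut hS hF hDS hDc m h hφ hm ⟨z, hzX hzD⟩).1 hzD
  obtain ⟨V₁, hV₀₁, hV₁⟩ := exists_fullyNormalized_conj hV₀
  obtain ⟨ζ, hζ, -, him⟩ := exists_ext_of_fullyNormalized hS hF hV₁ hV₀₁
  have hzN : D ≤ normalizerIn S V₀ := hz.trans (le_normalizerIn hV₀)
  have hζz := hmap hζ hcard hzN
  have hiV₁ : IsImage (toFun ζ) V₀ V₁ := by
    intro y
    rw [← him]
    constructor
    · rintro ⟨x, hx, rfl⟩
      exact ⟨x, hx, toFun_coe _ _⟩
    · rintro ⟨x, hx, rfl⟩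
      rw [toFun_of_mem ζ (le_normalizerIn hV₀ hx)]
      exact ⟨_, hx, rfl⟩
  refine inv_transport hDS (isMapOn_toFun hζ) (le_normalizerIn hV₀) hiV₁ hz hζz ?_
  have hzV₁ : D ≤ V₁ := by
    intro z hz'
    obtain ⟨w, hw, rfl⟩ := surj_of_inj hDS hζz (fun a ha b hb e => (isMapOn_toFun hζ).injOn (hzN ha) (hzN hb) e) z hz'
    exact hiV₁.mem (hz hw)
  have hV₁S := hV₁.1
  have hV₁c := (fullyNormalized_spec hS hF hV₁).1
  refine inv_of_centralizer (receptive_of_fullyNormalized hS hF hV₁) hzV₁ ?_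
  have hHS : V₁ ⊔ centralizerIn S V₁ ≤ S := sup_le hV₁S (centralizerIn_le V₁)
  have hHc := isCentric_sup_centralizer hS hF hV₁c
  obtain ⟨H₁, hHH₁, hH₁⟩ := exists_fullyNormalized_conj hHS
  obtain ⟨ξ, hξ, -, him'⟩ := exists_ext_of_fullyNormalized hS hF hH₁ hHH₁
  have hcardH : m ≤ Nat.card (normalizerIn S (V₁ ⊔ centralizerIn S V₁)) :=
    (hcard.trans (hV₁.2 V₀ (isConj_symm hV₀₁))).trans (card_le_of_le (S := S) (normalizerIn_le_sup_centralizer hV₁S) (normalizerIn_le _))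
  have hzH : D ≤ V₁ ⊔ centralizerIn S V₁ := hzV₁.trans le_sup_left
  have hDN : D ≤ normalizerIn S (V₁ ⊔ centralizerIn S V₁) := hzH.trans (le_normalizerIn hHS)
  have hξz := hmap hξ hcardH hDN
  have hiH₁ : IsImage (toFun ξ) (V₁ ⊔ centralizerIn S V₁) H₁ := by
    intro y
    rw [← him']
    constructor
    · rintro ⟨x, hx, rfl⟩
      exact ⟨x, hx, toFun_coe _ _⟩
    · rintro ⟨x, hx, rfl⟩
      rw [toFun_of_mem ξ (le_normalizerIn hHS hx)]
      exact ⟨_, hx, rfl⟩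
  refine inv_transport hDS (isMapOn_toFun hξ) (le_normalizerIn hHS) hiH₁ hzH hξz ?_
  intro f hf hi z hzD
  have hzH₁ : D ≤ H₁ := by
    intro z hz'
    obtain ⟨w, hw, rfl⟩ := surj_of_inj hDS hξz (fun a ha b hb e => (isMapOn_toFun hξ).injOn (hDN ha) (hDN hb) e) z hz'
    exact hiH₁.mem (hzH hw)
  obtain ⟨c, hc, hcv⟩ := exists_aut_of_map hf hi
  have hH₁c : F.IsCentric H₁ := ⟨hH₁.1, fun Q hQ => hHc.2 Q (isConj_trans hHH₁ hQ)⟩
  have := h H₁ hH₁ hH₁c (hcardH.trans (hH₁.2 _ (isConj_symm hHH₁))) c hc z hzD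
  rw [← hcv z (hzH₁ hzD)]
  exact this

/-- The descending induction. `V` is a function on subgroups with `V T ≤ T` containing `D` when `T` contains the central subgroup `Z₀`,
and compatible with normalizers. -/
theorem inv_all (hS : IsPGroup p S) (hF : F.IsSaturated p) {D Z₀ : Subgroup Ω} (hDZ : D ≤ Z₀) (hZS : Z₀ ≤ S) (hZc : ∀ s ∈ S, ∀ z ∈ Z₀, s * z = z * s)
    (V : Subgroup Ω → Subgroup Ω) (hV1 : ∀ T ≤ S, Z₀ ≤ T → D ≤ V T) (hV2 : ∀ T ≤ S, V T ≤ T)
    (hV3 : ∀ T ≤ S, ∀ g ∈ S, g ∈ Subgroup.normalizer (T : Set Ω) → g ∈ Subgroup.normalizer ((V T : Subgroup Ω) : Set Ω))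
    (hloc : ∀ U, F.IsFullyNormalized U → F.IsCentric U → ∀ α ∈ F.autGroup U,
      (∀ f, IsMapOn F (V (normalizerIn S U)) f → IsImage f (V (normalizerIn S U)) (V (normalizerIn S U)) → ∀ z ∈ D, f z ∈ D) → ∀ z ∈ D, fn α z ∈ D)
    (h₀ : ∀ f, IsMapOn F (V S) f → IsImage f (V S) (V S) → ∀ z ∈ D, f z ∈ D) :
    ∀ U, F.IsFullyNormalized U → F.IsCentric U → ∀ α ∈ F.autGroup U, ∀ z ∈ D, fn α z ∈ D := by
  have hDS := hDZ.trans hZS
  have hDc : ∀ s ∈ S, ∀ z ∈ D, s * z = z * s := fun s hs z hz => hZc s hs z (hDZ hz)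
  intro U
  induction' hn : Nat.card S - Nat.card (normalizerIn S U) using Nat.strong_induction_on with n ih generalizing U
  intro hU hUc α hα
  have hUS := hU.1
  refine hloc U hU hUc α hα ?_
  set T := normalizerIn S U with hT
  have hTS : T ≤ S := normalizerIn_le U
  have hZU : Z₀ ≤ U := by
    intro z hz
    refine hUc.2 U (isConj_refl hUS) ⟨hZS hz, ?_⟩
    show z ∈ Subgroup.centralizer (U : Set Ω)
    rw [Subgroup.mem_centralizer_iff]
    intro y hy
    exact hZc y (hUS hy) z hz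
  have hzT : Z₀ ≤ T := hZU.trans (le_normalizerIn hUS)
  have hm : ∀ U', F.IsFullyNormalized U' → F.IsCentric U' → Nat.card T + 1 ≤ Nat.card (normalizerIn S U') → ∀ α ∈ F.autGroup U', ∀ z ∈ D, fn α z ∈ D := by
    intro U' h1 h2 h3 α' hα'
    have h4 : Nat.card (normalizerIn S U') ≤ Nat.card S := card_le_card_S (normalizerIn_le U')
    have h5 : Nat.card T ≤ Nat.card S := card_le_card_S hTS
    exact ih (Nat.card S - Nat.card (normalizerIn S U')) (by omega) U' rfl h1 h2 α' hα'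
  by_cases hTeq : T = S
  · rw [hTeq]
    exact h₀
  · have hlt : T < S := lt_of_le_of_ne hTS hTeq
    refine inv_of_large hS hF hDS hDc (Nat.card T + 1) hm ((hV2 T hTS).trans hTS) (hV1 T hTS hzT) ?_
    obtain ⟨g, hg, hgT⟩ := exists_mem_normalizerIn_not_mem hS hlt
    have hTN : T ≤ normalizerIn S (V T) := fun x hx => ⟨hTS hx, hV3 T hTS x (hTS hx) (Subgroup.le_normalizer hx)⟩
    have hgN : g ∈ normalizerIn S (V T) := ⟨hg.1, hV3 T hTS g hg.1 hg.2⟩
    have hlt' : T < normalizerIn S (V T) := lt_of_le_of_ne hTN (fun e => hgT (e ▸ hgN))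
    exact card_lt_of_lt hlt' (normalizerIn_le _)

end Cfsg.Agent.Lib.Fusion2.InvSub
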