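import Cfsg.Agent.Lib.Fusion2.PowCenterG
import Cfsg.Agent.Lib.Fusion2.InvSub
import Cfsg.Agent.Lib.Fusion.NormalCriterion

/-!
# `℧ⁿ(Z(S))` is normal in `F` when `S` has class at most `n (p - 1) + 1`
-/

set_option autoImplicit false
set_option linter.unusedSectionVars false
set_option linter.style.haveILetI false

universe u

namespace Cfsg.Agent.Lib.Fusion2.PowRing

open Cfsg Cfsg.FusionSystem Cfsg.Agent.Lib.Fusion Cfsg.Agent.Lib.Fusion2.InvSub Subgroup
open scoped commutatorElement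

/-- The elements of the power closure of an abelian subgroup. -/
theorem mem_powerClosure_iff {G : Type*} [Group G] {p n : ℕ} {H : Subgroup G} (hH : ∀ a ∈ H, ∀ b ∈ H, a * b = b * a) {x : G} :
    x ∈ powerClosure p n H ↔ ∃ y ∈ H, x = y ^ (p ^ n) := by
  constructor
  · intro hx
    induction hx using Subgroup.closure_induction with
    | mem x hx => exact hx
    | one => exact ⟨1, H.one_mem, by simp⟩
    | mul a b _ _ iha ihb =>
      obtain ⟨y₁, h1, rfl⟩ := iha
      obtain ⟨y₂, h2, rfl⟩ := ihb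
      refine ⟨y₁ * y₂, H.mul_mem h1 h2, ?_⟩
      have hcm : Commute y₁ y₂ := hH y₁ h1 y₂ h2
      exact (hcm.mul_pow _).symm
    | inv a _ iha =>
      obtain ⟨y₁, h1, rfl⟩ := iha
      exact ⟨y₁⁻¹, H.inv_mem h1, by simp⟩
  · rintro ⟨y, hy, rfl⟩
    exact Subgroup.subset_closure ⟨y, hy, rfl⟩

theorem powerClosure_le {G : Type*} [Group G] {p n : ℕ} {H K : Subgroup G} (h : H ≤ K) : powerClosure p n H ≤ powerClosure p n K :=
  Subgroup.closure_mono (fun _ ⟨x, hx, e⟩ => ⟨x, h hx, e⟩)

theorem powerClosure_le_self {G : Type*} [Group G] {p n : ℕ} {H : Subgroup G} : powerClosure p n H ≤ H :=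
  (Subgroup.closure_le _).2 (fun _ ⟨x, hx, e⟩ => e ▸ H.pow_mem hx _)

/-- The iterated commutators in a group of class `k`. -/
theorem iter_comm_eq_one {G : Type*} [Group G] {S : Subgroup G} {k : ℕ} (h : S.lowerCentralSeries k = ⊥) {t a : G} (ht : t ∈ S) (ha : a ∈ S) : (fun x => ⁅t, x⁆)^[k] a = 1 := by
  have key : ∀ j : ℕ, (fun x => ⁅t, x⁆)^[j] a ∈ S.lowerCentralSeries j := by
    intro j
    induction j with
    | zero => exact ha
    | succ j ih =>
      rw [Function.iterate_succ_apply']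
      have h1 : ⁅(fun x => ⁅t, x⁆)^[j] a, t⁆ ∈ S.lowerCentralSeries (j + 1) := by
        rw [Subgroup.lowerCentralSeries_succ]
        exact Subgroup.subset_closure ⟨_, ih, t, ht, rfl⟩
      have h2 := Subgroup.inv_mem _ h1
      rwa [commutatorElement_inv] at h2
  have := key k
  rwa [h, mem_bot] at this

variable {Ω : Type u} [Group Ω] {S : Subgroup Ω} {F : FusionSystem S}
variable [Finite S] {p : ℕ} [hpf : Fact p.Prime]

/-- The function `T ↦ ℧ⁿ(Z(T))`. -/
abbrev vOn (p n : ℕ) (T : Subgroup Ω) : Subgroup Ω := powerClosure p n (T ⊓ centralizer (T : Set Ω))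

omit [Finite S] hpf in
theorem center_comm (T : Subgroup Ω) : ∀ a ∈ T ⊓ centralizer (T : Set Ω), ∀ b ∈ T ⊓ centralizer (T : Set Ω), a * b = b * a :=
  fun a ha b hb => (mem_centralizer_iff.1 hb.2 a ha.1)

omit [Finite S] hpf in
theorem vOn_normalizer {T : Subgroup Ω} {n : ℕ} [Finite T] {g : Ω} (hg : g ∈ normalizer (T : Set Ω)) : g ∈ normalizer ((vOn p n T : Subgroup Ω) : Set Ω) := by
  have hZ : ∀ x ∈ T ⊓ centralizer (T : Set Ω), ∀ g ∈ normalizer (T : Set Ω), g * x * g⁻¹ ∈ T ⊓ centralizer (T : Set Ω) := by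
    intro x hx g hg
    refine ⟨(mem_normalizer_iff.1 hg x).1 hx.1, ?_⟩
    show g * x * g⁻¹ ∈ centralizer (T : Set Ω)
    rw [mem_centralizer_iff]
    intro y hy
    have hy' : g⁻¹ * y * g⁻¹⁻¹ ∈ T := (mem_normalizer_iff.1 (Subgroup.inv_mem _ hg) y).1 hy
    have h1 := mem_centralizer_iff.1 hx.2 _ hy'
    simp only [inv_inv] at h1
    calc y * (g * x * g⁻¹) = g * ((g⁻¹ * y * g) * x) * g⁻¹ := by group
      _ = g * (x * (g⁻¹ * y * g)) * g⁻¹ := by rw [h1]
      _ = g * x * g⁻¹ * y := by group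
  have hconj : ∀ g ∈ normalizer (T : Set Ω), ∀ x ∈ vOn p n T, g * x * g⁻¹ ∈ vOn p n T := by
    intro g hg x hx
    obtain ⟨y, hy, rfl⟩ := (mem_powerClosure_iff (center_comm T)).1 hx
    rw [← conj_pow]
    exact (mem_powerClosure_iff (center_comm T)).2 ⟨_, hZ y hy g hg, rfl⟩
  rw [mem_normalizer_iff]
  intro x
  constructor
  · exact hconj g hg x
  · intro hx
    have := hconj g⁻¹ (Subgroup.inv_mem _ hg) _ hx
    have e : g⁻¹ * (g * x * g⁻¹) * g⁻¹⁻¹ = x := by group
    rwa [e] at this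

/-- The local step. -/
theorem local_step_pow (hS : IsPGroup p S) (hF : F.IsSaturated p) (n : ℕ)
    (hcl : ∀ t ∈ S, ∀ a ∈ S, (fun x => ⁅t, x⁆)^[n * (p - 1) + 1] a = 1)
    {U : Subgroup Ω} (hU : F.IsFullyNormalized U) (hUc : F.IsCentric U) {α : MulAut U} (hα : α ∈ F.autGroup U)
    (h : ∀ f, IsMapOn F (vOn p n (normalizerIn S U)) f → IsImage f (vOn p n (normalizerIn S U)) (vOn p n (normalizerIn S U)) →
      ∀ z ∈ vOn p n S, f z ∈ vOn p n S) :
    ∀ z ∈ vOn p n S, fn α z ∈ vOn p n S := by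
  classical
  intro z hz
  have hUS := hU.1
  obtain ⟨E, hE⟩ := kSystem_normalizer F hUS
  haveI hTf : Finite (normalizerIn S U) := finite_of_le (normalizerIn_le U)
  have hsat : E.IsSaturated p := isSaturated_normalizerSystem hS hF hU hE
  have hN := isNormal_normalizerSystem hUS hE
  have hCc := isCentric_normalizerSystem hUc hE
  have hSN : IsPGroup p (normalizerIn S U) := hS.to_le (normalizerIn_le U)
  have hQ : U ≤ normalizerIn S U := hN.1
  have hn : normalizerIn S U ≤ Subgroup.normalizer (U : Set Ω) := fun x hx => hx.2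
  obtain ⟨L, hL, ι, hmodel⟩ := exists_model hSN ⟨hsat, U, hN, hCc⟩
  obtain ⟨πL, hd⟩ := exists_modelData (hQ := hQ) (hn := hn) hN hCc hmodel hSN
  obtain ⟨hfin, hreal, ⟨R, hR⟩, hcen⟩ := hmodel
  have hι := hreal.1
  have hαE : α ∈ E.autGroup U := by
    rw [autGroup_normalizerSystem hUS hE]
    exact hα
  obtain ⟨g, hg⟩ := hd.surj ⟨α, hαE⟩
  obtain ⟨T, hTdef⟩ : ∃ T, T = normalizerIn S U := ⟨_, rfl⟩
  have hDZ : ∀ y ∈ S ⊓ centralizer (S : Set Ω), y ∈ U := by
    intro y hy
    refine hUc.2 U (isConj_refl hUS) ⟨hy.1, ?_⟩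
    show y ∈ Subgroup.centralizer (U : Set Ω)
    rw [Subgroup.mem_centralizer_iff]
    intro x hx
    exact mem_centralizer_iff.1 hy.2 x (hUS hx)
  have hzU : z ∈ U := by
    obtain ⟨y, hy, rfl⟩ := (mem_powerClosure_iff (center_comm S)).1 hz
    exact U.pow_mem (hDZ y hy) _
  have hTS : normalizerIn S U ≤ S := normalizerIn_le U
  have hVT : vOn p n (normalizerIn S U) ≤ normalizerIn S U := powerClosure_le_self.trans inf_le_left
  have hzV : z ∈ vOn p n (normalizerIn S U) := by
    have hle : S ⊓ centralizer (S : Set Ω) ≤ normalizerIn S U ⊓ centralizer ((normalizerIn S U : Subgroup Ω) : Set Ω) :=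
      fun y hy => ⟨hQ (hDZ y hy), centralizer_le (fun x hx => hTS hx) hy.2⟩
    exact powerClosure_le hle hz
  have hzT : z ∈ normalizerIn S U := hVT hzV
  -- the key closure property
  have hiter : ∀ (k : ℕ) (t a : normalizerIn S U), ((fun x => ⁅ι t, x⁆)^[k] (ι a) : L) = ι ((fun x => ⁅t, x⁆)^[k] a) := by
    intro k t a
    induction k generalizing a with
    | zero => rfl
    | succ k ih =>
      rw [Function.iterate_succ_apply, Function.iterate_succ_apply]
      have : ⁅ι t, ι a⁆ = ι ⁅t, a⁆ := by simp [commutatorElement_def]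
      rw [this, ih]
  have hiterT : ∀ (k : ℕ) (t a : normalizerIn S U), (((fun x => ⁅t, x⁆)^[k] a : normalizerIn S U) : Ω) = (fun x => ⁅(t : Ω), x⁆)^[k] (a : Ω) := by
    intro k t a
    induction k generalizing a with
    | zero => rfl
    | succ k ih =>
      rw [Function.iterate_succ_apply, ih, Function.iterate_succ_apply]
      rfl
  have hnilR : ∀ t ∈ (R : Subgroup L), ∀ a ∈ (R : Subgroup L), (fun x => ⁅t, x⁆)^[n * (p - 1) + 1] a = 1 := by
    intro t ht a ha
    rw [hR] at ht ha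
    obtain ⟨t₀, rfl⟩ := ht
    obtain ⟨a₀, rfl⟩ := ha
    rw [hiter]
    have : (fun x => ⁅t₀, x⁆)^[n * (p - 1) + 1] a₀ = 1 := by
      apply Subtype.ext
      rw [hiterT]
      exact hcl t₀ (hTS t₀.2) a₀ (hTS a₀.2)
    rw [this, map_one]
  have hclosed : ∀ (g₁ : L) (x : normalizerIn S U), (x : Ω) ∈ vOn p n (normalizerIn S U) →
      ∃ t : normalizerIn S U, (t : Ω) ∈ vOn p n (normalizerIn S U) ∧ g₁ * ι x * g₁⁻¹ = ι t := by
    intro g₁ x hx
    obtain ⟨w, hw, hwx⟩ := (mem_powerClosure_iff (center_comm _)).1 hx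
    have hwc : ∀ t : normalizerIn S U, t * ⟨w, hw.1⟩ = ⟨w, hw.1⟩ * t := by
      intro t
      apply Subtype.ext
      exact mem_centralizer_iff.1 hw.2 t t.2
    have hιw : ι ⟨w, hw.1⟩ ∈ (R : Subgroup L) := by
      rw [hR]
      exact ⟨_, rfl⟩
    obtain ⟨y', hy'1, hy'2, hy'3⟩ := power_center_key n _ L R rfl hcen hnilR (ι ⟨w, hw.1⟩) hιw (by
      intro t ht
      rw [hR] at ht
      obtain ⟨s, rfl⟩ := ht
      rw [← map_mul, ← map_mul, hwc]) g₁
    rw [hR] at hy'1
    obtain ⟨w', rfl⟩ := hy'1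
    have hw'c : ∀ t : normalizerIn S U, t * w' = w' * t := by
      intro t
      apply hι
      rw [map_mul, map_mul]
      apply hy'2
      rw [hR]
      exact ⟨_, rfl⟩
    refine ⟨w' ^ (p ^ n), ?_, ?_⟩
    · refine (mem_powerClosure_iff (center_comm _)).2 ⟨(w' : Ω), ⟨w'.2, ?_⟩, rfl⟩
      show (w' : Ω) ∈ centralizer _
      rw [mem_centralizer_iff]
      intro t ht
      exact congrArg Subtype.val (hw'c ⟨t, ht⟩)
    · have e1 : x = (⟨w, hw.1⟩ : normalizerIn S U) ^ (p ^ n) := Subtype.ext hwx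
      rw [e1, map_pow, hy'3, map_pow]
  obtain ⟨β, hβ, hβv⟩ := exists_map_of_gconj hreal hVT g (fun x hx => by
    obtain ⟨t, -, ht⟩ := hclosed g x hx
    exact ⟨t, ht.symm⟩)
  have hβF : IsMapOn F (vOn p n (normalizerIn S U)) β := by
    obtain ⟨φ, hφ, hv⟩ := hβ
    rw [hE] at hφ
    exact ⟨φ, hφ.1, hv⟩
  have hβi : IsImage β (vOn p n (normalizerIn S U)) (vOn p n (normalizerIn S U)) := by
    intro y
    constructor
    · intro hy
      have hyT := hVT hy
      obtain ⟨t, ht, htv⟩ := hclosed g⁻¹ ⟨y, hyT⟩ hy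
      refine ⟨t, ht, ?_⟩
      have h3 := hβv t ht
      rw [← htv] at h3
      have h4 : ι (toS (normalizerIn S U) (β t)) = ι ⟨y, hyT⟩ := by
        rw [h3]
        group
      have h5 := hι h4
      have h6 := congrArg (fun s : normalizerIn S U => (s : Ω)) h5
      simp only at h6
      rwa [coe_toS (hβ.mem_S ht)] at h6
    · rintro ⟨x, hx, rfl⟩
      have hxT := hVT hx
      obtain ⟨t, ht, htv⟩ := hclosed g ⟨x, hxT⟩ hx
      rw [← hβv ⟨x, hxT⟩ hx] at htv
      have h5 := hι htv
      have h6 := congrArg (fun s : normalizerIn S U => (s : Ω)) h5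
      simp only at h6
      rw [coe_toS (hβ.mem_S hx)] at h6
      rw [h6]
      exact ht
  have hfix := h β hβF hβi z hz
  have h1 := hd.conj g ⟨z, hzU⟩
  have h2 : Subgroup.inclusion hQ ⟨z, hzU⟩ = ⟨z, hzT⟩ := rfl
  rw [h2] at h1
  have h3 := hβv ⟨z, hzT⟩ hzV
  simp only at h3
  rw [← h3, hg] at h1
  have h4 := hι h1
  have h5 := congrArg (fun s : normalizerIn S U => (s : Ω)) h4
  rw [coe_toS (hβ.mem_S hzV)] at h5
  rw [fn_of_mem _ hzU]
  have h6 : ((α ⟨z, hzU⟩ : U) : Ω) = β z := h5.symm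
  rw [h6]
  exact hfix

/-- The main theorem. -/
theorem isNormal_powerClosure (hS : IsPGroup p S) (hF : F.IsSaturated p) (n : ℕ)
    (hcl : S.lowerCentralSeries (n * (p - 1) + 1) = ⊥) : F.IsNormal (powerClosure p n (S ⊓ centralizer (S : Set Ω))) := by
  have hcl' : ∀ t ∈ S, ∀ a ∈ S, (fun x => ⁅t, x⁆)^[n * (p - 1) + 1] a = 1 := by
    intro t ht a ha
    exact iter_comm_eq_one hcl ht ha
  have hZS : S ⊓ centralizer (S : Set Ω) ≤ S := inf_le_left
  have hZc : ∀ s ∈ S, ∀ z ∈ S ⊓ centralizer (S : Set Ω), s * z = z * s := fun s hs z hz => mem_centralizer_iff.1 hz.2 s hs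
  have hDZ : powerClosure p n (S ⊓ centralizer (S : Set Ω)) ≤ S ⊓ centralizer (S : Set Ω) := powerClosure_le_self
  have hDS := hDZ.trans hZS
  have hall := inv_all hS hF hDZ hZS hZc (vOn p n) (fun T hT hZT => ?_) (fun T _ => powerClosure_le_self.trans le_rfl |>.trans inf_le_left)
    (fun T hT g _ hgn => ?_) (fun U hU hUc α hα h => local_step_pow hS hF n hcl' hU hUc hα h) (fun f _ hi z hz => hi.mem hz)
  · refine isNormal_of_forall_aut hS hF hDS (fun s hs => ?_) (fun P hP => ?_)
    · rw [mem_normalizer_iff]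
      intro x
      constructor
      · intro hx
        have : s * x * s⁻¹ = x := by
          rw [hZc s hs x (hDZ hx)]
          group
        rwa [this]
      · intro hx
        have : s * x * s⁻¹ = x := by
          have h1 := hZc s⁻¹ (S.inv_mem hs) _ (hDZ hx)
          calc s * x * s⁻¹ = (s * x * s⁻¹) * s⁻¹ * s := by group
            _ = s⁻¹ * (s * x * s⁻¹) * s := by rw [h1]
            _ = x := by group
        rwa [this] at hx
    · have hPS : P ≤ S := by
        rcases hP with rfl | hP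
        · exact le_rfl
        · exact hP.1.1
      have hPn := fullyNormalized_of_mem P hP
      have hPc : F.IsCentric P := by
        rcases hP with rfl | hP
        · exact isCentric_self
        · exact hP.1
      have hDP : powerClosure p n (S ⊓ centralizer (S : Set Ω)) ≤ P := by
        intro z hz
        refine hPc.2 P (isConj_refl hPS) ⟨hDS hz, ?_⟩
        show z ∈ Subgroup.centralizer (P : Set Ω)
        rw [Subgroup.mem_centralizer_iff]
        intro y hy
        exact hZc y (hPS hy) z (hDZ hz)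
      refine ⟨hDP, fun α hα => ?_⟩
      have h1 := hall P hPn hPc α hα
      have hsurj := surj_of_inj (f := fn α) hDS h1 (fun a ha b hb e => by
        rw [fn_of_mem α (hDP ha), fn_of_mem α (hDP hb)] at e
        have := α.injective (Subtype.ext e)
        exact congrArg Subtype.val this)
      ext y
      constructor
      · rintro ⟨x, hx, rfl⟩
        have h2 := h1 x (Subgroup.mem_subgroupOf.1 hx)
        rw [fn_of_mem α x.2] at h2
        exact h2
      · intro hy
        obtain ⟨w, hw, rfl⟩ := hsurj y hy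
        rw [fn_of_mem α (hDP hw)]
        exact ⟨⟨w, hDP hw⟩, hw, rfl⟩
  · refine powerClosure_le (fun y hy => ⟨hZT hy, ?_⟩)
    exact centralizer_le (fun x hx => hT hx) hy.2
  · haveI := finite_of_le hT
    exact vOn_normalizer hgn

section exponent

theorem conj_pow_of_central {G : Type*} [Group G] {u v c : G} (hc : ∀ h : G, c * h = h * c) (h : u * v * u⁻¹ = c * v) (m : ℕ) :
    ⁅u ^ m, v⁆ = c ^ m := by
  have h1 : ∀ j : ℕ, u ^ j * v * (u ^ j)⁻¹ = c ^ j * v := by
    intro j
    induction j with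
    | zero => simp
    | succ j ih =>
      have e : u ^ (j + 1) * v * (u ^ (j + 1))⁻¹ = u * (u ^ j * v * (u ^ j)⁻¹) * u⁻¹ := by
        rw [pow_succ']
        group
      have hcj : ∀ h : G, c ^ j * h = h * c ^ j := fun h => (show Commute (c ^ j) h from (show Commute c h from hc h).pow_left j)
      rw [e, ih]
      calc u * (c ^ j * v) * u⁻¹ = (u * c ^ j) * v * u⁻¹ := by group
        _ = (c ^ j * u) * v * u⁻¹ := by rw [hcj u]
        _ = c ^ j * (u * v * u⁻¹) := by group
        _ = c ^ j * (c * v) := by rw [h]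
        _ = c ^ (j + 1) * v := by rw [pow_succ]; group
  rw [commutatorElement_def, h1 m]
  group

theorem pow_mem_upperCentralSeries {G : Type*} [Group G] {m : ℕ} (hz : ∀ y ∈ center G, y ^ m = 1) :
    ∀ (i : ℕ), ∀ x ∈ Subgroup.upperCentralSeries G (i + 1), x ^ m ∈ Subgroup.upperCentralSeries G i := by
  intro i
  induction i with
  | zero =>
    intro x hx
    have hx' : x ∈ center G := by
      rw [← Subgroup.upperCentralSeries_one]
      exact hx
    rw [hz x hx']
    exact Subgroup.one_mem _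
  | succ i ih =>
    intro x hx
    rw [Subgroup.mem_upperCentralSeries_succ_iff]
    intro g
    obtain ⟨N, hN⟩ : ∃ N, N = Subgroup.upperCentralSeries G i := ⟨_, rfl⟩
    haveI hNn : N.Normal := by
      rw [hN]
      infer_instance
    have ha : ⁅x, g⁆ ∈ Subgroup.upperCentralSeries G (i + 1) := Subgroup.mem_upperCentralSeries_succ_iff.1 hx g
    let π := QuotientGroup.mk' N
    have hπ : ∀ w, π w = 1 ↔ w ∈ N := fun w => QuotientGroup.eq_one_iff w
    have hc : ∀ h : G ⧸ N, π ⁅x, g⁆ * h = h * π ⁅x, g⁆ := by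
      intro h
      obtain ⟨h₀, rfl⟩ := QuotientGroup.mk'_surjective N h
      have h1 : ⁅⁅x, g⁆, h₀⁆ ∈ N := by
        rw [hN]
        exact Subgroup.mem_upperCentralSeries_succ_iff.1 ha h₀
      have h2 := (hπ _).2 h1
      rw [commutatorElement_def, map_mul, map_mul, map_mul, map_inv, map_inv] at h2
      have h3 : ∀ a b : G ⧸ N, a * b * a⁻¹ * b⁻¹ = 1 → a * b = b * a := by
        intro a b hab
        have := commutatorElement_eq_one_iff_mul_comm.1 (by rw [commutatorElement_def]; exact hab : ⁅a, b⁆ = 1)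
        exact this
      exact h3 _ _ h2
    have hconj : π x * π g * (π x)⁻¹ = π ⁅x, g⁆ * π g := by
      rw [commutatorElement_def, map_mul, map_mul, map_mul, map_inv, map_inv]
      group
    have hk := conj_pow_of_central hc hconj m
    have h4 : π ⁅x ^ m, g⁆ = π (⁅x, g⁆ ^ m) := by
      rw [map_pow, ← hk, commutatorElement_def, commutatorElement_def, map_mul, map_mul, map_mul, map_inv, map_inv, map_pow]
    have h5 : ⁅x, g⁆ ^ m ∈ N := by
      rw [hN]
      exact ih _ ha
    have h6 : π (⁅x, g⁆ ^ m) = 1 := (hπ _).2 h5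
    rw [h6] at h4
    rw [← hN]
    exact (hπ _).1 h4

theorem exponent_dvd_of_center {G : Type*} [Group G] {m k : ℕ} (hcl : (⊤ : Subgroup G).lowerCentralSeries k = ⊥) (hz : ∀ y ∈ center G, y ^ m = 1) :
    Monoid.exponent G ∣ m ^ k := by
  have h1 : Subgroup.upperCentralSeries G k = ⊤ := Subgroup.lowerCentralSeries_eq_bot_iff_upperCentralSeries_eq_top.1 hcl
  have h2 : ∀ (i : ℕ), ∀ x ∈ Subgroup.upperCentralSeries G i, x ^ (m ^ i) = 1 := by
    intro i
    induction i with
    | zero =>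
      intro x hx
      have : x = 1 := by simpa using hx
      rw [this, one_pow]
    | succ i ih =>
      intro x hx
      have := ih _ (pow_mem_upperCentralSeries hz i x hx)
      rw [pow_succ', pow_mul]
      exact this
  apply Monoid.exponent_dvd_of_forall_pow_eq_one
  intro g
  exact h2 k g (by rw [h1]; exact mem_top g)

theorem top_lowerCentralSeries_map {Ω : Type*} [Group Ω] (S : Subgroup Ω) (k : ℕ) :
    ((⊤ : Subgroup S).lowerCentralSeries k).map S.subtype = S.lowerCentralSeries k := by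
  induction k with
  | zero =>
    rw [Subgroup.lowerCentralSeries_zero, Subgroup.lowerCentralSeries_zero, ← MonoidHom.range_eq_map, Subgroup.range_subtype]
  | succ k ih =>
    rw [Subgroup.lowerCentralSeries_succ, Subgroup.lowerCentralSeries_succ, Subgroup.map_commutator, ih, ← MonoidHom.range_eq_map, Subgroup.range_subtype]

end exponent

end Cfsg.Agent.Lib.Fusion2.PowRing
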