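import Cfsg.Agent.Lib.LocalEven2.Replace
import Cfsg.Agent.Lib.PLocal.ZJ2
import Cfsg.Agent.Lib.Fusion2.PowCenter

/-!
# Groups generated by `C_G(℧¹(Z(S)))` and `N_G(J(S))`: the group-theoretic part
-/

set_option autoImplicit false
set_option linter.unusedSectionVars false
set_option linter.style.haveILetI false

universe u

namespace Cfsg.Agent.Lib.Fusion2.GenJ

open Cfsg Subgroup
open Cfsg.Agent.Lib.PLocal
open Cfsg.Agent.Lib.Fusion2.PowRing
open scoped commutatorElement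

variable {p : ℕ} [hpf : Fact p.Prime]

/-- Thompson replacement with the replacement inside the normalizer. -/
theorem replacement_norm {G : Type*} [Group G] [Finite G] (hS : IsPGroup p G) {A B : Subgroup G}
    (hA : A ∈ maxAbelianSubgroups G) (hBc : ∀ a ∈ B, ∀ b ∈ B, a * b = b * a) (hBn : B.Normal)
    (h : ¬ B ≤ normalizer (A : Set G)) :
    ∃ A' ∈ maxAbelianSubgroups G, A' ≤ normalizer (A : Set G) ∧
      Nat.card (A ⊓ B : Subgroup G) < Nat.card (A' ⊓ B : Subgroup G) := by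
  set T : Subgroup G := A ⊔ B with hT
  set N : Subgroup G := T ⊓ normalizer (A : Set G) with hN
  have hNT : N < T := by
    refine lt_of_le_of_ne inf_le_left ?_
    intro e
    apply h
    have : T ≤ normalizer (A : Set G) := by rw [← e]; exact inf_le_right
    exact (le_sup_right).trans this
  have hlt := Cfsg.Agent.Lib.LocalEven2.lt_inf_normalizer_of_lt (hS.to_subgroup T) hNT
  obtain ⟨y, hy, hyN⟩ := SetLike.exists_of_lt hlt
  have hAN : A ≤ N := le_inf le_sup_left le_normalizer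
  obtain ⟨hyT, hyNN⟩ := Subgroup.mem_inf.1 hy
  have hyT' : y ∈ ((A ⊔ B : Subgroup G) : Set G) := hyT
  rw [Subgroup.mul_normal] at hyT'
  obtain ⟨a₀, ha₀, x, hx, rfl⟩ := hyT'
  have hxNN : x ∈ normalizer (N : Set G) := by
    have e : x = a₀⁻¹ * (a₀ * x) := by group
    rw [e]
    exact Subgroup.mul_mem _ (Subgroup.inv_mem _ (le_normalizer (hAN ha₀))) hyNN
  have hxT : x ∈ T := le_sup_right (α := Subgroup G) hx
  have hxA : x ∉ normalizer (A : Set G) := by
    intro hc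
    apply hyN
    have : x ∈ N := Subgroup.mem_inf.2 ⟨hxT, hc⟩
    exact N.mul_mem (hAN ha₀) this
  obtain ⟨A', hA', hn, -, hlt'⟩ := Cfsg.Agent.Lib.LocalEven2.replacement_step hA hBc hBn (x := x)
    (fun a ha => by
      have e2 : x * a * x⁻¹ * a⁻¹ = x * (a * x⁻¹ * a⁻¹) := by group
      rw [e2]
      exact B.mul_mem hx (hBn.conj_mem _ (B.inv_mem hx) a))
    (fun a ha => by
      have h1 : x * a * x⁻¹ ∈ N := (mem_normalizer_iff.1 hxNN a).1 (hAN ha)
      exact (Subgroup.mem_inf.1 h1).2) hxA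
  exact ⟨A', hA', hn, hlt'⟩

/-- If `J(G)` does not centralize the normal abelian `W`, some maximal abelian `A` acts nontrivially and is normalized by `W`. -/
theorem exists_max_ab_normalized {G : Type*} [Group G] [Finite G] (hG : IsPGroup p G) {W : Subgroup G}
    (hWc : ∀ a ∈ W, ∀ b ∈ W, a * b = b * a) (hWn : W.Normal) {A₀ : Subgroup G} (hA₀ : A₀ ∈ maxAbelianSubgroups G)
    (hA₀W : ¬ A₀ ≤ centralizer (W : Set G)) :
    ∃ A ∈ maxAbelianSubgroups G, ¬ A ≤ centralizer (W : Set G) ∧ W ≤ normalizer (A : Set G) := by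
  classical
  have hfin : {A : Subgroup G | A ∈ maxAbelianSubgroups G ∧ ¬ A ≤ centralizer (W : Set G)}.Finite := Set.toFinite _
  obtain ⟨A, ⟨hA, hAW⟩, hmax⟩ := Set.exists_max_image _ (fun A : Subgroup G => Nat.card (A ⊓ W : Subgroup G)) hfin ⟨A₀, hA₀, hA₀W⟩
  refine ⟨A, hA, hAW, ?_⟩
  by_contra hc
  obtain ⟨A', hA', hn, hlt⟩ := replacement_norm hG hA hWc hWn hc
  have hA'W : A' ≤ centralizer (W : Set G) := by
    by_contra h
    exact absurd (hmax A' ⟨hA', h⟩) (not_le.2 hlt)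
  apply hc
  intro w hw
  apply hn
  refine mem_of_commute_maxAbelian hA' (fun a ha => ?_)
  have := mem_centralizer_iff.1 (hA'W ha) w hw
  exact this.symm

/-- A quadratic element. -/
theorem exists_quadratic_elem {G : Type*} [Group G] [Finite G] (hG : IsPGroup p G) {W A : Subgroup G}
    (hWc : ∀ a ∈ W, ∀ b ∈ W, a * b = b * a) (hWn : W.Normal) (hAc : ∀ a ∈ A, ∀ b ∈ A, a * b = b * a)
    (hAW : ¬ A ≤ centralizer (W : Set G)) (hWA : W ≤ normalizer (A : Set G)) :
    ∃ g₁ : G, g₁ ∉ centralizer (W : Set G) ∧ ∀ w ∈ W, g₁ * w ^ p * g₁⁻¹ = w ^ p := by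
  classical
  obtain ⟨a, ha, haW⟩ := SetLike.not_le_iff_exists.1 hAW
  obtain ⟨m₀, hm₀⟩ := hG a
  have hex : ∃ k, a ^ p ^ k ∈ centralizer (W : Set G) := ⟨m₀, by rw [hm₀]; exact Subgroup.one_mem _⟩
  have hk₀ : Nat.find hex ≠ 0 := by
    intro h0
    have := Nat.find_spec hex
    rw [h0, pow_zero, pow_one] at this
    exact haW this
  obtain ⟨k, hk⟩ : ∃ k, Nat.find hex = k + 1 := Nat.exists_eq_succ_of_ne_zero hk₀
  obtain ⟨g₁, hg₁def⟩ : ∃ g₁, g₁ = a ^ p ^ k := ⟨_, rfl⟩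
  have hg₁A : g₁ ∈ A := hg₁def ▸ A.pow_mem ha _
  have hg₁W : g₁ ∉ centralizer (W : Set G) := by
    rw [hg₁def]
    exact Nat.find_min hex (by omega)
  have hg₁p : g₁ ^ p ∈ centralizer (W : Set G) := by
    have := Nat.find_spec hex
    rw [hk, pow_succ, pow_mul] at this
    rw [hg₁def]
    exact this
  refine ⟨g₁, hg₁W, fun w hw => ?_⟩
  obtain ⟨c, hcdef⟩ : ∃ c, c = g₁ * w * g₁⁻¹ * w⁻¹ := ⟨_, rfl⟩
  have hcW : c ∈ W := by
    rw [hcdef]
    exact W.mul_mem (hWn.conj_mem w hw g₁) (W.inv_mem hw)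
  have hcA : c ∈ A := by
    have e : c = g₁ * (w * g₁⁻¹ * w⁻¹) := by rw [hcdef]; group
    rw [e]
    exact A.mul_mem hg₁A ((mem_normalizer_iff.1 (hWA hw) _).1 (A.inv_mem hg₁A))
  have hcg : g₁ * c = c * g₁ := hAc _ hg₁A _ hcA
  have hgw : g₁ * w * g₁⁻¹ = c * w := by rw [hcdef]; group
  have hcw : c * w = w * c := hWc _ hcW _ hw
  have hpow : ∀ j : ℕ, g₁ ^ j * w * (g₁ ^ j)⁻¹ = c ^ j * w := by
    intro j
    induction j with
    | zero => simp
    | succ j ih =>
      have hcj : g₁ * c ^ j = c ^ j * g₁ := (show Commute g₁ c from hcg).pow_right j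
      calc g₁ ^ (j + 1) * w * (g₁ ^ (j + 1))⁻¹ = g₁ * (g₁ ^ j * w * (g₁ ^ j)⁻¹) * g₁⁻¹ := by
            rw [pow_succ']; group
        _ = g₁ * (c ^ j * w) * g₁⁻¹ := by rw [ih]
        _ = (g₁ * c ^ j) * w * g₁⁻¹ := by group
        _ = (c ^ j * g₁) * w * g₁⁻¹ := by rw [hcj]
        _ = c ^ j * (g₁ * w * g₁⁻¹) := by group
        _ = c ^ j * (c * w) := by rw [hgw]
        _ = c ^ (j + 1) * w := by rw [pow_succ]; group
  have hcp : c ^ p = 1 := by
    have h1 := hpow p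
    have h2 := mem_centralizer_iff.1 hg₁p w hw
    have h3 : g₁ ^ p * w * (g₁ ^ p)⁻¹ = w := by
      rw [← h2]
      group
    rw [h3] at h1
    have h4 : c ^ p * w = 1 * w := by rw [one_mul]; exact h1.symm
    exact mul_right_cancel h4
  rw [← conj_pow, hgw]
  have hcm : Commute c w := hcw
  rw [hcm.mul_pow, hcp, one_mul]

/-- A `p`-subgroup inside a group containing the Sylow `S` can be conjugated into `S`. -/
theorem exists_conj_le {G : Type*} [Group G] [Finite G] {S H₀ B : Subgroup G} (hSp : IsPGroup p S)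
    (hSmax : ∀ R : Subgroup G, IsPGroup p R → S ≤ R → R = S) (hSH₀ : S ≤ H₀) (hB : IsPGroup p B) (hBH₀ : B ≤ H₀) :
    ∃ k ∈ H₀, ∀ b ∈ B, k * b * k⁻¹ ∈ S := by
  have hB₀ : IsPGroup p (B.subgroupOf H₀) := by
    intro x
    obtain ⟨n, hn⟩ := hB ⟨(x : H₀), x.2⟩
    refine ⟨n, Subtype.ext (Subtype.ext ?_)⟩
    have h5 := congrArg Subtype.val hn
    simpa using h5
  have hS₀ : IsPGroup p (S.subgroupOf H₀) := by
    intro x
    obtain ⟨n, hn⟩ := hSp ⟨(x : H₀), x.2⟩
    refine ⟨n, Subtype.ext (Subtype.ext ?_)⟩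
    have h5 := congrArg Subtype.val hn
    simpa using h5
  obtain ⟨T₁, hT₁⟩ := hB₀.exists_le_sylow
  obtain ⟨T₂, hT₂⟩ := hS₀.exists_le_sylow
  have hmapp : IsPGroup p ((T₂ : Subgroup H₀).map H₀.subtype) := T₂.isPGroup'.map _
  have hmap : (T₂ : Subgroup H₀).map H₀.subtype = S := hSmax _ hmapp (fun s hs => ⟨⟨s, hSH₀ hs⟩, hT₂ hs, rfl⟩)
  obtain ⟨k, hk⟩ := MulAction.exists_smul_eq H₀ T₁ T₂
  refine ⟨k, k.2, fun b hb => ?_⟩
  rw [← hmap]
  have h1 : (⟨b, hBH₀ hb⟩ : H₀) ∈ (T₁ : Subgroup H₀) := hT₁ hb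
  have h2 : (k : H₀) * ⟨b, hBH₀ hb⟩ * k⁻¹ ∈ (T₂ : Subgroup H₀) := by
    rw [← hk, Sylow.coe_subgroup_smul]
    exact ⟨⟨b, hBH₀ hb⟩, h1, rfl⟩
  exact ⟨_, h2, rfl⟩

/-- The Frattini decomposition. -/
theorem frattini_key {G : Type*} [Group G] [Finite G] {S H M : Subgroup G} (hSp : IsPGroup p S)
    (hSmax : ∀ R : Subgroup G, IsPGroup p R → S ≤ R → R = S) (hSH : S ≤ H) (hMH : M ≤ H)
    (hHn : H ≤ normalizer (M : Set G)) {X : Subgroup G} (hXS : X ≤ S) {g : G} (hg : g ∈ H)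
    (hZ : ∀ x ∈ X, g * x * g⁻¹ ∈ S) :
    ∃ m ∈ M, ∃ h ∈ H, g = m * h ∧ h ∈ normalizer ((S ⊓ M : Subgroup G) : Set G) ∧ ∀ x ∈ X, h * x * h⁻¹ ∈ S := by
  obtain ⟨I, hI⟩ : ∃ I : Subgroup G, I = S ⊓ M := ⟨_, rfl⟩
  rw [← hI]
  have hIS : I ≤ S := hI ▸ inf_le_left
  have hIM : I ≤ M := hI ▸ inf_le_right
  have hSM : S ≤ normalizer (M : Set G) := hSH.trans hHn
  have hB : IsPGroup p ((X ⊔ I).map (MulAut.conj g).toMonoidHom : Subgroup G) :=
    (hSp.to_le (sup_le hXS hIS)).map _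
  have hBH₀ : (X ⊔ I).map (MulAut.conj g).toMonoidHom ≤ S ⊔ M := by
    rw [Subgroup.map_sup]
    refine sup_le ?_ ?_
    · rintro _ ⟨x, hx, rfl⟩
      exact le_sup_left (a := S) (b := M) (hZ x hx)
    · rintro _ ⟨x, hx, rfl⟩
      exact le_sup_right (a := S) (b := M) ((mem_normalizer_iff.1 (hHn hg) x).1 (hIM hx))
  obtain ⟨k, hk, hkv⟩ := exists_conj_le hSp hSmax le_sup_left hB hBH₀
  obtain ⟨s, hs, m, hm, hsm⟩ := Cfsg.Agent.Lib.Fusion.exists_mul_of_mem_sup hSM hk
  -- `k = s m`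
  have hconjv : ∀ x ∈ X ⊔ I, (m * g) * x * (m * g)⁻¹ ∈ S := by
    intro x hx
    have h1 := hkv (g * x * g⁻¹) ⟨x, hx, rfl⟩
    have e : (m * g) * x * (m * g)⁻¹ = s⁻¹ * (k * (g * x * g⁻¹) * k⁻¹) * s := by
      rw [← hsm]
      group
    rw [e]
    exact S.mul_mem (S.mul_mem (S.inv_mem hs) h1) hs
  refine ⟨m⁻¹, M.inv_mem hm, m * g, H.mul_mem (hMH hm) hg, by group, ?_, fun x hx => hconjv x (le_sup_left (a := X) hx)⟩
  apply Cfsg.Agent.Lib.PGroups.mem_normalizer_of_conj_le'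
  intro x hx
  rw [hI]
  refine ⟨?_, ?_⟩
  · exact hconjv x (le_sup_right (a := X) hx)
  · have h1 : g * x * g⁻¹ ∈ M := (mem_normalizer_iff.1 (hHn hg) x).1 (hIM hx)
    have h2 : (m * g) * x * (m * g)⁻¹ = m * (g * x * g⁻¹) * m⁻¹ := by group
    rw [h2]
    exact M.mul_mem (M.mul_mem hm h1) (M.inv_mem hm)

theorem normalizer_thompson_of_normalizer {G : Type*} [Group G] [Finite G] {S I : Subgroup G}
    (hJI : thompsonSubgroupAOf S ≤ I) (hIS : I ≤ S) {h : G} (hh : h ∈ normalizer (I : Set G)) :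
    h ∈ normalizer (thompsonSubgroupAOf S : Set G) := by
  have hJeq := thompsonAOf_eq S
  apply Cfsg.Agent.Lib.PGroups.mem_normalizer_of_conj_le'
  have hle : thompsonSubgroupAOf S ≤ (thompsonSubgroupAOf S).comap (MulAut.conj h).toMonoidHom := by
    conv_lhs => rw [hJeq]
    refine sSup_le fun A hA => ?_
    intro a ha
    show h * a * h⁻¹ ∈ thompsonSubgroupAOf S
    rw [hJeq]
    have hAJ : A ≤ thompsonSubgroupAOf S := by
      rw [hJeq]
      exact le_sSup hA
    refine (le_sSup (a := A.map (MulAut.conj h).toMonoidHom) ?_ : _ ≤ _) ⟨a, ha, rfl⟩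
    refine ⟨?_, isMulCommutative_map _ hA.2.1, fun B hB hBc => ?_⟩
    · rintro _ ⟨b, hb, rfl⟩
      exact hIS ((mem_normalizer_iff.1 hh b).1 (hJI (hAJ hb)))
    · rw [Subgroup.card_map_of_injective (MulAut.conj h).injective]
      exact hA.2.2 B hB hBc
  exact fun x hx => hle hx

/-- The main group-theoretic lemma: fusion in a constrained group is generated by `C(℧¹Z(S))` and `N(J(S))`. -/
theorem constr_gen {G : Type u} [Group G] [Finite G] {S : Subgroup G} (hSp : IsPGroup p S)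
    (hSmax : ∀ R : Subgroup G, IsPGroup p R → S ≤ R → R = S) (Good : Subgroup G → G → Prop)
    (hcomp : ∀ (X : Subgroup G) (g h : G), X ≤ S → (∀ x ∈ X, g * x * g⁻¹ ∈ S) → (∀ x ∈ X, h * (g * x * g⁻¹) * h⁻¹ ∈ S) →
      Good X g → Good (X.map (MulAut.conj g).toMonoidHom) h → Good X (h * g))
    (hb1 : ∀ (X : Subgroup G) (g : G), X ≤ S → (∀ x ∈ X, g * x * g⁻¹ ∈ S) →
      g ∈ centralizer ((vOn p 1 S : Subgroup G) : Set G) → Good X g)
    (hb2 : ∀ (X : Subgroup G) (g : G), X ≤ S → (∀ x ∈ X, g * x * g⁻¹ ∈ S) →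
      g ∈ normalizer (thompsonSubgroupAOf S : Set G) → Good X g) :
    ∀ (N : ℕ) (H Q : Subgroup G), S ≤ H → Q ≤ S → H ≤ normalizer (Q : Set G) → H ⊓ centralizer (Q : Set G) ≤ Q →
      Nat.card H * (Nat.card S + 1) - Nat.card Q = N → ∀ (X : Subgroup G) (g : G), g ∈ H → X ≤ S →
      (∀ x ∈ X, g * x * g⁻¹ ∈ S) → Good X g := by
  intro N
  induction N using Nat.strong_induction_on with
  | _ N IH =>
  intro H Q hSH hQS hHQ hcen hN X g hg hXS hZ
  obtain ⟨V₀, hV₀⟩ : ∃ V₀ : Subgroup G, V₀ = vOn p 1 Q := ⟨_, rfl⟩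
  obtain ⟨M, hM⟩ : ∃ M : Subgroup G, M = H ⊓ centralizer (V₀ : Set G) := ⟨_, rfl⟩
  have hV₀n : H ≤ normalizer (V₀ : Set G) := fun t ht => hV₀ ▸ vOn_normalizer (hHQ ht)
  have hMH : M ≤ H := hM ▸ inf_le_left
  have hHM : H ≤ normalizer (M : Set G) := by
    intro t ht
    apply Cfsg.Agent.Lib.PGroups.mem_normalizer_of_conj_le'
    intro y hy
    rw [hM] at hy ⊢
    refine ⟨H.mul_mem (H.mul_mem ht hy.1) (H.inv_mem ht), ?_⟩
    show t * y * t⁻¹ ∈ centralizer (V₀ : Set G)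
    rw [mem_centralizer_iff]
    intro v hv
    have h1 : t⁻¹ * v * t⁻¹⁻¹ ∈ V₀ := (mem_normalizer_iff.1 (hV₀n (H.inv_mem ht)) v).1 hv
    have h2 := mem_centralizer_iff.1 hy.2 _ h1
    simp only [inv_inv] at h2
    calc v * (t * y * t⁻¹) = t * ((t⁻¹ * v * t) * y) * t⁻¹ := by group
      _ = t * (y * (t⁻¹ * v * t)) * t⁻¹ := by rw [h2]
      _ = t * y * t⁻¹ * v := by group
  have hZW : S ⊓ centralizer (S : Set G) ≤ Q ⊓ centralizer (Q : Set G) := by
    intro y hy
    have hyQ : y ∈ centralizer (Q : Set G) := centralizer_le (fun x hx => hQS hx) hy.2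
    exact ⟨hcen ⟨hSH hy.1, hyQ⟩, hyQ⟩
  have hVV₀ : vOn p 1 S ≤ V₀ := by
    rw [hV₀]
    exact powerClosure_le hZW
  have hMV : ∀ m ∈ M, m ∈ centralizer ((vOn p 1 S : Subgroup G) : Set G) := by
    intro m hm
    rw [hM] at hm
    exact centralizer_le (fun x hx => hVV₀ hx) hm.2
  obtain ⟨m, hmM, h, hhH, rfl, hhI, hhX⟩ := frattini_key hSp hSmax hSH hMH hHM hXS hg hZ
  have hgoodh : Good X h := by
    by_cases hJM : thompsonSubgroupAOf S ≤ M
    · exact hb2 X h hXS hhX (normalizer_thompson_of_normalizer (le_inf (thompsonAOf_le S) hJM) inf_le_left hhI)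
    · -- the element `g₁`
      obtain ⟨g₁, hg₁S, hg₁Q, hg₁M⟩ : ∃ g₁ ∈ S, g₁ ∉ Q ∧ g₁ ∈ M := by
        haveI : Finite S := inferInstance
        have hQS' : (S : Subgroup G) ≤ normalizer (Q : Set G) := hSH.trans hHQ
        obtain ⟨W', hW'⟩ : ∃ W' : Subgroup S, W' = (Q ⊓ centralizer (Q : Set G)).subgroupOf S := ⟨_, rfl⟩
        have hW'mem : ∀ w : S, w ∈ W' ↔ (w : G) ∈ Q ⊓ centralizer (Q : Set G) := fun w => by
          rw [hW', Subgroup.mem_subgroupOf]
        have hW'c : ∀ a ∈ W', ∀ b ∈ W', a * b = b * a := by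
          intro a ha b hb
          apply Subtype.ext
          have h1 := ((hW'mem a).1 ha).2
          exact (mem_centralizer_iff.1 h1 _ ((hW'mem b).1 hb).1).symm
        have hW'n : W'.Normal := by
          constructor
          intro w hw t
          rw [hW'mem] at hw ⊢
          have hQn := hQS' t.2
          have e : ((t * w * t⁻¹ : S) : G) = (t : G) * w * (t : G)⁻¹ := rfl
          rw [e]
          refine ⟨(mem_normalizer_iff.1 hQn _).1 hw.1, ?_⟩
          show (t : G) * w * (t : G)⁻¹ ∈ centralizer (Q : Set G)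
          rw [mem_centralizer_iff]
          intro q hq
          have h1 : (t : G)⁻¹ * q * (t : G)⁻¹⁻¹ ∈ Q := (mem_normalizer_iff.1 (Subgroup.inv_mem _ hQn) q).1 hq
          have h2 := mem_centralizer_iff.1 hw.2 _ h1
          simp only [inv_inv] at h2
          calc q * ((t : G) * w * (t : G)⁻¹) = t * (((t : G)⁻¹ * q * t) * w) * (t : G)⁻¹ := by group
            _ = t * (w * ((t : G)⁻¹ * q * t)) * (t : G)⁻¹ := by rw [h2]
            _ = (t : G) * w * (t : G)⁻¹ * q := by group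
        have hcomV₀ : ∀ x : G, x ∈ S → (∀ w ∈ Q ⊓ centralizer (Q : Set G), x * w ^ p * x⁻¹ = w ^ p) → x ∈ M := by
          intro x hxS hx
          rw [hM]
          refine ⟨hSH hxS, ?_⟩
          show x ∈ centralizer (V₀ : Set G)
          rw [mem_centralizer_iff]
          intro v hv
          rw [hV₀] at hv
          obtain ⟨w, hw, rfl⟩ := (mem_powerClosure_iff (center_comm Q)).1 hv
          have h1 := hx w hw
          rw [pow_one] at *
          calc w ^ p * x = (x * w ^ p * x⁻¹) * x := by rw [h1]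
            _ = x * w ^ p := by group
        have hA₀ : ∃ A₀ ∈ maxAbelianSubgroups S, ¬ A₀ ≤ centralizer (W' : Set S) := by
          by_contra hc
          push_neg at hc
          apply hJM
          rw [thompsonSubgroupAOf, Subgroup.map_le_iff_le_comap]
          refine sSup_le fun A hA => ?_
          intro a ha
          refine hcomV₀ a a.2 (fun w hw => ?_)
          have h1 := mem_centralizer_iff.1 (hc A hA ha) ⟨w, hQS hw.1⟩ ((hW'mem _).2 hw)
          have h2 : w * (a : G) = a * w := congrArg Subtype.val h1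
          have h3 : Commute (a : G) w := h2.symm
          have h4 : Commute (a : G) (w ^ p) := h3.pow_right p
          rw [h4.eq]
          group
        obtain ⟨A₀, hA₀m, hA₀W⟩ := hA₀
        have hSp' : IsPGroup p S := hSp
        obtain ⟨A, hAm, hAW, hWA⟩ := exists_max_ab_normalized hSp' hW'c hW'n hA₀m hA₀W
        obtain ⟨g₁, hg₁W, hg₁⟩ := exists_quadratic_elem hSp' hW'c hW'n (isMulCommutative_iff.1 hAm.1) hAW hWA
        refine ⟨g₁, g₁.2, fun hQ => hg₁W ?_, hcomV₀ g₁ g₁.2 (fun w hw => ?_)⟩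
        · rw [mem_centralizer_iff]
          intro w hw
          have h1 := ((hW'mem w).1 hw).2
          exact Subtype.ext (mem_centralizer_iff.1 h1 _ hQ).symm
        · have h1 := hg₁ ⟨w, hQS hw.1⟩ ((hW'mem _).2 hw)
          exact congrArg Subtype.val h1
      obtain ⟨I, hI⟩ : ∃ I : Subgroup G, I = S ⊓ M := ⟨_, rfl⟩
      rw [← hI] at hhI
      have hg₁I : g₁ ∈ I := hI ▸ ⟨hg₁S, hg₁M⟩
      have hIS : I ≤ S := hI ▸ inf_le_left
      have hSI : S ≤ normalizer (I : Set G) := by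
        intro t ht
        apply Cfsg.Agent.Lib.PGroups.mem_normalizer_of_conj_le'
        intro y hy
        rw [hI] at hy ⊢
        exact ⟨S.mul_mem (S.mul_mem ht hy.1) (S.inv_mem ht), (mem_normalizer_iff.1 (hHM (hSH ht)) y).1 hy.2⟩
      have hqs : Nat.card Q ≤ Nat.card S := Subgroup.card_le_of_le hQS
      have hHpos : 0 < Nat.card H := Nat.card_pos
      by_cases hHN : H ≤ normalizer (I : Set G)
      · -- enlarge `Q`
        have hQ' : Q ⊔ I ≤ S := sup_le hQS hIS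
        have hlt : Nat.card Q < Nat.card (Q ⊔ I : Subgroup G) := by
          refine Cfsg.Agent.Lib.OddLocal.card_lt_of_lt (lt_of_le_of_ne le_sup_left fun e => hg₁Q ?_)
          rw [e]
          exact le_sup_right (a := Q) hg₁I
        have hqs' : Nat.card (Q ⊔ I : Subgroup G) ≤ Nat.card S := Subgroup.card_le_of_le hQ'
        refine IH (Nat.card H * (Nat.card S + 1) - Nat.card (Q ⊔ I : Subgroup G)) ?_ H (Q ⊔ I) hSH hQ' ?_ ?_ rfl X h hhH hXS hhX
        · rw [← hN]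
          have : Nat.card S + 1 ≤ Nat.card H * (Nat.card S + 1) := Nat.le_mul_of_pos_left _ hHpos
          omega
        · intro t ht
          apply Cfsg.Agent.Lib.PGroups.mem_normalizer_of_conj_le'
          have hle : Q ⊔ I ≤ (Q ⊔ I).comap (MulAut.conj t).toMonoidHom := by
            refine sup_le (fun q hq => ?_) (fun q hq => ?_)
            · exact le_sup_left (a := Q) ((mem_normalizer_iff.1 (hHQ ht) q).1 hq)
            · exact le_sup_right (a := Q) ((mem_normalizer_iff.1 (hHN ht) q).1 hq)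
          exact fun x hx => hle hx
        · intro y hy
          refine le_sup_left (a := Q) (hcen ⟨hy.1, ?_⟩)
          exact centralizer_le (fun x hx => le_sup_left (a := Q) hx) hy.2
      · -- pass to the normalizer
        have hlt : Nat.card (H ⊓ normalizer (I : Set G) : Subgroup G) < Nat.card H := by
          refine Cfsg.Agent.Lib.OddLocal.card_lt_of_lt (lt_of_le_of_ne inf_le_left fun e => hHN ?_)
          rw [← e]
          exact inf_le_right
        refine IH (Nat.card (H ⊓ normalizer (I : Set G) : Subgroup G) * (Nat.card S + 1) - Nat.card Q) ?_ (H ⊓ normalizer (I : Set G)) Q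
          (le_inf hSH hSI) hQS (inf_le_left.trans hHQ) ?_ rfl X h ⟨hhH, hhI⟩ hXS hhX
        · rw [← hN]
          have h1 : (Nat.card (H ⊓ normalizer (I : Set G) : Subgroup G) + 1) * (Nat.card S + 1) ≤ Nat.card H * (Nat.card S + 1) :=
            Nat.mul_le_mul_right _ hlt
          rw [Nat.add_mul, one_mul] at h1
          omega
        · intro y hy
          exact hcen ⟨hy.1.1, hy.2⟩
  refine hcomp X h m hXS hhX ?_ hgoodh (hb1 _ m ?_ ?_ (hMV m hmM))
  · intro x hx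
    have := hZ x hx
    have e : m * (h * x * h⁻¹) * m⁻¹ = m * h * x * (m * h)⁻¹ := by group
    rw [e]
    exact this
  · rintro _ ⟨x, hx, rfl⟩
    exact hhX x hx
  · rintro _ ⟨x, hx, rfl⟩
    have := hZ x hx
    have e : m * ((MulAut.conj h).toMonoidHom x) * m⁻¹ = m * h * x * (m * h)⁻¹ := by
      show m * (h * x * h⁻¹) * m⁻¹ = _
      group
    rw [e]
    exact this

end Cfsg.Agent.Lib.Fusion2.GenJ
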