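import Cfsg.Agent.Lib.Fusion2.GenJ1

/-!
# A constrained fusion system is generated by `C_F(℧¹(Z(S)))` and `N_F(J(S))`
-/

set_option autoImplicit false
set_option linter.unusedSectionVars false
set_option linter.style.haveILetI false

universe u

namespace Cfsg.Agent.Lib.Fusion2.GenJ

open Cfsg Cfsg.FusionSystem Cfsg.Agent.Lib.Fusion Subgroup
open Cfsg.Agent.Lib.PLocal
open Cfsg.Agent.Lib.Fusion2.PowRing

theorem mem_maxAb_map {G H : Type*} [Group G] [Group H] (e : G ≃* H) {A : Subgroup G} (hA : A ∈ maxAbelianSubgroups G) :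
    A.map e.toMonoidHom ∈ maxAbelianSubgroups H := by
  refine ⟨isMulCommutative_map _ hA.1, fun B hB => ?_⟩
  rw [Subgroup.card_map_of_injective e.injective]
  have h1 := hA.2 (B.map e.symm.toMonoidHom) (isMulCommutative_map _ hB)
  rwa [Subgroup.card_map_of_injective e.symm.injective] at h1

theorem thompsonA_map_equiv {G H : Type*} [Group G] [Group H] (e : G ≃* H) :
    (thompsonSubgroupA G).map e.toMonoidHom = thompsonSubgroupA H := by
  apply le_antisymm
  · rw [thompsonSubgroupA, Subgroup.map_le_iff_le_comap]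
    refine sSup_le fun A hA => ?_
    rw [← Subgroup.map_le_iff_le_comap]
    exact le_sSup (mem_maxAb_map e hA)
  · rw [thompsonSubgroupA.eq_def H]
    refine sSup_le fun A hA => ?_
    intro x hx
    refine ⟨e.symm x, ?_, by simp⟩
    exact (le_sSup (mem_maxAb_map e.symm hA) : _ ≤ thompsonSubgroupA G) ⟨x, hx, rfl⟩

variable {Ω : Type u} [Group Ω] {S : Subgroup Ω} {F : FusionSystem S} [Finite S] {p : ℕ} [hpf : Fact p.Prime]

/-- Elements of `S` normalize `J(S)`. -/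
theorem mem_normalizer_thompson {x : Ω} (hx : x ∈ S) : x ∈ normalizer (thompsonSubgroupAOf S : Set Ω) := by
  refine mem_normalizer_of_conj_mem (S := S) (thompsonAOf_le S) (fun y hy => ?_)
  obtain ⟨y₀, hy₀, rfl⟩ := hy
  have h1 := thompsonA_map_equiv (MulAut.conj (⟨x, hx⟩ : S))
  have h2 : (MulAut.conj (⟨x, hx⟩ : S)) y₀ ∈ thompsonSubgroupA S := by
    rw [← h1]
    exact ⟨y₀, hy₀, rfl⟩
  exact ⟨_, h2, rfl⟩

/-- Comparison of `J` through an injection. -/
theorem mem_J_iff {G : Type*} [Group G] {ι : S →* G} (hι : Function.Injective ι) (x : S) :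
    (x : Ω) ∈ thompsonSubgroupAOf S ↔ ι x ∈ thompsonSubgroupAOf ι.range := by
  obtain ⟨e, he⟩ : ∃ e : S ≃* ι.range, e = MonoidHom.ofInjective hι := ⟨_, rfl⟩
  have hev : ∀ s : S, ((e s : ι.range) : G) = ι s := fun s => by rw [he]; rfl
  have h1 := thompsonA_map_equiv e
  constructor
  · rintro ⟨y, hy, hyx⟩
    have hyx' : y = x := Subtype.ext hyx
    subst hyx'
    refine ⟨e y, ?_, hev y⟩
    rw [← h1]
    exact ⟨y, hy, rfl⟩
  · rintro ⟨r, hr, hrx⟩
    rw [← h1] at hr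
    obtain ⟨y, hy, hye⟩ := hr
    have h2 : e y = r := hye
    have h3 : y = x := by
      apply hι
      rw [← hev y, h2]
      exact hrx
    subst h3
    exact ⟨y, hy, rfl⟩

theorem toS_eq_of {G : Type*} [Group G] {ι : S →* G} (hι : Function.Injective ι) {a b : Ω} (ha : a ∈ S) (hb : b ∈ S)
    (h : ι (toS S a) = ι (toS S b)) : a = b := by
  have h1 : ((toS S a : S) : Ω) = (toS S b : S) := congrArg Subtype.val (hι h)
  rwa [coe_toS ha, coe_toS hb] at h1

/-- The main theorem for systems with a model. -/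
theorem constrained_gen {G : Type u} [Group G] {ι : S →* G} (hm : F.IsModel p G ι) {S₀ : Subgroup Ω} (E : FusionSystem S₀)
    (h1 : ∀ P, F.centralizerHom (vOn p 1 S) P ⊆ E.Hom P)
    (h2 : ∀ P, F.normalizerHom (thompsonSubgroupAOf S) P ⊆ E.Hom P) : ∀ P, F.Hom P ⊆ E.Hom P := by
  classical
  obtain ⟨hfin, hreal, ⟨T, hT⟩, hcen⟩ := hm
  have hι := hreal.1
  obtain ⟨R, hR⟩ : ∃ R : Subgroup G, R = ι.range := ⟨_, rfl⟩
  rw [← hR] at hT
  have hRp : IsPGroup p R := hT ▸ T.isPGroup'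
  have hRmax : ∀ R' : Subgroup G, IsPGroup p R' → R ≤ R' → R' = R := fun R' h h' => by
    rw [← hT] at h' ⊢
    exact T.is_maximal' h h'
  have hιR : ∀ s : S, ι s ∈ R := fun s => hR ▸ ⟨s, rfl⟩
  have hRex : ∀ r ∈ R, ∃ s : S, ι s = r := fun r hr => by
    rw [hR] at hr
    exact hr
  -- comparison of `V`
  have hVS : vOn p 1 S ≤ S := powerClosure_le_self.trans inf_le_left
  have hVmap : ∀ x : S, (x : Ω) ∈ vOn p 1 S → ι x ∈ vOn p 1 R := by
    intro x hx
    obtain ⟨y, hy, hyx⟩ := (mem_powerClosure_iff (center_comm S)).1 hx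
    have e1 : x = (⟨y, hy.1⟩ : S) ^ (p ^ 1) := Subtype.ext hyx
    refine (mem_powerClosure_iff (center_comm R)).2 ⟨ι ⟨y, hy.1⟩, ⟨hιR _, ?_⟩, by rw [e1, map_pow]⟩
    show ι ⟨y, hy.1⟩ ∈ centralizer (R : Set G)
    rw [mem_centralizer_iff]
    intro r hr
    obtain ⟨s, rfl⟩ := hRex r hr
    rw [← map_mul, ← map_mul]
    congr 1
    exact Subtype.ext (mem_centralizer_iff.1 hy.2 s s.2)
  have hJS : thompsonSubgroupAOf S ≤ S := thompsonAOf_le S
  have hJiff : ∀ x : S, (x : Ω) ∈ thompsonSubgroupAOf S ↔ ι x ∈ thompsonSubgroupAOf R := fun x => by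
    rw [hR]
    exact mem_J_iff hι x
  -- elements conjugated by `g`
  have hmemsup : ∀ (P Y : Subgroup Ω) (g : G), P ≤ S → Y ≤ S → (∀ x : S, (x : Ω) ∈ P → g * ι x * g⁻¹ ∈ R) →
      (∀ x : S, (x : Ω) ∈ Y → g * ι x * g⁻¹ ∈ R) → ∀ x : S, (x : Ω) ∈ P ⊔ Y → g * ι x * g⁻¹ ∈ ι.range := by
    intro P Y g hP hY hgP hgY x hx
    obtain ⟨L, hL⟩ : ∃ L : Subgroup S, L = (R.comap (MulAut.conj g).toMonoidHom).comap ι := ⟨_, rfl⟩
    have hLm : ∀ s : S, s ∈ L ↔ g * ι s * g⁻¹ ∈ R := fun s => by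
      rw [hL]
      rfl
    have hle : P ⊔ Y ≤ L.map S.subtype := by
      refine sup_le (fun y hy => ⟨⟨y, hP hy⟩, (hLm _).2 (hgP ⟨y, hP hy⟩ hy), rfl⟩) (fun y hy => ⟨⟨y, hY hy⟩, (hLm _).2 (hgY ⟨y, hY hy⟩ hy), rfl⟩)
    obtain ⟨y, hy, hyx⟩ := hle hx
    have e : y = x := Subtype.ext hyx
    rw [← hR, ← e]
    exact (hLm y).1 hy
  let Good : Subgroup G → G → Prop := fun X g => ∀ (P : Subgroup Ω) (f : Ω → Ω), P ≤ S → (P.subgroupOf S).map ι = X →
    (∀ x : S, (x : Ω) ∈ P → ι (toS S (f x)) = g * ι x * g⁻¹) → (∀ x ∈ P, f x ∈ S) → IsMapOn E P f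
  have hmemX : ∀ (P : Subgroup Ω), ∀ x : S, (x : Ω) ∈ P → ι x ∈ (P.subgroupOf S).map ι := fun P x hx => ⟨x, hx, rfl⟩
  have hcomp : ∀ (X : Subgroup G) (g h : G), X ≤ R → (∀ x ∈ X, g * x * g⁻¹ ∈ R) → (∀ x ∈ X, h * (g * x * g⁻¹) * h⁻¹ ∈ R) →
      Good X g → Good (X.map (MulAut.conj g).toMonoidHom) h → Good X (h * g) := by
    intro X g h hXR hg₁ hg₂ hG1 hG2 P f hP hX hf hfS
    obtain ⟨f₁, hf₁, hf₁v⟩ := exists_map_of_gconj hreal hP g (fun x hx => by
      rw [← hR]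
      exact hg₁ _ (hX ▸ hmemX P x hx))
    have hE1 : IsMapOn E P f₁ := hG1 P f₁ hP hX hf₁v (fun x hx => hf₁.mem_S hx)
    obtain ⟨P₁, hP₁⟩ := hf₁.exists_image (le_refl P)
    have hP₁S : P₁ ≤ S := IsImage.le_S hf₁ le_rfl hP₁
    have hX₁ : (P₁.subgroupOf S).map ι = X.map (MulAut.conj g).toMonoidHom := by
      ext y
      constructor
      · rintro ⟨s, hs, rfl⟩
        obtain ⟨x, hx, hxs⟩ := hP₁.exists_of_mem (mem_subgroupOf.1 hs)
        have hxS := hP hx
        have h3 := hf₁v ⟨x, hxS⟩ hx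
        simp only at h3
        rw [hxs, toS_coe] at h3
        rw [h3]
        exact ⟨ι ⟨x, hxS⟩, hX ▸ hmemX P ⟨x, hxS⟩ hx, rfl⟩
      · rintro ⟨_, hx, rfl⟩
        rw [← hX] at hx
        obtain ⟨x, hx'', rfl⟩ := hx
        have hx' : (x : Ω) ∈ P := mem_subgroupOf.1 hx''
        have h3 := hf₁v x hx'
        refine ⟨toS S (f₁ x), ?_, ?_⟩
        · show ((toS S (f₁ x) : S) : Ω) ∈ P₁
          rw [coe_toS (hf₁.mem_S hx')]
          exact hP₁.mem hx'
        · rw [h3]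
          rfl
    obtain ⟨f₂, hf₂, hf₂v⟩ := exists_map_of_gconj hreal hP₁S h (fun y hy => by
      rw [← hR]
      have h3 : ι y ∈ X.map (MulAut.conj g).toMonoidHom := hX₁ ▸ hmemX P₁ y hy
      obtain ⟨x, hx, hxy⟩ := h3
      rw [← hxy]
      exact hg₂ x hx)
    have hE2 : IsMapOn E P₁ f₂ := hG2 P₁ f₂ hP₁S hX₁ hf₂v (fun x hx => hf₂.mem_S hx)
    refine (hE1.comp hE2 (fun x hx => hP₁.mem hx)).congr (fun x hx => ?_)
    have hxS := hP hx
    have hf₁S := hf₁.mem_S hx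
    have hf₁P₁ := hP₁.mem hx
    apply toS_eq_of hι (hf₂.mem_S hf₁P₁) (hfS x hx)
    have e1 := hf₂v ⟨f₁ x, hf₁S⟩ hf₁P₁
    simp only at e1
    have e2 := hf₁v ⟨x, hxS⟩ hx
    simp only at e2
    have e3 := hf ⟨x, hxS⟩ hx
    simp only at e3
    rw [e1, e3]
    have e4 : (⟨f₁ x, hf₁S⟩ : S) = toS S (f₁ x) := (toS_of_mem hf₁S).symm
    rw [e4, e2]
    group
  have hb1 : ∀ (X : Subgroup G) (g : G), X ≤ R → (∀ x ∈ X, g * x * g⁻¹ ∈ R) →
      g ∈ centralizer ((vOn p 1 R : Subgroup G) : Set G) → Good X g := by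
    intro X g hXR hg hgV P f hP hX hf hfS
    have hF : IsMapOn F P f := isMapOn_of_conj hreal hP hfS g hf
    have hfixV : ∀ x : S, (x : Ω) ∈ vOn p 1 S → g * ι x * g⁻¹ = ι x := by
      intro x hx
      have := mem_centralizer_iff.1 hgV (ι x) (hVmap x hx)
      calc g * ι x * g⁻¹ = (ι x * g) * g⁻¹ := by rw [this]
        _ = ι x := by group
    obtain ⟨f₂, hf₂, hf₂v⟩ := exists_map_of_gconj hreal (sup_le hP hVS) g
      (hmemsup P (vOn p 1 S) g hP hVS (fun x hx => hg _ (hX ▸ hmemX P x hx)) (fun x hx => by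
        rw [hfixV x hx]
        exact hιR x))
    obtain ⟨φ, hφ, hφv⟩ := hF
    obtain ⟨ψ, hψ, hψv⟩ := hf₂
    have hmem : φ ∈ F.centralizerHom (vOn p 1 S) P := by
      refine ⟨hφ, fun x hx => ⟨hP hx, ?_⟩, fun x => ⟨by rw [hφv]; exact hfS x x.2, ?_⟩, ψ, hψ, fun x => ?_, fun x => ?_⟩
      · show x ∈ centralizer _
        rw [mem_centralizer_iff]
        intro v hv
        obtain ⟨y, hy, rfl⟩ := (mem_powerClosure_iff (center_comm S)).1 hv
        have hc : Commute y x := (mem_centralizer_iff.1 hy.2 x (hP hx)).symm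
        exact (hc.pow_left _).eq
      · show φ x ∈ centralizer _
        rw [hφv, mem_centralizer_iff]
        intro v hv
        obtain ⟨y, hy, rfl⟩ := (mem_powerClosure_iff (center_comm S)).1 hv
        have hc : Commute y (f x) := (mem_centralizer_iff.1 hy.2 _ (hfS x x.2)).symm
        exact (hc.pow_left _).eq
      · rw [hψv, hφv]
        have hxS := hP x.2
        apply toS_eq_of hι (by
          exact (show IsMapOn F _ f₂ from ⟨ψ, hψ, hψv⟩).mem_S (le_sup_left (a := P) x.2)) (hfS x x.2)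
        have e1 := hf₂v ⟨x, hxS⟩ (le_sup_left (a := P) x.2)
        have e2 := hf ⟨x, hxS⟩ x.2
        simp only at e1 e2
        show ι (toS S (f₂ (x : Ω))) = _
        rw [e1, e2]
      · rw [hψv]
        have hxS := hVS x.2
        apply toS_eq_of hι (by
          exact (show IsMapOn F _ f₂ from ⟨ψ, hψ, hψv⟩).mem_S (le_sup_right (a := P) x.2)) hxS
        have e1 := hf₂v ⟨x, hxS⟩ (le_sup_right (a := P) x.2)
        simp only at e1
        show ι (toS S (f₂ (x : Ω))) = ι (toS S (x : Ω))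
        rw [e1, hfixV ⟨x, hxS⟩ x.2, toS_of_mem hxS]
    exact ⟨φ, h1 P hmem, hφv⟩
  have hb2 : ∀ (X : Subgroup G) (g : G), X ≤ R → (∀ x ∈ X, g * x * g⁻¹ ∈ R) →
      g ∈ normalizer (thompsonSubgroupAOf R : Set G) → Good X g := by
    intro X g hXR hg hgJ P f hP hX hf hfS
    have hF : IsMapOn F P f := isMapOn_of_conj hreal hP hfS g hf
    have hJR : thompsonSubgroupAOf R ≤ R := thompsonAOf_le R
    have hgJ' : ∀ x : S, (x : Ω) ∈ thompsonSubgroupAOf S → g * ι x * g⁻¹ ∈ thompsonSubgroupAOf R := fun x hx =>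
      (mem_normalizer_iff.1 hgJ _).1 ((hJiff x).1 hx)
    obtain ⟨f₂, hf₂, hf₂v⟩ := exists_map_of_gconj hreal (sup_le hP hJS) g
      (hmemsup P (thompsonSubgroupAOf S) g hP hJS (fun x hx => hg _ (hX ▸ hmemX P x hx)) (fun x hx => hJR (hgJ' x hx)))
    have hf₂' := hf₂
    obtain ⟨φ, hφ, hφv⟩ := hF
    obtain ⟨ψ, hψ, hψv⟩ := hf₂
    have hPN : P ≤ normalizerIn S (thompsonSubgroupAOf S) := fun x hx => ⟨hP hx, mem_normalizer_thompson (hP hx)⟩
    have hmem : φ ∈ F.normalizerHom (thompsonSubgroupAOf S) P := by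
      refine ⟨hφ, hPN, fun x => ?_, ψ, hψ, fun x => ?_, ?_⟩
      · rw [hφv]
        exact ⟨hfS x x.2, mem_normalizer_thompson (hfS x x.2)⟩
      · rw [hψv, hφv]
        have hxS := hP x.2
        apply toS_eq_of hι (hf₂'.mem_S (le_sup_left (a := P) x.2)) (hfS x x.2)
        have e1 := hf₂v ⟨x, hxS⟩ (le_sup_left (a := P) x.2)
        have e2 := hf ⟨x, hxS⟩ x.2
        simp only at e1 e2
        rw [e1, e2]
      · ext y
        constructor
        · rintro ⟨x, hx, rfl⟩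
          have hxJ : (x : Ω) ∈ thompsonSubgroupAOf S := mem_subgroupOf.1 hx
          have hxS := hJS hxJ
          rw [hψv]
          have hfm := hf₂'.mem_S x.2
          have e1 := hf₂v ⟨x, hxS⟩ x.2
          simp only at e1
          have e2 := hgJ' ⟨x, hxS⟩ hxJ
          rw [← e1] at e2
          have e3 := (hJiff (toS S (f₂ x))).2 e2
          rwa [coe_toS hfm] at e3
        · intro hy
          have hyS := hJS hy
          have h3 := (hJiff ⟨y, hyS⟩).1 hy
          have h4 := (mem_normalizer_iff.1 (Subgroup.inv_mem _ hgJ) _).1 h3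
          simp only [inv_inv] at h4
          obtain ⟨s, hs⟩ := hRex _ (hJR h4)
          have h5 : (s : Ω) ∈ thompsonSubgroupAOf S := by
            rw [hJiff, hs]
            exact h4
          have hsm : (s : Ω) ∈ P ⊔ thompsonSubgroupAOf S := le_sup_right (a := P) h5
          refine ⟨⟨s, hsm⟩, mem_subgroupOf.2 h5, ?_⟩
          rw [hψv]
          apply toS_eq_of hι (hf₂'.mem_S hsm) hyS
          have e1 := hf₂v s hsm
          rw [e1, hs, toS_of_mem hyS]
          group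
    exact ⟨φ, h2 P hmem, hφv⟩
  intro P φ hφ
  haveI := hfin
  obtain ⟨g, hg⟩ := exists_conj_of_map hreal (isMapOn_toFun hφ)
  have hPS := le_of_hom hφ
  have hO := Cfsg.Agent.Lib.Basic.pCore_normal (G := G) p
  have hOp := Cfsg.Agent.Lib.Basic.pCore_isPGroup (G := G) p
  have hOR : (pCore p G : Subgroup G) ≤ R := by
    rw [← hT]
    exact Cfsg.Agent.Lib.Basic.normal_pGroup_le_sylow hO hOp T
  have hgood := constr_gen (S := R) hRp hRmax Good hcomp hb1 hb2 _ ⊤ (pCore p G) le_top hOR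
    (fun x _ => by
      rw [mem_normalizer_iff]
      exact fun y => ⟨fun hy => hO.conj_mem y hy x, fun hy => by
        have := hO.conj_mem _ hy x⁻¹
        have e : x⁻¹ * (x * y * x⁻¹) * x⁻¹⁻¹ = y := by group
        rwa [e] at this⟩)
    (fun x hx => hcen hx.2) rfl ((P.subgroupOf S).map ι) g (mem_top g)
    (by
      rintro _ ⟨x, -, rfl⟩
      exact hιR x)
    (by
      rintro _ ⟨x, hx, rfl⟩
      have h3 := hg x hx
      rw [← h3]
      exact hιR _)
    P (toFun φ) hPS rfl hg (fun x hx => by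
      rw [toFun_of_mem φ hx]
      exact val_mem hφ _)
  obtain ⟨φ', hφ', hv⟩ := hgood
  have : φ' = φ := by
    ext x
    rw [hv, toFun_coe]
  rwa [← this]

end Cfsg.Agent.Lib.Fusion2.GenJ
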