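import Cfsg.Agent.Lib.Fusion2.GenJ2
import Cfsg.Agent.Lib.Fusion.GTNormal
import Cfsg.Agent.Lib.Fusion.Generation
import Cfsg.Agent.Lib.Fusion.Admis3

/-!
# Every saturated fusion system is generated by `C_F(℧¹(Z(S)))` and `N_F(J(S))`
-/

set_option autoImplicit false
set_option linter.unusedSectionVars false
set_option linter.style.haveILetI false

universe u

namespace Cfsg.Agent.Lib.Fusion2.GenJ

open Cfsg Cfsg.FusionSystem Cfsg.Agent.Lib.Fusion Subgroup
open Cfsg.Agent.Lib.PLocal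
open Cfsg.Agent.Lib.Fusion2.PowRing

theorem thompsonAOf_eq' {G : Type*} [Group G] (T : Subgroup G) :
    thompsonSubgroupAOf T = sSup {A | IsMaxAbIn T A} := by
  apply le_antisymm
  · rw [thompsonSubgroupAOf, map_le_iff_le_comap]
    refine sSup_le fun B hB => ?_
    rw [← map_le_iff_le_comap]
    apply le_sSup
    refine ⟨map_subtype_le B, isMulCommutative_map _ hB.1, fun C hCT hC => ?_⟩
    rw [card_map_of_injective T.subtype_injective]
    have := hB.2 (C.subgroupOf T) (isMulCommutative_subgroupOf _ hC)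
    rwa [Cfsg.Agent.Lib.OddLocal.card_subgroupOf_of_le hCT] at this
  · refine sSup_le fun A hA => ?_
    intro x hx
    refine ⟨⟨x, hA.1 hx⟩, ?_, rfl⟩
    refine le_thompsonA (A := A.subgroupOf T) ⟨isMulCommutative_subgroupOf _ hA.2.1, fun B hB => ?_⟩
      (by simpa [mem_subgroupOf] using hx)
    rw [Cfsg.Agent.Lib.OddLocal.card_subgroupOf_of_le hA.1]
    have := hA.2.2 (B.map T.subtype) (map_subtype_le _) (isMulCommutative_map _ hB)
    rwa [card_map_of_injective T.subtype_injective] at this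

theorem exists_isMaxAb {G : Type*} [Group G] (T : Subgroup G) [Finite T] : ∃ A, IsMaxAbIn T A := by
  obtain ⟨B, hB⟩ := exists_mem_maxAbelian T
  refine ⟨B.map T.subtype, map_subtype_le B, isMulCommutative_map _ hB.1, fun C hCT hC => ?_⟩
  rw [card_map_of_injective T.subtype_injective]
  have := hB.2 (C.subgroupOf T) (isMulCommutative_subgroupOf _ hC)
  rwa [Cfsg.Agent.Lib.OddLocal.card_subgroupOf_of_le hCT] at this

theorem IsMaxAbIn_le_J {G : Type*} [Group G] {T A : Subgroup G} (hA : IsMaxAbIn T A) : A ≤ thompsonSubgroupAOf T := by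
  rw [thompsonAOf_eq']
  exact le_sSup hA

theorem mem_of_commute_isMaxAb {G : Type*} [Group G] {T A : Subgroup G} [Finite T] (hA : IsMaxAbIn T A) {y : G} (hy : y ∈ T)
    (h : ∀ a ∈ A, a * y = y * a) : y ∈ A := by
  have hA' : A.subgroupOf T ∈ maxAbelianSubgroups T := by
    refine ⟨isMulCommutative_subgroupOf _ hA.2.1, fun B hB => ?_⟩
    rw [Cfsg.Agent.Lib.OddLocal.card_subgroupOf_of_le hA.1]
    have := hA.2.2 (B.map T.subtype) (map_subtype_le _) (isMulCommutative_map _ hB)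
    rwa [card_map_of_injective T.subtype_injective] at this
  have h1 := mem_of_commute_maxAbelian hA' (x := ⟨y, hy⟩) (fun a ha => Subtype.ext (h a ha))
  exact mem_subgroupOf.1 h1

variable {Ω : Type u} [Group Ω] {S : Subgroup Ω} {F : FusionSystem S} [Finite S] {p : ℕ} [hpf : Fact p.Prime]

theorem mem_normalizer_J_of {T I : Subgroup Ω} (hTS : T ≤ S) (hJI : thompsonSubgroupAOf T ≤ I) (hIT : I ≤ T) {h : Ω}
    (hh : h ∈ normalizer (I : Set Ω)) : h ∈ normalizer (thompsonSubgroupAOf T : Set Ω) := by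
  have hJeq := thompsonAOf_eq' T
  refine mem_normalizer_of_conj_mem (S := S) ((thompsonAOf_le T).trans hTS) ?_
  have hle : thompsonSubgroupAOf T ≤ (thompsonSubgroupAOf T).comap (MulAut.conj h).toMonoidHom := by
    conv_lhs => rw [hJeq]
    refine sSup_le fun A hA => ?_
    intro a ha
    show h * a * h⁻¹ ∈ thompsonSubgroupAOf T
    have hAJ : A ≤ thompsonSubgroupAOf T := IsMaxAbIn_le_J hA
    refine IsMaxAbIn_le_J (A := A.map (MulAut.conj h).toMonoidHom) ?_ ⟨a, ha, rfl⟩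
    refine ⟨?_, isMulCommutative_map _ hA.2.1, fun B hB hBc => ?_⟩
    · rintro _ ⟨b, hb, rfl⟩
      exact hIT ((mem_normalizer_iff.1 hh b).1 (hJI (hAJ hb)))
    · rw [Subgroup.card_map_of_injective (MulAut.conj h).injective]
      exact hA.2.2 B hB hBc
  exact fun x hx => hle hx

/-- Abelian subgroups of `O` are bounded by abelian subgroups of `T`. -/
def AbLe (O T : Subgroup Ω) : Prop :=
  ∀ A ≤ O, IsMulCommutative A → ∃ B ≤ T, IsMulCommutative B ∧ Nat.card A ≤ Nat.card B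

theorem centralizerHom_mono {S₁ : Subgroup Ω} {F₁ : FusionSystem S₁} (hsub : ∀ P, F₁.Hom P ⊆ F.Hom P) {V V₁ : Subgroup Ω} (hVV : V ≤ V₁)
    (hVc : ∀ v ∈ V, ∀ s ∈ S, s * v = v * s) {P : Subgroup Ω} {φ : P →* Ω} (hφ : φ ∈ F₁.centralizerHom V₁ P) : φ ∈ F.centralizerHom V P := by
  obtain ⟨hφ₁, -, -, ψ, hψ, hψφ, hψfix⟩ := hφ
  have hφF := hsub _ hφ₁
  have hle : P ⊔ V ≤ P ⊔ V₁ := sup_le le_sup_left (hVV.trans le_sup_right)
  refine ⟨hφF, fun x hx => ⟨le_of_hom hφF hx, ?_⟩, fun x => ⟨val_mem hφF x, ?_⟩, ψ.comp (Subgroup.inclusion hle), restrict_mem (hsub _ hψ) hle,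
    fun x => hψφ x, fun x => hψfix ⟨x, hVV x.2⟩⟩
  · show x ∈ centralizer _
    rw [mem_centralizer_iff]
    intro v hv
    exact (hVc v hv x (le_of_hom hφF hx)).symm
  · show φ x ∈ centralizer _
    rw [mem_centralizer_iff]
    intro v hv
    exact (hVc v hv _ (val_mem hφF x)).symm

theorem normalizerHom_mono {S₁ : Subgroup Ω} {F₁ : FusionSystem S₁} (hsub : ∀ P, F₁.Hom P ⊆ F.Hom P) (hS₁ : S₁ ≤ S) {Q : Subgroup Ω}
    {P : Subgroup Ω} {φ : P →* Ω} (hφ : φ ∈ F₁.normalizerHom Q P) : φ ∈ F.normalizerHom Q P := by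
  obtain ⟨hφ₁, hP, hv, ψ, hψ, hψφ, hψm⟩ := hφ
  have hle : normalizerIn S₁ Q ≤ normalizerIn S Q := inf_le_inf_right _ hS₁
  exact ⟨hsub _ hφ₁, hP.trans hle, fun x => hle (hv x), ψ, hsub _ hψ, hψφ, hψm⟩

theorem exists_mem_normalizerHom {X R : Subgroup Ω} {f : Ω → Ω} (hf : IsMapOn F X f) (hRX : R ≤ X) (hi : IsImage f R R)
    (hXN : X ≤ normalizerIn S R) (hfN : ∀ x ∈ X, f x ∈ normalizerIn S R) : ∃ φ ∈ F.normalizerHom R X, ∀ x : X, φ x = f x := by
  obtain ⟨φ, hφ, hv⟩ := hf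
  have hle : X ⊔ R ≤ X := sup_le le_rfl hRX
  refine ⟨φ, ⟨hφ, hXN, fun x => ?_, φ.comp (Subgroup.inclusion hle), restrict_mem hφ hle, fun x => rfl, ?_⟩, hv⟩
  · rw [hv]
    exact hfN x x.2
  · ext y
    constructor
    · rintro ⟨x, hx, rfl⟩
      have hxR : (x : Ω) ∈ R := mem_subgroupOf.1 hx
      have e : (φ.comp (Subgroup.inclusion hle)) x = f x := hv (Subgroup.inclusion hle x)
      show (φ.comp (Subgroup.inclusion hle)) x ∈ R
      rw [e]
      exact hi.mem hxR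
    · intro hy
      obtain ⟨x, hx, rfl⟩ := hi.exists_of_mem hy
      refine ⟨⟨x, le_sup_right (a := X) hx⟩, mem_subgroupOf.2 hx, ?_⟩
      exact hv ⟨x, hRX hx⟩

theorem le_of_isImage_stronglyClosed {O A B : Subgroup Ω} {f : Ω → Ω} (hO : F.StronglyClosed O) (hf : IsMapOn F A f) (hi : IsImage f A B) (hB : B ≤ O) : A ≤ O := by
  obtain ⟨g, hg, -, hg1, -⟩ := hf.exists_inv hi
  intro a ha
  obtain ⟨γ, hγ, hv⟩ := hg
  have h1 := hO.2 B hB γ hγ ⟨f a, hi.mem ha⟩
  rw [hv] at h1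
  simp only at h1
  rwa [hg1 a ha] at h1

theorem isNormal_of_normalizerSystem_eq {R O : Subgroup Ω} (hR : R ≤ S) (hON : F.IsNormal O) {E₁ : FusionSystem (normalizerIn S R)} (hE : F.IsNormalizerSystem R E₁)
    (hS₁ : S ≤ normalizerIn S R) : E₁.IsNormal O := by
  refine ⟨hON.1.trans hS₁, fun P φ hφ => ?_⟩
  rw [hE P] at hφ
  obtain ⟨hφF, hP, hv, ψ₀, hψ₀, hagree, hmap⟩ := hφ
  obtain ⟨ψ₁, hψ₁, hag₁, hm₁⟩ := hON.2 (P ⊔ R) ψ₀ hψ₀
  have hle : P ⊔ O ≤ (P ⊔ R) ⊔ O := sup_le (le_sup_left.trans le_sup_left) le_sup_right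
  have hle' : (P ⊔ O) ⊔ R ≤ (P ⊔ R) ⊔ O := sup_le hle (le_sup_right.trans le_sup_left)
  have hPOS : (P ⊔ R) ⊔ O ≤ S := le_of_hom hψ₁
  refine ⟨ψ₁.comp (Subgroup.inclusion hle), ?_, fun x => ?_, ?_⟩
  · rw [hE]
    refine ⟨restrict_mem hψ₁ hle, fun x hx => hS₁ (hPOS (hle hx)), fun x => hS₁ (val_mem hψ₁ _), ψ₁.comp (Subgroup.inclusion hle'), restrict_mem hψ₁ hle', fun x => rfl, ?_⟩
    ext y
    constructor
    · rintro ⟨x, hx, rfl⟩
      have hxR : (x : Ω) ∈ R := mem_subgroupOf.1 hx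
      have e : (ψ₁.comp (Subgroup.inclusion hle')) x = ψ₀ ⟨x, le_sup_right (a := P) hxR⟩ := hag₁ ⟨x, le_sup_right (a := P) hxR⟩
      show (ψ₁.comp (Subgroup.inclusion hle')) x ∈ R
      rw [e]
      exact hmap.le ⟨_, hx, rfl⟩
    · intro hy
      obtain ⟨x, hx, rfl⟩ := hmap.ge hy
      have hxR : (x : Ω) ∈ R := mem_subgroupOf.1 hx
      refine ⟨⟨x, le_sup_right (a := P ⊔ O) hxR⟩, mem_subgroupOf.2 hxR, ?_⟩
      exact hag₁ x
  · have := hag₁ (Subgroup.inclusion le_sup_left x)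
    rw [hagree] at this
    exact this
  · ext y
    constructor
    · rintro ⟨x, hx, rfl⟩
      have hxO : (x : Ω) ∈ O := mem_subgroupOf.1 hx
      exact hm₁.le ⟨Subgroup.inclusion hle x, hxO, rfl⟩
    · intro hy
      obtain ⟨x, hx, rfl⟩ := hm₁.ge hy
      have hxO : (x : Ω) ∈ O := mem_subgroupOf.1 hx
      exact ⟨⟨x, le_sup_right (a := P) hxO⟩, mem_subgroupOf.2 hxO, rfl⟩

/-- If `F` is not constrained, then `J(N_S(U)) ≰ O` for essential `U`. -/
theorem not_J_le_of_not_constrained (hS : IsPGroup p S) {O U : Subgroup Ω} (hON : F.IsNormal O) (hcons : ¬ centralizerIn S O ≤ O) (hU : F.IsEssential p U) :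
    ¬ thompsonSubgroupAOf (normalizerIn S U) ≤ O := by
  intro hJ
  have hUS := hU.1.1
  have hOU : O ≤ U := le_of_isNormal hS hON hU.1 (isRadical_of_essential hS hU)
  have hUc := hU.1.2 U (isConj_refl hUS)
  haveI hTf : Finite (normalizerIn S U) := finite_of_le (normalizerIn_le U)
  obtain ⟨A, hA⟩ := exists_isMaxAb (normalizerIn S U)
  have hAO : A ≤ O := (IsMaxAbIn_le_J hA).trans hJ
  have hSO : S ≤ normalizer (O : Set Ω) := normalizer_of_stronglyClosed (stronglyClosed_of_isNormal hON)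
  have hkey : ∀ y ∈ normalizerIn S U, y ∈ centralizer (O : Set Ω) → y ∈ O := by
    intro y hy hyc
    refine hAO (mem_of_commute_isMaxAb hA hy (fun a ha => ?_))
    exact (mem_centralizer_iff.1 hyc a (hAO ha)).symm ▸ rfl
  apply hcons
  obtain ⟨Y, hY⟩ : ∃ Y : Subgroup Ω, Y = centralizerIn S O := ⟨_, rfl⟩
  rw [← hY]
  have hYS : Y ≤ S := hY ▸ inf_le_left
  have hSY : S ≤ normalizer (Y : Set Ω) := by
    intro s hs
    refine mem_normalizer_of_conj_mem hYS (fun y hy => ?_)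
    rw [hY] at hy ⊢
    refine ⟨S.mul_mem (S.mul_mem hs hy.1) (S.inv_mem hs), ?_⟩
    show s * y * s⁻¹ ∈ centralizer (O : Set Ω)
    rw [mem_centralizer_iff]
    intro q hq
    have h1 : s⁻¹ * q * s⁻¹⁻¹ ∈ O := (mem_normalizer_iff.1 (Subgroup.inv_mem _ (hSO hs)) q).1 hq
    have h2 := mem_centralizer_iff.1 hy.2 _ h1
    simp only [inv_inv] at h2
    calc q * (s * y * s⁻¹) = s * ((s⁻¹ * q * s) * y) * s⁻¹ := by group
      _ = s * (y * (s⁻¹ * q * s)) * s⁻¹ := by rw [h2]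
      _ = s * y * s⁻¹ * q := by group
  have hYc : ∀ y ∈ Y, y ∈ centralizer (O : Set Ω) := fun y hy => by
    rw [hY] at hy
    exact hy.2
  have hYU : Y ≤ U := by
    by_contra hc
    have hlt : U < U ⊔ Y := lt_of_le_of_ne le_sup_left (fun e => hc (e ▸ le_sup_right))
    have hsup : U ⊔ Y ≤ S := sup_le hUS hYS
    haveI : Finite (U ⊔ Y : Subgroup Ω) := finite_of_le hsup
    obtain ⟨g, hg, hgU⟩ := exists_mem_normalizerIn_not_mem (S := U ⊔ Y) (hS.to_le hsup) hlt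
    obtain ⟨u, hu, y, hy, rfl⟩ := exists_mul_of_mem_sup (hUS.trans hSY) hg.1
    have hyN : y ∈ normalizer (U : Set Ω) := by
      have e : y = u⁻¹ * (u * y) := by group
      rw [e]
      exact Subgroup.mul_mem _ (Subgroup.inv_mem _ (le_normalizer hu)) hg.2
    have hyO := hkey y ⟨hYS hy, hyN⟩ (hYc y hy)
    exact hgU (U.mul_mem hu (hOU hyO))
  intro y hy
  have hyU := hYU hy
  exact hkey y ⟨hUS hyU, le_normalizer hyU⟩ (hYc y hy)

/-- `α ∈ Aut_F(S)` lies in `N_F(J(S))`. -/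
theorem aut_S_mem {α : MulAut S} (hα : α ∈ F.autGroup S) :
    S.subtype.comp α.toMonoidHom ∈ F.normalizerHom (thompsonSubgroupAOf S) S := by
  have hJS : thompsonSubgroupAOf S ≤ S := thompsonAOf_le S
  have hm := isMapOn_fn (F := F) (le_refl S) hα
  have hi : IsImage (fn α) (thompsonSubgroupAOf S) (thompsonSubgroupAOf S) := by
    have h1 := thompsonA_map_equiv α
    intro y
    constructor
    · rintro ⟨y₀, hy₀, rfl⟩
      rw [← h1] at hy₀
      obtain ⟨x₀, hx₀, hxe⟩ := hy₀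
      refine ⟨x₀, ⟨x₀, hx₀, rfl⟩, ?_⟩
      rw [fn_coe]
      exact congrArg Subtype.val hxe
    · rintro ⟨x, ⟨x₀, hx₀, rfl⟩, rfl⟩
      refine ⟨α x₀, ?_, ?_⟩
      · rw [← h1]
        exact ⟨x₀, hx₀, rfl⟩
      · show ((α x₀ : S) : Ω) = fn α x₀
        rw [fn_coe]
  obtain ⟨φ, hφ, hv⟩ := exists_mem_normalizerHom hm hJS hi (fun x hx => ⟨hx, mem_normalizer_thompson hx⟩)
    (fun x hx => ⟨fn_mem α hx, mem_normalizer_thompson (fn_mem α hx)⟩)
  have : φ = S.subtype.comp α.toMonoidHom := by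
    ext x
    rw [hv, fn_coe]
    rfl
  rwa [← this]

/-- The maps of `N_F(J(T))` from those of a smaller system. -/
theorem step_B (hS : IsPGroup p S) (hF : F.IsSaturated p) {S₀ : Subgroup Ω} (E : FusionSystem S₀) {O : Subgroup Ω} (hON : F.IsNormal O)
    (hIH : ∀ (R₃ : Subgroup Ω) (_ : F.IsFullyNormalized R₃) (F₁ : FusionSystem (normalizerIn S R₃)), F.IsNormalizerSystem R₃ F₁ → ¬ R₃ ≤ O →
      (∀ P, F₁.centralizerHom (vOn p 1 (normalizerIn S R₃)) P ⊆ E.Hom P) →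
      (∀ P, F₁.normalizerHom (thompsonSubgroupAOf (normalizerIn S R₃)) P ⊆ E.Hom P) → ∀ P, F₁.Hom P ⊆ E.Hom P)
    (h1 : ∀ P, F.centralizerHom (vOn p 1 S) P ⊆ E.Hom P) {k : ℕ}
    (hAk : ∀ P : Subgroup Ω, k + 1 ≤ Nat.card P → F.Hom P ⊆ E.Hom P)
    (hBk : ∀ T : Subgroup Ω, T ≤ S → (T = S ∨ (AbLe O T ∧ ¬ thompsonSubgroupAOf T ≤ O)) → k + 1 ≤ Nat.card T →
      ∀ P, F.normalizerHom (thompsonSubgroupAOf T) P ⊆ E.Hom P)
    {T : Subgroup Ω} (hTS : T ≤ S) (hk : k ≤ Nat.card T) (hT : AbLe O T) (hJ : ¬ thompsonSubgroupAOf T ≤ O) (hne : T ≠ S) :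
    ∀ P, F.normalizerHom (thompsonSubgroupAOf T) P ⊆ E.Hom P := by
  classical
  intro P φ hφ
  obtain ⟨R, hRdef⟩ : ∃ R, R = thompsonSubgroupAOf T := ⟨_, rfl⟩
  rw [← hRdef] at hφ hJ
  have hRT : R ≤ T := hRdef ▸ thompsonAOf_le T
  have hRS := hRT.trans hTS
  have hOsc := stronglyClosed_of_isNormal hON
  -- `T < N_S(R)`
  have hTn : ∀ g, g ∈ normalizer (T : Set Ω) → g ∈ normalizer (R : Set Ω) := fun g hg => hRdef ▸ mem_normalizer_J_of hTS (thompsonAOf_le T) le_rfl hg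
  have hTT₁ : T ≤ normalizerIn S R := fun x hx => ⟨hTS hx, hTn x (le_normalizer hx)⟩
  have hRT₁ : R ≤ normalizerIn S R := hRT.trans hTT₁
  have hTlt : T < normalizerIn S R := by
    obtain ⟨g, hg, hgT⟩ := exists_mem_normalizerIn_not_mem hS (lt_of_le_of_ne hTS hne)
    exact lt_of_le_of_ne hTT₁ (fun e => hgT (e ▸ (⟨hg.1, hTn g hg.2⟩ : g ∈ normalizerIn S R)))
  have hcardT₁ : k + 1 ≤ Nat.card (normalizerIn S R) := (Nat.succ_le_succ hk).trans (card_lt_of_lt hTlt (normalizerIn_le R))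
  obtain ⟨R₃, hRR₃, hR₃⟩ := exists_fullyNormalized_conj (F := F) hRS
  have haut := (fullyNormalized_spec hS hF hR₃).2
  have hrec := receptive_of_fullyNormalized hS hF hR₃
  obtain ⟨χ, hχ, hχi, hχn⟩ := exists_up hS haut hrec hRR₃
  have hχE : IsMapOn E (normalizerIn S R) χ := by
    obtain ⟨φ₁, hφ₁, hv₁⟩ := hχ
    exact ⟨φ₁, hAk _ hcardT₁ hφ₁, hv₁⟩
  obtain ⟨F₁, hF₁⟩ := kSystem_normalizer F hR₃.1
  have hR₃O : ¬ R₃ ≤ O := fun hle => hJ (le_of_isImage_stronglyClosed hOsc (hχ.mono hRT₁) hχi hle)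
  have hsub₁ : ∀ P, F₁.Hom P ⊆ F.Hom P := fun P φ hφ => by
    rw [hF₁ P] at hφ
    exact hφ.1
  have hVc : ∀ v ∈ vOn p 1 S, ∀ s ∈ S, s * v = v * s := by
    intro v hv s hs
    obtain ⟨y, hy, rfl⟩ := (mem_powerClosure_iff (center_comm S)).1 hv
    have hc : Commute y s := (mem_centralizer_iff.1 hy.2 s hs).symm
    exact (hc.pow_left _).eq.symm
  have hVV : vOn p 1 S ≤ vOn p 1 (normalizerIn S R₃) := by
    refine powerClosure_le (fun y hy => ⟨⟨hy.1, ?_⟩, ?_⟩)
    · refine mem_normalizer_of_conj_mem hR₃.1 (fun x hx => ?_)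
      have e : y * x * y⁻¹ = x := by
        have := mem_centralizer_iff.1 hy.2 x (hR₃.1 hx)
        rw [← this]
        group
      rwa [e]
    · exact centralizer_le (fun x hx => (normalizerIn_le R₃) hx) hy.2
  have h₁ : ∀ P, F₁.centralizerHom (vOn p 1 (normalizerIn S R₃)) P ⊆ E.Hom P :=
    fun P φ h => h1 P (centralizerHom_mono hsub₁ hVV hVc h)
  haveI hS₁f : Finite (normalizerIn S R₃) := finite_of_le (normalizerIn_le R₃)
  -- images of subgroups of `N_S(R)`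
  have himg : ∀ B : Subgroup Ω, B ≤ normalizerIn S R → ∃ B₂, IsImage χ B B₂ ∧ B₂ ≤ normalizerIn S R₃ ∧ Nat.card B₂ = Nat.card B ∧
      (IsMulCommutative B → IsMulCommutative B₂) := by
    intro B hB
    obtain ⟨B₂, hB₂⟩ := hχ.exists_image hB
    refine ⟨B₂, hB₂, fun y hy => ?_, (IsImage.card_eq hχ hB hB₂).symm, fun hc => ?_⟩
    · obtain ⟨x, hx, rfl⟩ := hB₂.exists_of_mem hy
      exact hχn x (hB hx)
    · rw [Cfsg.Agent.Lib.PLocal.isMulCommutative_iff] at hc ⊢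
      intro a ha b hb
      obtain ⟨x, hx, rfl⟩ := hB₂.exists_of_mem ha
      obtain ⟨y, hy, rfl⟩ := hB₂.exists_of_mem hb
      rw [← hχ.map_mul (hB hx) (hB hy), ← hχ.map_mul (hB hy) (hB hx), hc x hx y hy]
  have hS₁mem : normalizerIn S R₃ = S ∨ (AbLe O (normalizerIn S R₃) ∧ ¬ thompsonSubgroupAOf (normalizerIn S R₃) ≤ O) := by
    by_cases hS₁ : normalizerIn S R₃ = S
    · exact Or.inl hS₁
    · refine Or.inr ⟨fun A hA hAc => ?_, fun hJS₁ => ?_⟩
      · obtain ⟨B, hB, hBc, hc⟩ := hT A hA hAc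
        obtain ⟨B₂, -, h2, h3, h4⟩ := himg B (hB.trans hTT₁)
        exact ⟨B₂, h2, h4 hBc, h3 ▸ hc⟩
      · -- a maximal abelian subgroup of `T` outside `O`
        obtain ⟨A, hA, hAO⟩ : ∃ A, IsMaxAbIn T A ∧ ¬ A ≤ O := by
          by_contra hc
          push_neg at hc
          apply hJ
          rw [hRdef, thompsonAOf_eq']
          exact sSup_le hc
        obtain ⟨A₁, hA₁⟩ := exists_isMaxAb (normalizerIn S R₃)
        have hA₁O : A₁ ≤ O := (IsMaxAbIn_le_J hA₁).trans hJS₁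
        obtain ⟨B, hB, hBc, hc⟩ := hT A₁ hA₁O hA₁.2.1
        have hcBA := hA.2.2 B hB hBc
        obtain ⟨A₂, h1', h2, h3, h4⟩ := himg A (hA.1.trans hTT₁)
        have hA₂ : IsMaxAbIn (normalizerIn S R₃) A₂ := ⟨h2, h4 hA.2.1, fun C hC hCc => by
          have := hA₁.2.2 C hC hCc
          omega⟩
        exact hAO (le_of_isImage_stronglyClosed hOsc (hχ.mono (hA.1.trans hTT₁)) h1' ((IsMaxAbIn_le_J hA₂).trans hJS₁))
  have hcardS₁ : k + 1 ≤ Nat.card (normalizerIn S R₃) := by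
    obtain ⟨B₂, -, h2, h3, -⟩ := himg _ (le_refl (normalizerIn S R))
    rw [← h3] at hcardT₁
    exact hcardT₁.trans (Subgroup.card_le_of_le h2)
  have h₂ : ∀ P, F₁.normalizerHom (thompsonSubgroupAOf (normalizerIn S R₃)) P ⊆ E.Hom P :=
    fun P φ h => hBk _ (normalizerIn_le R₃) hS₁mem hcardS₁ P (normalizerHom_mono hsub₁ (normalizerIn_le R₃) h)
  have hF₁E := hIH R₃ hR₃ F₁ hF₁ hR₃O h₁ h₂
  -- the map
  obtain ⟨hφF, hPN, hφv, ψ, hψ, hψv, hψm⟩ := hφ
  have hX₂T₁ : P ⊔ R ≤ normalizerIn S R := sup_le hPN hRT₁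
  have hfψ : IsMapOn F (P ⊔ R) (toFun ψ) := isMapOn_toFun hψ
  have hfψR : IsImage (toFun ψ) R R := by
    intro y
    constructor
    · intro hy
      obtain ⟨x, hx, rfl⟩ := hψm.ge hy
      exact ⟨x, hx, toFun_coe ψ x⟩
    · rintro ⟨x, hx, rfl⟩
      rw [toFun_of_mem ψ (le_sup_right (a := P) hx)]
      exact hψm.le ⟨⟨x, le_sup_right (a := P) hx⟩, hx, rfl⟩
  have hψP : ∀ x ∈ P, toFun ψ x = toFun φ x := by
    intro x hx
    rw [toFun_of_mem ψ (le_sup_left (a := P) hx), toFun_of_mem φ hx]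
    exact hψv ⟨x, hx⟩
  have hfψT₁ : ∀ x ∈ P ⊔ R, toFun ψ x ∈ normalizerIn S R := by
    intro x hx
    have hle : P ⊔ R ≤ ((normalizerIn S R).comap (ψ)).map (P ⊔ R).subtype := by
      refine sup_le (fun y hy => ⟨⟨y, le_sup_left (a := P) hy⟩, ?_, rfl⟩) (fun y hy => ⟨⟨y, le_sup_right (a := P) hy⟩, ?_, rfl⟩)
      · have := hψv ⟨y, hy⟩
        show ψ _ ∈ normalizerIn S R
        exact this ▸ hφv ⟨y, hy⟩
      · exact hRT₁ (hfψR.mem hy |> fun h => by
          rw [toFun_of_mem ψ (le_sup_right (a := P) hy)] at h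
          exact h)
    obtain ⟨y, hy, rfl⟩ := hle hx
    show toFun ψ (y : Ω) ∈ _
    rw [toFun_coe]
    exact hy
  obtain ⟨Y, hY⟩ := hχ.exists_image hX₂T₁
  obtain ⟨κ, hκ, hκi, hκ1, hκ2⟩ := (hχ.mono hX₂T₁).exists_inv hY
  have hψ' : IsMapOn F Y (fun y => χ (toFun ψ (κ y))) :=
    (hκ.comp hfψ (fun y hy => hκi.mem hy)).comp hχ (fun y hy => hfψT₁ _ (hκi.mem hy))
  have hR₃Y : R₃ ≤ Y := by
    intro y hy
    obtain ⟨x, hx, rfl⟩ := hχi.exists_of_mem hy
    exact hY.mem (le_sup_right (a := P) hx)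
  have hYS₁ : Y ≤ normalizerIn S R₃ := by
    intro y hy
    obtain ⟨x, hx, rfl⟩ := hY.exists_of_mem hy
    exact hχn x (hX₂T₁ hx)
  have hκR : IsImage κ R₃ R := hχi.inv (fun x hx => hκ1 x (le_sup_right (a := P) hx))
  have hψ'i : IsImage (fun y => χ (toFun ψ (κ y))) R₃ R₃ := (hκR.comp hfψR).comp hχi
  obtain ⟨φ₂, hφ₂, hφ₂v⟩ := exists_mem_normalizerHom hψ' hR₃Y hψ'i hYS₁ (fun y hy => hχn _ (hfψT₁ _ (hκi.mem hy)))
  have hE₂ : IsMapOn E Y (fun y => χ (toFun ψ (κ y))) := ⟨φ₂, hF₁E Y (by rw [hF₁ Y]; exact hφ₂), hφ₂v⟩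
  obtain ⟨X₃, hX₃⟩ := hfψ.exists_image (le_refl (P ⊔ R))
  have hX₃T₁ : X₃ ≤ normalizerIn S R := by
    intro y hy
    obtain ⟨x, hx, rfl⟩ := hX₃.exists_of_mem hy
    exact hfψT₁ x hx
  have hχE₃ := hχE.mono hX₃T₁
  obtain ⟨Y₃, hY₃⟩ := hχE₃.exists_image (le_refl X₃)
  obtain ⟨κ₃, hκ₃, -, hκ₃1, -⟩ := hχE₃.exists_inv hY₃
  have hstep : ∀ x ∈ P ⊔ R, χ (toFun ψ (κ (χ x))) = χ (toFun ψ x) := fun x hx => by rw [hκ1 x hx]
  have hcomp : IsMapOn E (P ⊔ R) (fun x => κ₃ (χ (toFun ψ (κ (χ x))))) :=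
    ((hχE.mono hX₂T₁).comp hE₂ (fun x hx => hY.mem hx)).comp hκ₃ (fun x hx => by
      show χ (toFun ψ (κ (χ x))) ∈ Y₃
      rw [hstep x hx]
      exact hY₃.mem (hX₃.mem hx))
  have hEψ : IsMapOn E (P ⊔ R) (toFun ψ) := hcomp.congr (fun x hx => by
    rw [hstep x hx]
    exact hκ₃1 _ (hX₃.mem hx))
  obtain ⟨φ', hφ', hv'⟩ := hEψ.mono (le_sup_left : P ≤ P ⊔ R)
  have : φ' = φ := by
    ext x
    rw [hv', hψP x x.2, toFun_coe]
  rwa [← this]

/-- From `N_F(J(T))`, for larger `T`, to maps with large source. -/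
theorem step_A (hS : IsPGroup p S) (hF : F.IsSaturated p) {S₀ : Subgroup Ω} (hSS₀ : S ≤ S₀) (E : FusionSystem S₀) {O : Subgroup Ω} (hON : F.IsNormal O)
    (hcons : ¬ centralizerIn S O ≤ O)
    (h1 : ∀ P, F.centralizerHom (vOn p 1 S) P ⊆ E.Hom P) (h2 : ∀ P, F.normalizerHom (thompsonSubgroupAOf S) P ⊆ E.Hom P) {k : ℕ}
    (hBk : ∀ T : Subgroup Ω, T ≤ S → (T = S ∨ (AbLe O T ∧ ¬ thompsonSubgroupAOf T ≤ O)) → k + 1 ≤ Nat.card T →
      ∀ P, F.normalizerHom (thompsonSubgroupAOf T) P ⊆ E.Hom P) :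
    ∀ P : Subgroup Ω, k ≤ Nat.card P → F.Hom P ⊆ E.Hom P := by
  classical
  intro P hk φ hφ
  refine alperin_induction hS hF (fun P φ => k ≤ Nat.card P → φ ∈ E.Hom P) ?_ ?_ ?_ ?_ hφ hk
  · intro P g hP hg _
    exact E.conj_mem (hP.trans hSS₀) (hSS₀ hg)
  · intro P Q φ ψ hφ hψ hΦφ hΦψ h hkP
    haveI : Finite Q := finite_of_le (le_of_hom hψ)
    have hc : Nat.card P ≤ Nat.card Q := Nat.card_le_card_of_injective (φ.codRestrict Q h) (by
      intro a b e
      exact F.injective_of_mem hφ (congrArg Subtype.val e))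
    exact E.comp_mem (hΦφ hkP) (hΦψ (hkP.trans hc)) h
  · intro P φ ψ hφ hψ hv hΦ hkr
    have hc : Nat.card φ.range = Nat.card P := by
      rw [Nat.card_congr (MonoidHom.ofInjective (F.injective_of_mem hφ)).toEquiv]
    rw [hc] at hkr
    obtain ⟨ψ', hψ', hv'⟩ := E.inv_mem (hΦ hkr)
    have : ψ' = ψ := by
      ext ⟨_, ⟨x, rfl⟩⟩
      rw [hv', hv]
    rwa [← this]
  · intro U hU α hα hk'
    by_cases hUS : U = S
    · subst hUS
      exact h2 _ (aut_S_mem hα)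
    · have hUe := hU.resolve_left hUS
      have hUS' : U ≤ S := hUe.1.1
      obtain ⟨g, hg, hgU⟩ := exists_mem_normalizerIn_not_mem hS (lt_of_le_of_ne hUS' hUS)
      have hUT := le_normalizerIn hUS'
      have hUlt : U < normalizerIn S U := lt_of_le_of_ne hUT (fun e => hgU (e ▸ hg))
      have hcardT : k + 1 ≤ Nat.card (normalizerIn S U) := (Nat.succ_le_succ hk').trans (card_lt_of_lt hUlt (normalizerIn_le U))
      have hOU : O ≤ U := le_of_isNormal hS hON hUe.1 (isRadical_of_essential hS hUe)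
      have hTmem : normalizerIn S U = S ∨ (AbLe O (normalizerIn S U) ∧ ¬ thompsonSubgroupAOf (normalizerIn S U) ≤ O) := by
        by_cases hT : normalizerIn S U = S
        · exact Or.inl hT
        · exact Or.inr ⟨fun A hA hAc => ⟨A, hA.trans (hOU.trans hUT), hAc, le_rfl⟩, not_J_le_of_not_constrained hS hON hcons hUe⟩
      have hNJ := hBk _ (normalizerIn_le U) hTmem hcardT
      obtain ⟨F', hF'⟩ := kSystem_normalizer F hUS'
      haveI hTf : Finite (normalizerIn S U) := finite_of_le (normalizerIn_le U)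
      have hU' := hUe.2.1
      have hsat := isSaturated_normalizerSystem hS hF hU' hF'
      have hN := isNormal_normalizerSystem hUS' hF'
      have hCc := isCentric_normalizerSystem hUe.1 hF'
      have hSN : IsPGroup p (normalizerIn S U) := hS.to_le (normalizerIn_le U)
      obtain ⟨G, hG, ι, hmodel⟩ := exists_model hSN ⟨hsat, U, hN, hCc⟩
      have hsub : ∀ P, F'.Hom P ⊆ F.Hom P := fun P φ hφ => by
        rw [hF' P] at hφ
        exact hφ.1
      have hVc : ∀ v ∈ vOn p 1 S, ∀ s ∈ S, s * v = v * s := by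
        intro v hv s hs
        obtain ⟨y, hy, rfl⟩ := (mem_powerClosure_iff (center_comm S)).1 hv
        have hc : Commute y s := (mem_centralizer_iff.1 hy.2 s hs).symm
        exact (hc.pow_left _).eq.symm
      have hVV : vOn p 1 S ≤ vOn p 1 (normalizerIn S U) := by
        refine powerClosure_le (fun y hy => ⟨⟨hy.1, ?_⟩, ?_⟩)
        · refine mem_normalizer_of_conj_mem hUS' (fun x hx => ?_)
          have e : y * x * y⁻¹ = x := by
            have := mem_centralizer_iff.1 hy.2 x (hUS' hx)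
            rw [← this]
            group
          rwa [e]
        · exact centralizer_le (fun x hx => (normalizerIn_le U) hx) hy.2
      have hall := constrained_gen hmodel E (fun P φ h => h1 P (centralizerHom_mono hsub hVV hVc h))
        (fun P φ h => hNJ P (normalizerHom_mono hsub (normalizerIn_le U) h))
      have hαE : α ∈ F'.autGroup U := by
        rw [autGroup_normalizerSystem hUS' hF']
        exact hα
      exact hall U ((Cfsg.Agent.Lib.Fusion.mem_autGroup_iff hUT).1 hαE)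

/-- The main theorem, for systems on all subgroups. -/
theorem gen_core {S₀ : Subgroup Ω} (E : FusionSystem S₀) : ∀ (N : ℕ) (S : Subgroup Ω) [Finite S], S ≤ S₀ → IsPGroup p S → ∀ (F : FusionSystem S), F.IsSaturated p →
    Nat.card S * (Nat.card S + 1) - Nat.card F.core = N →
    (∀ P, F.centralizerHom (vOn p 1 S) P ⊆ E.Hom P) → (∀ P, F.normalizerHom (thompsonSubgroupAOf S) P ⊆ E.Hom P) → ∀ P, F.Hom P ⊆ E.Hom P := by
  intro N
  induction N using Nat.strong_induction_on with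
  | _ N IH =>
  intro S _ hSS₀ hS F hF hN h1 h2
  classical
  obtain ⟨O, hO⟩ : ∃ O, O = F.core := ⟨_, rfl⟩
  have hON : F.IsNormal O := hO ▸ Cfsg.Agent.Lib.Fusion2.core_isNormal F
  have hOsc := stronglyClosed_of_isNormal hON
  have hOS := hON.1
  by_cases hcons : centralizerIn S O ≤ O
  · have hCc : F.IsCentric O := by
      refine ⟨hOS, fun Q' hQ' => ?_⟩
      have hQeq : Q' = O := by
        obtain ⟨φ, hφ, hr⟩ := hQ'
        have h3 := map_eq_of_stronglyClosed hOsc le_rfl hφ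
        rw [Subgroup.subgroupOf_self, ← MonoidHom.range_eq_map, hr] at h3
        exact h3
      rw [hQeq]
      exact hcons
    obtain ⟨G, hG, ι, hm⟩ := exists_model hS ⟨hF, O, hON, hCc⟩
    exact constrained_gen hm E h1 h2
  · have hIH : ∀ (R₃ : Subgroup Ω) (_ : F.IsFullyNormalized R₃) (F₁ : FusionSystem (normalizerIn S R₃)), F.IsNormalizerSystem R₃ F₁ → ¬ R₃ ≤ O →
        (∀ P, F₁.centralizerHom (vOn p 1 (normalizerIn S R₃)) P ⊆ E.Hom P) →
        (∀ P, F₁.normalizerHom (thompsonSubgroupAOf (normalizerIn S R₃)) P ⊆ E.Hom P) → ∀ P, F₁.Hom P ⊆ E.Hom P := by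
      intro R₃ hR₃ F₁ hF₁ hR₃O hc1 hc2
      haveI hS₁f : Finite (normalizerIn S R₃) := finite_of_le (normalizerIn_le R₃)
      have hsat := isSaturated_normalizerSystem hS hF hR₃ hF₁
      refine IH _ ?_ (normalizerIn S R₃) ((normalizerIn_le R₃).trans hSS₀) (hS.to_le (normalizerIn_le R₃)) F₁ hsat rfl hc1 hc2
      rw [← hN, ← hO]
      have hos : Nat.card O ≤ Nat.card S := Subgroup.card_le_of_le hOS
      have hspos : 0 < Nat.card S := Nat.card_pos
      by_cases hS₁ : S ≤ normalizerIn S R₃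
      · have hO₁ : F₁.IsNormal O := isNormal_of_normalizerSystem_eq hR₃.1 hON hF₁ hS₁
        have hR₁ : F₁.IsNormal R₃ := isNormal_normalizerSystem hR₃.1 hF₁
        have hOc : O ≤ F₁.core := le_sSup hO₁
        have hRc : R₃ ≤ F₁.core := le_sSup hR₁
        have hcN : F₁.core ≤ normalizerIn S R₃ := (Cfsg.Agent.Lib.Fusion2.core_isNormal F₁).1
        have hlt : O < F₁.core := lt_of_le_of_ne hOc (fun e => hR₃O (e ▸ hRc))
        have hclt : Nat.card O < Nat.card F₁.core := card_lt_of_lt (S := normalizerIn S R₃) hlt hcN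
        have hcard : Nat.card (normalizerIn S R₃) = Nat.card S := by
          rw [le_antisymm (normalizerIn_le R₃) hS₁]
        rw [hcard]
        have hcs : Nat.card F₁.core ≤ Nat.card S := by
          rw [← hcard]
          exact Subgroup.card_le_of_le hcN
        have h4 : Nat.card S ≤ Nat.card S * (Nat.card S + 1) := Nat.le_mul_of_pos_right _ (by omega)
        omega
      · have hlt : normalizerIn S R₃ < S := lt_of_le_of_ne (normalizerIn_le R₃) (fun e => hS₁ (le_of_eq e.symm))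
        have hclt : Nat.card (normalizerIn S R₃) < Nat.card S := card_lt_of_lt hlt le_rfl
        have harith : ∀ s₁ s o c : ℕ, s₁ < s → o ≤ s → s₁ * (s₁ + 1) - c < s * (s + 1) - o := by
          intro s₁ s o c h1 h2
          have h6 : s₁ * (s₁ + 1) ≤ s₁ * s := Nat.mul_le_mul_left _ h1
          have h7 : (s₁ + 1) * s ≤ s * s := Nat.mul_le_mul_right _ h1
          rw [Nat.add_mul, one_mul] at h7
          have h8 : s * (s + 1) = s * s + s := by ring
          rw [h8]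
          have : 0 < s := by omega
          omega
        exact harith _ _ _ _ hclt hos
    have hB : ∀ d k : ℕ, k + d = Nat.card S + 1 → ∀ T : Subgroup Ω, T ≤ S → (T = S ∨ (AbLe O T ∧ ¬ thompsonSubgroupAOf T ≤ O)) → k ≤ Nat.card T →
        ∀ P, F.normalizerHom (thompsonSubgroupAOf T) P ⊆ E.Hom P := by
      intro d
      induction d with
      | zero =>
        intro k hk T hT _ hkT
        have := Subgroup.card_le_of_le hT
        omega
      | succ d ihd =>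
        intro k hk T hT hTm hkT
        have hBk := ihd (k + 1) (by omega)
        have hAk1 : ∀ P : Subgroup Ω, k + 1 ≤ Nat.card P → F.Hom P ⊆ E.Hom P :=
          step_A hS hF hSS₀ E hON hcons h1 h2 (fun T h3 h4 h5 => hBk T h3 h4 (by omega))
        rcases hTm with hTS | ⟨hab, hJ⟩
        · rw [hTS]
          exact h2
        · by_cases hne : T = S
          · rw [hne]
            exact h2
          · exact step_B hS hF E hON hIH h1 hAk1 hBk hT hkT hab hJ hne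
    have hA0 := step_A hS hF hSS₀ E hON hcons h1 h2 (k := 0) (hB (Nat.card S) 1 (by omega))
    exact fun P => hA0 P (Nat.zero_le _)

end Cfsg.Agent.Lib.Fusion2.GenJ
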