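import Cfsg.Agent.Lib.Fusion2.GenJ3

/-!
# A quadratic orbit lemma, and relative Sylow tools

The group-theoretic input for the odd-prime statement on the centre of a saturated fusion system.
-/

set_option autoImplicit false
set_option linter.unusedSectionVars false
set_option linter.style.haveILetI false

universe u

namespace Cfsg.Agent.Lib.Fusion2.GenOdd

open Cfsg Subgroup
open Cfsg.Agent.Lib.PLocal
open Cfsg.Agent.Lib.Fusion2.GenJ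

variable {p : ℕ} [hpf : Fact p.Prime]

section counting

variable {G : Type*} [Group G] [Finite G]

theorem card_modEq_fixed {B : Subgroup G} (hB : IsPGroup p B) (O : Set G)
    (hO : ∀ b ∈ B, ∀ y ∈ O, b * y * b⁻¹ ∈ O) :
    Nat.card O ≡ Nat.card {y : O // ∀ b ∈ B, b * (y : G) * b⁻¹ = y} [MOD p] := by
  letI : MulAction B O :=
    { smul := fun b y => ⟨(b : G) * y * (b : G)⁻¹, hO b b.2 y y.2⟩
      one_smul := fun y => Subtype.ext (by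
        show (1 : G) * y * 1⁻¹ = y
        group)
      mul_smul := fun a b y => Subtype.ext (by
        show ((a : G) * b) * y * ((a : G) * b)⁻¹ = (a : G) * (b * y * (b : G)⁻¹) * (a : G)⁻¹
        group) }
  have h := hB.card_modEq_card_fixedPoints O
  have e : Nat.card (MulAction.fixedPoints B O) = Nat.card {y : O // ∀ b ∈ B, b * (y : G) * b⁻¹ = y} := by
    refine Nat.card_congr (Equiv.subtypeEquivRight fun y => ?_)
    rw [MulAction.mem_fixedPoints]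
    constructor
    · intro hy b hb
      exact congrArg Subtype.val (hy ⟨b, hb⟩)
    · intro hy b
      exact Subtype.ext (hy b b.2)
  rwa [e] at h

theorem exists_fixed_of_unique {A B : Subgroup G} (hA : IsPGroup p A) (hB : IsPGroup p B) (O : Set G)
    (hOA : ∀ a ∈ A, ∀ y ∈ O, a * y * a⁻¹ ∈ O) (hOB : ∀ b ∈ B, ∀ y ∈ O, b * y * b⁻¹ ∈ O) {x : G} (hx : x ∈ O)
    (hxA : ∀ a ∈ A, a * x * a⁻¹ = x) (huniq : ∀ y ∈ O, (∀ a ∈ A, a * y * a⁻¹ = y) → y = x) :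
    ∃ y ∈ O, ∀ b ∈ B, b * y * b⁻¹ = y := by
  have h1 := card_modEq_fixed hA O hOA
  have h2 := card_modEq_fixed hB O hOB
  have h3 : Nat.card {y : O // ∀ a ∈ A, a * (y : G) * a⁻¹ = y} = 1 := by
    rw [Nat.card_eq_one_iff_unique]
    refine ⟨⟨fun a b => Subtype.ext (Subtype.ext ?_)⟩, ⟨⟨⟨x, hx⟩, hxA⟩⟩⟩
    rw [huniq _ a.1.2 a.2, huniq _ b.1.2 b.2]
  rw [h3] at h1
  by_contra hc
  push_neg at hc
  have h4 : Nat.card {y : O // ∀ b ∈ B, b * (y : G) * b⁻¹ = y} = 0 := by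
    rw [Nat.card_eq_zero]
    left
    exact ⟨fun y => by
      obtain ⟨b, hb, hne⟩ := hc y.1 y.1.2
      exact hne (y.2 b hb)⟩
  rw [h4] at h2
  have h5 : 1 ≡ 0 [MOD p] := h1.symm.trans h2
  have h6 : p ∣ 1 := (Nat.modEq_zero_iff_dvd).1 h5
  exact (Fact.out : p.Prime).one_lt.ne' (Nat.dvd_one.1 h6)

/-- The orbit lemma: a quadratically acting `p`-group with a unique fixed point in the orbit of `x`. -/
theorem orbit_lemma {H D A : Subgroup G}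
    (hDc : ∀ a ∈ D, ∀ b ∈ D, a * b = b * a) (hHD : ∀ h ∈ H, ∀ d ∈ D, h * d * h⁻¹ ∈ D) {x : G} (hxD : x ∈ D)
    (hAH : A ≤ H) (hAp : IsPGroup p A) (hAx : ∀ a ∈ A, a * x * a⁻¹ = x)
    (hquad : ∀ a ∈ A, ∀ b ∈ A, ∀ d ∈ D, b * (a * d * a⁻¹ * d⁻¹) * b⁻¹ = a * d * a⁻¹ * d⁻¹)
    (huniq : ∀ h ∈ H, (∀ a ∈ A, a * (h * x * h⁻¹) * a⁻¹ = h * x * h⁻¹) → h * x * h⁻¹ = x)
    (hD2 : ∀ d ∈ D, d * d = 1 → d = 1) : ∀ h ∈ H, h * x * h⁻¹ = x := by
  intro g hg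
  obtain ⟨A', hA'⟩ : ∃ A' : Subgroup G, A' = A.map (MulAut.conj g).toMonoidHom := ⟨_, rfl⟩
  have hA'mem : ∀ b, b ∈ A' → g⁻¹ * b * g ∈ A := by
    intro b hb
    rw [hA'] at hb
    obtain ⟨a, ha, rfl⟩ := hb
    have e : g⁻¹ * (MulAut.conj g).toMonoidHom a * g = a := by
      show g⁻¹ * (g * a * g⁻¹) * g = a
      group
    rwa [e]
  have hA'mk : ∀ a ∈ A, g * a * g⁻¹ ∈ A' := fun a ha => by
    rw [hA']
    exact ⟨a, ha, rfl⟩
  have hA'H : A' ≤ H := by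
    intro b hb
    have h1 := hAH (hA'mem b hb)
    have e : b = g * (g⁻¹ * b * g) * g⁻¹ := by group
    rw [e]
    exact H.mul_mem (H.mul_mem hg h1) (H.inv_mem hg)
  have hA'p : IsPGroup p A' := hA' ▸ hAp.map _
  have hginv : ∀ d ∈ D, g⁻¹ * d * g ∈ D := by
    intro d hd
    have := hHD g⁻¹ (H.inv_mem hg) d hd
    simpa using this
  have hA'quad : ∀ a ∈ A', ∀ b ∈ A', ∀ d ∈ D, b * (a * d * a⁻¹ * d⁻¹) * b⁻¹ = a * d * a⁻¹ * d⁻¹ := by
    intro a ha b hb d hd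
    have h1 := hquad _ (hA'mem a ha) _ (hA'mem b hb) _ (hginv d hd)
    have h2 := congrArg (fun z => g * z * g⁻¹) h1
    calc b * (a * d * a⁻¹ * d⁻¹) * b⁻¹
        = g * (g⁻¹ * b * g * (g⁻¹ * a * g * (g⁻¹ * d * g) * (g⁻¹ * a * g)⁻¹ * (g⁻¹ * d * g)⁻¹) * (g⁻¹ * b * g)⁻¹) * g⁻¹ := by group
      _ = g * (g⁻¹ * a * g * (g⁻¹ * d * g) * (g⁻¹ * a * g)⁻¹ * (g⁻¹ * d * g)⁻¹) * g⁻¹ := h2
      _ = a * d * a⁻¹ * d⁻¹ := by group
  have hA'x : ∀ b ∈ A', b * (g * x * g⁻¹) * b⁻¹ = g * x * g⁻¹ := by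
    intro b hb
    have h1 := hAx _ (hA'mem b hb)
    calc b * (g * x * g⁻¹) * b⁻¹ = g * (g⁻¹ * b * g * x * (g⁻¹ * b * g)⁻¹) * g⁻¹ := by group
      _ = g * x * g⁻¹ := by rw [h1]
  have huniq' : ∀ h ∈ H, (∀ b ∈ A', b * (h * x * h⁻¹) * b⁻¹ = h * x * h⁻¹) → h * x * h⁻¹ = g * x * g⁻¹ := by
    intro h hh hb
    have h1 := huniq (g⁻¹ * h) (H.mul_mem (H.inv_mem hg) hh) (fun a ha => by
      have h2 := hb _ (hA'mk a ha)
      have h3 := congrArg (fun z => g⁻¹ * z * g) h2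
      calc a * (g⁻¹ * h * x * (g⁻¹ * h)⁻¹) * a⁻¹
          = g⁻¹ * (g * a * g⁻¹ * (h * x * h⁻¹) * (g * a * g⁻¹)⁻¹) * g := by group
        _ = g⁻¹ * (h * x * h⁻¹) * g := h3
        _ = g⁻¹ * h * x * (g⁻¹ * h)⁻¹ := by group)
    have h3 := congrArg (fun z => g * z * g⁻¹) h1
    calc h * x * h⁻¹ = g * (g⁻¹ * h * x * (g⁻¹ * h)⁻¹) * g⁻¹ := by group
      _ = g * x * g⁻¹ := h3
  obtain ⟨K, hK⟩ : ∃ K : Subgroup G, K = A ⊔ A' := ⟨_, rfl⟩
  have hKH : K ≤ H := hK ▸ sup_le hAH hA'H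
  have hAK : A ≤ K := hK ▸ le_sup_left
  have hA'K : A' ≤ K := hK ▸ le_sup_right
  obtain ⟨O, hO⟩ : ∃ O : Set G, O = {y | ∃ k ∈ K, y = k * x * k⁻¹} := ⟨_, rfl⟩
  have hOK : ∀ t ∈ K, ∀ y ∈ O, t * y * t⁻¹ ∈ O := by
    intro t ht y hy
    rw [hO] at hy ⊢
    obtain ⟨k, hk, rfl⟩ := hy
    exact ⟨t * k, K.mul_mem ht hk, by group⟩
  have hxO : x ∈ O := by
    rw [hO]
    exact ⟨1, K.one_mem, by group⟩
  obtain ⟨y', hy'O, hy'⟩ := exists_fixed_of_unique hAp hA'p O (fun a ha => hOK a (hAK ha)) (fun a ha => hOK a (hA'K ha)) hxO hAx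
    (fun y hy hya => by
      rw [hO] at hy
      obtain ⟨k, hk, rfl⟩ := hy
      exact huniq k (hKH hk) hya)
  rw [hO] at hy'O
  obtain ⟨k, hk, rfl⟩ := hy'O
  have hk' := huniq' k (hKH hk) hy'
  -- the word claim
  have hKcl : K = closure ((A : Set G) ∪ A') := by
    rw [hK, Subgroup.closure_union, closure_eq, closure_eq]
  let P : G → Prop := fun k => ∃ kk ∈ H, ∃ u ∈ D, ∃ v ∈ D, (∀ a ∈ A, a * u * a⁻¹ = u) ∧ (∀ b ∈ A', b * v * b⁻¹ = v) ∧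
    k * x * k⁻¹ = u * v ∧ kk * x * kk⁻¹ = u * v⁻¹
  have stepA : ∀ a ∈ A, ∀ k, P k → P (a * k) := by
    rintro a ha k ⟨kk, hkk, u, hu, v, hv, huA, hvB, h1, h2⟩
    have haH := hAH ha
    have hw : a * v * a⁻¹ * v⁻¹ ∈ D := D.mul_mem (hHD a haH v hv) (D.inv_mem hv)
    refine ⟨a⁻¹ * kk, H.mul_mem (H.inv_mem haH) hkk, u * (a * v * a⁻¹ * v⁻¹), D.mul_mem hu hw, v, hv, ?_, hvB, ?_, ?_⟩
    · intro a' ha'
      have h3 := hquad a ha a' ha' v hv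
      have h4 := huA a' ha'
      calc a' * (u * (a * v * a⁻¹ * v⁻¹)) * a'⁻¹ = (a' * u * a'⁻¹) * (a' * (a * v * a⁻¹ * v⁻¹) * a'⁻¹) := by group
        _ = u * (a * v * a⁻¹ * v⁻¹) := by rw [h3, h4]
    · have h4 := huA a ha
      calc (a * k) * x * (a * k)⁻¹ = a * (k * x * k⁻¹) * a⁻¹ := by group
        _ = a * (u * v) * a⁻¹ := by rw [h1]
        _ = (a * u * a⁻¹) * (a * v * a⁻¹) := by group
        _ = u * (a * v * a⁻¹) := by rw [h4]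
        _ = u * (a * v * a⁻¹ * v⁻¹) * v := by group
    · have h4 := huA a⁻¹ (A.inv_mem ha)
      simp only [inv_inv] at h4
      have h5 := hquad a ha a⁻¹ (A.inv_mem ha) v hv
      simp only [inv_inv] at h5
      have h6 : a⁻¹ * v⁻¹ * a = (a * v * a⁻¹ * v⁻¹) * v⁻¹ := by
        have h7 : (a⁻¹ * v⁻¹ * a) = v⁻¹ * (a⁻¹ * (a * v * a⁻¹ * v⁻¹) * a) := by group
        rw [h7, h5]
        exact hDc _ (D.inv_mem hv) _ hw
      calc (a⁻¹ * kk) * x * (a⁻¹ * kk)⁻¹ = a⁻¹ * (kk * x * kk⁻¹) * a := by group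
        _ = a⁻¹ * (u * v⁻¹) * a := by rw [h2]
        _ = (a⁻¹ * u * a) * (a⁻¹ * v⁻¹ * a) := by group
        _ = u * ((a * v * a⁻¹ * v⁻¹) * v⁻¹) := by rw [h4, h6]
        _ = u * (a * v * a⁻¹ * v⁻¹) * v⁻¹ := by group
  have stepB : ∀ b ∈ A', ∀ k, P k → P (b * k) := by
    rintro b hb k ⟨kk, hkk, u, hu, v, hv, huA, hvB, h1, h2⟩
    have hbH := hA'H hb
    have hs : b * u * b⁻¹ * u⁻¹ ∈ D := D.mul_mem (hHD b hbH u hu) (D.inv_mem hu)
    refine ⟨b⁻¹ * kk, H.mul_mem (H.inv_mem hbH) hkk, u, hu, (b * u * b⁻¹ * u⁻¹) * v, D.mul_mem hs hv, huA, ?_, ?_, ?_⟩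
    · intro b' hb'
      have h3 := hA'quad b hb b' hb' u hu
      have h4 := hvB b' hb'
      calc b' * ((b * u * b⁻¹ * u⁻¹) * v) * b'⁻¹ = (b' * (b * u * b⁻¹ * u⁻¹) * b'⁻¹) * (b' * v * b'⁻¹) := by group
        _ = (b * u * b⁻¹ * u⁻¹) * v := by rw [h3, h4]
    · have h4 := hvB b hb
      have hc := hDc u hu _ hs
      calc (b * k) * x * (b * k)⁻¹ = b * (k * x * k⁻¹) * b⁻¹ := by group
        _ = b * (u * v) * b⁻¹ := by rw [h1]
        _ = (b * u * b⁻¹) * (b * v * b⁻¹) := by group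
        _ = (b * u * b⁻¹) * v := by rw [h4]
        _ = ((b * u * b⁻¹ * u⁻¹) * u) * v := by group
        _ = (u * (b * u * b⁻¹ * u⁻¹)) * v := by rw [hc]
        _ = u * ((b * u * b⁻¹ * u⁻¹) * v) := by group
    · have h4 := hvB b⁻¹ (A'.inv_mem hb)
      simp only [inv_inv] at h4
      have h5 := hA'quad b hb b⁻¹ (A'.inv_mem hb) u hu
      simp only [inv_inv] at h5
      have h6 : b⁻¹ * u * b = (b * u * b⁻¹ * u⁻¹)⁻¹ * u := by
        have h8 : u * (b⁻¹ * u⁻¹ * b) = b⁻¹ * (b * u * b⁻¹ * u⁻¹) * b := by group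
        have h9 : (b⁻¹ * u⁻¹ * b) = u⁻¹ * (b * u * b⁻¹ * u⁻¹) := by
          have h10 : (b⁻¹ * u⁻¹ * b) = u⁻¹ * (u * (b⁻¹ * u⁻¹ * b)) := by group
          rw [h10, h8, h5]
        have h11 : b⁻¹ * u * b = (b⁻¹ * u⁻¹ * b)⁻¹ := by group
        rw [h11, h9]
        group
      have hvi : b⁻¹ * v⁻¹ * b = v⁻¹ := by
        have : b⁻¹ * v⁻¹ * b = (b⁻¹ * v * b)⁻¹ := by group
        rw [this, h4]
      have hcomm : (b * u * b⁻¹ * u⁻¹)⁻¹ * (u * v⁻¹) = (u * v⁻¹) * (b * u * b⁻¹ * u⁻¹)⁻¹ :=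
        hDc _ (D.inv_mem hs) _ (D.mul_mem hu (D.inv_mem hv))
      calc (b⁻¹ * kk) * x * (b⁻¹ * kk)⁻¹ = b⁻¹ * (kk * x * kk⁻¹) * b := by group
        _ = b⁻¹ * (u * v⁻¹) * b := by rw [h2]
        _ = (b⁻¹ * u * b) * (b⁻¹ * v⁻¹ * b) := by group
        _ = (b * u * b⁻¹ * u⁻¹)⁻¹ * u * v⁻¹ := by rw [h6, hvi]
        _ = (b * u * b⁻¹ * u⁻¹)⁻¹ * (u * v⁻¹) := by group
        _ = (u * v⁻¹) * (b * u * b⁻¹ * u⁻¹)⁻¹ := hcomm
        _ = u * ((b * u * b⁻¹ * u⁻¹) * v)⁻¹ := by group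
  have hall : ∀ k ∈ closure ((A : Set G) ∪ A'), P k := by
    intro k hk
    induction hk using Subgroup.closure_induction_left with
    | one =>
      refine ⟨1, H.one_mem, x, hxD, 1, D.one_mem, hAx, fun b _ => by group, by group, by group⟩
    | mul_left t ht y hy ih =>
      rcases ht with ht | ht
      · exact stepA t ht y ih
      · exact stepB t ht y ih
    | inv_mul_cancel t ht y hy ih =>
      rcases ht with ht | ht
      · exact stepA t⁻¹ (A.inv_mem ht) y ih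
      · exact stepB t⁻¹ (A'.inv_mem ht) y ih
  obtain ⟨kk, hkk, u, hu, v, hv, huA, hvB, h1, h2⟩ := hall k (hKcl ▸ hk)
  have hy₀ : g * x * g⁻¹ = u * v := by rw [← hk', h1]
  have huB : ∀ b ∈ A', b * u * b⁻¹ = u := by
    intro b hb
    have h3 := hA'x b hb
    rw [hy₀] at h3
    have h4 := hvB b hb
    have h5 : b * (u * v) * b⁻¹ = (b * u * b⁻¹) * (b * v * b⁻¹) := by group
    rw [h5, h4] at h3
    exact mul_right_cancel h3
  have h3 := huniq' kk hkk (fun b hb => by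
    rw [h2]
    have h4 := hvB b hb
    have h5 : b * (u * v⁻¹) * b⁻¹ = (b * u * b⁻¹) * (b * v * b⁻¹)⁻¹ := by group
    rw [h5, h4, huB b hb])
  rw [h2, hy₀] at h3
  have hvv : v * v = 1 := by
    have h4 : v⁻¹ = v := mul_left_cancel h3
    calc v * v = v * v⁻¹ := by rw [h4]
      _ = 1 := by group
  have hv1 := hD2 v hv hvv
  rw [hv1, mul_one] at hy₀
  refine huniq g hg (fun a ha => ?_)
  rw [hy₀]
  exact huA a ha

/-- Conjugating a `p`-subgroup into a maximal `p`-subgroup of a subgroup. -/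
theorem conj_into_max {T H₀ B : Subgroup G} (hTp : IsPGroup p T) (hTH : T ≤ H₀)
    (hTmax : ∀ R ≤ H₀, IsPGroup p R → T ≤ R → R = T) (hB : IsPGroup p B) (hBH₀ : B ≤ H₀) :
    ∃ k ∈ H₀, ∀ b ∈ B, k * b * k⁻¹ ∈ T := by
  have hB₀ : IsPGroup p (B.subgroupOf H₀) := by
    intro x
    obtain ⟨n, hn⟩ := hB ⟨(x : H₀), x.2⟩
    refine ⟨n, Subtype.ext (Subtype.ext ?_)⟩
    have h5 := congrArg Subtype.val hn
    simpa using h5
  have hS₀ : IsPGroup p (T.subgroupOf H₀) := by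
    intro x
    obtain ⟨n, hn⟩ := hTp ⟨(x : H₀), x.2⟩
    refine ⟨n, Subtype.ext (Subtype.ext ?_)⟩
    have h5 := congrArg Subtype.val hn
    simpa using h5
  obtain ⟨T₁, hT₁⟩ := hB₀.exists_le_sylow
  obtain ⟨T₂, hT₂⟩ := hS₀.exists_le_sylow
  have hmapp : IsPGroup p ((T₂ : Subgroup H₀).map H₀.subtype) := T₂.isPGroup'.map _
  have hmap : (T₂ : Subgroup H₀).map H₀.subtype = T :=
    hTmax _ (map_subtype_le _) hmapp (fun s hs => ⟨⟨s, hTH hs⟩, hT₂ hs, rfl⟩)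
  obtain ⟨k, hk⟩ := MulAction.exists_smul_eq H₀ T₁ T₂
  refine ⟨k, k.2, fun b hb => ?_⟩
  rw [← hmap]
  have h1 : (⟨b, hBH₀ hb⟩ : H₀) ∈ (T₁ : Subgroup H₀) := hT₁ hb
  have h2 : (k : H₀) * ⟨b, hBH₀ hb⟩ * k⁻¹ ∈ (T₂ : Subgroup H₀) := by
    rw [← hk, Sylow.coe_subgroup_smul]
    exact ⟨⟨b, hBH₀ hb⟩, h1, rfl⟩
  exact ⟨_, h2, rfl⟩

/-- The Frattini decomposition relative to `H`. -/
theorem frattini_rel {T H M : Subgroup G} (hTp : IsPGroup p T) (hTH : T ≤ H)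
    (hTmax : ∀ R ≤ H, IsPGroup p R → T ≤ R → R = T) (hMH : M ≤ H)
    (hHM : ∀ h ∈ H, ∀ m ∈ M, h * m * h⁻¹ ∈ M) {h : G} (hh : h ∈ H) :
    ∃ m ∈ M, ∃ n ∈ H, h = m * n ∧ n ∈ normalizer ((T ⊓ M : Subgroup G) : Set G) := by
  obtain ⟨I, hI⟩ : ∃ I : Subgroup G, I = T ⊓ M := ⟨_, rfl⟩
  rw [← hI]
  have hIT : I ≤ T := hI ▸ inf_le_left
  have hIM : I ≤ M := hI ▸ inf_le_right
  have hIp : IsPGroup p I := hTp.to_le hIT
  have hImax : ∀ R ≤ M, IsPGroup p R → I ≤ R → R = I := by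
    intro R hRM hRp hIR
    obtain ⟨k, hk, hkv⟩ := conj_into_max hTp hTH hTmax hRp (hRM.trans hMH)
    have hle : R.map (MulAut.conj k).toMonoidHom ≤ I := by
      rintro _ ⟨r, hr, rfl⟩
      rw [hI]
      exact ⟨hkv r hr, hHM k hk r (hRM hr)⟩
    have hc := Subgroup.card_le_of_le hle
    rw [Subgroup.card_map_of_injective (MulAut.conj k).injective] at hc
    exact (Subgroup.eq_of_le_of_card_ge hIR hc).symm
  have hIh : IsPGroup p (I.map (MulAut.conj h).toMonoidHom) := hIp.map _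
  have hIhM : I.map (MulAut.conj h).toMonoidHom ≤ M := by
    rintro _ ⟨i, hi, rfl⟩
    exact hHM h hh i (hIM hi)
  obtain ⟨m, hm, hmv⟩ := conj_into_max hIp hIM hImax hIh hIhM
  refine ⟨m⁻¹, M.inv_mem hm, m * h, H.mul_mem (hMH hm) hh, by group, ?_⟩
  apply Cfsg.Agent.Lib.PGroups.mem_normalizer_of_conj_le'
  intro w hw
  have e := hmv _ ⟨w, hw, rfl⟩
  have e2 : m * (MulAut.conj h).toMonoidHom w * m⁻¹ = m * h * w * (m * h)⁻¹ := by
    show m * (h * w * h⁻¹) * m⁻¹ = _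
    group
  rwa [e2] at e

/-- Thompson's replacement: a maximal abelian subgroup acting nontrivially and normalized by `D`. -/
theorem exists_off {T D : Subgroup G} (hTp : IsPGroup p T) (hDT : D ≤ T) (hDc : ∀ a ∈ D, ∀ b ∈ D, a * b = b * a)
    (hTD : ∀ t ∈ T, ∀ d ∈ D, t * d * t⁻¹ ∈ D) (hJ : ¬ thompsonSubgroupAOf T ≤ centralizer (D : Set G)) :
    ∃ A, IsMaxAbIn T A ∧ ¬ A ≤ centralizer (D : Set G) ∧ D ≤ normalizer (A : Set G) := by
  obtain ⟨W, hW⟩ : ∃ W : Subgroup T, W = D.subgroupOf T := ⟨_, rfl⟩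
  have hWmem : ∀ w : T, w ∈ W ↔ (w : G) ∈ D := fun w => by
    rw [hW, Subgroup.mem_subgroupOf]
  have hWc : ∀ a ∈ W, ∀ b ∈ W, a * b = b * a := by
    intro a ha b hb
    exact Subtype.ext (hDc _ ((hWmem a).1 ha) _ ((hWmem b).1 hb))
  have hWn : W.Normal := by
    constructor
    intro w hw t
    rw [hWmem] at hw ⊢
    exact hTD t t.2 w hw
  have hA₀ : ∃ A₀ ∈ maxAbelianSubgroups T, ¬ A₀ ≤ centralizer (W : Set T) := by
    by_contra hc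
    push_neg at hc
    apply hJ
    rw [thompsonSubgroupAOf, Subgroup.map_le_iff_le_comap]
    refine sSup_le fun A hA => ?_
    intro a ha
    show (a : G) ∈ centralizer (D : Set G)
    rw [mem_centralizer_iff]
    intro d hd
    have h1 := mem_centralizer_iff.1 (hc A hA ha) ⟨d, hDT hd⟩ ((hWmem _).2 hd)
    exact congrArg Subtype.val h1
  obtain ⟨A₀, hA₀m, hA₀W⟩ := hA₀
  obtain ⟨A, hAm, hAW, hWA⟩ := exists_max_ab_normalized hTp hWc hWn hA₀m hA₀W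
  refine ⟨A.map T.subtype, ⟨map_subtype_le A, isMulCommutative_map _ hAm.1, fun C hCT hC => ?_⟩, ?_, ?_⟩
  · rw [card_map_of_injective T.subtype_injective]
    have := hAm.2 (C.subgroupOf T) (isMulCommutative_subgroupOf _ hC)
    rwa [Cfsg.Agent.Lib.OddLocal.card_subgroupOf_of_le hCT] at this
  · intro hle
    apply hAW
    intro a ha
    rw [mem_centralizer_iff]
    intro w hw
    apply Subtype.ext
    have h1 := mem_centralizer_iff.1 (hle ⟨a, ha, rfl⟩) (w : G) ((hWmem w).1 hw)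
    exact h1
  · intro d hd
    have hdT := hDT hd
    have h1 := hWA ((hWmem ⟨d, hdT⟩).2 hd)
    rw [mem_normalizer_iff] at h1 ⊢
    intro y
    constructor
    · rintro ⟨a, ha, rfl⟩
      exact ⟨_, (h1 a).1 ha, rfl⟩
    · intro hy
      obtain ⟨a, ha, hay⟩ := hy
      have hy' : y = (⟨d, hdT⟩ : T)⁻¹ * a * (⟨d, hdT⟩ : T) := by
        have hay' : ((a : T) : G) = d * y * d⁻¹ := hay
        show y = d⁻¹ * (a : G) * d
        rw [hay']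
        group
      rw [hy']
      refine ⟨(⟨d, hdT⟩ : T)⁻¹ * a * (⟨d, hdT⟩ : T), (h1 _).2 ?_, rfl⟩
      have e : (⟨d, hdT⟩ : T) * ((⟨d, hdT⟩ : T)⁻¹ * a * (⟨d, hdT⟩ : T)) * (⟨d, hdT⟩ : T)⁻¹ = a := by group
      rwa [e]

end counting

end Cfsg.Agent.Lib.Fusion2.GenOdd
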