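import Cfsg.Agent.Lib.Fusion2.GenOdd1

/-!
# Odd `p`: a central element fixed by `N_H(J(T))` is fixed by `H`

If `x` is central in the maximal `p`-subgroup `T` of `H`, the `H`-conjugates of `x` commute pairwise, and `N_H(J(T))`
fixes `x`, then `H` fixes `x`.
-/

set_option autoImplicit false
set_option linter.unusedSectionVars false
set_option linter.style.haveILetI false

universe u

namespace Cfsg.Agent.Lib.Fusion2.GenOdd

open Cfsg Subgroup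
open Cfsg.Agent.Lib.PLocal
open Cfsg.Agent.Lib.Fusion2.GenJ

variable {p : ℕ} [hpf : Fact p.Prime]

variable {G : Type*} [Group G] [Finite G]

/-- The subgroup generated by the `H`-conjugates of `x`. -/
def orbC (H : Subgroup G) (x : G) : Subgroup G := closure {y | ∃ h ∈ H, y = h * x * h⁻¹}

theorem conj_mem_orbC {H : Subgroup G} {x h : G} (hh : h ∈ H) : h * x * h⁻¹ ∈ orbC H x :=
  subset_closure ⟨h, hh, rfl⟩

theorem orbC_comm {H : Subgroup G} {x : G}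
    (hab : ∀ h ∈ H, ∀ h' ∈ H, (h * x * h⁻¹) * (h' * x * h'⁻¹) = (h' * x * h'⁻¹) * (h * x * h⁻¹)) :
    ∀ a ∈ orbC H x, ∀ b ∈ orbC H x, a * b = b * a := by
  have h1 : ∀ s ∈ {y | ∃ h ∈ H, y = h * x * h⁻¹}, ∀ b ∈ orbC H x, Commute s b := by
    rintro s ⟨h, hh, rfl⟩ b hb
    induction hb using closure_induction with
    | mem y hy =>
      obtain ⟨h', hh', rfl⟩ := hy
      exact hab h hh h' hh'
    | one => exact Commute.one_right _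
    | mul y z _ _ hy hz => exact hy.mul_right hz
    | inv y _ hy => exact hy.inv_right
  intro a ha b hb
  have h2 : Commute a b := by
    induction ha using closure_induction with
    | mem y hy => exact h1 y hy b hb
    | one => exact Commute.one_left _
    | mul y z _ _ hy hz => exact hy.mul_left hz
    | inv y _ hy => exact hy.inv_left
  exact h2

theorem orbC_norm {H : Subgroup G} {x h d : G} (hh : h ∈ H) (hd : d ∈ orbC H x) : h * d * h⁻¹ ∈ orbC H x := by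
  induction hd using closure_induction with
  | mem y hy =>
    obtain ⟨k, hk, rfl⟩ := hy
    have e : h * (k * x * k⁻¹) * h⁻¹ = (h * k) * x * (h * k)⁻¹ := by group
    rw [e]
    exact conj_mem_orbC (H.mul_mem hh hk)
  | one =>
    have e : h * 1 * h⁻¹ = 1 := by group
    rw [e]
    exact Subgroup.one_mem _
  | mul y z _ _ hy hz =>
    have e : h * (y * z) * h⁻¹ = (h * y * h⁻¹) * (h * z * h⁻¹) := by group
    rw [e]
    exact Subgroup.mul_mem _ hy hz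
  | inv y _ hy =>
    have e : h * y⁻¹ * h⁻¹ = (h * y * h⁻¹)⁻¹ := by group
    rw [e]
    exact Subgroup.inv_mem _ hy

theorem orbC_pgroup {H : Subgroup G} {x : G} (hxp : ∃ k : ℕ, x ^ p ^ k = 1)
    (hab : ∀ h ∈ H, ∀ h' ∈ H, (h * x * h⁻¹) * (h' * x * h'⁻¹) = (h' * x * h'⁻¹) * (h * x * h⁻¹)) :
    IsPGroup p (orbC H x) := by
  have hc := orbC_comm hab
  have h1 : ∀ d ∈ orbC H x, ∃ k : ℕ, d ^ p ^ k = 1 := by
    intro d hd
    induction hd using closure_induction with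
    | mem y hy =>
      obtain ⟨h, hh, rfl⟩ := hy
      obtain ⟨k, hk⟩ := hxp
      refine ⟨k, ?_⟩
      rw [conj_pow, hk]
      group
    | one => exact ⟨0, by simp⟩
    | mul y z hyD hzD hy hz =>
      obtain ⟨k, hk⟩ := hy
      obtain ⟨l, hl⟩ := hz
      refine ⟨k + l, ?_⟩
      have hcm : Commute y z := hc y hyD z hzD
      rw [hcm.mul_pow, pow_add, pow_mul, hk, one_pow, one_mul, mul_comm (p ^ k), pow_mul, hl, one_pow]
    | inv y _ hy =>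
      obtain ⟨k, hk⟩ := hy
      exact ⟨k, by rw [inv_pow, hk, inv_one]⟩
  rintro ⟨d, hd⟩
  obtain ⟨k, hk⟩ := h1 d hd
  exact ⟨k, Subtype.ext hk⟩

theorem orbC_le_of_max {H T : Subgroup G} {x : G} (hTp : IsPGroup p T) (hTH : T ≤ H)
    (hTmax : ∀ R ≤ H, IsPGroup p R → T ≤ R → R = T) (hxT : x ∈ T)
    (hab : ∀ h ∈ H, ∀ h' ∈ H, (h * x * h⁻¹) * (h' * x * h'⁻¹) = (h' * x * h'⁻¹) * (h * x * h⁻¹)) :
    orbC H x ≤ T := by
  have hxp : ∃ k : ℕ, x ^ p ^ k = 1 := by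
    obtain ⟨k, hk⟩ := hTp ⟨x, hxT⟩
    exact ⟨k, congrArg Subtype.val hk⟩
  have hDp : IsPGroup p (orbC H x) := orbC_pgroup hxp hab
  have hDH : orbC H x ≤ H := by
    refine (closure_le _).2 ?_
    rintro _ ⟨h, hh, rfl⟩
    exact H.mul_mem (H.mul_mem hh (hTH hxT)) (H.inv_mem hh)
  have hTN : T ≤ normalizer (orbC H x : Set G) := fun t ht =>
    Cfsg.Agent.Lib.PGroups.mem_normalizer_of_conj_le' _ _ (fun d hd => orbC_norm (hTH ht) hd)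
  have hsup := IsPGroup.to_sup_of_normal_right' hTp hDp hTN
  have h1 := hTmax (T ⊔ orbC H x) (sup_le hTH hDH) hsup le_sup_left
  exact sup_eq_left.1 h1

theorem orbC_le_centralizer {H : Subgroup G} {x r : G} (h : ∀ k ∈ H, r * (k * x * k⁻¹) * r⁻¹ = k * x * k⁻¹) :
    ∀ d ∈ orbC H x, r * d * r⁻¹ = d := by
  intro d hd
  induction hd using closure_induction with
  | mem y hy =>
    obtain ⟨k, hk, rfl⟩ := hy
    exact h k hk
  | one => group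
  | mul y z _ _ hy hz =>
    calc r * (y * z) * r⁻¹ = (r * y * r⁻¹) * (r * z * r⁻¹) := by group
      _ = y * z := by rw [hy, hz]
  | inv y _ hy =>
    calc r * y⁻¹ * r⁻¹ = (r * y * r⁻¹)⁻¹ := by group
      _ = y⁻¹ := by rw [hy]

theorem conj_eq_of_mem_centralizer {D : Subgroup G} {a d : G} (ha : a ∈ centralizer (D : Set G)) (hd : d ∈ D) : a * d * a⁻¹ = d := by
  have := mem_centralizer_iff.1 ha d hd
  rw [← this]
  group

theorem mem_centralizer_of_conj {D : Subgroup G} {a : G} (h : ∀ d ∈ D, a * d * a⁻¹ = d) : a ∈ centralizer (D : Set G) := by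
  rw [mem_centralizer_iff]
  intro d hd
  have h1 := h d hd
  calc d * a = (a * d * a⁻¹) * a := by rw [h1]
    _ = a * d := by group

theorem conj_inj {a b g : G} (h : g * a * g⁻¹ = g * b * g⁻¹) : a = b := by
  have h1 := congrArg (fun z => g⁻¹ * z * g) h
  simpa [mul_assoc] using h1

theorem inf_centralizer_conj {H D : Subgroup G} (hHD : ∀ h ∈ H, ∀ d ∈ D, h * d * h⁻¹ ∈ D) :
    ∀ h ∈ H, ∀ m ∈ H ⊓ centralizer (D : Set G), h * m * h⁻¹ ∈ H ⊓ centralizer (D : Set G) := by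
  intro h hh m hm
  refine ⟨H.mul_mem (H.mul_mem hh hm.1) (H.inv_mem hh), ?_⟩
  show h * m * h⁻¹ ∈ centralizer (D : Set G)
  refine mem_centralizer_of_conj (fun d hd => ?_)
  have h1 := hHD h⁻¹ (H.inv_mem hh) d hd
  simp only [inv_inv] at h1
  have h2 := conj_eq_of_mem_centralizer hm.2 h1
  calc h * m * h⁻¹ * d * (h * m * h⁻¹)⁻¹ = h * (m * (h⁻¹ * d * h) * m⁻¹) * h⁻¹ := by group
    _ = h * (h⁻¹ * d * h) * h⁻¹ := by rw [h2]
    _ = d := by group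

/-- Conjugate subgroup. -/
abbrev cj (g : G) (W : Subgroup G) : Subgroup G := W.map (MulAut.conj g).toMonoidHom

theorem mem_cj {g w : G} {W : Subgroup G} (hw : w ∈ W) : g * w * g⁻¹ ∈ cj g W := ⟨w, hw, rfl⟩

theorem cj_le {g : G} {W V : Subgroup G} (h : ∀ w ∈ W, g * w * g⁻¹ ∈ V) : cj g W ≤ V := by
  rintro _ ⟨w, hw, rfl⟩
  exact h w hw

theorem card_cj (g : G) (W : Subgroup G) : Nat.card (cj g W) = Nat.card W :=
  Subgroup.card_map_of_injective (MulAut.conj g).injective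

theorem cj_mem_normalizer {g r : G} {Y : Subgroup G} (hr : r ∈ normalizer (Y : Set G)) :
    g * r * g⁻¹ ∈ normalizer (cj g Y : Set G) := by
  apply Cfsg.Agent.Lib.PGroups.mem_normalizer_of_conj_le'
  rintro _ ⟨v, hv, rfl⟩
  have h1 := (mem_normalizer_iff.1 hr v).1 hv
  have e : g * r * g⁻¹ * (MulAut.conj g).toMonoidHom v * (g * r * g⁻¹)⁻¹ = g * (r * v * r⁻¹) * g⁻¹ := by
    show g * r * g⁻¹ * (g * v * g⁻¹) * (g * r * g⁻¹)⁻¹ = _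
    group
  rw [e]
  exact mem_cj h1

/-- Those `A` of maximal order that do not centralize `D`, but are normalized by `D`. -/
def Off (T D A : Subgroup G) : Prop :=
  IsMaxAbIn T A ∧ ¬ A ≤ centralizer (D : Set G) ∧ D ≤ normalizer (A : Set G)

theorem Off.conj {T D A : Subgroup G} {g : G} (hA : Off T D A) (hg : ∀ d ∈ D, g * d * g⁻¹ ∈ D) (hg' : ∀ d ∈ D, g⁻¹ * d * g ∈ D)
    (hAT : ∀ a ∈ A, g * a * g⁻¹ ∈ T) : Off T D (cj g A) := by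
  refine ⟨⟨cj_le hAT, isMulCommutative_map _ hA.1.2.1, fun B hB hBc => ?_⟩, fun hle => hA.2.1 ?_, ?_⟩
  · rw [card_cj]
    exact hA.1.2.2 B hB hBc
  · intro a ha
    refine mem_centralizer_of_conj (fun d hd => ?_)
    have h1 := conj_eq_of_mem_centralizer (hle (mem_cj (g := g) ha)) (hg d hd)
    apply conj_inj (g := g)
    calc g * (a * d * a⁻¹) * g⁻¹ = (g * a * g⁻¹) * (g * d * g⁻¹) * (g * a * g⁻¹)⁻¹ := by group
      _ = g * d * g⁻¹ := h1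
  · intro d hd
    apply Cfsg.Agent.Lib.PGroups.mem_normalizer_of_conj_le'
    rintro _ ⟨a, ha, rfl⟩
    have h1 := (mem_normalizer_iff.1 (hA.2.2 (hg' d hd)) a).1 ha
    have e : d * (MulAut.conj g).toMonoidHom a * d⁻¹ = g * ((g⁻¹ * d * g) * a * (g⁻¹ * d * g)⁻¹) * g⁻¹ := by
      show d * (g * a * g⁻¹) * d⁻¹ = _
      group
    rw [e]
    exact mem_cj h1

theorem quad_of_normalized {A D : Subgroup G} (hAc : IsMulCommutative A) (hDA : D ≤ normalizer (A : Set G)) :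
    ∀ a ∈ A, ∀ b ∈ A, ∀ d ∈ D, b * (a * d * a⁻¹ * d⁻¹) * b⁻¹ = a * d * a⁻¹ * d⁻¹ := by
  intro a ha b hb d hd
  have h1 : a * d * a⁻¹ * d⁻¹ ∈ A := by
    have e : a * d * a⁻¹ * d⁻¹ = a * (d * a⁻¹ * d⁻¹) := by group
    rw [e]
    exact A.mul_mem ha ((mem_normalizer_iff.1 (hDA hd) _).1 (A.inv_mem ha))
  have h2 := isMulCommutative_iff.1 hAc b hb _ h1
  rw [h2]
  group

theorem eq_one_of_sq_of_pow {d : G} (hp : p ≠ 2) {k : ℕ} (h1 : d * d = 1) (h2 : d ^ p ^ k = 1) : d = 1 := by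
  have h3 : orderOf d ∣ 2 := orderOf_dvd_of_pow_eq_one (by rw [pow_two, h1])
  have h4 : orderOf d ∣ p ^ k := orderOf_dvd_of_pow_eq_one h2
  have hcop : Nat.Coprime 2 (p ^ k) := Nat.Coprime.pow_right _ ((Nat.coprime_primes Nat.prime_two (Fact.out : p.Prime)).2 (Ne.symm hp))
  have h5 : orderOf d ∣ 1 := by
    have := Nat.dvd_gcd h3 h4
    rwa [hcop] at this
  exact orderOf_eq_one_iff.1 (Nat.dvd_one.1 h5)

theorem exists_max_pgroup {L N : Subgroup G} (hN : IsPGroup p N) (hNL : N ≤ L) :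
    ∃ T₂, N ≤ T₂ ∧ T₂ ≤ L ∧ IsPGroup p T₂ ∧ ∀ R ≤ L, IsPGroup p R → T₂ ≤ R → R = T₂ := by
  classical
  have hfin : {R : Subgroup G | N ≤ R ∧ R ≤ L ∧ IsPGroup p R}.Finite := Set.toFinite _
  obtain ⟨T₂, ⟨h1, h2, h3⟩, hmax⟩ := Set.exists_max_image _ (fun R : Subgroup G => Nat.card R) hfin ⟨N, le_rfl, hNL, hN⟩
  refine ⟨T₂, h1, h2, h3, fun R hRL hRp hTR => ?_⟩
  exact (Subgroup.eq_of_le_of_card_ge hTR (hmax R ⟨h1.trans hTR, hRL, hRp⟩)).symm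

theorem mem_normalizer_J_cj {T : Subgroup G} {g n : G} (hn : n ∈ normalizer (thompsonSubgroupAOf T : Set G)) :
    g * n * g⁻¹ ∈ normalizer (thompsonSubgroupAOf (cj g T) : Set G) := by
  have h1 : thompsonSubgroupAOf (cj g T) = cj g (thompsonSubgroupAOf T) :=
    (thompsonAOf_map (MulAut.conj g).toMonoidHom (fun x _ hx => (MulAut.conj g).injective (by simpa using hx))).symm
  rw [h1]
  exact cj_mem_normalizer hn

/-- The descending claim. -/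
theorem claimC {H T D : Subgroup G} {x : G} {M₀ : ℕ} (hTp : IsPGroup p T) (hTH : T ≤ H)
    (hxT : x ∈ T) (hxc : ∀ t ∈ T, t * x = x * t)
    (hD : D = orbC H x) (hHD : ∀ h ∈ H, ∀ d ∈ D, h * d * h⁻¹ ∈ D)
    (hN : ∀ n ∈ H, n ∈ normalizer (thompsonSubgroupAOf T : Set G) → n * x * n⁻¹ = x)
    (hTmax : ∀ R ≤ H, IsPGroup p R → T ≤ R → R = T)
    (IH : ∀ H' T' : Subgroup G, H' < H → IsPGroup p T' → T' ≤ H' → (∀ R ≤ H', IsPGroup p R → T' ≤ R → R = T') → x ∈ T' →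
      (∀ t ∈ T', t * x = x * t) → (∀ n ∈ H', n ∈ normalizer (thompsonSubgroupAOf T' : Set G) → n * x * n⁻¹ = x) → ∀ h ∈ H', h * x * h⁻¹ = x)
    (F2 : ∀ g ∈ H, ∀ W ≤ T, ∀ A' ≤ W, Off T D A' → (∀ w ∈ W, g * w * g⁻¹ ∈ T) → M₀ < Nat.card W → g * x * g⁻¹ = x) :
    ∀ (d : ℕ) (T' : Subgroup G), T' ≤ T → Nat.card T - Nat.card T' = d → (∃ A' ≤ T', Off T D A') → M₀ < Nat.card T' →
      ∀ n ∈ H, n ∈ normalizer (thompsonSubgroupAOf T' : Set G) → n * x * n⁻¹ = x := by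
  intro d
  induction d using Nat.strong_induction_on with
  | _ d ihd =>
  rintro T' hT'T hd ⟨A', hA'T', hOff⟩ hM n hn hnN
  by_cases hTT' : T' = T
  · subst hTT'
    exact hN n hn hnN
  have hT'lt : T' < T := lt_of_le_of_ne hT'T hTT'
  obtain ⟨R, hR⟩ : ∃ R : Subgroup G, R = thompsonSubgroupAOf T' := ⟨_, rfl⟩
  rw [← hR] at hnN
  have hRT' : R ≤ T' := hR ▸ thompsonAOf_le T'
  have hRT : R ≤ T := hRT'.trans hT'T
  have hA'R : A' ≤ R := by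
    rw [hR]
    exact IsMaxAbIn_le_J ⟨hA'T', hOff.1.2.1, fun B hB hBc => hOff.1.2.2 B (hB.trans hT'T) hBc⟩
  have hfixT : ∀ t ∈ T, t * x * t⁻¹ = x := fun t ht => by
    rw [hxc t ht]
    group
  obtain ⟨L, hL⟩ : ∃ L : Subgroup G, L = H ⊓ normalizer (R : Set G) := ⟨_, rfl⟩
  have hLH : L ≤ H := hL ▸ inf_le_left
  have hLlt : L < H := by
    refine lt_of_le_of_ne hLH (fun e => hOff.2.1 (fun a ha => ?_))
    have hHN : H ≤ normalizer (R : Set G) := by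
      rw [← e, hL]
      exact inf_le_right
    refine mem_centralizer_of_conj (fun d hd => ?_)
    rw [hD] at hd
    refine orbC_le_centralizer (fun k hk => ?_) d hd
    have h1 : k⁻¹ * a * k ∈ R := by
      have := (mem_normalizer_iff.1 (hHN (H.inv_mem hk)) a).1 (hA'R ha)
      simpa using this
    have h2 := hfixT _ (hRT h1)
    calc a * (k * x * k⁻¹) * a⁻¹ = k * ((k⁻¹ * a * k) * x * (k⁻¹ * a * k)⁻¹) * k⁻¹ := by group
      _ = k * x * k⁻¹ := by rw [h2]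
  obtain ⟨N₂, hN₂⟩ : ∃ N₂ : Subgroup G, N₂ = T ⊓ normalizer (R : Set G) := ⟨_, rfl⟩
  have hN₂T : N₂ ≤ T := hN₂ ▸ inf_le_left
  have hN₂L : N₂ ≤ L := by
    rw [hN₂, hL]
    exact inf_le_inf_right _ hTH
  have hT'N₂ : T' < N₂ := by
    have hnorm : ∀ g ∈ normalizer (T' : Set G), g ∈ normalizer (R : Set G) := fun g hg => by
      rw [hR]
      exact normalizer_thompson_of_normalizer (thompsonAOf_le T') le_rfl hg
    have hle : T' ≤ N₂ := by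
      rw [hN₂]
      exact le_inf hT'T (fun t ht => hnorm t (le_normalizer ht))
    obtain ⟨g, hg, hgT'⟩ := Cfsg.Agent.Lib.Fusion.exists_mem_normalizerIn_not_mem (S := T) hTp hT'lt
    refine lt_of_le_of_ne hle (fun e => hgT' ?_)
    rw [e, hN₂]
    exact ⟨hg.1, hnorm g hg.2⟩
  have hN₂p : IsPGroup p N₂ := hTp.to_le hN₂T
  have hcN₂ : Nat.card T' < Nat.card N₂ := Cfsg.Agent.Lib.OddLocal.card_lt_of_lt hT'N₂
  obtain ⟨T₂, hN₂T₂, hT₂L, hT₂p, hT₂max⟩ := exists_max_pgroup hN₂p hN₂L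
  obtain ⟨g₃, hg₃, hg₃v⟩ := conj_into_max hTp hTH hTmax hT₂p (hT₂L.trans hLH)
  have hA'N₂ : A' ≤ N₂ := hA'T'.trans hT'N₂.le
  have hg₃x : g₃ * x * g₃⁻¹ = x := F2 g₃ hg₃ N₂ hN₂T A' hA'N₂ hOff (fun w hw => hg₃v w (hN₂T₂ hw)) (by omega)
  have hxN₂ : x ∈ N₂ := by
    rw [hN₂]
    refine ⟨hxT, Cfsg.Agent.Lib.PGroups.mem_normalizer_of_conj_le' _ _ (fun r hr => ?_)⟩
    have := hxc r (hRT hr)
    rw [← this]
    have e : r * x * x⁻¹ = r := by group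
    rwa [e]
  have hxT₂ : x ∈ T₂ := hN₂T₂ hxN₂
  have hxc₂ : ∀ t ∈ T₂, t * x = x * t := by
    intro t ht
    have h1 := hxc _ (hg₃v t ht)
    apply conj_inj (g := g₃)
    have h2 : g₃ * (t * x) * g₃⁻¹ = (g₃ * t * g₃⁻¹) * (g₃ * x * g₃⁻¹) := by group
    have h3 : g₃ * (x * t) * g₃⁻¹ = (g₃ * x * g₃⁻¹) * (g₃ * t * g₃⁻¹) := by group
    rw [h2, h3, hg₃x, h1]
  have hN' : ∀ n ∈ L, n ∈ normalizer (thompsonSubgroupAOf T₂ : Set G) → n * x * n⁻¹ = x := by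
    intro n hnL hnJ
    have hcT₂ : Nat.card T' < Nat.card T₂ := hcN₂.trans_le (Subgroup.card_le_of_le hN₂T₂)
    have hT''T : cj g₃ T₂ ≤ T := cj_le hg₃v
    have hcT'' : Nat.card (cj g₃ T₂) = Nat.card T₂ := card_cj _ _
    have hcTT : Nat.card (cj g₃ T₂) ≤ Nat.card T := Subgroup.card_le_of_le hT''T
    have h1 := ihd (Nat.card T - Nat.card (cj g₃ T₂)) (by omega) (cj g₃ T₂) hT''T rfl
      ⟨cj g₃ A', map_mono (hA'N₂.trans hN₂T₂), hOff.conj (hHD g₃ hg₃) (fun d hd => by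
        have := hHD g₃⁻¹ (H.inv_mem hg₃) d hd
        simpa using this) (fun a ha => hg₃v a (hN₂T₂ (hA'N₂ ha)))⟩ (by omega)
      (g₃ * n * g₃⁻¹) (H.mul_mem (H.mul_mem hg₃ (hLH hnL)) (H.inv_mem hg₃)) (mem_normalizer_J_cj hnJ)
    have hxg : g₃⁻¹ * x * g₃ = x := by
      conv_lhs => rw [← hg₃x]
      group
    apply conj_inj (g := g₃)
    have h2 : g₃ * (n * x * n⁻¹) * g₃⁻¹ = g₃ * n * g₃⁻¹ * x * (g₃ * n * g₃⁻¹)⁻¹ := by
      calc g₃ * (n * x * n⁻¹) * g₃⁻¹ = g₃ * (n * (g₃⁻¹ * x * g₃) * n⁻¹) * g₃⁻¹ := by rw [hxg]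
        _ = g₃ * n * g₃⁻¹ * x * (g₃ * n * g₃⁻¹)⁻¹ := by group
    rw [h2, h1, hg₃x]
  exact IH L T₂ hLlt hT₂p hT₂L hT₂max hxT₂ hxc₂ hN' n (hL ▸ ⟨hn, hnN⟩)

theorem lex_le {a b a₀ b₀ t : ℕ} (h : a * (t + 1) + b ≤ a₀ * (t + 1) + b₀) (hb₀ : b₀ ≤ t) : a ≤ a₀ ∧ (a = a₀ → b ≤ b₀) := by
  constructor
  · by_contra hc
    have h1 : (a₀ + 1) * (t + 1) ≤ a * (t + 1) := Nat.mul_le_mul_right _ (by omega)
    rw [Nat.add_mul, one_mul] at h1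
    omega
  · rintro rfl
    omega

/-- The stabilizer in `T`. -/
def stab (T : Subgroup G) (y : G) : Subgroup G := T ⊓ centralizer ({y} : Set G)

theorem mem_stab {T : Subgroup G} {y t : G} : t ∈ stab T y ↔ t ∈ T ∧ t * y * t⁻¹ = y := by
  constructor
  · rintro ⟨h1, h2⟩
    refine ⟨h1, ?_⟩
    have := mem_centralizer_iff.1 h2 y rfl
    rw [← this]
    group
  · rintro ⟨h1, h2⟩
    refine ⟨h1, mem_centralizer_iff.2 ?_⟩
    intro z hz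
    have hz' : z = y := hz
    rw [hz']
    calc y * t = (t * y * t⁻¹) * t := by rw [h2]
      _ = t * y := by group

set_option maxHeartbeats 4000000 in
/-- The main theorem. -/
theorem fix_of_J (hp : p ≠ 2) : ∀ (N : ℕ) (H T : Subgroup G) (x : G), Nat.card H = N → IsPGroup p T → T ≤ H →
    (∀ R ≤ H, IsPGroup p R → T ≤ R → R = T) → x ∈ T → (∀ t ∈ T, t * x = x * t) →
    (∀ h ∈ H, ∀ h' ∈ H, (h * x * h⁻¹) * (h' * x * h'⁻¹) = (h' * x * h'⁻¹) * (h * x * h⁻¹)) →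
    (∀ n ∈ H, n ∈ normalizer (thompsonSubgroupAOf T : Set G) → n * x * n⁻¹ = x) → ∀ h ∈ H, h * x * h⁻¹ = x := by
  intro N
  induction N using Nat.strong_induction_on with
  | _ N IHN =>
  intro H T x hNc hTp hTH hTmax hxT hxc hab hN
  by_contra hcon
  push_neg at hcon
  obtain ⟨h₀, hh₀, hh₀x⟩ := hcon
  classical
  have hxH : x ∈ H := hTH hxT
  obtain ⟨D, hD⟩ : ∃ D : Subgroup G, D = orbC H x := ⟨_, rfl⟩
  have hDc : ∀ a ∈ D, ∀ b ∈ D, a * b = b * a := hD ▸ orbC_comm hab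
  have hHD : ∀ h ∈ H, ∀ d ∈ D, h * d * h⁻¹ ∈ D := hD ▸ fun h hh d hd => orbC_norm hh hd
  have hconjD : ∀ h ∈ H, h * x * h⁻¹ ∈ D := fun h hh => hD ▸ conj_mem_orbC hh
  have hxD : x ∈ D := by simpa using hconjD 1 H.one_mem
  have hDT : D ≤ T := hD ▸ orbC_le_of_max hTp hTH hTmax hxT hab
  have hD2g : ∀ T₀ : Subgroup G, IsPGroup p T₀ → ∀ d ∈ T₀, d * d = 1 → d = 1 := by
    intro T₀ hT₀ d hd h2
    obtain ⟨k, hk⟩ := hT₀ ⟨d, hd⟩
    exact eq_one_of_sq_of_pow hp h2 (congrArg Subtype.val hk)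
  have hfixT : ∀ t ∈ T, t * x * t⁻¹ = x := fun t ht => by
    rw [hxc t ht]
    group
  have hinvH : ∀ g ∈ H, ∀ d ∈ D, g⁻¹ * d * g ∈ D := fun g hg d hd => by
    have := hHD g⁻¹ (H.inv_mem hg) d hd
    simpa using this
  -- Step 1
  have hJD : ¬ thompsonSubgroupAOf T ≤ centralizer (D : Set G) := by
    intro hJ
    have hJI : thompsonSubgroupAOf T ≤ T ⊓ (H ⊓ centralizer (D : Set G)) :=
      le_inf (thompsonAOf_le T) (le_inf ((thompsonAOf_le T).trans hTH) hJ)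
    obtain ⟨m, hm, n, hn, rfl, hnN⟩ := frattini_rel hTp hTH hTmax inf_le_left (inf_centralizer_conj hHD) hh₀
    have hn' := normalizer_thompson_of_normalizer hJI inf_le_left hnN
    have hnx := hN n hn hn'
    apply hh₀x
    calc (m * n) * x * (m * n)⁻¹ = m * (n * x * n⁻¹) * m⁻¹ := by group
      _ = m * x * m⁻¹ := by rw [hnx]
      _ = x := conj_eq_of_mem_centralizer hm.2 hxD
  -- Step 2
  obtain ⟨A₀, hA₀⟩ : ∃ A₀, Off T D A₀ := exists_off hTp hDT hDc (fun t ht d hd => hHD t (hTH ht) d hd) hJD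
  have hOffconj : ∀ g ∈ H, ∀ A, Off T D A → (∀ a ∈ A, g * a * g⁻¹ ∈ T) → Off T D (cj g A) :=
    fun g hg A hA hAT => hA.conj (hHD g hg) (hinvH g hg) hAT
  obtain ⟨PP, hPP⟩ : ∃ PP : Set G, PP = {y | (∃ h ∈ H, y = h * x * h⁻¹) ∧ y ≠ x ∧ ∃ A, Off T D A ∧ ∀ a ∈ A, a * y * a⁻¹ = y} := ⟨_, rfl⟩
  have hPne : PP.Nonempty := by
    by_contra hno
    rw [Set.not_nonempty_iff_eq_empty] at hno
    refine hh₀x (orbit_lemma (p := p) hDc hHD hxD (hA₀.1.1.trans hTH) (hTp.to_le hA₀.1.1) (fun a ha => hfixT a (hA₀.1.1 ha))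
      (quad_of_normalized hA₀.1.2.1 hA₀.2.2) (fun h hh hfix => ?_) (hD2g D (hTp.to_le hDT)) h₀ hh₀)
    by_contra hne
    have : h * x * h⁻¹ ∈ PP := by
      rw [hPP]
      exact ⟨⟨h, hh, rfl⟩, hne, A₀, hA₀, hfix⟩
    rw [hno] at this
    exact this
  -- selection
  obtain ⟨y, hyP, hymax⟩ := Set.exists_max_image PP
    (fun y => Nat.card (stab T y) * (Nat.card T + 1) + Nat.card (T ⊓ normalizer (stab T y : Set G) : Subgroup G)) (Set.toFinite _) hPne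
  have hlex := fun y' (hy' : y' ∈ PP) => lex_le (hymax y' hy') (Subgroup.card_le_of_le inf_le_left)
  obtain ⟨Y, hY⟩ : ∃ Y : Subgroup G, Y = stab T y := ⟨_, rfl⟩
  rw [← hY] at hlex
  have hi : ∀ y' ∈ PP, Nat.card (stab T y') ≤ Nat.card Y := fun y' hy' => (hlex y' hy').1
  have hii : ∀ y' ∈ PP, Nat.card (stab T y') = Nat.card Y →
      Nat.card (T ⊓ normalizer (stab T y' : Set G) : Subgroup G) ≤ Nat.card (T ⊓ normalizer (Y : Set G) : Subgroup G) :=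
    fun y' hy' => (hlex y' hy').2
  have hyP' := hyP
  rw [hPP] at hyP'
  obtain ⟨⟨g₀, hg₀, hyg₀⟩, hyx, A, hA, hAy⟩ := hyP'
  have hPmem : ∀ y', (∃ h ∈ H, y' = h * x * h⁻¹) → y' ≠ x → (∃ A, Off T D A ∧ ∀ a ∈ A, a * y' * a⁻¹ = y') → y' ∈ PP := by
    intro y' h1 h2 h3
    rw [hPP]
    exact ⟨h1, h2, h3⟩
  have hYT : Y ≤ T := hY ▸ inf_le_left
  have hYfix : ∀ v ∈ Y, v * y * v⁻¹ = y := fun v hv => (mem_stab.1 (hY ▸ hv)).2
  have hAY : A ≤ Y := fun a ha => hY ▸ mem_stab.2 ⟨hA.1.1 ha, hAy a ha⟩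
  have hYp : IsPGroup p Y := hTp.to_le hYT
  -- `F2`
  have F2 : ∀ g ∈ H, ∀ W ≤ T, ∀ A' ≤ W, Off T D A' → (∀ w ∈ W, g * w * g⁻¹ ∈ T) → Nat.card Y < Nat.card W → g * x * g⁻¹ = x := by
    intro g hg W hWT A' hA'W hA' hgW hc
    by_contra hne
    have hfixW : ∀ w ∈ W, (g * w * g⁻¹) * (g * x * g⁻¹) * (g * w * g⁻¹)⁻¹ = g * x * g⁻¹ := by
      intro w hw
      have h1 := hfixT w (hWT hw)
      calc (g * w * g⁻¹) * (g * x * g⁻¹) * (g * w * g⁻¹)⁻¹ = g * (w * x * w⁻¹) * g⁻¹ := by group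
        _ = g * x * g⁻¹ := by rw [h1]
    have hP : g * x * g⁻¹ ∈ PP := hPmem _ ⟨g, hg, rfl⟩ hne ⟨cj g A', hOffconj g hg A' hA' (fun a ha => hgW a (hA'W ha)), by
      rintro _ ⟨a, ha, rfl⟩
      exact hfixW a (hA'W ha)⟩
    have h1 : cj g W ≤ stab T (g * x * g⁻¹) := cj_le (fun w hw => mem_stab.2 ⟨hgW w hw, hfixW w hw⟩)
    have h2 := Subgroup.card_le_of_le h1
    rw [card_cj] at h2
    have h3 := hi _ hP
    omega
  -- `F3`
  have F3 : ∀ g ∈ H, (∀ v ∈ Y, g * v * g⁻¹ ∈ T) →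
      Nat.card (T ⊓ normalizer (cj g Y : Set G) : Subgroup G) ≤ Nat.card (T ⊓ normalizer (Y : Set G) : Subgroup G) := by
    intro g hg hgY
    obtain ⟨y', hy'O, hy'x, hy'fix⟩ : ∃ y', (∃ h ∈ H, y' = h * x * h⁻¹) ∧ y' ≠ x ∧ ∀ v ∈ Y, (g * v * g⁻¹) * y' * (g * v * g⁻¹)⁻¹ = y' := by
      by_cases h1 : g * x * g⁻¹ = x
      · refine ⟨g * y * g⁻¹, ⟨g * g₀, H.mul_mem hg hg₀, by rw [hyg₀]; group⟩, fun h2 => hyx ?_, fun v hv => ?_⟩
        · apply conj_inj (g := g)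
          rw [h2, h1]
        · have h3 := hYfix v hv
          calc (g * v * g⁻¹) * (g * y * g⁻¹) * (g * v * g⁻¹)⁻¹ = g * (v * y * v⁻¹) * g⁻¹ := by group
            _ = g * y * g⁻¹ := by rw [h3]
      · refine ⟨g * x * g⁻¹, ⟨g, hg, rfl⟩, h1, fun v hv => ?_⟩
        have h3 := hfixT v (hYT hv)
        calc (g * v * g⁻¹) * (g * x * g⁻¹) * (g * v * g⁻¹)⁻¹ = g * (v * x * v⁻¹) * g⁻¹ := by group
          _ = g * x * g⁻¹ := by rw [h3]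
    have hP : y' ∈ PP := hPmem _ hy'O hy'x ⟨cj g A, hOffconj g hg A hA (fun a ha => hgY a (hAY ha)), by
      rintro _ ⟨a, ha, rfl⟩
      exact hy'fix a (hAY ha)⟩
    have h1 : cj g Y ≤ stab T y' := cj_le (fun v hv => mem_stab.2 ⟨hgY v hv, hy'fix v hv⟩)
    have h2 := Subgroup.card_le_of_le h1
    rw [card_cj] at h2
    have h3 := hi y' hP
    have heq : cj g Y = stab T y' := Subgroup.eq_of_le_of_card_ge h1 (by rw [card_cj]; exact h3)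
    rw [heq]
    exact hii y' hP (by omega)
  -- the centralizer of `x`
  obtain ⟨H₀, hH₀⟩ : ∃ H₀ : Subgroup G, H₀ = H ⊓ centralizer ({x} : Set G) := ⟨_, rfl⟩
  have hH₀mem : ∀ k, k ∈ H → k * x * k⁻¹ = x → k ∈ H₀ := by
    intro k hk h1
    rw [hH₀]
    refine ⟨hk, mem_centralizer_iff.2 ?_⟩
    intro z hz
    have hz' : z = x := hz
    rw [hz']
    calc x * k = (k * x * k⁻¹) * k := by rw [h1]
      _ = k * x := by group
  have hH₀fix : ∀ k ∈ H₀, k * x * k⁻¹ = x := by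
    intro k hk
    rw [hH₀] at hk
    have := mem_centralizer_iff.1 hk.2 x rfl
    rw [← this]
    group
  have hH₀H : H₀ ≤ H := hH₀ ▸ inf_le_left
  have hTH₀ : T ≤ H₀ := fun t ht => hH₀mem t (hTH ht) (hfixT t ht)
  have hTmax₀ : ∀ R ≤ H₀, IsPGroup p R → T ≤ R → R = T := fun R hR => hTmax R (hR.trans hH₀H)
  have hyg₀' : ∀ B : Subgroup G, (∀ v ∈ B, v * y * v⁻¹ = y) → B ≤ H → cj g₀⁻¹ B ≤ H₀ := by
    intro B hB hBH
    refine cj_le (fun v hv => hH₀mem _ (H.mul_mem (H.mul_mem (H.inv_mem hg₀) (hBH hv)) (H.inv_mem (H.inv_mem hg₀))) ?_)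
    have h1 := hB v hv
    rw [hyg₀] at h1
    apply conj_inj (g := g₀)
    calc g₀ * (g₀⁻¹ * v * g₀⁻¹⁻¹ * x * (g₀⁻¹ * v * g₀⁻¹⁻¹)⁻¹) * g₀⁻¹ = v * (g₀ * x * g₀⁻¹) * v⁻¹ := by group
      _ = g₀ * x * g₀⁻¹ := h1
  -- Step 6
  have hYne : Y ≠ T := by
    intro hYeq
    have hTy : ∀ t ∈ T, t * y * t⁻¹ = y := fun t ht => hYfix t (hYeq ▸ ht)
    obtain ⟨k, hk, hkv⟩ := conj_into_max hTp hTH₀ hTmax₀ (hTp.map _) (hyg₀' T hTy hTH)
    have hnH : k * g₀⁻¹ ∈ H := H.mul_mem (hH₀H hk) (H.inv_mem hg₀)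
    have hnT : k * g₀⁻¹ ∈ normalizer (T : Set G) := by
      apply Cfsg.Agent.Lib.PGroups.mem_normalizer_of_conj_le'
      intro t ht
      have h1 := hkv _ (mem_cj (g := g₀⁻¹) ht)
      have e : k * (g₀⁻¹ * t * g₀⁻¹⁻¹) * k⁻¹ = k * g₀⁻¹ * t * (k * g₀⁻¹)⁻¹ := by group
      rwa [e] at h1
    have hnJ := normalizer_thompson_of_normalizer (thompsonAOf_le T) le_rfl hnT
    have hnx := hN _ hnH hnJ
    apply hyx
    apply conj_inj (g := k * g₀⁻¹)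
    rw [hnx, hyg₀]
    calc k * g₀⁻¹ * (g₀ * x * g₀⁻¹) * (k * g₀⁻¹)⁻¹ = k * x * k⁻¹ := by group
      _ = x := hH₀fix k hk
  have hYlt : Y < T := lt_of_le_of_ne hYT hYne
  obtain ⟨T₁, hT₁⟩ : ∃ T₁ : Subgroup G, T₁ = T ⊓ normalizer (Y : Set G) := ⟨_, rfl⟩
  rw [← hT₁] at hii F3
  have hT₁T : T₁ ≤ T := hT₁ ▸ inf_le_left
  have hT₁N : T₁ ≤ normalizer (Y : Set G) := hT₁ ▸ inf_le_right
  have hYT₁ : Y ≤ T₁ := hT₁ ▸ le_inf hYT le_normalizer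
  have hT₁p : IsPGroup p T₁ := hTp.to_le hT₁T
  have hYltT₁ : Y < T₁ := by
    obtain ⟨g, hg, hgY⟩ := Cfsg.Agent.Lib.Fusion.exists_mem_normalizerIn_not_mem (S := T) hTp hYlt
    refine lt_of_le_of_ne hYT₁ (fun e => hgY ?_)
    rw [e, hT₁]
    exact ⟨hg.1, hg.2⟩
  have hcT₁ : Nat.card Y < Nat.card T₁ := Cfsg.Agent.Lib.OddLocal.card_lt_of_lt hYltT₁
  obtain ⟨L, hL⟩ : ∃ L : Subgroup G, L = H ⊓ normalizer (Y : Set G) := ⟨_, rfl⟩
  have hLH : L ≤ H := hL ▸ inf_le_left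
  have hLN : L ≤ normalizer (Y : Set G) := hL ▸ inf_le_right
  have hT₁L : T₁ ≤ L := by
    rw [hT₁, hL]
    exact inf_le_inf_right _ hTH
  -- Step 7
  have hT₁max : ∀ R ≤ L, IsPGroup p R → T₁ ≤ R → R = T₁ := by
    intro R hRL hRp hT₁R
    obtain ⟨g, hg, hgv⟩ := conj_into_max hTp hTH hTmax hRp (hRL.trans hLH)
    have h1 := F3 g hg (fun v hv => hgv v (hT₁R (hYT₁ hv)))
    have h2 : cj g R ≤ T ⊓ normalizer (cj g Y : Set G) := cj_le (fun r hr => ⟨hgv r hr, cj_mem_normalizer (hLN (hRL hr))⟩)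
    have h3 := Subgroup.card_le_of_le h2
    rw [card_cj] at h3
    exact (Subgroup.eq_of_le_of_card_ge hT₁R (by omega)).symm
  -- Step 8
  obtain ⟨ℓ, hℓL, hℓy⟩ : ∃ ℓ ∈ L, ℓ * y * ℓ⁻¹ = x := by
    obtain ⟨h, hh, hhv⟩ := conj_into_max hTp hTH₀ hTmax₀ (hYp.map _) (hyg₀' Y hYfix (hYT.trans hTH))
    obtain ⟨g₁, hg₁⟩ : ∃ g₁, g₁ = h * g₀⁻¹ := ⟨_, rfl⟩
    have hg₁H : g₁ ∈ H := hg₁ ▸ H.mul_mem (hH₀H hh) (H.inv_mem hg₀)
    have hg₁Y : ∀ v ∈ Y, g₁ * v * g₁⁻¹ ∈ T := by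
      intro v hv
      have h1 := hhv _ (mem_cj (g := g₀⁻¹) hv)
      have e : h * (g₀⁻¹ * v * g₀⁻¹⁻¹) * h⁻¹ = g₁ * v * g₁⁻¹ := by
        rw [hg₁]
        group
      rwa [e] at h1
    have hg₁y : g₁ * y * g₁⁻¹ = x := by
      rw [hg₁, hyg₀]
      calc h * g₀⁻¹ * (g₀ * x * g₀⁻¹) * (h * g₀⁻¹)⁻¹ = h * x * h⁻¹ := by group
        _ = x := hH₀fix h hh
    obtain ⟨Y₁, hY₁⟩ : ∃ Y₁ : Subgroup G, Y₁ = cj g₁ Y := ⟨_, rfl⟩
    have hY₁T : Y₁ ≤ T := hY₁ ▸ cj_le hg₁Y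
    have hcY₁ : Nat.card Y₁ = Nat.card Y := hY₁ ▸ card_cj _ _
    have hY₁lt : Y₁ < T := by
      refine lt_of_le_of_ne hY₁T (fun e => ?_)
      have h1 : Nat.card T = Nat.card Y := by rw [← e, hcY₁]
      exact hYne (Subgroup.eq_of_le_of_card_ge hYT h1.le)
    obtain ⟨N₁, hN₁⟩ : ∃ N₁ : Subgroup G, N₁ = T ⊓ normalizer (Y₁ : Set G) := ⟨_, rfl⟩
    have hN₁T : N₁ ≤ T := hN₁ ▸ inf_le_left
    have hY₁N₁ : Y₁ ≤ N₁ := hN₁ ▸ le_inf hY₁T le_normalizer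
    have hY₁ltN₁ : Y₁ < N₁ := by
      obtain ⟨g, hg, hgY⟩ := Cfsg.Agent.Lib.Fusion.exists_mem_normalizerIn_not_mem (S := T) hTp hY₁lt
      refine lt_of_le_of_ne hY₁N₁ (fun e => hgY ?_)
      rw [e, hN₁]
      exact ⟨hg.1, hg.2⟩
    have hcN₁ : Nat.card Y < Nat.card N₁ := hcY₁ ▸ Cfsg.Agent.Lib.OddLocal.card_lt_of_lt hY₁ltN₁
    have hN₁p : IsPGroup p N₁ := hTp.to_le hN₁T
    have hB₁ : cj g₁⁻¹ N₁ ≤ L := by
      refine cj_le (fun w hw => ?_)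
      rw [hL]
      have hwT := hN₁T hw
      refine ⟨H.mul_mem (H.mul_mem (H.inv_mem hg₁H) (hTH hwT)) (H.inv_mem (H.inv_mem hg₁H)), ?_⟩
      have hwN : w ∈ normalizer (Y₁ : Set G) := by
        rw [hN₁] at hw
        exact hw.2
      rw [hY₁] at hwN
      have h1 := cj_mem_normalizer (g := g₁⁻¹) hwN
      have h2 : cj g₁⁻¹ (cj g₁ Y) = Y := by
        ext v
        constructor
        · rintro ⟨_, ⟨u, hu, rfl⟩, rfl⟩
          have e : (MulAut.conj g₁⁻¹).toMonoidHom ((MulAut.conj g₁).toMonoidHom u) = u := by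
            show g₁⁻¹ * (g₁ * u * g₁⁻¹) * g₁⁻¹⁻¹ = u
            group
          rwa [e]
        · intro hv
          refine ⟨g₁ * v * g₁⁻¹, mem_cj hv, ?_⟩
          show g₁⁻¹ * (g₁ * v * g₁⁻¹) * g₁⁻¹⁻¹ = v
          group
      rwa [h2] at h1
    obtain ⟨ℓ, hℓ, hℓv⟩ := conj_into_max hT₁p hT₁L hT₁max (hN₁p.map _) hB₁
    have hg₂H : ℓ * g₁⁻¹ ∈ H := H.mul_mem (hLH hℓ) (H.inv_mem hg₁H)
    have hg₂ := F2 (ℓ * g₁⁻¹) hg₂H N₁ hN₁T (cj g₁ A) ((map_mono hAY).trans (hY₁.symm.le.trans hY₁N₁))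
      (hOffconj g₁ hg₁H A hA (fun a ha => hg₁Y a (hAY ha))) (fun w hw => by
        have h1 := hℓv _ (mem_cj (g := g₁⁻¹) hw)
        have e : ℓ * (g₁⁻¹ * w * g₁⁻¹⁻¹) * ℓ⁻¹ = ℓ * g₁⁻¹ * w * (ℓ * g₁⁻¹)⁻¹ := by group
        rw [e] at h1
        exact hT₁T h1) hcN₁
    refine ⟨ℓ, hℓ, ?_⟩
    calc ℓ * y * ℓ⁻¹ = (ℓ * g₁⁻¹) * (g₁ * y * g₁⁻¹) * (ℓ * g₁⁻¹)⁻¹ := by group
      _ = (ℓ * g₁⁻¹) * x * (ℓ * g₁⁻¹)⁻¹ := by rw [hg₁y]
      _ = x := hg₂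
  have hℓH : ℓ ∈ H := hLH hℓL
  have hℓ₀ : ℓ⁻¹ * x * ℓ⁻¹⁻¹ = y := by
    rw [← hℓy]
    group
  -- Step 9
  have hxN : x ∈ L := by
    rw [hL]
    refine ⟨hxH, Cfsg.Agent.Lib.PGroups.mem_normalizer_of_conj_le' _ _ (fun v hv => ?_)⟩
    have := hxc v (hYT hv)
    rw [← this]
    have e : v * x * x⁻¹ = v := by group
    rwa [e]
  have hxT₁ : x ∈ T₁ := by
    rw [hT₁]
    refine ⟨hxT, ?_⟩
    exact hLN hxN
  have hab₁ : ∀ h ∈ L, ∀ h' ∈ L, (h * x * h⁻¹) * (h' * x * h'⁻¹) = (h' * x * h'⁻¹) * (h * x * h⁻¹) :=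
    fun h hh h' hh' => hab h (hLH hh) h' (hLH hh')
  obtain ⟨D₁, hD₁⟩ : ∃ D₁ : Subgroup G, D₁ = orbC L x := ⟨_, rfl⟩
  have hD₁c : ∀ a ∈ D₁, ∀ b ∈ D₁, a * b = b * a := hD₁ ▸ orbC_comm hab₁
  have hLD₁ : ∀ h ∈ L, ∀ d ∈ D₁, h * d * h⁻¹ ∈ D₁ := hD₁ ▸ fun h hh d hd => orbC_norm hh hd
  have hD₁T₁ : D₁ ≤ T₁ := hD₁ ▸ orbC_le_of_max hT₁p hT₁L hT₁max hxT₁ hab₁
  have hconjD₁ : ∀ h ∈ L, h * x * h⁻¹ ∈ D₁ := fun h hh => hD₁ ▸ conj_mem_orbC hh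
  have hxD₁ : x ∈ D₁ := by simpa using hconjD₁ 1 L.one_mem
  have hyD₁ : y ∈ D₁ := hℓ₀ ▸ hconjD₁ ℓ⁻¹ (L.inv_mem hℓL)
  have hYD₁ : ∀ v ∈ Y, ∀ d ∈ D₁, v * d * v⁻¹ = d := by
    intro v hv d hd
    rw [hD₁] at hd
    refine orbC_le_centralizer (fun k hk => ?_) d hd
    have h1 : k⁻¹ * v * k ∈ Y := by
      have := (mem_normalizer_iff.1 (hLN (L.inv_mem hk)) v).1 hv
      simpa using this
    have h2 := hfixT _ (hYT h1)
    calc v * (k * x * k⁻¹) * v⁻¹ = k * ((k⁻¹ * v * k) * x * (k⁻¹ * v * k)⁻¹) * k⁻¹ := by group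
      _ = k * x * k⁻¹ := by rw [h2]
  have hJ₁ : thompsonSubgroupAOf T₁ ≤ centralizer (D₁ : Set G) := by
    by_contra hJ
    obtain ⟨A₂, hA₂, hA₂C, hDA₂⟩ := exists_off hT₁p hD₁T₁ hD₁c (fun t ht d hd => hLD₁ t (hT₁L ht) d hd) hJ
    have h1 := orbit_lemma (p := p) hD₁c hLD₁ hxD₁ (hA₂.1.trans hT₁L) (hT₁p.to_le hA₂.1) (fun a ha => hfixT a (hT₁T (hA₂.1 ha)))
      (quad_of_normalized hA₂.2.1 hDA₂) (fun h hh hfix => ?_) (hD2g D₁ (hT₁p.to_le hD₁T₁)) ℓ⁻¹ (L.inv_mem hℓL)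
    · rw [hℓ₀] at h1
      exact hyx h1
    · by_contra hne
      have hP : h * x * h⁻¹ ∈ PP := hPmem _ ⟨h, hLH hh, rfl⟩ hne ⟨A, hA, fun a ha => hYD₁ a (hAY ha) _ (hconjD₁ h hh)⟩
      have h2 : Y ≤ stab T (h * x * h⁻¹) := fun v hv => mem_stab.2 ⟨hYT hv, hYD₁ v hv _ (hconjD₁ h hh)⟩
      have h3 : Y = stab T (h * x * h⁻¹) := Subgroup.eq_of_le_of_card_ge h2 (hi _ hP)
      apply hA₂C
      intro a ha
      have h4 : a ∈ stab T (h * x * h⁻¹) := mem_stab.2 ⟨hT₁T (hA₂.1 ha), hfix a ha⟩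
      rw [← h3] at h4
      exact mem_centralizer_of_conj (hYD₁ a h4)
  have hJY : thompsonSubgroupAOf T₁ ≤ Y := by
    intro a ha
    rw [hY]
    exact mem_stab.2 ⟨hT₁T (thompsonAOf_le T₁ ha), conj_eq_of_mem_centralizer (hJ₁ ha) hyD₁⟩
  have hnJ : ℓ⁻¹ ∈ normalizer (thompsonSubgroupAOf T₁ : Set G) :=
    normalizer_thompson_of_normalizer hJY hYT₁ (hLN (L.inv_mem hℓL))
  -- Claim C
  have hC := claimC (M₀ := Nat.card Y) hTp hTH hxT hxc hD hHD hN hTmax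
    (fun H' T' hH' h1 h2 h3 h4 h5 h6 => by
      have hlt : Nat.card H' < N := hNc ▸ Cfsg.Agent.Lib.OddLocal.card_lt_of_lt hH'
      exact IHN _ hlt H' T' x rfl h1 h2 h3 h4 h5 (fun h hh h' hh' => hab h (hH'.le hh) h' (hH'.le hh')) h6) F2
  have h1 := hC _ T₁ hT₁T rfl ⟨A, hAY.trans hYT₁, hA⟩ hcT₁ ℓ⁻¹ (H.inv_mem hℓH) hnJ
  rw [hℓ₀] at h1
  exact hyx h1

end Cfsg.Agent.Lib.Fusion2.GenOdd
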