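import Cfsg.Agent.Lib.Fusion2.GenOdd2
import Cfsg.Agent.Lib.Fusion2.NormalAPI

/-!
# Odd `p`: a subgroup of `Z(S)` fixed by `Aut_F(J(S))` is central in the fusion system
-/

set_option autoImplicit false
set_option linter.unusedSectionVars false
set_option linter.style.haveILetI false

universe u

namespace Cfsg.Agent.Lib.Fusion2.GenOdd

open Cfsg Cfsg.FusionSystem Cfsg.Agent.Lib.Fusion Subgroup
open Cfsg.Agent.Lib.PLocal
open Cfsg.Agent.Lib.Fusion2.PowRing
open Cfsg.Agent.Lib.Fusion2.GenJ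

variable {Ω : Type u} [Group Ω] {S : Subgroup Ω} {F : FusionSystem S} [Finite S] {p : ℕ} [hpf : Fact p.Prime]

theorem central_le_normalizerIn {X U : Subgroup Ω} (hXS : X ≤ S) (hXc : ∀ v ∈ X, ∀ s ∈ S, s * v = v * s) (hUS : U ≤ S) :
    X ≤ normalizerIn S U := by
  intro y hy
  refine ⟨hXS hy, mem_normalizer_of_conj_mem hUS (fun x hx => ?_)⟩
  have e : y * x * y⁻¹ = x := by
    rw [← hXc y hy x (hUS hx)]
    group
  rwa [e]

/-- Systems with a model. -/
theorem constrained_odd (hp : p ≠ 2) {G : Type u} [Group G] {ι : S →* G} (hm : F.IsModel p G ι) {X : Subgroup Ω} (hXS : X ≤ S)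
    (hXc : ∀ v ∈ X, ∀ s ∈ S, s * v = v * s) {S₀ : Subgroup Ω} (E : FusionSystem S₀)
    (hfix : ∀ (P : Subgroup Ω) (φ : P →* Ω), φ ∈ E.Hom P → ∀ x : P, (x : Ω) ∈ X → φ x = x)
    (h1 : ∀ P, F.centralizerHom X P ⊆ E.Hom P)
    (h2 : ∀ P, F.normalizerHom (thompsonSubgroupAOf S) P ⊆ E.Hom P) : ∀ P, F.Hom P ⊆ E.Hom P := by
  classical
  obtain ⟨hfin, hreal, ⟨T, hT⟩, hcen⟩ := hm
  haveI := hfin
  have hι := hreal.1
  obtain ⟨R, hR⟩ : ∃ R : Subgroup G, R = ι.range := ⟨_, rfl⟩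
  rw [← hR] at hT
  have hRp : IsPGroup p R := hT ▸ T.isPGroup'
  have hRmax : ∀ R' : Subgroup G, IsPGroup p R' → R ≤ R' → R' = R := fun R' h h' => by
    rw [← hT] at h' ⊢
    exact T.is_maximal' h h'
  have hιR : ∀ s : S, ι s ∈ R := fun s => hR ▸ ⟨s, rfl⟩
  have hRex : ∀ r ∈ R, ∃ s : S, ι s = r := fun r hr => by
    rw [hR] at hr
    exact hr
  have hJS : thompsonSubgroupAOf S ≤ S := thompsonAOf_le S
  have hJiff : ∀ x : S, (x : Ω) ∈ thompsonSubgroupAOf S ↔ ι x ∈ thompsonSubgroupAOf R := fun x => by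
    rw [hR]
    exact mem_J_iff hι x
  have hJR : thompsonSubgroupAOf R ≤ R := thompsonAOf_le R
  have hXJ : X ≤ thompsonSubgroupAOf S := by
    obtain ⟨A, hA⟩ := exists_isMaxAb S
    intro v hv
    exact IsMaxAbIn_le_J hA (mem_of_commute_isMaxAb hA (hXS hv) (fun a ha => (hXc v hv a (hA.1 ha))))
  have hO := Cfsg.Agent.Lib.Basic.pCore_normal (G := G) p
  have hOR : (pCore p G : Subgroup G) ≤ R := by
    rw [← hT]
    exact Cfsg.Agent.Lib.Basic.normal_pGroup_le_sylow hO (Cfsg.Agent.Lib.Basic.pCore_isPGroup (G := G) p) T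
  have hGfix : ∀ x : S, (x : Ω) ∈ X → ∀ g : G, g * ι x * g⁻¹ = ι x := by
    intro x hxX g
    have hcent : ∀ s : S, ι s * ι x = ι x * ι s := fun s => by
      rw [← map_mul, ← map_mul]
      congr 1
      exact Subtype.ext (hXc x hxX s s.2)
    have hxc : ∀ t ∈ R, t * ι x = ι x * t := fun t ht => by
      obtain ⟨s, rfl⟩ := hRex t ht
      exact hcent s
    have hxO : ι x ∈ pCore p G := hcen (mem_centralizer_iff.2 fun o ho => hxc o (hOR ho))
    refine fix_of_J hp _ ⊤ R (ι x) rfl hRp le_top (fun R' _ => hRmax R') (hιR x) hxc ?_ ?_ g (mem_top g)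
    · intro h _ h' _
      have h3 : h * ι x * h⁻¹ ∈ pCore p G := hO.conj_mem _ hxO h
      have h4 : h'⁻¹ * (h * ι x * h⁻¹) * h'⁻¹⁻¹ ∈ pCore p G := hO.conj_mem _ h3 _
      have h5 := hxc _ (hOR h4)
      simp only [inv_inv] at h5
      calc (h * ι x * h⁻¹) * (h' * ι x * h'⁻¹) = h' * ((h'⁻¹ * (h * ι x * h⁻¹) * h') * ι x) * h'⁻¹ := by group
        _ = h' * (ι x * (h'⁻¹ * (h * ι x * h⁻¹) * h')) * h'⁻¹ := by rw [h5]
        _ = (h' * ι x * h'⁻¹) * (h * ι x * h⁻¹) := by group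
    · intro n _ hn
      have hnJ : ∀ y : S, (y : Ω) ∈ thompsonSubgroupAOf S → n * ι y * n⁻¹ ∈ thompsonSubgroupAOf R := fun y hy =>
        (mem_normalizer_iff.1 hn _).1 ((hJiff y).1 hy)
      obtain ⟨f, hf, hfv⟩ := exists_map_of_gconj hreal hJS n (fun y hy => by
        rw [← hR]
        exact hJR (hnJ y hy))
      have hi : IsImage f (thompsonSubgroupAOf S) (thompsonSubgroupAOf S) := by
        intro y
        constructor
        · intro hy
          have hyS := hJS hy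
          have h3 := (hJiff ⟨y, hyS⟩).1 hy
          have h4 := (mem_normalizer_iff.1 (Subgroup.inv_mem _ hn) _).1 h3
          simp only [inv_inv] at h4
          obtain ⟨s, hs⟩ := hRex _ (hJR h4)
          have h5 : (s : Ω) ∈ thompsonSubgroupAOf S := by
            rw [hJiff, hs]
            exact h4
          refine ⟨s, h5, ?_⟩
          apply toS_eq_of hι (hf.mem_S h5) hyS
          have e1 := hfv s h5
          rw [e1, hs, toS_of_mem hyS]
          group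
        · rintro ⟨y, hy, rfl⟩
          have hyS := hJS hy
          have e1 := hfv ⟨y, hyS⟩ hy
          have e2 := hnJ ⟨y, hyS⟩ hy
          rw [← e1] at e2
          have e3 := (hJiff (toS S (f y))).2 e2
          rwa [coe_toS (hf.mem_S hy)] at e3
      obtain ⟨φ, hφ, hφv⟩ := exists_mem_normalizerHom hf le_rfl hi (fun y hy => ⟨hJS hy, mem_normalizer_thompson (hJS hy)⟩)
        (fun y hy => ⟨hf.mem_S hy, mem_normalizer_thompson (hf.mem_S hy)⟩)
      have hE := h2 _ hφ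
      have hx := hfix _ φ hE ⟨x, hXJ hxX⟩ hxX
      rw [hφv] at hx
      have e1 := hfv x (hXJ hxX)
      simp only at hx
      rw [← e1, hx, toS_coe]
  intro P φ hφ
  have hPS := le_of_hom hφ
  obtain ⟨g, hg⟩ := exists_conj_of_map hreal (isMapOn_toFun hφ)
  have hfS : ∀ x ∈ P, toFun φ x ∈ S := fun x hx => by
    rw [toFun_of_mem φ hx]
    exact val_mem hφ _
  have hfixX : ∀ x : S, (x : Ω) ∈ X → g * ι x * g⁻¹ = ι x := fun x hx => hGfix x hx g
  have hsup : ∀ x : S, (x : Ω) ∈ P ⊔ X → g * ι x * g⁻¹ ∈ ι.range := by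
    intro x hx
    obtain ⟨L, hL⟩ : ∃ L : Subgroup S, L = (R.comap (MulAut.conj g).toMonoidHom).comap ι := ⟨_, rfl⟩
    have hLm : ∀ s : S, s ∈ L ↔ g * ι s * g⁻¹ ∈ R := fun s => by
      rw [hL]
      rfl
    have hle : P ⊔ X ≤ L.map S.subtype := by
      refine sup_le (fun y hy => ⟨⟨y, hPS hy⟩, (hLm _).2 ?_, rfl⟩) (fun y hy => ⟨⟨y, hXS hy⟩, (hLm _).2 ?_, rfl⟩)
      · rw [← hg ⟨y, hPS hy⟩ hy]
        exact hιR _
      · rw [hfixX ⟨y, hXS hy⟩ hy]
        exact hιR _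
    obtain ⟨y, hy, hyx⟩ := hle hx
    have e : y = x := Subtype.ext hyx
    rw [← hR, ← e]
    exact (hLm y).1 hy
  obtain ⟨f₂, hf₂, hf₂v⟩ := exists_map_of_gconj hreal (sup_le hPS hXS) g hsup
  have hf₂' := hf₂
  obtain ⟨ψ, hψ, hψv⟩ := hf₂
  have hmem : φ ∈ F.centralizerHom X P := by
    refine ⟨hφ, fun x hx => ⟨hPS hx, ?_⟩, fun x => ⟨val_mem hφ x, ?_⟩, ψ, hψ, fun x => ?_, fun x => ?_⟩
    · show x ∈ centralizer _
      rw [mem_centralizer_iff]
      intro v hv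
      exact (hXc v hv x (hPS hx)).symm
    · show φ x ∈ centralizer _
      rw [mem_centralizer_iff]
      intro v hv
      exact (hXc v hv _ (val_mem hφ x)).symm
    · rw [hψv]
      have hxS := hPS x.2
      apply toS_eq_of hι (hf₂'.mem_S (le_sup_left (a := P) x.2)) (val_mem hφ x)
      have e1 := hf₂v ⟨x, hxS⟩ (le_sup_left (a := P) x.2)
      have e2 := hg ⟨x, hxS⟩ x.2
      simp only at e1 e2
      rw [toFun_coe] at e2
      show ι (toS S (f₂ (x : Ω))) = _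
      rw [e1, e2]
    · rw [hψv]
      have hxS := hXS x.2
      apply toS_eq_of hι (hf₂'.mem_S (le_sup_right (a := P) x.2)) hxS
      have e1 := hf₂v ⟨x, hxS⟩ (le_sup_right (a := P) x.2)
      simp only at e1
      show ι (toS S (f₂ (x : Ω))) = ι (toS S (x : Ω))
      rw [e1, hfixX ⟨x, hxS⟩ x.2, toS_of_mem hxS]
  exact h1 P hmem

/-- The maps of `N_F(J(T))` from those of a smaller system. -/
theorem step_B_odd (hS : IsPGroup p S) (hF : F.IsSaturated p) {S₀ : Subgroup Ω} (E : FusionSystem S₀) {X : Subgroup Ω}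
    (hXc : ∀ v ∈ X, ∀ s ∈ S, s * v = v * s) {O : Subgroup Ω} (hON : F.IsNormal O)
    (hIH : ∀ (R₃ : Subgroup Ω) (_ : F.IsFullyNormalized R₃) (F₁ : FusionSystem (normalizerIn S R₃)), F.IsNormalizerSystem R₃ F₁ → ¬ R₃ ≤ O →
      (∀ P, F₁.centralizerHom X P ⊆ E.Hom P) →
      (∀ P, F₁.normalizerHom (thompsonSubgroupAOf (normalizerIn S R₃)) P ⊆ E.Hom P) → ∀ P, F₁.Hom P ⊆ E.Hom P)
    (h1 : ∀ P, F.centralizerHom X P ⊆ E.Hom P) {k : ℕ}
    (hAk : ∀ P : Subgroup Ω, k + 1 ≤ Nat.card P → F.Hom P ⊆ E.Hom P)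
    (hBk : ∀ T : Subgroup Ω, T ≤ S → (T = S ∨ (AbLe O T ∧ ¬ thompsonSubgroupAOf T ≤ O)) → k + 1 ≤ Nat.card T →
      ∀ P, F.normalizerHom (thompsonSubgroupAOf T) P ⊆ E.Hom P)
    {T : Subgroup Ω} (hTS : T ≤ S) (hk : k ≤ Nat.card T) (hT : AbLe O T) (hJ : ¬ thompsonSubgroupAOf T ≤ O) (hne : T ≠ S) :
    ∀ P, F.normalizerHom (thompsonSubgroupAOf T) P ⊆ E.Hom P := by
  classical
  intro P φ hφ
  obtain ⟨R, hRdef⟩ : ∃ R, R = thompsonSubgroupAOf T := ⟨_, rfl⟩
  rw [← hRdef] at hφ hJ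
  have hRT : R ≤ T := hRdef ▸ thompsonAOf_le T
  have hRS := hRT.trans hTS
  have hOsc := stronglyClosed_of_isNormal hON
  -- `T < N_S(R)`
  have hTn : ∀ g, g ∈ normalizer (T : Set Ω) → g ∈ normalizer (R : Set Ω) := fun g hg => hRdef ▸ mem_normalizer_J_of hTS (thompsonAOf_le T) le_rfl hg
  have hTT₁ : T ≤ normalizerIn S R := fun x hx => ⟨hTS hx, hTn x (le_normalizer hx)⟩
  have hRT₁ : R ≤ normalizerIn S R := hRT.trans hTT₁
  have hTlt : T < normalizerIn S R := by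
    obtain ⟨g, hg, hgT⟩ := exists_mem_normalizerIn_not_mem hS (lt_of_le_of_ne hTS hne)
    exact lt_of_le_of_ne hTT₁ (fun e => hgT (e ▸ (⟨hg.1, hTn g hg.2⟩ : g ∈ normalizerIn S R)))
  have hcardT₁ : k + 1 ≤ Nat.card (normalizerIn S R) := (Nat.succ_le_succ hk).trans (card_lt_of_lt hTlt (normalizerIn_le R))
  obtain ⟨R₃, hRR₃, hR₃⟩ := exists_fullyNormalized_conj (F := F) hRS
  have haut := (fullyNormalized_spec hS hF hR₃).2
  have hrec := receptive_of_fullyNormalized hS hF hR₃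
  obtain ⟨χ, hχ, hχi, hχn⟩ := exists_up hS haut hrec hRR₃
  have hχE : IsMapOn E (normalizerIn S R) χ := by
    obtain ⟨φ₁, hφ₁, hv₁⟩ := hχ
    exact ⟨φ₁, hAk _ hcardT₁ hφ₁, hv₁⟩
  obtain ⟨F₁, hF₁⟩ := kSystem_normalizer F hR₃.1
  have hR₃O : ¬ R₃ ≤ O := fun hle => hJ (le_of_isImage_stronglyClosed hOsc (hχ.mono hRT₁) hχi hle)
  have hsub₁ : ∀ P, F₁.Hom P ⊆ F.Hom P := fun P φ hφ => by
    rw [hF₁ P] at hφ
    exact hφ.1
  have h₁ : ∀ P, F₁.centralizerHom X P ⊆ E.Hom P :=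
    fun P φ h => h1 P (centralizerHom_mono hsub₁ le_rfl hXc h)
  haveI hS₁f : Finite (normalizerIn S R₃) := finite_of_le (normalizerIn_le R₃)
  -- images of subgroups of `N_S(R)`
  have himg : ∀ B : Subgroup Ω, B ≤ normalizerIn S R → ∃ B₂, IsImage χ B B₂ ∧ B₂ ≤ normalizerIn S R₃ ∧ Nat.card B₂ = Nat.card B ∧
      (IsMulCommutative B → IsMulCommutative B₂) := by
    intro B hB
    obtain ⟨B₂, hB₂⟩ := hχ.exists_image hB
    refine ⟨B₂, hB₂, fun y hy => ?_, (IsImage.card_eq hχ hB hB₂).symm, fun hc => ?_⟩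
    · obtain ⟨x, hx, rfl⟩ := hB₂.exists_of_mem hy
      exact hχn x (hB hx)
    · rw [Cfsg.Agent.Lib.PLocal.isMulCommutative_iff] at hc ⊢
      intro a ha b hb
      obtain ⟨x, hx, rfl⟩ := hB₂.exists_of_mem ha
      obtain ⟨y, hy, rfl⟩ := hB₂.exists_of_mem hb
      rw [← hχ.map_mul (hB hx) (hB hy), ← hχ.map_mul (hB hy) (hB hx), hc x hx y hy]
  have hS₁mem : normalizerIn S R₃ = S ∨ (AbLe O (normalizerIn S R₃) ∧ ¬ thompsonSubgroupAOf (normalizerIn S R₃) ≤ O) := by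
    by_cases hS₁ : normalizerIn S R₃ = S
    · exact Or.inl hS₁
    · refine Or.inr ⟨fun A hA hAc => ?_, fun hJS₁ => ?_⟩
      · obtain ⟨B, hB, hBc, hc⟩ := hT A hA hAc
        obtain ⟨B₂, -, h2, h3, h4⟩ := himg B (hB.trans hTT₁)
        exact ⟨B₂, h2, h4 hBc, h3 ▸ hc⟩
      · -- a maximal abelian subgroup of `T` outside `O`
        obtain ⟨A, hA, hAO⟩ : ∃ A, IsMaxAbIn T A ∧ ¬ A ≤ O := by
          by_contra hc
          push_neg at hc
          apply hJ
          rw [hRdef, thompsonAOf_eq']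
          exact sSup_le hc
        obtain ⟨A₁, hA₁⟩ := exists_isMaxAb (normalizerIn S R₃)
        have hA₁O : A₁ ≤ O := (IsMaxAbIn_le_J hA₁).trans hJS₁
        obtain ⟨B, hB, hBc, hc⟩ := hT A₁ hA₁O hA₁.2.1
        have hcBA := hA.2.2 B hB hBc
        obtain ⟨A₂, h1', h2, h3, h4⟩ := himg A (hA.1.trans hTT₁)
        have hA₂ : IsMaxAbIn (normalizerIn S R₃) A₂ := ⟨h2, h4 hA.2.1, fun C hC hCc => by
          have := hA₁.2.2 C hC hCc
          omega⟩
        exact hAO (le_of_isImage_stronglyClosed hOsc (hχ.mono (hA.1.trans hTT₁)) h1' ((IsMaxAbIn_le_J hA₂).trans hJS₁))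
  have hcardS₁ : k + 1 ≤ Nat.card (normalizerIn S R₃) := by
    obtain ⟨B₂, -, h2, h3, -⟩ := himg _ (le_refl (normalizerIn S R))
    rw [← h3] at hcardT₁
    exact hcardT₁.trans (Subgroup.card_le_of_le h2)
  have h₂ : ∀ P, F₁.normalizerHom (thompsonSubgroupAOf (normalizerIn S R₃)) P ⊆ E.Hom P :=
    fun P φ h => hBk _ (normalizerIn_le R₃) hS₁mem hcardS₁ P (normalizerHom_mono hsub₁ (normalizerIn_le R₃) h)
  have hF₁E := hIH R₃ hR₃ F₁ hF₁ hR₃O h₁ h₂
  -- the map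
  obtain ⟨hφF, hPN, hφv, ψ, hψ, hψv, hψm⟩ := hφ
  have hX₂T₁ : P ⊔ R ≤ normalizerIn S R := sup_le hPN hRT₁
  have hfψ : IsMapOn F (P ⊔ R) (toFun ψ) := isMapOn_toFun hψ
  have hfψR : IsImage (toFun ψ) R R := by
    intro y
    constructor
    · intro hy
      obtain ⟨x, hx, rfl⟩ := hψm.ge hy
      exact ⟨x, hx, toFun_coe ψ x⟩
    · rintro ⟨x, hx, rfl⟩
      rw [toFun_of_mem ψ (le_sup_right (a := P) hx)]
      exact hψm.le ⟨⟨x, le_sup_right (a := P) hx⟩, hx, rfl⟩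
  have hψP : ∀ x ∈ P, toFun ψ x = toFun φ x := by
    intro x hx
    rw [toFun_of_mem ψ (le_sup_left (a := P) hx), toFun_of_mem φ hx]
    exact hψv ⟨x, hx⟩
  have hfψT₁ : ∀ x ∈ P ⊔ R, toFun ψ x ∈ normalizerIn S R := by
    intro x hx
    have hle : P ⊔ R ≤ ((normalizerIn S R).comap (ψ)).map (P ⊔ R).subtype := by
      refine sup_le (fun y hy => ⟨⟨y, le_sup_left (a := P) hy⟩, ?_, rfl⟩) (fun y hy => ⟨⟨y, le_sup_right (a := P) hy⟩, ?_, rfl⟩)
      · have := hψv ⟨y, hy⟩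
        show ψ _ ∈ normalizerIn S R
        exact this ▸ hφv ⟨y, hy⟩
      · exact hRT₁ (hfψR.mem hy |> fun h => by
          rw [toFun_of_mem ψ (le_sup_right (a := P) hy)] at h
          exact h)
    obtain ⟨y, hy, rfl⟩ := hle hx
    show toFun ψ (y : Ω) ∈ _
    rw [toFun_coe]
    exact hy
  obtain ⟨Y, hY⟩ := hχ.exists_image hX₂T₁
  obtain ⟨κ, hκ, hκi, hκ1, hκ2⟩ := (hχ.mono hX₂T₁).exists_inv hY
  have hψ' : IsMapOn F Y (fun y => χ (toFun ψ (κ y))) :=
    (hκ.comp hfψ (fun y hy => hκi.mem hy)).comp hχ (fun y hy => hfψT₁ _ (hκi.mem hy))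
  have hR₃Y : R₃ ≤ Y := by
    intro y hy
    obtain ⟨x, hx, rfl⟩ := hχi.exists_of_mem hy
    exact hY.mem (le_sup_right (a := P) hx)
  have hYS₁ : Y ≤ normalizerIn S R₃ := by
    intro y hy
    obtain ⟨x, hx, rfl⟩ := hY.exists_of_mem hy
    exact hχn x (hX₂T₁ hx)
  have hκR : IsImage κ R₃ R := hχi.inv (fun x hx => hκ1 x (le_sup_right (a := P) hx))
  have hψ'i : IsImage (fun y => χ (toFun ψ (κ y))) R₃ R₃ := (hκR.comp hfψR).comp hχi
  obtain ⟨φ₂, hφ₂, hφ₂v⟩ := exists_mem_normalizerHom hψ' hR₃Y hψ'i hYS₁ (fun y hy => hχn _ (hfψT₁ _ (hκi.mem hy)))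
  have hE₂ : IsMapOn E Y (fun y => χ (toFun ψ (κ y))) := ⟨φ₂, hF₁E Y (by rw [hF₁ Y]; exact hφ₂), hφ₂v⟩
  obtain ⟨X₃, hX₃⟩ := hfψ.exists_image (le_refl (P ⊔ R))
  have hX₃T₁ : X₃ ≤ normalizerIn S R := by
    intro y hy
    obtain ⟨x, hx, rfl⟩ := hX₃.exists_of_mem hy
    exact hfψT₁ x hx
  have hχE₃ := hχE.mono hX₃T₁
  obtain ⟨Y₃, hY₃⟩ := hχE₃.exists_image (le_refl X₃)
  obtain ⟨κ₃, hκ₃, -, hκ₃1, -⟩ := hχE₃.exists_inv hY₃
  have hstep : ∀ x ∈ P ⊔ R, χ (toFun ψ (κ (χ x))) = χ (toFun ψ x) := fun x hx => by rw [hκ1 x hx]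
  have hcomp : IsMapOn E (P ⊔ R) (fun x => κ₃ (χ (toFun ψ (κ (χ x))))) :=
    ((hχE.mono hX₂T₁).comp hE₂ (fun x hx => hY.mem hx)).comp hκ₃ (fun x hx => by
      show χ (toFun ψ (κ (χ x))) ∈ Y₃
      rw [hstep x hx]
      exact hY₃.mem (hX₃.mem hx))
  have hEψ : IsMapOn E (P ⊔ R) (toFun ψ) := hcomp.congr (fun x hx => by
    rw [hstep x hx]
    exact hκ₃1 _ (hX₃.mem hx))
  obtain ⟨φ', hφ', hv'⟩ := hEψ.mono (le_sup_left : P ≤ P ⊔ R)
  have : φ' = φ := by
    ext x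
    rw [hv', hψP x x.2, toFun_coe]
  rwa [← this]

/-- From `N_F(J(T))`, for larger `T`, to maps with large source. -/
theorem step_A_odd (hp : p ≠ 2) (hS : IsPGroup p S) (hF : F.IsSaturated p) {S₀ : Subgroup Ω} (hSS₀ : S ≤ S₀) (E : FusionSystem S₀) {X : Subgroup Ω}
    (hXS : X ≤ S) (hXc : ∀ v ∈ X, ∀ s ∈ S, s * v = v * s)
    (hfix : ∀ (P : Subgroup Ω) (φ : P →* Ω), φ ∈ E.Hom P → ∀ x : P, (x : Ω) ∈ X → φ x = x) {O : Subgroup Ω} (hON : F.IsNormal O)
    (hcons : ¬ centralizerIn S O ≤ O)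
    (h1 : ∀ P, F.centralizerHom X P ⊆ E.Hom P) (h2 : ∀ P, F.normalizerHom (thompsonSubgroupAOf S) P ⊆ E.Hom P) {k : ℕ}
    (hBk : ∀ T : Subgroup Ω, T ≤ S → (T = S ∨ (AbLe O T ∧ ¬ thompsonSubgroupAOf T ≤ O)) → k + 1 ≤ Nat.card T →
      ∀ P, F.normalizerHom (thompsonSubgroupAOf T) P ⊆ E.Hom P) :
    ∀ P : Subgroup Ω, k ≤ Nat.card P → F.Hom P ⊆ E.Hom P := by
  classical
  intro P hk φ hφ
  refine alperin_induction hS hF (fun P φ => k ≤ Nat.card P → φ ∈ E.Hom P) ?_ ?_ ?_ ?_ hφ hk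
  · intro P g hP hg _
    exact E.conj_mem (hP.trans hSS₀) (hSS₀ hg)
  · intro P Q φ ψ hφ hψ hΦφ hΦψ h hkP
    haveI : Finite Q := finite_of_le (le_of_hom hψ)
    have hc : Nat.card P ≤ Nat.card Q := Nat.card_le_card_of_injective (φ.codRestrict Q h) (by
      intro a b e
      exact F.injective_of_mem hφ (congrArg Subtype.val e))
    exact E.comp_mem (hΦφ hkP) (hΦψ (hkP.trans hc)) h
  · intro P φ ψ hφ hψ hv hΦ hkr
    have hc : Nat.card φ.range = Nat.card P := by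
      rw [Nat.card_congr (MonoidHom.ofInjective (F.injective_of_mem hφ)).toEquiv]
    rw [hc] at hkr
    obtain ⟨ψ', hψ', hv'⟩ := E.inv_mem (hΦ hkr)
    have : ψ' = ψ := by
      ext ⟨_, ⟨x, rfl⟩⟩
      rw [hv', hv]
    rwa [← this]
  · intro U hU α hα hk'
    by_cases hUS : U = S
    · subst hUS
      exact h2 _ (aut_S_mem hα)
    · have hUe := hU.resolve_left hUS
      have hUS' : U ≤ S := hUe.1.1
      obtain ⟨g, hg, hgU⟩ := exists_mem_normalizerIn_not_mem hS (lt_of_le_of_ne hUS' hUS)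
      have hUT := le_normalizerIn hUS'
      have hUlt : U < normalizerIn S U := lt_of_le_of_ne hUT (fun e => hgU (e ▸ hg))
      have hcardT : k + 1 ≤ Nat.card (normalizerIn S U) := (Nat.succ_le_succ hk').trans (card_lt_of_lt hUlt (normalizerIn_le U))
      have hOU : O ≤ U := le_of_isNormal hS hON hUe.1 (isRadical_of_essential hS hUe)
      have hTmem : normalizerIn S U = S ∨ (AbLe O (normalizerIn S U) ∧ ¬ thompsonSubgroupAOf (normalizerIn S U) ≤ O) := by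
        by_cases hT : normalizerIn S U = S
        · exact Or.inl hT
        · exact Or.inr ⟨fun A hA hAc => ⟨A, hA.trans (hOU.trans hUT), hAc, le_rfl⟩, not_J_le_of_not_constrained hS hON hcons hUe⟩
      have hNJ := hBk _ (normalizerIn_le U) hTmem hcardT
      obtain ⟨F', hF'⟩ := kSystem_normalizer F hUS'
      haveI hTf : Finite (normalizerIn S U) := finite_of_le (normalizerIn_le U)
      have hU' := hUe.2.1
      have hsat := isSaturated_normalizerSystem hS hF hU' hF'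
      have hN := isNormal_normalizerSystem hUS' hF'
      have hCc := isCentric_normalizerSystem hUe.1 hF'
      have hSN : IsPGroup p (normalizerIn S U) := hS.to_le (normalizerIn_le U)
      obtain ⟨G, hG, ι, hmodel⟩ := exists_model hSN ⟨hsat, U, hN, hCc⟩
      have hsub : ∀ P, F'.Hom P ⊆ F.Hom P := fun P φ hφ => by
        rw [hF' P] at hφ
        exact hφ.1
      have hall := constrained_odd hp hmodel (central_le_normalizerIn hXS hXc hUS') (fun v hv s hs => hXc v hv s hs.1) E hfix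
        (fun P φ h => h1 P (centralizerHom_mono hsub le_rfl hXc h))
        (fun P φ h => hNJ P (normalizerHom_mono hsub (normalizerIn_le U) h))
      have hαE : α ∈ F'.autGroup U := by
        rw [autGroup_normalizerSystem hUS' hF']
        exact hα
      exact hall U ((Cfsg.Agent.Lib.Fusion.mem_autGroup_iff hUT).1 hαE)

/-- The main theorem, for systems on all subgroups. -/
theorem gen_core_odd (hp : p ≠ 2) {S₀ : Subgroup Ω} (E : FusionSystem S₀) {X : Subgroup Ω}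
    (hfix : ∀ (P : Subgroup Ω) (φ : P →* Ω), φ ∈ E.Hom P → ∀ x : P, (x : Ω) ∈ X → φ x = x) :
    ∀ (N : ℕ) (S : Subgroup Ω) [Finite S], S ≤ S₀ → IsPGroup p S → X ≤ S → (∀ v ∈ X, ∀ s ∈ S, s * v = v * s) → ∀ (F : FusionSystem S), F.IsSaturated p →
    Nat.card S * (Nat.card S + 1) - Nat.card F.core = N →
    (∀ P, F.centralizerHom X P ⊆ E.Hom P) → (∀ P, F.normalizerHom (thompsonSubgroupAOf S) P ⊆ E.Hom P) → ∀ P, F.Hom P ⊆ E.Hom P := by
  intro N
  induction N using Nat.strong_induction_on with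
  | _ N IH =>
  intro S _ hSS₀ hS hXS hXc F hF hN h1 h2
  classical
  obtain ⟨O, hO⟩ : ∃ O, O = F.core := ⟨_, rfl⟩
  have hON : F.IsNormal O := hO ▸ Cfsg.Agent.Lib.Fusion2.core_isNormal F
  have hOsc := stronglyClosed_of_isNormal hON
  have hOS := hON.1
  by_cases hcons : centralizerIn S O ≤ O
  · have hCc : F.IsCentric O := by
      refine ⟨hOS, fun Q' hQ' => ?_⟩
      have hQeq : Q' = O := by
        obtain ⟨φ, hφ, hr⟩ := hQ'
        have h3 := map_eq_of_stronglyClosed hOsc le_rfl hφ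
        rw [Subgroup.subgroupOf_self, ← MonoidHom.range_eq_map, hr] at h3
        exact h3
      rw [hQeq]
      exact hcons
    obtain ⟨G, hG, ι, hm⟩ := exists_model hS ⟨hF, O, hON, hCc⟩
    exact constrained_odd hp hm hXS hXc E hfix h1 h2
  · have hIH : ∀ (R₃ : Subgroup Ω) (_ : F.IsFullyNormalized R₃) (F₁ : FusionSystem (normalizerIn S R₃)), F.IsNormalizerSystem R₃ F₁ → ¬ R₃ ≤ O →
        (∀ P, F₁.centralizerHom X P ⊆ E.Hom P) →
        (∀ P, F₁.normalizerHom (thompsonSubgroupAOf (normalizerIn S R₃)) P ⊆ E.Hom P) → ∀ P, F₁.Hom P ⊆ E.Hom P := by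
      intro R₃ hR₃ F₁ hF₁ hR₃O hc1 hc2
      haveI hS₁f : Finite (normalizerIn S R₃) := finite_of_le (normalizerIn_le R₃)
      have hsat := isSaturated_normalizerSystem hS hF hR₃ hF₁
      refine IH _ ?_ (normalizerIn S R₃) ((normalizerIn_le R₃).trans hSS₀) (hS.to_le (normalizerIn_le R₃)) (central_le_normalizerIn hXS hXc hR₃.1)
        (fun v hv s hs => hXc v hv s hs.1) F₁ hsat rfl hc1 hc2
      rw [← hN, ← hO]
      have hos : Nat.card O ≤ Nat.card S := Subgroup.card_le_of_le hOS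
      have hspos : 0 < Nat.card S := Nat.card_pos
      by_cases hS₁ : S ≤ normalizerIn S R₃
      · have hO₁ : F₁.IsNormal O := isNormal_of_normalizerSystem_eq hR₃.1 hON hF₁ hS₁
        have hR₁ : F₁.IsNormal R₃ := isNormal_normalizerSystem hR₃.1 hF₁
        have hOc : O ≤ F₁.core := le_sSup hO₁
        have hRc : R₃ ≤ F₁.core := le_sSup hR₁
        have hcN : F₁.core ≤ normalizerIn S R₃ := (Cfsg.Agent.Lib.Fusion2.core_isNormal F₁).1
        have hlt : O < F₁.core := lt_of_le_of_ne hOc (fun e => hR₃O (e ▸ hRc))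
        have hclt : Nat.card O < Nat.card F₁.core := card_lt_of_lt (S := normalizerIn S R₃) hlt hcN
        have hcard : Nat.card (normalizerIn S R₃) = Nat.card S := by
          rw [le_antisymm (normalizerIn_le R₃) hS₁]
        rw [hcard]
        have hcs : Nat.card F₁.core ≤ Nat.card S := by
          rw [← hcard]
          exact Subgroup.card_le_of_le hcN
        have h4 : Nat.card S ≤ Nat.card S * (Nat.card S + 1) := Nat.le_mul_of_pos_right _ (by omega)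
        omega
      · have hlt : normalizerIn S R₃ < S := lt_of_le_of_ne (normalizerIn_le R₃) (fun e => hS₁ (le_of_eq e.symm))
        have hclt : Nat.card (normalizerIn S R₃) < Nat.card S := card_lt_of_lt hlt le_rfl
        have harith : ∀ s₁ s o c : ℕ, s₁ < s → o ≤ s → s₁ * (s₁ + 1) - c < s * (s + 1) - o := by
          intro s₁ s o c h1 h2
          have h6 : s₁ * (s₁ + 1) ≤ s₁ * s := Nat.mul_le_mul_left _ h1
          have h7 : (s₁ + 1) * s ≤ s * s := Nat.mul_le_mul_right _ h1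
          rw [Nat.add_mul, one_mul] at h7
          have h8 : s * (s + 1) = s * s + s := by ring
          rw [h8]
          have : 0 < s := by omega
          omega
        exact harith _ _ _ _ hclt hos
    have hB : ∀ d k : ℕ, k + d = Nat.card S + 1 → ∀ T : Subgroup Ω, T ≤ S → (T = S ∨ (AbLe O T ∧ ¬ thompsonSubgroupAOf T ≤ O)) → k ≤ Nat.card T →
        ∀ P, F.normalizerHom (thompsonSubgroupAOf T) P ⊆ E.Hom P := by
      intro d
      induction d with
      | zero =>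
        intro k hk T hT _ hkT
        have := Subgroup.card_le_of_le hT
        omega
      | succ d ihd =>
        intro k hk T hT hTm hkT
        have hBk := ihd (k + 1) (by omega)
        have hAk1 : ∀ P : Subgroup Ω, k + 1 ≤ Nat.card P → F.Hom P ⊆ E.Hom P :=
          step_A_odd hp hS hF hSS₀ E hXS hXc hfix hON hcons h1 h2 (fun T h3 h4 h5 => hBk T h3 h4 (by omega))
        rcases hTm with hTS | ⟨hab, hJ⟩
        · rw [hTS]
          exact h2
        · by_cases hne : T = S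
          · rw [hne]
            exact h2
          · exact step_B_odd hS hF E hXc hON hIH h1 hAk1 hBk hT hkT hab hJ hne
    have hA0 := step_A_odd hp hS hF hSS₀ E hXS hXc hfix hON hcons h1 h2 (k := 0) (hB (Nat.card S) 1 (by omega))
    exact fun P => hA0 P (Nat.zero_le _)


/-- Odd `p`: a subgroup of `Z(S)` fixed by `Aut_F(J(S))` is central. -/
theorem fixed_central (hp : p ≠ 2) (hS : IsPGroup p S) (hF : F.IsSaturated p) {X : Subgroup Ω} (hXS : X ≤ S)
    (hXc : ∀ v ∈ X, ∀ s ∈ S, s * v = v * s)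
    (hfixJ : ∀ α ∈ F.autGroup (thompsonSubgroupAOf S), ∀ (x : Ω) (hx : x ∈ thompsonSubgroupAOf S), x ∈ X →
      ((α ⟨x, hx⟩ : thompsonSubgroupAOf S) : Ω) = x) : F.IsCentral X := by
  obtain ⟨E, hE⟩ := kSystem_centralizer F hXS
  have hSC : S ≤ centralizerIn S X := fun s hs => ⟨hs, mem_centralizer_iff.2 fun v hv => (hXc v hv s hs).symm⟩
  have hfix : ∀ (P : Subgroup Ω) (φ : P →* Ω), φ ∈ E.Hom P → ∀ x : P, (x : Ω) ∈ X → φ x = x := by
    intro P φ hφ x hx
    rw [hE P] at hφ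
    obtain ⟨-, -, -, ψ, -, h1, h2⟩ := hφ
    have h3 := h1 x
    have h4 := h2 ⟨x, hx⟩
    have h5 : (Subgroup.inclusion le_sup_left x : ↥(P ⊔ X)) = Subgroup.inclusion le_sup_right (⟨x, hx⟩ : X) := rfl
    rw [h5, h4] at h3
    exact h3.symm
  have hXJ : X ≤ thompsonSubgroupAOf S := by
    obtain ⟨A, hA⟩ := exists_isMaxAb S
    intro v hv
    exact IsMaxAbIn_le_J hA (mem_of_commute_isMaxAb hA (hXS hv) (fun a ha => (hXc v hv a (hA.1 ha))))
  have h1 : ∀ P, F.centralizerHom X P ⊆ E.Hom P := fun P φ h => by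
    rw [hE P]
    exact h
  have h2 : ∀ P, F.normalizerHom (thompsonSubgroupAOf S) P ⊆ E.Hom P := by
    intro P φ hφ
    rw [hE P]
    obtain ⟨hφF, hPN, hφv, ψ, hψ, hψφ, hψm⟩ := hφ
    have hPS := le_of_hom hφF
    have hres := restrict_mem hψ (le_sup_right : thompsonSubgroupAOf S ≤ P ⊔ thompsonSubgroupAOf S)
    have hr : (ψ.comp (Subgroup.inclusion le_sup_right)).range = thompsonSubgroupAOf S := by
      rw [range_restrict]
      exact hψm
    have hαm : isoOfHom hres hr ∈ F.autGroup (thompsonSubgroupAOf S) := mem_autGroup_of_isIso (isoOfHom_isIso hres hr)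
    have hle : P ⊔ X ≤ P ⊔ thompsonSubgroupAOf S := sup_le_sup_left hXJ P
    refine ⟨hφF, fun x hx => ⟨hPS hx, ?_⟩, fun x => ⟨val_mem hφF x, ?_⟩, ψ.comp (Subgroup.inclusion hle), restrict_mem hψ hle, fun x => hψφ x, fun x => ?_⟩
    · show x ∈ centralizer _
      rw [mem_centralizer_iff]
      intro v hv
      exact (hXc v hv x (hPS hx)).symm
    · show φ x ∈ centralizer _
      rw [mem_centralizer_iff]
      intro v hv
      exact (hXc v hv _ (val_mem hφF x)).symm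
    · have h3 := hfixJ _ hαm x (hXJ x.2) x.2
      rw [isoOfHom_coe hres hr] at h3
      exact h3
  have hall := gen_core_odd hp E hfix _ S hSC hS hXS hXc F hF rfl h1 h2
  refine ⟨hXS, fun P φ hφ => ?_⟩
  have h3 := hall P hφ
  rw [hE P] at h3
  obtain ⟨-, -, -, ψ, hψ, h4, h5⟩ := h3
  exact ⟨ψ, hψ, h4, h5⟩

end Cfsg.Agent.Lib.Fusion2.GenOdd
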