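/-
Tate's theorem for fusion systems and the characterization of inner fusion systems by the focal subgroup.
-/
import Cfsg.Agent.Lib.Fusion2.Hyp

set_option autoImplicit false

universe u

namespace Cfsg.Agent.Lib.Fusion2

open Cfsg Cfsg.FusionSystem Cfsg.Agent.Lib.Fusion
open scoped commutatorElement

/-- In a nilpotent group, `T ≤ L [T, G]` forces `T ≤ L` for a normal `L`. -/
theorem le_of_le_sup_commutator {G : Type*} [Group G] [hG : Group.IsNilpotent G] {T L : Subgroup G} [hL : L.Normal]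
    (h : T ≤ L ⊔ ⁅T, ⊤⁆) : T ≤ L := by
  have hk : ∀ k : ℕ, T ≤ L ⊔ Subgroup.lowerCentralSeries (⊤ : Subgroup G) k := by
    intro k
    induction k with
    | zero =>
      rw [Subgroup.lowerCentralSeries_zero]
      exact le_sup_of_le_right le_top
    | succ k ih =>
      refine h.trans (sup_le le_sup_left ?_)
      rw [Subgroup.commutator_le]
      intro x hx g _
      have hx' := ih hx
      rw [Subgroup.mem_sup_of_normal_left] at hx'
      obtain ⟨l, hl, c, hc, rfl⟩ := hx'
      have e : ⁅l * c, g⁆ = l * ⁅c, g⁆ * (g * l⁻¹ * g⁻¹) := by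
        simp only [commutatorElement_def]
        group
      rw [e]
      refine Subgroup.mul_mem _ (Subgroup.mul_mem _ (Subgroup.mem_sup_left hl) (Subgroup.mem_sup_right ?_))
        (Subgroup.mem_sup_left (hL.conj_mem _ (L.inv_mem hl) g))
      rw [Subgroup.lowerCentralSeries_succ]
      exact Subgroup.subset_closure ⟨c, hc, g, trivial, rfl⟩
  obtain ⟨n, hn⟩ := Subgroup.nilpotent_iff_lowerCentralSeries.1 hG
  have := hk n
  rwa [hn, sup_bot_eq] at this

/-- Abelian quotients as existential statements. -/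
theorem exists_comm_quotient {G : Type u} [Group G] [Finite G] {p : ℕ} [Fact p.Prime] (hG : IsPGroup p G) (N : Subgroup G) [hN : N.Normal]
    (hc : ∀ a b : G, ⁅a, b⁆ ∈ N) :
    ∃ (A : Type u) (_ : CommGroup A) (e : ℕ) (π : G →* A), Function.Surjective π ∧ π.ker = N ∧ ∀ a : A, a ^ p ^ e = 1 := by
  letI : CommGroup (G ⧸ N) :=
    { (QuotientGroup.Quotient.group N) with
      mul_comm := by
        intro a b
        induction a using QuotientGroup.induction_on with | H a => ?_
        induction b using QuotientGroup.induction_on with | H b => ?_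
        rw [← QuotientGroup.mk_mul, ← QuotientGroup.mk_mul, QuotientGroup.eq]
        have := hc b⁻¹ a⁻¹
        have e : ⁅b⁻¹, a⁻¹⁆ = (a * b)⁻¹ * (b * a) := by
          simp only [commutatorElement_def]
          group
        rwa [e] at this }
  obtain ⟨e, he⟩ := IsPGroup.iff_card.1 hG
  refine ⟨G ⧸ N, inferInstance, e, QuotientGroup.mk' N, QuotientGroup.mk'_surjective N, QuotientGroup.ker_mk' N, fun a => ?_⟩
  induction a using QuotientGroup.induction_on with | H a => ?_
  rw [← he, ← QuotientGroup.mk_pow, pow_card_eq_one', QuotientGroup.mk_one]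

variable {Ω : Type*} [Group Ω] {S : Subgroup Ω} {F : FusionSystem S} {p : ℕ}

/-- The hyperfocal subgroup is monotone. -/
theorem hyp_mono {H : FusionSystem S} (hHF : H.IsSubsystemOf F) : H.hyperfocalSubgroup p ≤ F.hyperfocalSubgroup p := by
  rw [hyperfocalSubgroup, Subgroup.closure_le]
  rintro _ ⟨P, α, x, hP, hα, rfl⟩
  have hle : H.autGroup P ≤ F.autGroup P := by
    refine (Subgroup.closure_le _).2 ?_
    intro β hβ
    exact Subgroup.subset_closure (hHF P hβ)
  let j : H.autGroup P →* F.autGroup P := Subgroup.inclusion hle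
  have hj : Function.Injective j := Subgroup.inclusion_injective hle
  have h1 : j α ∈ pResidual p (F.autGroup P) := by
    rw [pResidual] at hα ⊢
    have h2 : (Subgroup.closure {g : H.autGroup P | Nat.Coprime (orderOf g) p}).map j ≤
        Subgroup.closure {g : F.autGroup P | Nat.Coprime (orderOf g) p} := by
      rw [MonoidHom.map_closure, Subgroup.closure_le]
      rintro _ ⟨g, hg, rfl⟩
      apply Subgroup.subset_closure
      show Nat.Coprime (orderOf (j g)) p
      rw [orderOf_injective j hj]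
      exact hg
    exact h2 ⟨α, hα, rfl⟩
  exact Subgroup.subset_closure ⟨P, j α, x, hP, h1, rfl⟩

/-- The focal subgroup is monotone. -/
theorem focal_mono {H : FusionSystem S} (hHF : H.IsSubsystemOf F) : H.focalSubgroup ≤ F.focalSubgroup := by
  rw [focalSubgroup, Subgroup.closure_le]
  rintro _ ⟨P, φ, x, hφ, rfl⟩
  exact Subgroup.subset_closure ⟨P, φ, x, hHF P hφ, rfl⟩

/-- **The key lemma on hyperfocal subgroups.** -/
theorem hyp_le_of_le_sup [Finite S] [hp : Fact p.Prime] (hS : IsPGroup p S) (hF : F.IsSaturated p) {L : Subgroup Ω}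
    (hLh : L ≤ F.hyperfocalSubgroup p) (hLn : ∀ s ∈ S, ∀ x ∈ L, s * x * s⁻¹ ∈ L)
    (h : F.hyperfocalSubgroup p ≤ L ⊔ ⁅S, S⁆) : F.hyperfocalSubgroup p ≤ L := by
  classical
  haveI hTn : ((F.hyperfocalSubgroup p).subgroupOf S).Normal := hyp_subgroupOf_normal
  set T₁ : Subgroup ↥S := (F.hyperfocalSubgroup p).subgroupOf S with hT₁
  have hL₁n : (L.subgroupOf S).Normal := by
    constructor
    intro t ht s
    rw [Subgroup.mem_subgroupOf] at ht ⊢
    exact hLn s s.2 _ ht
  set M : Subgroup ↥S := L.subgroupOf S ⊔ ⁅T₁, ⊤⁆ with hM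
  haveI hMn : M.Normal := by
    rw [hM]
    exact Subgroup.sup_normal _ _
  haveI hMTn : (M.subgroupOf T₁).Normal := Subgroup.normal_subgroupOf
  have hT₁p : IsPGroup p T₁ := hS.to_subgroup T₁
  have hcomm : ∀ a b : T₁, ⁅a, b⁆ ∈ M.subgroupOf T₁ := by
    intro a b
    rw [Subgroup.mem_subgroupOf]
    exact Subgroup.mem_sup_right (Subgroup.commutator_mem_commutator a.2 trivial)
  obtain ⟨A, _, e, π, -, hker, hexp⟩ := exists_comm_quotient hT₁p (M.subgroupOf T₁) hcomm
  have hinv : ∀ (s : ↥S) (t : T₁), π ⟨s * t * s⁻¹, hTn.conj_mem _ t.2 s⟩ = π t := by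
    intro s t
    have h1 : (⟨s * t * s⁻¹, hTn.conj_mem _ t.2 s⟩ : T₁) * t⁻¹ ∈ M.subgroupOf T₁ := by
      rw [Subgroup.mem_subgroupOf]
      have h2 := Subgroup.commutator_mem_commutator t.2 (Subgroup.mem_top s)
      have h3 := Subgroup.inv_mem _ h2
      have e' : (⁅(t : ↥S), s⁆)⁻¹ = ((⟨s * t * s⁻¹, hTn.conj_mem _ t.2 s⟩ : T₁) * t⁻¹ : T₁) := by
        apply Subtype.ext
        simp only [commutatorElement_def, Subgroup.coe_mul, Subgroup.coe_inv]
        group
      rw [e'] at h3
      exact Subgroup.mem_sup_right h3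
    rw [← hker, MonoidHom.mem_ker, map_mul, map_inv, mul_inv_eq_one] at h1
    exact h1
  obtain ⟨g, hg⟩ := extend_of_hyp hS hF hexp π hinv
  -- the kernel of the extension
  have hker2 : F.hyperfocalSubgroup p ≤ g.ker.map S.subtype := by
    refine h.trans (sup_le ?_ ?_)
    · intro w hw
      have hw1 : w ∈ S := hyp_le_S (hLh hw)
      refine ⟨⟨w, hw1⟩, ?_, rfl⟩
      have hw2 : (⟨w, hw1⟩ : ↥S) ∈ T₁ := hLh hw
      have h3 := hg ⟨⟨w, hw1⟩, hw2⟩
      rw [SetLike.mem_coe, MonoidHom.mem_ker]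
      show g ((⟨⟨w, hw1⟩, hw2⟩ : T₁) : ↥S) = 1
      rw [h3, ← MonoidHom.mem_ker, hker, Subgroup.mem_subgroupOf]
      exact Subgroup.mem_sup_left hw
    · rw [Subgroup.commutator_le]
      intro a ha b hb
      refine ⟨⁅(⟨a, ha⟩ : ↥S), (⟨b, hb⟩ : ↥S)⁆, ?_, rfl⟩
      rw [SetLike.mem_coe, MonoidHom.mem_ker, map_commutatorElement, commutatorElement_eq_one_iff_mul_comm]
      exact mul_comm _ _
  have hT₁M : T₁ ≤ M := by
    intro t ht
    have h3 : (t : Ω) ∈ g.ker.map S.subtype := hker2 ht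
    obtain ⟨t', ht', ht''⟩ := h3
    have e' : t' = t := Subtype.ext ht''
    rw [e'] at ht'
    have h4 := hg ⟨t, ht⟩
    have h5 : π ⟨t, ht⟩ = 1 := by
      rw [← h4]
      exact ht'
    rw [← MonoidHom.mem_ker, hker, Subgroup.mem_subgroupOf] at h5
    exact h5
  haveI : Group.IsNilpotent ↥S := hS.isNilpotent
  have hT₁L : T₁ ≤ L.subgroupOf S := le_of_le_sup_commutator hT₁M
  intro w hw
  have hw1 : w ∈ S := hyp_le_S hw
  have : (⟨w, hw1⟩ : ↥S) ∈ L.subgroupOf S := hT₁L hw
  exact this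

/-- **The key lemma on focal subgroups.** -/
theorem focal_le_of_le_frattini_sup [Finite S] [hp : Fact p.Prime] (hS : IsPGroup p S) (hF : F.IsSaturated p) {N : Subgroup Ω}
    (hN₁ : ⁅S, S⁆ ≤ N) (hN₂ : N ≤ F.focalSubgroup) (h : F.focalSubgroup ≤ (frattini ↥S).map S.subtype ⊔ N) :
    F.focalSubgroup ≤ N := by
  classical
  have hfocS : F.focalSubgroup ≤ S := by
    rw [focal_eq_hyp_sup hS hF]
    refine sup_le hyp_le_S ?_
    rw [← Subgroup.map_subtype_commutator]
    exact Subgroup.map_subtype_le _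
  have hNS : N ≤ S := hN₂.trans hfocS
  have hcomm : ∀ a b : ↥S, ⁅a, b⁆ ∈ N.subgroupOf S := by
    intro a b
    rw [Subgroup.mem_subgroupOf]
    exact hN₁ (Subgroup.commutator_mem_commutator a.2 b.2)
  haveI hNn : (N.subgroupOf S).Normal := by
    constructor
    intro t ht s
    have e' := hcomm s t
    have h1 := (N.subgroupOf S).mul_mem e' ht
    have e2 : ⁅s, t⁆ * t = s * t * s⁻¹ := by
      simp only [commutatorElement_def]
      group
    rwa [e2] at h1
  obtain ⟨A, _, e, π, hsurj, hker, hexp⟩ := exists_comm_quotient hS (N.subgroupOf S) hcomm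
  obtain ⟨n, D, hn, h1, h2⟩ := exists_top_transfer hS hF π
  obtain ⟨n', hn'⟩ := exists_pow_inverse hn e
  let ρ : ↥S →* A := (powMonoidHom n').comp D
  have hρ : ∀ t, ρ t = (D t) ^ n' := fun t => rfl
  let K : Subgroup A := (F.focalSubgroup.subgroupOf S).map π
  have hK : ∀ t : ↥S, ρ t * (π t)⁻¹ ∈ K := by
    intro t
    have h3 := h2 t (π t) K (fun k P φ hφ hk => by
      refine ⟨(⟨(t : Ω) ^ k, le_of_hom hφ hk⟩ : ↥S)⁻¹ * ⟨φ ⟨_, hk⟩, val_mem hφ _⟩, ?_, ?_⟩
      · rw [SetLike.mem_coe, Subgroup.mem_subgroupOf]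
        exact Subgroup.subset_closure ⟨P, φ, ⟨_, hk⟩, hφ, rfl⟩
      · rw [map_mul, map_inv, mul_comm]
        have e' : (⟨(t : Ω) ^ k, le_of_hom hφ hk⟩ : ↥S) = t ^ k := rfl
        rw [e', map_pow])
    have h4 := K.pow_mem h3 n'
    rw [mul_pow, inv_pow, hn' _ (hexp _)] at h4
    exact h4
  -- surjectivity
  have hR : (ρ.range.comap π) = ⊤ := by
    apply frattini_nongenerating
    rw [eq_top_iff]
    intro t _
    obtain ⟨w, hw, hwe⟩ := hK t
    rw [SetLike.mem_coe, Subgroup.mem_subgroupOf] at hw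
    have hw2 : (w : Ω) ∈ (frattini ↥S ⊔ N.subgroupOf S).map S.subtype := by
      rw [Subgroup.map_sup, Subgroup.subgroupOf_map_subtype, inf_eq_left.2 hNS]
      exact h hw
    obtain ⟨w', hw', hww⟩ := hw2
    have e' : w' = w := Subtype.ext hww
    rw [e', SetLike.mem_coe, Subgroup.mem_sup_of_normal_right] at hw'
    obtain ⟨u, hu, v, hv, huv⟩ := hw'
    have h5 : π v = 1 := by
      rw [← MonoidHom.mem_ker, hker]
      exact hv
    have h6 : π w = π u := by
      rw [← huv, map_mul, h5, mul_one]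
    rw [h6] at hwe
    -- `π (t * u) = ρ t`
    have h7 : t * u ∈ ρ.range.comap π := by
      rw [Subgroup.mem_comap, map_mul]
      refine ⟨t, ?_⟩
      rw [hwe]
      show ρ t = π t * (ρ t * (π t)⁻¹)
      rw [mul_comm (ρ t), mul_inv_cancel_left]
    have h8 : t = (t * u) * u⁻¹ := by group
    rw [h8]
    exact Subgroup.mul_mem _ (Subgroup.mem_sup_left h7) (Subgroup.mem_sup_right (Subgroup.inv_mem _ hu))
  have hρsurj : Function.Surjective ρ := by
    intro a
    obtain ⟨t, rfl⟩ := hsurj a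
    have : t ∈ ρ.range.comap π := by
      rw [hR]
      trivial
    exact this
  -- cardinalities
  have hc1 : Nat.card ρ.ker * Nat.card A = Nat.card ↥S := by
    have h3 := Subgroup.card_mul_index ρ.ker
    rw [Subgroup.index_ker, MonoidHom.range_eq_top.2 hρsurj, Subgroup.card_top] at h3
    exact h3
  have hc2 : Nat.card (N.subgroupOf S) * Nat.card A = Nat.card ↥S := by
    have h3 := Subgroup.card_mul_index π.ker
    rw [Subgroup.index_ker, MonoidHom.range_eq_top.2 hsurj, Subgroup.card_top, hker] at h3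
    exact h3
  haveI : Finite A := Finite.of_surjective π hsurj
  have hc3 : Nat.card ρ.ker = Nat.card (N.subgroupOf S) := by
    have hpos : 0 < Nat.card A := Nat.card_pos
    exact Nat.eq_of_mul_eq_mul_right hpos (hc1.trans hc2.symm)
  have hfkill : ∀ w ∈ F.focalSubgroup, ∀ hw : w ∈ S, (⟨w, hw⟩ : ↥S) ∈ ρ.ker := by
    intro w hw1 hw2
    rw [MonoidHom.mem_ker, hρ, h1 _ hw1, one_pow]
  have hle : N.subgroupOf S ≤ ρ.ker := by
    intro w hw
    exact hfkill _ (hN₂ hw) _
  have hEq : N.subgroupOf S = ρ.ker := Subgroup.eq_of_le_of_card_ge hle (le_of_eq hc3)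
  intro w hw
  have h3 := hfkill w hw (hfocS hw)
  rw [← hEq] at h3
  exact h3

/-- **Tate's theorem for fusion systems.** -/
theorem tate [Finite S] [hp : Fact p.Prime] (hS : IsPGroup p S) (hF : F.IsSaturated p) (H : FusionSystem S) (hH : H.IsSaturated p)
    (hHF : H.IsSubsystemOf F) :
    (((frattini ↥S).map S.subtype ⊔ F.focalSubgroup) = ((frattini ↥S).map S.subtype ⊔ H.focalSubgroup) ↔ F.focalSubgroup = H.focalSubgroup) ∧
      (F.focalSubgroup = H.focalSubgroup ↔ F.hyperfocalSubgroup p = H.hyperfocalSubgroup p) := by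
  have hfm := focal_mono hHF
  have hhm := hyp_mono (p := p) hHF
  refine ⟨⟨fun h => ?_, fun h => by rw [h]⟩, ⟨fun h => ?_, fun h => ?_⟩⟩
  · refine le_antisymm ?_ hfm
    refine focal_le_of_le_frattini_sup hS hF ?_ hfm ?_
    · rw [focal_eq_hyp_sup hS hH]
      exact le_sup_right
    · rw [← h]
      exact le_sup_right
  · refine le_antisymm ?_ hhm
    refine hyp_le_of_le_sup hS hF hhm (fun s hs x hx => conj_mem_hyp hs hx) ?_
    rw [← focal_eq_hyp_sup hS hH, ← h, focal_eq_hyp_sup hS hF]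
    exact le_sup_left
  · rw [focal_eq_hyp_sup hS hF, focal_eq_hyp_sup hS hH, h]

/-- **A saturated system whose focal subgroup lies in the Frattini subgroup is inner.** -/
theorem inner_of_focal_le_frattini [Finite S] [hp : Fact p.Prime] (hS : IsPGroup p S) (hF : F.IsSaturated p)
    (h : F.focalSubgroup ≤ (frattini ↥S).map S.subtype) (P : Subgroup Ω) : F.Hom P = (innerFusionSystem S).Hom P := by
  have hcS : ⁅S, S⁆ ≤ F.focalSubgroup := by
    rw [focal_eq_hyp_sup hS hF]
    exact le_sup_right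
  have h1 : F.focalSubgroup ≤ ⁅S, S⁆ := focal_le_of_le_frattini_sup hS hF le_rfl hcS (h.trans le_sup_left)
  have h2 : F.hyperfocalSubgroup p ≤ ⊥ := by
    refine hyp_le_of_le_sup hS hF bot_le (fun s hs x hx => ?_) ?_
    · rw [Subgroup.mem_bot] at hx ⊢
      rw [hx]
      group
    · rw [bot_sup_eq]
      refine le_trans ?_ h1
      rw [focal_eq_hyp_sup hS hF]
      exact le_sup_left
  ext φ
  constructor
  · intro hφ
    obtain ⟨g, hg, hgx⟩ := conj_mod_hyp hS hF hφ
    refine ⟨le_of_hom hφ, g⁻¹, S.inv_mem hg, fun x => ?_⟩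
    have h3 := h2 (hgx x)
    rw [Subgroup.mem_bot, mul_inv_eq_one] at h3
    rw [← h3]
    group
  · rintro ⟨hP, g, hg, hgx⟩
    have : φ = conjHom P g := by
      ext x
      rw [hgx, conjHom_apply]
    rw [this]
    exact F.conj_mem hP hg

end Cfsg.Agent.Lib.Fusion2
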