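/-
Strongly closed subgroups containing the derived subgroup contain the focal subgroup when `Aut_F(S)` acts trivially on the quotient;
consequently the characterization of the inner fusion systems.
-/
import Cfsg.Agent.Lib.Fusion2.Tate
import Cfsg.Agent.Lib.Fusion2.Transvection
import Cfsg.Agent.Lib.Fusion2.PStable
import Cfsg.Agent.Lib.Fusion.Admis3

set_option autoImplicit false

namespace Cfsg.Agent.Lib.Fusion2

open Cfsg Cfsg.FusionSystem Cfsg.Agent.Lib.Fusion
open scoped commutatorElement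

variable {Ω : Type*} [Group Ω] {S : Subgroup Ω} {F : FusionSystem S} {p : ℕ}

/-- Elements `x⁻¹ (s x s⁻¹)`. -/
theorem conj_quot_mem {D : Subgroup Ω} (hD1 : ⁅S, S⁆ ≤ D) {s t : Ω} (hs : s ∈ S) (ht : t ∈ S) : t⁻¹ * (s * t * s⁻¹) ∈ D := by
  have := hD1 (Subgroup.commutator_mem_commutator (S.inv_mem ht) hs)
  rw [commutatorElement_def, inv_inv] at this
  have e : t⁻¹ * (s * t * s⁻¹) = t⁻¹ * s * t * s⁻¹ := by group
  rwa [e]

/-- The step of the induction on the order of the source. -/
private theorem step_essential [Finite S] [Fact p.Prime] (hS : IsPGroup p S) (hF : F.IsSaturated p) {D : Subgroup Ω}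
    (hD1 : ⁅S, S⁆ ≤ D) (hsc : F.StronglyClosed D) {P : Subgroup Ω} (hE : F.IsFullyNormalized P) (hPne : P ≠ S)
    (hup : ∀ (Q : Subgroup Ω) (φ : Q →* Ω), φ ∈ F.Hom Q → Nat.card P < Nat.card Q → ∀ x : Q, (x : Ω)⁻¹ * φ x ∈ D)
    {α : MulAut P} (hα : α ∈ F.autGroup P) (x : P) : (x : Ω)⁻¹ * ((α x : P) : Ω) ∈ D := by
  classical
  have hPS : P ≤ S := hE.1
  obtain ⟨-, R, hR⟩ := (fullyNormalized_spec hS hF hE).2
  haveI : Finite P := finite_of_le hPS
  haveI : Finite (F.autGroup P) := inferInstance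
  let C : Subgroup (F.autGroup P) :=
    { carrier := {β | ∀ x : P, (x : Ω)⁻¹ * (((β : MulAut P) x : P) : Ω) ∈ D}
      one_mem' := fun x => by
        simp only [OneMemClass.coe_one, MulAut.one_apply, inv_mul_cancel]
        exact D.one_mem
      mul_mem' := fun {a b} ha hb x => by
        have h := D.mul_mem (hb x) (ha ((b : MulAut P) x))
        have e : (x : Ω)⁻¹ * (((b : MulAut P) x : P) : Ω) * ((((b : MulAut P) x : P) : Ω)⁻¹ * (((a : MulAut P) ((b : MulAut P) x) : P) : Ω)) =
            (x : Ω)⁻¹ * (((a : MulAut P) ((b : MulAut P) x) : P) : Ω) := by group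
        rw [e] at h
        exact h
      inv_mem' := fun {a} ha x => by
        have h := D.inv_mem (ha (((a⁻¹ : F.autGroup P) : MulAut P) x))
        have e0 : (a : MulAut P) (((a⁻¹ : F.autGroup P) : MulAut P) x) = x := by
          show ((a : MulAut P) * (a : MulAut P)⁻¹) x = x
          simp
        rw [e0] at h
        have e : ((((((a⁻¹ : F.autGroup P) : MulAut P) x : P) : Ω))⁻¹ * (x : Ω))⁻¹ = (x : Ω)⁻¹ * (((((a⁻¹ : F.autGroup P) : MulAut P) x : P) : Ω)) := by
          group
        rw [e] at h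
        exact h }
  have hCmem : ∀ β : F.autGroup P, β ∈ C ↔ ∀ x : P, (x : Ω)⁻¹ * (((β : MulAut P) x : P) : Ω) ∈ D := fun β => Iff.rfl
  haveI hCn : C.Normal := by
    constructor
    intro γ hγ β x
    set y : P := ((β⁻¹ : F.autGroup P) : MulAut P) x with hy
    have hβy : (β : MulAut P) y = x := by
      show ((β : MulAut P) * (β : MulAut P)⁻¹) x = x
      simp
    set u : P := y⁻¹ * (γ : MulAut P) y with hu
    have hu1 : (u : Ω) ∈ D := hγ y
    have hφ := autGroup_hom hPS β.2
    have hrs := hsc.2 (D ⊓ P) inf_le_left _ (restrict_mem hφ (inf_le_right : D ⊓ P ≤ P)) ⟨u, hu1, u.2⟩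
    have e1 : (((β * γ * β⁻¹ : F.autGroup P) : MulAut P) x : P) = x * (β : MulAut P) u := by
      show ((β : MulAut P) ((γ : MulAut P) (((β⁻¹ : F.autGroup P) : MulAut P) x))) = _
      rw [← hy, hu, map_mul, map_inv, hβy]
      simp
    rw [e1]
    have e2 : (x : Ω)⁻¹ * ((x * (β : MulAut P) u : P) : Ω) = ((β : MulAut P) u : P) := by
      simp
    rw [e2]
    exact hrs
  have hRC : (R : Subgroup (F.autGroup P)) ≤ C := by
    intro β hβ x
    rw [hR] at hβ
    obtain ⟨g, hg, hgx⟩ := mem_autInducedBy_iff.1 (Subgroup.mem_subgroupOf.1 hβ)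
    rw [hgx]
    exact conj_quot_mem hD1 hg (hPS x.2)
  have htop := R.normalizer_sup_eq_top' hRC
  have hNC : Subgroup.normalizer ((R : Subgroup (F.autGroup P)) : Set (F.autGroup P)) ≤ C := by
    intro β hβ x
    have hlt : P < S := lt_of_le_of_ne hPS hPne
    obtain ⟨y, hy, hyP⟩ := exists_mem_normalizerIn_not_mem hS hlt
    have hyS : y ∈ S := hy.1
    have hyn : y ∈ Subgroup.normalizer (P : Set Ω) := hy.2
    let c : F.autGroup P := ⟨autOfNormalizer hyn, autInducedBy_le_autGroup hPS (autOfNormalizer_mem_autInducedBy hyn hyS)⟩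
    have hc : c ∈ (R : Subgroup (F.autGroup P)) := by
      rw [hR]
      exact Subgroup.mem_subgroupOf.2 (autOfNormalizer_mem_autInducedBy hyn hyS)
    have hcc : β * c * β⁻¹ ∈ (R : Subgroup (F.autGroup P)) := (Subgroup.mem_normalizer_iff.1 hβ c).1 hc
    rw [hR] at hcc
    have hcc' : (β : MulAut P) * autOfNormalizer hyn * (β : MulAut P)⁻¹ ∈ autInducedBy S P := Subgroup.mem_subgroupOf.1 hcc
    obtain ⟨ψ, hψ, hψx, hyext⟩ := exists_ext_over hS hF hE β.2 hyS hyn hcc'
    have hφ := autGroup_hom hPS β.2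
    have hle := le_extender hφ
    have hltext : P < extender S P (P.subtype.comp (β : MulAut P).toMonoidHom) :=
      lt_of_le_of_ne hle (fun h => hyP (by rw [h]; exact hyext))
    have hcard : Nat.card P < Nat.card (extender S P (P.subtype.comp (β : MulAut P).toMonoidHom)) := by
      refine lt_of_not_ge fun hc => hltext.ne ?_
      exact eq_of_le_of_card_le hle (le_of_hom hψ) hc
    have h1 := hup _ ψ hψ hcard ⟨x, hle x.2⟩
    rw [hψx x] at h1
    exact h1
  have hCtop : C = ⊤ := by
    have h1 : Subgroup.normalizer (R : Set (F.autGroup P)) ⊔ C = C := sup_of_le_right hNC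
    exact h1.symm.trans htop
  have : (⟨α, hα⟩ : F.autGroup P) ∈ C := by
    rw [hCtop]
    trivial
  exact this x

/-- **A strongly closed subgroup containing the derived subgroup, modulo which `Aut_F(S)` is trivial, contains the focal subgroup.** -/
theorem focal_le_of_stronglyClosed [Finite S] [Fact p.Prime] (hS : IsPGroup p S) (hF : F.IsSaturated p) {D : Subgroup Ω}
    (hD1 : ⁅S, S⁆ ≤ D) (hsc : F.StronglyClosed D)
    (haut : ∀ α ∈ F.autGroup S, ∀ x : S, (x : Ω)⁻¹ * ((α : MulAut S) x : S) ∈ D) :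
    F.focalSubgroup ≤ D := by
  classical
  let Ap : ℕ → Prop := fun m => ∀ (P : Subgroup Ω) (φ : P →* Ω), φ ∈ F.Hom P → m ≤ Nat.card P → ∀ x : P, (x : Ω)⁻¹ * φ x ∈ D
  have hstep : ∀ m, Ap (m + 1) → Ap m := by
    intro m hup P φ hφ hm
    refine alperin_induction (Φ := fun P φ => m ≤ Nat.card P → ∀ x : P, (x : Ω)⁻¹ * φ x ∈ D) hS hF ?_ ?_ ?_ ?_ hφ hm
    · intro P g hP hg _ x
      rw [conjHom_apply]
      exact conj_quot_mem hD1 hg (hP x.2)
    · intro P Q φ ψ hφ hψ hφ' hψ' h hmP x
      haveI : Finite Q := finite_of_le (le_of_hom hψ)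
      have hcard : Nat.card P ≤ Nat.card Q := by
        refine Nat.card_le_card_of_injective (φ.codRestrict Q h) (fun a b hab => ?_)
        exact inj hφ (congrArg Subtype.val hab)
      have h1 := hφ' hmP x
      have h2 := hψ' (hmP.trans hcard) ⟨φ x, h x⟩
      have h3 := D.mul_mem h1 h2
      have e : (x : Ω)⁻¹ * φ x * ((φ x)⁻¹ * ψ ⟨φ x, h x⟩) = (x : Ω)⁻¹ * ψ ⟨φ x, h x⟩ := by group
      rw [e] at h3
      exact h3
    · rintro P φ ψ hφ _ hψ hφ' hmP ⟨_, x, rfl⟩
      haveI : Finite φ.range := finite_of_le (le_of_hom ‹ψ ∈ F.Hom φ.range›)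
      have hcard : Nat.card φ.range ≤ Nat.card P := by
        haveI : Finite P := finite_of_le (le_of_hom hφ)
        refine Nat.card_le_card_of_surjective φ.rangeRestrict φ.rangeRestrict_surjective
      have h1 := D.inv_mem (hφ' (hmP.trans hcard) x)
      have e : ((φ x)⁻¹ * ψ ⟨φ x, ⟨x, rfl⟩⟩ : Ω) = ((x : Ω)⁻¹ * φ x)⁻¹ := by
        rw [hψ x]; group
      show (φ x)⁻¹ * ψ ⟨φ x, ⟨x, rfl⟩⟩ ∈ D
      rw [e]
      exact h1
    · intro P hP α hα hmP x
      by_cases hPS : P = S
      · subst hPS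
        exact haut α hα x
      · have hE : F.IsFullyNormalized P := fullyNormalized_of_mem P hP
        exact step_essential hS hF hD1 hsc hE hPS (fun Q φ hφ hQ => hup Q φ hφ (by omega)) hα x
  have hvac : Ap (Nat.card S + 1) := by
    intro P φ hφ hm
    have := card_le_card_S (le_of_hom hφ)
    omega
  have hall : ∀ k, Ap (Nat.card S + 1 - k) := by
    intro k
    induction k with
    | zero => exact hvac
    | succ k ih =>
      by_cases hk : k < Nat.card S + 1
      · apply hstep
        have e : Nat.card S + 1 - (k + 1) + 1 = Nat.card S + 1 - k := by omega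
        rw [e]
        exact ih
      · have e : Nat.card S + 1 - (k + 1) = Nat.card S + 1 - k := by omega
        rw [e]
        exact ih
  have h0 : Ap 0 := by
    have := hall (Nat.card S + 1)
    simpa using this
  rw [focalSubgroup, Subgroup.closure_le]
  rintro _ ⟨P, φ, x, hφ, rfl⟩
  exact h0 P φ hφ (Nat.zero_le _) x

/-- From the hypothesis on the normalizer system of `S` to `Aut_F(S)`. -/
theorem aut_inner_of_normalizer [Finite S] (hN : ∀ N : FusionSystem (normalizerIn S S), F.IsNormalizerSystem S N → ∀ P : Subgroup Ω,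
      N.Hom P = (innerFusionSystem (normalizerIn S S)).Hom P) {α : MulAut S} (hα : α ∈ F.autGroup S) :
    ∃ g ∈ S, ∀ x : S, ((α x : S) : Ω) = g * x * g⁻¹ := by
  obtain ⟨N, hNn⟩ := kSystem_normalizer F (le_refl S)
  have h1 := mem_normalizer_autGroup (le_refl S) (le_refl S) hNn hα hα (fun x => rfl)
  have h2 : S.subtype.comp α.toMonoidHom ∈ N.Hom S := (mem_autGroup_iff (le_normalizerIn (le_refl S))).1 h1
  rw [hN N hNn] at h2
  obtain ⟨-, g, hg, hgx⟩ := h2
  exact ⟨g, hg.1, hgx⟩

/-- **Characterization of inner systems.** -/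
theorem inner_iff [Finite S] [Fact p.Prime] (hS : IsPGroup p S) (hF : F.IsSaturated p) :
    (∀ P : Subgroup Ω, F.Hom P = (innerFusionSystem S).Hom P) ↔
      (∀ N : FusionSystem (normalizerIn S S), F.IsNormalizerSystem S N → ∀ P : Subgroup Ω,
        N.Hom P = (innerFusionSystem (normalizerIn S S)).Hom P) ∧ F.StronglyClosed ((frattini ↥S).map S.subtype) := by
  have hN' : normalizerIn S S = S := le_antisymm (normalizerIn_le S) (le_normalizerIn le_rfl)
  have hcomm : ⁅S, S⁆ ≤ (frattini ↥S).map S.subtype := by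
    rw [← Subgroup.map_subtype_commutator]
    exact Subgroup.map_mono (haveI := hS.isNilpotent; Cfsg.Agent.Lib.Basic.commutator_le_frattini_of_isNilpotent)
  constructor
  · intro h
    refine ⟨fun N hN P => ?_, Subgroup.map_subtype_le _, fun R hR φ hφ x => ?_⟩
    · ext φ
      rw [hN P]
      constructor
      · rintro ⟨h1, h2, -, -⟩
        rw [h P] at h1
        obtain ⟨-, g, hg, hgx⟩ := h1
        exact ⟨h2, g, by rw [hN']; exact hg, hgx⟩
      · rintro ⟨h1, g, hg, hgx⟩
        have hgS : g ∈ S := by rw [hN'] at hg; exact hg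
        have hPS : P ≤ S := by rw [hN'] at h1; exact h1
        have hφe : φ = conjHom P g := by
          ext x
          rw [hgx, conjHom_apply]
        refine ⟨by rw [hφe]; exact F.conj_mem hPS hgS, h1, fun x => ?_, ?_⟩
        · rw [hgx, hN']
          exact S.mul_mem (S.mul_mem hgS (hPS x.2)) (S.inv_mem hgS)
        · refine ⟨conjHom _ g, F.conj_mem (sup_le hPS le_rfl) hgS, fun x => ?_, ?_⟩
          · rw [hgx, conjHom_apply]
            rfl
          · ext y
            constructor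
            · rintro ⟨x, hx, rfl⟩
              rw [conjHom_apply]
              exact S.mul_mem (S.mul_mem hgS hx) (S.inv_mem hgS)
            · intro hy
              refine ⟨⟨g⁻¹ * y * g, le_sup_right (a := P) (S.mul_mem (S.mul_mem (S.inv_mem hgS) hy) hgS)⟩,
                S.mul_mem (S.mul_mem (S.inv_mem hgS) hy) hgS, ?_⟩
              rw [conjHom_apply]
              group
    · have h1 := hφ
      rw [h R] at h1
      obtain ⟨hRS, g, hg, hgx⟩ := h1
      rw [hgx]
      have hx := hR x.2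
      obtain ⟨y, hy, hyx⟩ := hx
      refine ⟨(⟨g, hg⟩ : ↥S) * y * (⟨g, hg⟩ : ↥S)⁻¹, (inferInstance : (frattini ↥S).Normal).conj_mem _ hy _, ?_⟩
      have hyx' : (y : Ω) = x := hyx
      simp [hyx']
  · rintro ⟨hN, hsc⟩
    refine inner_of_focal_le_frattini hS hF (focal_le_of_stronglyClosed hS hF hcomm hsc (fun α hα x => ?_))
    obtain ⟨g, hg, hgx⟩ := aut_inner_of_normalizer hN hα
    rw [hgx]
    exact conj_quot_mem hcomm hg x.2

/-- **`N_F(Q)` is inner for `S′ ≤ Q ≤ Φ(S)` when `N_F(S)` is.** -/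
theorem normalizer_inner_of [Finite S] [Fact p.Prime] (hS : IsPGroup p S) (hF : F.IsSaturated p)
    (hN : ∀ N : FusionSystem (normalizerIn S S), F.IsNormalizerSystem S N → ∀ P : Subgroup Ω,
      N.Hom P = (innerFusionSystem (normalizerIn S S)).Hom P) {Q : Subgroup Ω} (h1 : ⁅S, S⁆ ≤ Q)
    (h2 : Q ≤ (frattini ↥S).map S.subtype) (N : FusionSystem (normalizerIn S Q)) (hNQ : F.IsNormalizerSystem Q N)
    (P : Subgroup Ω) : N.Hom P = (innerFusionSystem (normalizerIn S Q)).Hom P := by
  have hQS : Q ≤ S := h2.trans (Subgroup.map_subtype_le _)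
  have hcon : ∀ s ∈ S, ∀ x ∈ Q, s * x * s⁻¹ ∈ Q := by
    intro s hs x hx
    have h3 := Q.mul_mem (h1 (Subgroup.commutator_mem_commutator hs (hQS hx))) hx
    have e : ⁅s, x⁆ * x = s * x * s⁻¹ := by
      simp only [commutatorElement_def]
      group
    rwa [e] at h3
  have hNS : normalizerIn S Q = S := by
    refine le_antisymm (normalizerIn_le Q) (fun s hs => ⟨hs, ?_⟩)
    show s ∈ Subgroup.normalizer (Q : Set Ω)
    rw [Subgroup.mem_normalizer_iff]
    intro x
    constructor
    · exact hcon s hs x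
    · intro hx
      have := hcon s⁻¹ (S.inv_mem hs) _ hx
      simpa [mul_assoc] using this
  have hfn : F.IsFullyNormalized Q := by
    refine ⟨hQS, fun Q' _ => ?_⟩
    rw [hNS]
    exact card_le_of_le (normalizerIn_le Q') le_rfl
  have hNsat : N.IsSaturated p := isSaturated_normalizerSystem hS hF hfn hNQ
  have key : ∀ (S' : Subgroup Ω) (_ : S' = S) (N₁ : FusionSystem S'), (∀ P, N₁.Hom P = F.normalizerHom Q P) → N₁.IsSaturated p →
      N₁.Hom P = (innerFusionSystem S').Hom P := by
    intro S' hS' N₁ hN₁ hs₁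
    clear hNsat hNQ N hNS
    subst hS'
    refine inner_of_focal_le_frattini hS hs₁ ?_ P
    refine le_trans (focal_le_of_stronglyClosed hS hs₁ h1 ⟨hQS, fun R hR φ hφ x => ?_⟩ (fun α hα x => ?_)) h2
    · rw [hN₁ R] at hφ
      obtain ⟨-, -, -, ψ, -, hag, hmap⟩ := hφ
      rw [← hag x]
      have h5 : ψ (Subgroup.inclusion le_sup_left x) ∈ Subgroup.map ψ (Q.subgroupOf (R ⊔ Q)) := ⟨_, hR x.2, rfl⟩
      rw [hmap] at h5
      exact h5
    · have h3 : S'.subtype.comp α.toMonoidHom ∈ N₁.Hom S' := (mem_autGroup_iff le_rfl).1 hα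
      rw [hN₁ S'] at h3
      have h4 : α ∈ F.autGroup S' := (mem_autGroup_iff le_rfl).2 h3.1
      obtain ⟨g, hg, hgx⟩ := aut_inner_of_normalizer hN h4
      rw [hgx]
      exact conj_quot_mem h1 hg x.2
  exact key _ hNS N hNQ hNsat

end Cfsg.Agent.Lib.Fusion2
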