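/-
Ito-type machinery: groups of `p'`-automorphisms of a `p`-group, reduction to invariant subgroups of exponent `p` (of exponent dividing `4`
for `p = 2`).
-/
import Cfsg.Agent.Lib.Fusion2.Chain
import Cfsg.Agent.Lib.Coprime.Comm
import Cfsg.Agent.Lib.OddLocal.PGroup

set_option autoImplicit false

namespace Cfsg.Agent.Lib.Fusion2

open scoped commutatorElement

variable {U : Type*} [Group U]

/-- The exponent of the reduction: `p`, or `4` for `p = 2`. -/
def itoExp (p : ℕ) : ℕ := if p = 2 then 4 else p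

theorem itoExp_two : itoExp 2 = 4 := rfl

theorem itoExp_of_ne {p : ℕ} (hp : p ≠ 2) : itoExp p = p := if_neg hp

theorem dvd_itoExp (p : ℕ) : p ∣ itoExp p := by
  by_cases hp : p = 2
  · subst hp
    rw [itoExp_two]
    norm_num
  · rw [itoExp_of_ne hp]

/-- The subgroup generated by the `p`-th powers and the commutators of `Y` (the Frattini subgroup, for a `p`-group `Y`). -/
def pFrat (p : ℕ) (Y : Subgroup U) : Subgroup U :=
  Subgroup.closure ({y | ∃ x ∈ Y, y = x ^ p} ∪ {y | ∃ x ∈ Y, ∃ z ∈ Y, y = ⁅x, z⁆})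

theorem pow_mem_pFrat {p : ℕ} {Y : Subgroup U} {x : U} (hx : x ∈ Y) : x ^ p ∈ pFrat p Y :=
  Subgroup.subset_closure (Or.inl ⟨x, hx, rfl⟩)

theorem commutator_mem_pFrat {p : ℕ} {Y : Subgroup U} {x z : U} (hx : x ∈ Y) (hz : z ∈ Y) : ⁅x, z⁆ ∈ pFrat p Y :=
  Subgroup.subset_closure (Or.inr ⟨x, hx, z, hz, rfl⟩)

theorem pFrat_le (p : ℕ) (Y : Subgroup U) : pFrat p Y ≤ Y := by
  rw [pFrat, Subgroup.closure_le]
  rintro _ (⟨x, hx, rfl⟩ | ⟨x, hx, z, hz, rfl⟩)
  · exact Y.pow_mem hx p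
  · exact Y.mul_mem (Y.mul_mem (Y.mul_mem hx hz) (Y.inv_mem hx)) (Y.inv_mem hz)

/-- A monoid endomorphism-like map preserving `Y` preserves `pFrat`. -/
theorem map_mem_pFrat {p : ℕ} {Y : Subgroup U} (α : U →* U) (hα : ∀ y ∈ Y, α y ∈ Y) {z : U} (hz : z ∈ pFrat p Y) :
    α z ∈ pFrat p Y := by
  have hle : pFrat p Y ≤ (pFrat p Y).comap α := by
    refine (Subgroup.closure_le _).2 ?_
    rintro _ (⟨x, hx, rfl⟩ | ⟨x, hx, w, hw, rfl⟩)
    · show α (x ^ p) ∈ pFrat p Y
      rw [map_pow]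
      exact pow_mem_pFrat (hα x hx)
    · show α ⁅x, w⁆ ∈ pFrat p Y
      rw [map_commutatorElement]
      exact commutator_mem_pFrat (hα x hx) (hα w hw)
  exact hle hz

theorem pFrat_lt {p : ℕ} [Fact p.Prime] [Finite U] {Y : Subgroup U} (hY : IsPGroup p Y) (hne : Y ≠ ⊥) :
    pFrat p Y < Y := by
  refine lt_of_le_of_ne (pFrat_le p Y) ?_
  intro heq
  haveI : Nontrivial Y := (Subgroup.nontrivial_iff_ne_bot Y).2 hne
  obtain ⟨M, hMn, hMi⟩ := Cfsg.Agent.Lib.OddLocal.exists_normal_index_prime p hY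
  have hle : pFrat p Y ≤ M.map Y.subtype := by
    rw [pFrat, Subgroup.closure_le]
    rintro _ (⟨x, hx, rfl⟩ | ⟨x, hx, z, hz, rfl⟩)
    · exact ⟨_, (Cfsg.Agent.Lib.OddLocal.index_prime_mem p M hMi ⟨x, hx⟩ ⟨x, hx⟩).1, rfl⟩
    · exact ⟨_, (Cfsg.Agent.Lib.OddLocal.index_prime_mem p M hMi ⟨x, hx⟩ ⟨z, hz⟩).2, rfl⟩
  rw [heq] at hle
  have htop : M = ⊤ := by
    rw [eq_top_iff]
    intro x _
    obtain ⟨y, hy, hyx⟩ := hle x.2
    have : y = x := Subtype.ext hyx
    rwa [← this]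
  rw [htop, Subgroup.index_top] at hMi
  exact (Fact.out : p.Prime).one_lt.ne hMi

/-- Key structure lemma: if `G` is a set of automorphisms preserving `Y`, fixing `pFrat Y` pointwise, and `Y = [Y, G]`, then `Y`
has exponent dividing `itoExp p`. -/
theorem pow_itoExp_eq_one {p : ℕ} [hp : Fact p.Prime] {Y : Subgroup U} (G : Set (MulAut U))
    (hinv : ∀ δ ∈ G, ∀ y ∈ Y, δ y ∈ Y) (hfix : ∀ δ ∈ G, ∀ z ∈ pFrat p Y, δ z = z)
    (hgen : Y ≤ Subgroup.closure {w | ∃ x ∈ Y, ∃ δ ∈ G, w = x⁻¹ * δ x}) : ∀ y ∈ Y, y ^ itoExp p = 1 := by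
  -- `pFrat` is central in `Y`
  have hconj : ∀ x ∈ Y, ∀ z ∈ pFrat p Y, x * z * x⁻¹ ∈ pFrat p Y := by
    intro x hx z hz
    have hm : (MulAut.conj x).toMonoidHom z ∈ pFrat p Y := by
      refine map_mem_pFrat _ (fun y hy => ?_) hz
      exact Y.mul_mem (Y.mul_mem hx hy) (Y.inv_mem hx)
    exact hm
  have hcent : ∀ g ∈ Y, ∀ z ∈ pFrat p Y, g * z = z * g := by
    have hle : Y ≤ Subgroup.centralizer (pFrat p Y : Set U) := by
      refine hgen.trans ((Subgroup.closure_le _).2 ?_)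
      rintro _ ⟨x, hx, δ, hδ, rfl⟩
      show _ ∈ Subgroup.centralizer (pFrat p Y : Set U)
      rw [Subgroup.mem_centralizer_iff]
      intro z hz
      have h1 := hfix δ hδ _ (hconj x hx z hz)
      have h2 := hfix δ hδ z hz
      rw [map_mul, map_mul, map_inv, h2] at h1
      -- `δ x * z * (δ x)⁻¹ = x * z * x⁻¹`
      have h3 : x⁻¹ * δ x * z = z * (x⁻¹ * δ x) := by
        have h4 : δ x * z = x * z * x⁻¹ * δ x := by
          rw [← h1]
          group
        calc x⁻¹ * δ x * z = x⁻¹ * (δ x * z) := by group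
          _ = x⁻¹ * (x * z * x⁻¹ * δ x) := by rw [h4]
          _ = z * (x⁻¹ * δ x) := by group
      exact h3.symm
    intro g hg z hz
    exact ((Subgroup.mem_centralizer_iff.1 (hle hg)) z hz).symm
  -- the power formula
  have hpow : ∀ x ∈ Y, ∀ y ∈ Y, (x * y) ^ itoExp p = x ^ itoExp p * y ^ itoExp p := by
    intro x hx y hy
    set c := ⁅y, x⁆ with hc
    have hcF : c ∈ pFrat p Y := commutator_mem_pFrat hy hx
    have hyx : y * x = c * x * y := by
      rw [hc, commutatorElement_def]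
      group
    have hcx : c * x = x * c := (hcent x hx c hcF).symm
    have hcy : c * y = y * c := (hcent y hy c hcF).symm
    have e1 := Cfsg.Agent.Lib.Coprime.mul_pow_of_commutator_central x y c hyx hcx hcy (itoExp p)
    have e2 := Cfsg.Agent.Lib.Coprime.conj_pow_of_commutator_central x y c hyx hcx p
    have e3 : y * x ^ p * y⁻¹ = x ^ p := by
      have := hcent y hy _ (pow_mem_pFrat (p := p) hx)
      rw [this]
      group
    have hcp : c ^ p = 1 := by
      rw [e3] at e2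
      exact (mul_eq_right.mp e2.symm)
    have hcc : c ^ (itoExp p).choose 2 = 1 := by
      by_cases h2 : p = 2
      · subst h2
        rw [itoExp_two]
        have : Nat.choose 4 2 = 2 * 3 := by decide
        rw [this, pow_mul, hcp, one_pow]
      · rw [itoExp_of_ne h2]
        have hd : p ∣ p.choose 2 :=
          hp.out.dvd_choose_self (by norm_num) (lt_of_le_of_ne hp.out.two_le (Ne.symm h2))
        obtain ⟨k, hk⟩ := hd
        rw [hk, pow_mul, hcp, one_pow]
    rw [hcc, mul_one] at e1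
    exact e1
  -- powers `x ^ e` lie in `pFrat`
  have hpF : ∀ x ∈ Y, x ^ itoExp p ∈ pFrat p Y := by
    intro x hx
    obtain ⟨k, hk⟩ := dvd_itoExp p
    rw [hk, pow_mul]
    exact Subgroup.pow_mem _ (pow_mem_pFrat hx) k
  -- the generators have order dividing `e`, conclude by induction
  have hmain : ∀ y ∈ Subgroup.closure {w | ∃ x ∈ Y, ∃ δ ∈ G, w = x⁻¹ * δ x}, y ∈ Y ∧ y ^ itoExp p = 1 := by
    intro y hy
    induction hy using Subgroup.closure_induction with
    | mem w hw =>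
      obtain ⟨x, hx, δ, hδ, rfl⟩ := hw
      have hδx := hinv δ hδ x hx
      refine ⟨Y.mul_mem (Y.inv_mem hx) hδx, ?_⟩
      rw [hpow _ (Y.inv_mem hx) _ hδx, inv_pow, ← map_pow, hfix δ hδ _ (hpF x hx), inv_mul_cancel]
    | one => exact ⟨Y.one_mem, one_pow _⟩
    | mul a b _ _ ha hb =>
      refine ⟨Y.mul_mem ha.1 hb.1, ?_⟩
      rw [hpow a ha.1 b hb.1, ha.2, hb.2, one_mul]
    | inv a _ ha =>
      refine ⟨Y.inv_mem ha.1, ?_⟩
      rw [inv_pow, ha.2, inv_one]
  exact fun y hy => (hmain y (hgen hy)).2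

/-- The general induction. `A` is a set of automorphisms, `G ⊆ A` a set of automorphisms of order prime to `p`, stable under conjugation by `A`.
It suffices to treat the `A`-invariant subgroups `Y ≤ E` with `Y = [Y, G]`, of exponent dividing `itoExp p`, all of whose proper `A`-invariant
subgroups are fixed pointwise by `G`. -/
theorem ito_fix {p : ℕ} [Fact p.Prime] [Finite U] (hU : IsPGroup p U) (A G : Set (MulAut U))
    (hcop : ∀ δ ∈ G, Nat.Coprime (orderOf δ) p) (hGinv : ∀ δ ∈ G, ∀ α ∈ A, α * δ * α⁻¹ ∈ G) (hGA : G ⊆ A)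
    (E : Subgroup U)
    (H : ∀ Y : Subgroup U, Y ≤ E → (∀ α ∈ A, ∀ y ∈ Y, α y ∈ Y) →
      Y ≤ Subgroup.closure {w | ∃ x ∈ Y, ∃ δ ∈ G, w = x⁻¹ * δ x} → (∀ y ∈ Y, y ^ itoExp p = 1) →
      (∀ Y' : Subgroup U, Y' < Y → (∀ α ∈ A, ∀ y ∈ Y', α y ∈ Y') → ∀ δ ∈ G, ∀ y ∈ Y', δ y = y) →
      ∀ δ ∈ G, ∀ y ∈ Y, δ y = y) :
    ∀ Y : Subgroup U, Y ≤ E → (∀ α ∈ A, ∀ y ∈ Y, α y ∈ Y) → ∀ δ ∈ G, ∀ y ∈ Y, δ y = y := by
  have key : ∀ n : ℕ, ∀ Y : Subgroup U, Nat.card Y = n → Y ≤ E → (∀ α ∈ A, ∀ y ∈ Y, α y ∈ Y) →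
      ∀ δ ∈ G, ∀ y ∈ Y, δ y = y := by
    intro n
    induction n using Nat.strong_induction_on with
    | _ n IH =>
      intro Y hn hYE hYinv
      have hind : ∀ Y' : Subgroup U, Y' < Y → (∀ α ∈ A, ∀ y ∈ Y', α y ∈ Y') → ∀ δ ∈ G, ∀ y ∈ Y', δ y = y := by
        intro Y' hlt hinv'
        have hcard : Nat.card Y' < n := by
          rw [← hn]
          exact lt_of_le_of_ne (Subgroup.card_le_of_le hlt.le)
            (fun e => hlt.ne (Subgroup.eq_of_le_of_card_ge hlt.le e.ge))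
        exact IH _ hcard Y' rfl (hlt.le.trans hYE) hinv'
      set W : Subgroup U := Subgroup.closure {w | ∃ x ∈ Y, ∃ δ ∈ G, w = x⁻¹ * δ x} with hW
      have hWY : W ≤ Y := by
        rw [hW, Subgroup.closure_le]
        rintro _ ⟨x, hx, δ, hδ, rfl⟩
        exact Y.mul_mem (Y.inv_mem hx) (hYinv δ (hGA hδ) x hx)
      by_cases hWeq : W = Y
      · by_cases hbot : Y = ⊥
        · intro δ _ y hy
          rw [hbot, Subgroup.mem_bot] at hy
          rw [hy, map_one]
        · have hYp : IsPGroup p Y := hU.to_subgroup Y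
          have hlt := pFrat_lt hYp hbot
          have hFinv : ∀ α ∈ A, ∀ y ∈ pFrat p Y, α y ∈ pFrat p Y := fun α hα y hy =>
            map_mem_pFrat (α.toMonoidHom) (hYinv α hα) hy
          have hFfix := hind _ hlt hFinv
          have hexp := pow_itoExp_eq_one G (fun δ hδ y hy => hYinv δ (hGA hδ) y hy) hFfix hWeq.ge
          exact H Y hYE hYinv hWeq.ge hexp hind
      · have hlt : W < Y := lt_of_le_of_ne hWY hWeq
        have hWinv : ∀ α ∈ A, ∀ y ∈ W, α y ∈ W := by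
          intro α hα y hy
          have hle : W ≤ W.comap α.toMonoidHom := by
            rw [hW, Subgroup.closure_le]
            rintro _ ⟨x, hx, δ, hδ, rfl⟩
            apply Subgroup.subset_closure
            refine ⟨α x, hYinv α hα x hx, α * δ * α⁻¹, hGinv δ hδ α hα, ?_⟩
            simp
          exact hle hy
        have hWfix := hind W hlt hWinv
        intro δ hδ x hx
        have hk : δ ^ orderOf δ = 1 := pow_orderOf_eq_one δ
        refine fixed_of_coprime hU δ hk (hcop δ hδ) x (hWfix δ hδ _ ?_)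
        exact Subgroup.subset_closure ⟨x, hx, δ, hδ, rfl⟩
  exact fun Y hYE hinv => key _ Y rfl hYE hinv

/-- Gorenstein 5.3.10 (and its variant for `p = 2`): an automorphism of order prime to `p` of a `p`-group, preserving `E`, fixing each element of `E`
of order dividing `itoExp p`, fixes `E` pointwise. -/
theorem fix_of_fix_exp {p : ℕ} [Fact p.Prime] [Finite U] (hU : IsPGroup p U) (δ : MulAut U)
    (hcop : Nat.Coprime (orderOf δ) p) (E : Subgroup U) (hE : ∀ y ∈ E, δ y ∈ E)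
    (hfix : ∀ y ∈ E, y ^ itoExp p = 1 → δ y = y) : ∀ y ∈ E, δ y = y := by
  refine ito_fix hU {δ} {δ} ?_ ?_ (fun _ h => h) E ?_ E le_rfl ?_ δ rfl
  · rintro _ rfl
    exact hcop
  · rintro _ rfl _ rfl
    simp
  · rintro Y hYE - - hexp - _ rfl y hy
    exact hfix y (hYE hy) (hexp y hy)
  · rintro _ rfl y hy
    exact hE y hy

end Cfsg.Agent.Lib.Fusion2
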