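/-
Ito-type reduction for saturated fusion systems: `S ≤ U` for `U` centric radical once the `p'`-elements of
`O^{p'}(Aut_F(U))` are trivial; level arguments along the upper central series of `S`.
-/
import Cfsg.Agent.Lib.Fusion2.Ito
import Cfsg.Agent.Lib.Fusion.NormalChar

set_option autoImplicit false

namespace Cfsg.Agent.Lib.Fusion2

open Cfsg Cfsg.FusionSystem Cfsg.Agent.Lib.Fusion

section abstract

variable {X : Type*} [Group X] {p : ℕ}

/-- The subgroup generated by the elements of `p`-power order of `A`. -/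
def pEltsOf (p : ℕ) (A : Subgroup X) : Subgroup X :=
  Subgroup.closure {β | β ∈ A ∧ ∃ k : ℕ, β ^ (p ^ k) = 1}

theorem pEltsOf_le (A : Subgroup X) : pEltsOf p A ≤ A :=
  (Subgroup.closure_le _).2 fun _ h => h.1

theorem pEltsOf_conj {A : Subgroup X} {α : X} (hα : α ∈ A) {β : X} (hβ : β ∈ pEltsOf p A) :
    α * β * α⁻¹ ∈ pEltsOf p A := by
  have hle : pEltsOf p A ≤ (pEltsOf p A).comap (MulAut.conj α).toMonoidHom := by
    refine (Subgroup.closure_le _).2 ?_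
    rintro b ⟨hb, k, hk⟩
    refine Subgroup.subset_closure ⟨A.mul_mem (A.mul_mem hα hb) (A.inv_mem hα), k, ?_⟩
    have : (α * b * α⁻¹) ^ (p ^ k) = α * b ^ (p ^ k) * α⁻¹ := by
      simp [conj_pow]
    show (α * b * α⁻¹) ^ (p ^ k) = 1
    rw [this, hk]
    simp
  exact hle hβ

theorem pEltsOf_normal (A : Subgroup X) : ((pEltsOf p A).subgroupOf A).Normal := by
  constructor
  rintro ⟨β, hβA⟩ hβ ⟨α, hα⟩
  exact pEltsOf_conj hα hβ

theorem le_pEltsOf {A T : Subgroup X} (hTA : T ≤ A) (hT : IsPGroup p T) : T ≤ pEltsOf p A := by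
  intro t ht
  obtain ⟨k, hk⟩ := hT ⟨t, ht⟩
  refine Subgroup.subset_closure ⟨hTA ht, k, ?_⟩
  exact congrArg Subtype.val hk

variable [Fact p.Prime]

/-- Finite group `K` all of whose `p'`-elements are trivial is a `p`-group. -/
theorem isPGroup_of_pprime_trivial [Finite X] (K : Subgroup X)
    (h : ∀ δ ∈ K, Nat.Coprime (orderOf δ) p → δ = 1) : IsPGroup p K := by
  rintro ⟨β, hβ⟩
  have hpos : 0 < orderOf β := orderOf_pos β
  obtain ⟨e, m, hm, hord⟩ := Nat.exists_eq_pow_mul_and_not_dvd hpos.ne' p (Fact.out : p.Prime).ne_one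
  have hcop : Nat.Coprime m p := ((Fact.out : p.Prime).coprime_iff_not_dvd.mpr hm).symm
  have hpe : 0 < p ^ e := pow_pos (Fact.out : p.Prime).pos e
  have h1 : orderOf (β ^ (p ^ e)) = m := by
    rw [orderOf_pow' _ hpe.ne', hord, Nat.gcd_eq_right (Dvd.intro _ rfl)]
    exact Nat.mul_div_cancel_left m hpe
  have h2 := h _ (K.pow_mem hβ _) (by rwa [h1])
  exact ⟨e, Subtype.ext h2⟩

/-- A subgroup `C` normalized by `A` and containing a Sylow `p`-subgroup of `A` contains each `p`-element of `A`. -/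
theorem pEltsOf_le_of_sylow [Finite X] {A T C : Subgroup X} (hT : ∃ R : Sylow p A, (R : Subgroup A) = T.subgroupOf A)
    (hTC : T ≤ C) (hC : ∀ α ∈ A, ∀ β ∈ C, α * β * α⁻¹ ∈ C) : pEltsOf p A ≤ C := by
  refine (Subgroup.closure_le _).2 ?_
  rintro β ⟨hβ, k, hk⟩
  have hzp : IsPGroup p (Subgroup.zpowers β) := by
    rintro ⟨_, n, rfl⟩
    refine ⟨k, Subtype.ext ?_⟩
    show (β ^ n) ^ (p ^ k) = 1
    rw [← zpow_natCast, ← zpow_mul, mul_comm, zpow_mul, zpow_natCast, hk, one_zpow]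
  obtain ⟨c, hc, hcu⟩ := exists_conj_of_isSylowIn hT hzp (Subgroup.zpowers_le.2 hβ)
  have h1 := hTC (hcu β (Subgroup.mem_zpowers β))
  have h2 := hC c⁻¹ (A.inv_mem hc) _ h1
  have h3 : c⁻¹ * (c * β * c⁻¹) * c⁻¹⁻¹ = β := by group
  rwa [h3] at h2

/-- The `p'`-elements of a subgroup. -/
def pprimeOf (p : ℕ) (K : Subgroup X) : Set X := {δ | δ ∈ K ∧ Nat.Coprime (orderOf δ) p}

theorem orderOf_conj_eq (α β : X) : orderOf (α * β * α⁻¹) = orderOf β := by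
  have : α * β * α⁻¹ = MulAut.conj α β := rfl
  rw [this]
  exact MulEquiv.orderOf_eq _ _

end abstract

/-- The stabilizer in `A` of `Y / Y'`. -/
def stabSub {U : Type*} [Group U] (A : Subgroup (MulAut U)) (Y Y' : Subgroup U) (hY : ∀ α ∈ A, ∀ y ∈ Y, α y ∈ Y) :
    Subgroup (MulAut U) where
  carrier := {β | β ∈ A ∧ ∀ y ∈ Y, y⁻¹ * β y ∈ Y'}
  one_mem' := ⟨A.one_mem, fun y _ => by simp⟩
  mul_mem' := by
    rintro a b ⟨ha, ha'⟩ ⟨hb, hb'⟩
    refine ⟨A.mul_mem ha hb, fun y hy => ?_⟩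
    have h1 := ha' _ (hY b hb y hy)
    have h2 := hb' y hy
    have h3 : y⁻¹ * (a * b) y = (y⁻¹ * b y) * ((b y)⁻¹ * a (b y)) := by
      simp [MulAut.mul_apply, mul_assoc]
    rw [h3]
    exact Y'.mul_mem h2 h1
  inv_mem' := by
    rintro a ⟨ha, ha'⟩
    refine ⟨A.inv_mem ha, fun y hy => ?_⟩
    have hz := hY a⁻¹ (A.inv_mem ha) y hy
    have h1 := ha' _ hz
    have h2 : y⁻¹ * a⁻¹ y = ((a⁻¹ y)⁻¹ * a (a⁻¹ y))⁻¹ := by
      simp
    rw [h2]
    exact Y'.inv_mem h1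

theorem stabSub_conj {U : Type*} [Group U] {A : Subgroup (MulAut U)} {Y Y' : Subgroup U}
    (hY : ∀ α ∈ A, ∀ y ∈ Y, α y ∈ Y) (hY' : ∀ α ∈ A, ∀ y ∈ Y', α y ∈ Y') {α : MulAut U} (hα : α ∈ A)
    {β : MulAut U} (hβ : β ∈ stabSub A Y Y' hY) : α * β * α⁻¹ ∈ stabSub A Y Y' hY := by
  refine ⟨A.mul_mem (A.mul_mem hα hβ.1) (A.inv_mem hα), fun y hy => ?_⟩
  have hz := hY α⁻¹ (A.inv_mem hα) y hy
  have h1 := hY' α hα _ (hβ.2 _ hz)
  have h2 : y⁻¹ * (α * β * α⁻¹) y = α ((α⁻¹ y)⁻¹ * β (α⁻¹ y)) := by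
    simp [MulAut.mul_apply]
  rw [h2]
  exact h1

variable {Ω : Type*} [Group Ω] {S : Subgroup Ω} {F : FusionSystem S} {p : ℕ} [Fact p.Prime]

/-- If the `p'`-elements of `O^{p'}(Aut_F(U))` are trivial, for `U` centric and radical, then `U = S`. -/
theorem le_of_pprime_trivial [Finite S] (hS : IsPGroup p S) {U : Subgroup Ω} (hUS : U ≤ S)
    (hUc : centralizerIn S U ≤ U) (hr : F.IsRadical p U)
    (h : ∀ δ ∈ pprimeOf p (pEltsOf p (F.autGroup U)), δ = 1) : S ≤ U := by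
  have hfU : Finite U := finite_of_le hUS
  have hK : IsPGroup p (pEltsOf p (F.autGroup U)) := isPGroup_of_pprime_trivial _ (fun δ h1 h2 => h δ ⟨h1, h2⟩)
  have hle : (pEltsOf p (F.autGroup U)).subgroupOf (F.autGroup U) ≤ pCore p (F.autGroup U) :=
    Cfsg.Agent.Lib.Basic.le_pCore (pEltsOf_normal _) hK.comap_subtype
  refine le_of_inn hS hUS hUc le_rfl Subgroup.le_normalizer (fun g hg hgn => ?_)
  have hcA : autOfNormalizer hgn ∈ F.autGroup U := autOfNormalizer_mem_autGroup hUS ⟨hg, hgn⟩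
  have hT : autOfNormalizer hgn ∈ autInducedBy S U := autOfNormalizer_mem_autInducedBy hgn hg
  have hcK : autOfNormalizer hgn ∈ pEltsOf p (F.autGroup U) :=
    le_pEltsOf (autInducedBy_le_autGroup hUS) (isPGroup_autInducedBy hS hUS) hT
  rw [← hr.2]
  exact ⟨⟨_, hcA⟩, hle hcK, rfl⟩

/-- Members of `[Y, G]`, for `G` the `p'`-elements of a subgroup of `Aut_F(U)`, are hyperfocal. -/
theorem mem_hyperfocal_of_closure {U : Subgroup Ω} (hUS : U ≤ S) {Y : Subgroup U} {G : Set (MulAut U)}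
    (hG : ∀ δ ∈ G, δ ∈ F.autGroup U ∧ Nat.Coprime (orderOf δ) p)
    (hgen : Y ≤ Subgroup.closure {w | ∃ x ∈ Y, ∃ δ ∈ G, w = x⁻¹ * δ x}) {y : U} (hy : y ∈ Y) :
    (y : Ω) ∈ F.hyperfocalSubgroup p := by
  have hle : Subgroup.closure {w : U | ∃ x ∈ Y, ∃ δ ∈ G, w = x⁻¹ * δ x} ≤
      (F.hyperfocalSubgroup p).comap U.subtype := by
    refine (Subgroup.closure_le _).2 ?_
    rintro _ ⟨x, -, δ, hδ, rfl⟩
    obtain ⟨h1, h2⟩ := hG δ hδ
    refine Subgroup.subset_closure ⟨U, ⟨δ, h1⟩, x, hUS, Subgroup.subset_closure ?_, rfl⟩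
    show Nat.Coprime (orderOf (⟨δ, h1⟩ : F.autGroup U)) p
    rwa [Subgroup.orderOf_mk]
  exact hle (hgen hy)

/-- Members of `[Y, G]`, for `G ⊆ Aut_F(U)`, are focal. -/
theorem mem_focal_of_closure {U : Subgroup Ω} (hUS : U ≤ S) {Y : Subgroup U} {G : Set (MulAut U)}
    (hG : ∀ δ ∈ G, δ ∈ F.autGroup U)
    (hgen : Y ≤ Subgroup.closure {w | ∃ x ∈ Y, ∃ δ ∈ G, w = x⁻¹ * δ x}) {y : U} (hy : y ∈ Y) :
    (y : Ω) ∈ F.focalSubgroup := by
  have hle : Subgroup.closure {w : U | ∃ x ∈ Y, ∃ δ ∈ G, w = x⁻¹ * δ x} ≤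
      (F.focalSubgroup).comap U.subtype := by
    refine (Subgroup.closure_le _).2 ?_
    rintro _ ⟨x, -, δ, hδ, rfl⟩
    exact Subgroup.subset_closure ⟨U, _, x, (mem_autGroup_iff hUS).1 (hG δ hδ), rfl⟩
  exact hle (hgen hy)

/-- The level argument: along the upper central series of `S`. -/
theorem level_fix [Finite S] (hS : IsPGroup p S) {U : Subgroup Ω} (hUS : U ≤ S) (A G : Set (MulAut U))
    (hGA : G ⊆ A) (hcop : ∀ δ ∈ G, Nat.Coprime (orderOf δ) p) (Y : Subgroup U)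
    (hYinv : ∀ α ∈ A, ∀ y ∈ Y, α y ∈ Y)
    (hind : ∀ Y' : Subgroup U, Y' < Y → (∀ α ∈ A, ∀ y ∈ Y', α y ∈ Y') → ∀ δ ∈ G, ∀ y ∈ Y', δ y = y)
    (hLv : ∀ α ∈ A, ∀ i, ∀ y ∈ Y, (y : Ω) ∈ ucs S i → ((α y : U) : Ω) ∈ ucs S i)
    (hC : ∀ j, (∀ y ∈ Y, (y : Ω) ∈ ucs S (j + 1)) → ∀ δ ∈ G, ∀ y ∈ Y, ((y⁻¹ * δ y : U) : Ω) ∈ ucs S j) :
    ∀ δ ∈ G, ∀ y ∈ Y, δ y = y := by
  have hfU : Finite U := finite_of_le hUS
  have hUp : IsPGroup p U := hS.to_le hUS
  obtain ⟨n, hn⟩ := ucs_top hS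
  have key : ∀ i, (∀ y ∈ Y, (y : Ω) ∈ ucs S i) → ∀ δ ∈ G, ∀ y ∈ Y, δ y = y := by
    intro i
    induction i with
    | zero =>
      intro hspec δ _ y hy
      have h0 := hspec y hy
      rw [ucs_zero, Subgroup.mem_bot] at h0
      have : y = 1 := Subtype.ext h0
      rw [this, map_one]
    | succ j ih =>
      intro hspec
      by_cases hnj : ∀ y ∈ Y, (y : Ω) ∈ ucs S j
      · exact ih hnj
      set Yj : Subgroup U := Y ⊓ (ucs S j).subgroupOf U with hYj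
      have hlt : Yj < Y := by
        refine lt_of_le_of_ne inf_le_left (fun heq => hnj fun y hy => ?_)
        rw [← heq] at hy
        exact hy.2
      have hinvj : ∀ α ∈ A, ∀ y ∈ Yj, α y ∈ Yj := fun α hα y hy =>
        ⟨hYinv α hα y hy.1, hLv α hα j y hy.1 hy.2⟩
      have hfix := hind Yj hlt hinvj
      intro δ hδ y hy
      have h1 : y⁻¹ * δ y ∈ Yj := ⟨Y.mul_mem (Y.inv_mem hy) (hYinv δ (hGA hδ) y hy), hC j hspec δ hδ y hy⟩
      exact fixed_of_coprime hUp δ (pow_orderOf_eq_one δ) (hcop δ hδ) y (hfix δ hδ _ h1)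
  exact key n (fun y _ => by
    rw [hn]
    exact hUS y.2)

/-- `ucs S i` is normal in `S`. -/
theorem conj_mem_ucs {s y : Ω} {i : ℕ} (hs : s ∈ S) (hy : y ∈ ucs S i) : s * y * s⁻¹ ∈ ucs S i := by
  obtain ⟨hyS, hy2⟩ := mem_ucs.1 hy
  have hn : (Subgroup.upperCentralSeries S i).Normal := inferInstance
  have h1 := hn.conj_mem _ hy2 ⟨s, hs⟩
  exact mem_ucs.2 ⟨_, h1⟩

/-- Maps with source `S` preserve `ucs S i`. -/
theorem map_mem_ucs [Finite S] {ψ : S →* Ω} (hψ : ψ ∈ F.Hom S) {x : S} {i : ℕ} (hx : (x : Ω) ∈ ucs S i) :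
    ψ x ∈ ucs S i := by
  obtain ⟨hxS, hx2⟩ := mem_ucs.1 hx
  let e := isoOfHom hψ (range_eq_of_top hψ)
  have hc : (Subgroup.upperCentralSeries S i).Characteristic := inferInstance
  have h1 : x ∈ (Subgroup.upperCentralSeries S i).comap e.toMonoidHom := by
    rw [hc.fixed]
    exact hx2
  have h2 : (e x : Ω) = ψ x := isoOfHom_coe hψ _ x
  rw [← h2]
  exact mem_ucs.2 ⟨_, h1⟩

/-- The orders allowed in the hypotheses of the Ito theorems. -/
theorem card_zpowers_of_pow_itoExp {x : Ω} (hne : x ≠ 1) (hexp : x ^ itoExp p = 1) :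
    Nat.card (Subgroup.zpowers x) = p ∨ Nat.card (Subgroup.zpowers x) = 4 := by
  rw [Nat.card_zpowers]
  have hd : orderOf x ∣ itoExp p := orderOf_dvd_of_pow_eq_one hexp
  have h1 : orderOf x ≠ 1 := fun h => hne (orderOf_eq_one_iff.1 h)
  by_cases h2 : p = 2
  · subst h2
    rw [itoExp_two] at hd
    have h4 : (4 : ℕ) = 2 ^ 2 := by norm_num
    rw [h4] at hd
    obtain ⟨k, hk, hk2⟩ := (Nat.dvd_prime_pow Nat.prime_two).1 hd
    interval_cases k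
    · exact absurd (by simpa using hk2) h1
    · left
      simpa using hk2
    · right
      simpa using hk2
  · rw [itoExp_of_ne h2] at hd
    rcases (Nat.dvd_prime (Fact.out : p.Prime)).1 hd with h | h
    · exact absurd h h1
    · exact Or.inl h

/-- The restriction of `α ∈ Aut_F(U)` to the cyclic subgroup generated by `y`. -/
theorem exists_homSet_zpowers {U : Subgroup Ω} (hUS : U ≤ S) {α : MulAut U} (hα : α ∈ F.autGroup U) (y : U) :
    ∃ φ ∈ F.homSet (Subgroup.zpowers (y : Ω)) (Subgroup.zpowers ((α y : U) : Ω)),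
      ∀ hy : (y : Ω) ∈ Subgroup.zpowers (y : Ω), φ ⟨y, hy⟩ = ((α y : U) : Ω) := by
  have hle : Subgroup.zpowers (y : Ω) ≤ U := Subgroup.zpowers_le.2 y.2
  have hm := (mem_autGroup_iff hUS).1 hα
  refine ⟨_, ⟨restrict_mem hm hle, ?_⟩, fun hy => rfl⟩
  rintro ⟨_, n, rfl⟩
  refine ⟨n, ?_⟩
  have h1 : (⟨(y : Ω) ^ n, hle ⟨n, rfl⟩⟩ : U) = y ^ n := rfl
  show ((α y : U) : Ω) ^ n = ((α ⟨(y : Ω) ^ n, hle ⟨n, rfl⟩⟩ : U) : Ω)
  rw [h1, map_zpow]
  rfl

end Cfsg.Agent.Lib.Fusion2
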