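import Cfsg.Agent.Lib.Transfer.MaxClass2
import Cfsg.Agent.Lib.Fusion2.PowCenter
import Cfsg.Agent.Lib.PLocal.PSeries
import Cfsg.Agent.Lib.Fusion.ZJ5
import Cfsg.Agent.Lib.Fusion.Placement
import Cfsg.Agent.Lib.Fusion.Alperin

/-!
# Essential subgroups of index `p`
-/

set_option autoImplicit false
set_option linter.unusedSectionVars false

namespace Cfsg.Agent.Lib.Fusion2.MaxEss

open Cfsg Cfsg.FusionSystem Cfsg.Agent.Lib.Fusion

section Group

variable {X : Type*} [Group X] [Finite X] {p : ℕ} [hp : Fact p.Prime]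

/-- The second centre of a `p`-group of maximal class. -/
theorem relIndex_center_upper {n : ℕ} (hn : 4 ≤ n) (hX : Nat.card X = p ^ n) (hc : Group.nilpotencyClass X = n - 1) :
    (Subgroup.center X).relIndex (Subgroup.upperCentralSeries X 2) = p := by
  have hP : IsPGroup p X := IsPGroup.of_card hX
  haveI hnil : Group.IsNilpotent X := hP.isNilpotent
  haveI hnt : Nontrivial X := by
    apply Finite.one_lt_card_iff_nontrivial.mp
    rw [hX]
    exact Nat.one_lt_pow (by omega) hp.out.one_lt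
  have hcz := Cfsg.Agent.Lib.Transfer.card_center_of_maximal_class (p := p) (n := n) (by omega) hX hc
  have hcard : Nat.card (X ⧸ Subgroup.center X) * Nat.card (Subgroup.center X) = Nat.card X := by
    rw [← Subgroup.index_eq_card]
    exact Subgroup.index_mul_card _
  have hQ : Nat.card (X ⧸ Subgroup.center X) = p ^ (n - 1) := by
    rw [hcz, hX] at hcard
    have h4 : p ^ n = p ^ (n - 1) * p := by rw [← pow_succ]; congr 1; omega
    rw [h4] at hcard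
    exact Nat.eq_of_mul_eq_mul_right hp.out.pos hcard
  have heq := Group.nilpotencyClass_eq_quotient_center_plus_one (G := X)
  have hcQ : Group.nilpotencyClass (X ⧸ Subgroup.center X) = (n - 1) - 1 := by omega
  have hcz2 := Cfsg.Agent.Lib.Transfer.card_center_of_maximal_class (p := p) (n := n - 1) (by omega) hQ hcQ
  have hmap : (Subgroup.upperCentralSeries X 2).map (QuotientGroup.mk' (Subgroup.center X)) = Subgroup.center (X ⧸ Subgroup.center X) := by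
    ext y
    obtain ⟨x, rfl⟩ := QuotientGroup.mk'_surjective (Subgroup.center X) y
    have key : ∀ x : X, x ∈ Subgroup.upperCentralSeries X 2 ↔ QuotientGroup.mk' (Subgroup.center X) x ∈ Subgroup.center (X ⧸ Subgroup.center X) := by
      intro x
      rw [show (2 : ℕ) = 1 + 1 from rfl, Subgroup.mem_upperCentralSeries_succ_iff, Subgroup.mem_center_iff]
      constructor
      · intro h w
        obtain ⟨w, rfl⟩ := QuotientGroup.mk'_surjective (Subgroup.center X) w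
        have h1 := h w
        rw [Subgroup.upperCentralSeries_one] at h1
        have h2 : QuotientGroup.mk' (Subgroup.center X) (x * w * x⁻¹ * w⁻¹) = 1 := by
          rw [← MonoidHom.mem_ker, QuotientGroup.ker_mk']
          exact h1
        have h3 : QuotientGroup.mk' (Subgroup.center X) (x * w) = QuotientGroup.mk' (Subgroup.center X) (w * x) := by
          calc QuotientGroup.mk' (Subgroup.center X) (x * w) = QuotientGroup.mk' (Subgroup.center X) ((x * w * x⁻¹ * w⁻¹) * (w * x)) := by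
                congr 1
                group
            _ = QuotientGroup.mk' (Subgroup.center X) (w * x) := by rw [map_mul, h2, one_mul]
        rw [← map_mul, ← map_mul, h3]
      · intro h w
        rw [Subgroup.upperCentralSeries_one, ← QuotientGroup.ker_mk' (Subgroup.center X), MonoidHom.mem_ker]
        have h1 := h (QuotientGroup.mk' (Subgroup.center X) w)
        rw [commutatorElement_def, map_mul, map_mul, map_mul, map_inv, map_inv, ← h1]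
        group
    constructor
    · rintro ⟨w, hw, e⟩
      rw [← e]
      exact (key w).1 hw
    · intro h
      exact ⟨x, (key x).2 h, rfl⟩
  rw [← Cfsg.Agent.Lib.PLocal.card_map_mk'_eq_relIndex, hmap, hcz2]

end Group

variable {Ω : Type*} [Group Ω] {S : Subgroup Ω} {F : FusionSystem S} [Finite S] {p : ℕ} [hp : Fact p.Prime]

/-- The action of `N_S(C)` on `Out_F(C)`. -/
noncomputable def rho (F : FusionSystem S) {C : Subgroup Ω} (hCS : C ≤ S) :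
    normalizerIn S C →* (F.autGroup C ⧸ (Inn C).subgroupOf (F.autGroup C)) :=
  MonoidHom.mk' (fun s => QuotientGroup.mk' ((Inn C).subgroupOf (F.autGroup C)) ⟨autOfNormalizer s.2.2, autOfNormalizer_mem_autGroup hCS s.2⟩)
    (fun a b => by
      rw [← map_mul]
      congr 1
      apply Subtype.ext
      ext w
      show ((a * b : normalizerIn S C) : Ω) * (w : Ω) * ((a * b : normalizerIn S C) : Ω)⁻¹ = (a : Ω) * ((b : Ω) * (w : Ω) * (b : Ω)⁻¹) * (a : Ω)⁻¹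
      simp only [Subgroup.coe_mul, mul_inv_rev]
      group)

/-- A criterion for a normal subgroup of index `p` to be essential. -/
theorem isEssential_of_index (hS : IsPGroup p S) (hF : F.IsSaturated p) {C : Subgroup Ω} (hCS : C ≤ S)
    (hCn : S ≤ Subgroup.normalizer (C : Set Ω)) (hCc : centralizerIn S C ≤ C) {x : Ω} (hxS : x ∈ S) (hxC : x ∉ C)
    (hs : ∀ s ∈ S, ∃ i : ℤ, ∃ c ∈ C, s = x ^ i * c) (hxp : x ^ p ∈ C)
    (hnon : ∃ a ∈ F.autGroup C, a * autOfNormalizer (hCn hxS) * a⁻¹ ∉ autInducedBy S C) : F.IsEssential p C := by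
  classical
  have hfn : F.IsFullyNormalized C := ZJ.fullyNormalized_of_normal hCS hCn
  have hcent := ZJ.isCentric_of_centralizer_le hS hF hfn hCc
  have hPa := (fullyNormalized_spec hS hF hfn).2
  obtain ⟨T, hT⟩ := exists_sylow_out hPa
  have := finite_of_le hCS
  have hNmem : ∀ s ∈ S, s ∈ normalizerIn S C := fun s hs => ⟨hs, hCn hs⟩
  obtain ⟨t, htdef⟩ : ∃ t, t = rho F hCS ⟨x, hNmem x hxS⟩ := ⟨_, rfl⟩
  have hρC : ∀ (c : Ω) (hc : c ∈ C), rho F hCS ⟨c, hNmem c (hCS hc)⟩ = 1 := by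
    intro c hc
    show QuotientGroup.mk' _ _ = 1
    rw [← MonoidHom.mem_ker, QuotientGroup.ker_mk']
    refine ⟨⟨c, hc⟩, ?_⟩
    ext w
    rfl
  have hρpow : ∀ i : ℤ, rho F hCS ⟨x ^ i, hNmem _ (S.zpow_mem hxS i)⟩ = t ^ i := by
    intro i
    rw [htdef, ← map_zpow]
    rfl
  have htT : t ∈ T.toSubgroup := by
    rw [hT, htdef]
    exact ⟨_, autOfNormalizer_mem_autInducedBy (hCn hxS) hxS, rfl⟩
  have hTt : ∀ w ∈ T.toSubgroup, ∃ i : ℤ, w = t ^ i := by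
    intro w hw
    rw [hT] at hw
    obtain ⟨⟨α, hαA⟩, hα, rfl⟩ := hw
    obtain ⟨g, hg, hgv⟩ := mem_autInducedBy_iff.1 hα
    obtain ⟨i, c, hc, rfl⟩ := hs g hg
    refine ⟨i, ?_⟩
    rw [← hρpow]
    have e : rho F hCS ⟨x ^ i, hNmem _ (S.zpow_mem hxS i)⟩ = rho F hCS ⟨x ^ i * c, hNmem _ hg⟩ := by
      have h1 : (⟨x ^ i * c, hNmem _ hg⟩ : normalizerIn S C) = ⟨x ^ i, hNmem _ (S.zpow_mem hxS i)⟩ * ⟨c, hNmem c (hCS hc)⟩ := rfl
      rw [h1, map_mul, hρC c hc, mul_one]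
    rw [e]
    show _ = QuotientGroup.mk' _ _
    congr 1
    apply Subtype.ext
    ext w
    exact hgv w
  have htp : t ^ p = 1 := by
    have h1 := hρpow p
    have e : (⟨x ^ (p : ℤ), hNmem _ (S.zpow_mem hxS p)⟩ : normalizerIn S C) = ⟨x ^ p, hNmem _ (hCS hxp)⟩ := Subtype.ext (zpow_natCast x p)
    rw [e, hρC _ hxp, zpow_natCast] at h1
    exact h1.symm
  have ht1 : t ≠ 1 := by
    intro h1
    rw [htdef] at h1
    have h2 : (⟨autOfNormalizer (hCn hxS), autOfNormalizer_mem_autGroup hCS (hNmem x hxS)⟩ : F.autGroup C) ∈ (Inn C).subgroupOf (F.autGroup C) := by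
      rw [← QuotientGroup.ker_mk' ((Inn C).subgroupOf (F.autGroup C)), MonoidHom.mem_ker]
      exact h1
    exact hxC (mem_of_autOfNormalizer_mem_inn hCS hCc (hNmem x hxS) h2)
  have hord : orderOf t = p := orderOf_eq_prime htp ht1
  have hTeq : T.toSubgroup = Subgroup.zpowers t := by
    apply le_antisymm
    · intro w hw
      obtain ⟨i, rfl⟩ := hTt w hw
      exact Subgroup.zpow_mem _ (Subgroup.mem_zpowers t) i
    · exact (Subgroup.zpowers_le).2 htT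
  have hcardT : Nat.card T.toSubgroup = p := by
    rw [hTeq, Nat.card_zpowers, hord]
  have hcore : kGeneratedCore p 1 T.toSubgroup ≤ Subgroup.normalizer (T.toSubgroup : Set (F.autGroup C ⧸ (Inn C).subgroupOf (F.autGroup C))) := by
    refine iSup_le ?_
    rintro ⟨Q, hQT, hQ⟩
    have hQne : Q ≠ ⊥ := ne_bot_of_not_pRankLE_zero (p := p) (by simpa using hQ)
    have hdvd : Nat.card Q ∣ p := by
      rw [← hcardT]
      exact Subgroup.card_dvd_of_le hQT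
    have hQT' : Q = T.toSubgroup := by
      rcases (Nat.dvd_prime hp.out).1 hdvd with h1 | h1
      · exact (hQne (Subgroup.card_eq_one.1 h1)).elim
      · exact Subgroup.eq_of_le_of_card_ge hQT (by rw [hcardT, h1])
    show Subgroup.normalizer (Q : Set (F.autGroup C ⧸ (Inn C).subgroupOf (F.autGroup C))) ≤
      Subgroup.normalizer (T.toSubgroup : Set (F.autGroup C ⧸ (Inn C).subgroupOf (F.autGroup C)))
    rw [hQT']
  refine ⟨hcent, hfn, inferInstance, Subgroup.normalizer (T.toSubgroup : Set (F.autGroup C ⧸ (Inn C).subgroupOf (F.autGroup C))), ?_, ?_, T, hcore⟩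
  · refine dvd_card_out hS hPa (lt_of_le_of_ne hCS (fun h => hxC ?_)) hCc
    rw [h]
    exact hxS
  · intro htop
    obtain ⟨a, ha, han⟩ := hnon
    apply han
    have hm : QuotientGroup.mk' ((Inn C).subgroupOf (F.autGroup C)) ⟨a, ha⟩ ∈ Subgroup.normalizer (T.toSubgroup : Set (F.autGroup C ⧸ (Inn C).subgroupOf (F.autGroup C))) := by
      rw [htop]
      trivial
    have h1 := (Subgroup.mem_normalizer_iff.1 hm t).1 htT
    have h2 := mem_autS_of_map_mem (α := ⟨a, ha⟩ * ⟨autOfNormalizer (hCn hxS), autOfNormalizer_mem_autGroup hCS (hNmem x hxS)⟩ * ⟨a, ha⟩⁻¹) hCS (by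
      rw [← hT, map_mul, map_mul, map_inv]
      rw [htdef] at h1
      exact h1)
    exact h2

/-- The core of the proof: a map of the second centre moving the centre. -/
theorem core_thm (hS : IsPGroup p S) (hF : F.IsSaturated p) {Z Z₂ : Subgroup Ω} (hZ₂S : Z₂ ≤ S) (hZZ₂ : Z ≤ Z₂)
    (hZc : ∀ z ∈ Z, ∀ s ∈ S, s * z = z * s) (hZ₂c : ∀ w ∈ Z₂, ∀ s ∈ S, s * w * s⁻¹ * w⁻¹ ∈ Z)
    (hcyc : ∀ u ∈ Z₂, u ∉ Z → ∀ w ∈ Z₂, ∃ i : ℤ, ∃ z ∈ Z, w = u ^ i * z)
    (hZcent : ∀ y ∈ S, (∀ s ∈ S, s * y = y * s) → y ∈ Z) (hZcard : Nat.card Z = p)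
    (φ : ↥Z₂ →* Ω) (hφ : φ ∈ F.Hom Z₂) (hφZ : φ.range = Z₂)
    (hmove : ∃ (z : Ω) (hz : z ∈ Z₂), z ∈ Z ∧ φ ⟨z, hz⟩ ∉ Z) :
    F.IsEssential p (S ⊓ Subgroup.centralizer (Z₂ : Set Ω)) := by
  classical
  obtain ⟨z, hz, hzZ, hzu⟩ := hmove
  obtain ⟨u, hudef⟩ : ∃ u, u = φ ⟨z, hz⟩ := ⟨_, rfl⟩
  rw [← hudef] at hzu
  have huZ₂ : u ∈ Z₂ := by
    rw [hudef]
    exact hφZ.le ⟨_, rfl⟩
  have hZS : Z ≤ S := hZZ₂.trans hZ₂S
  have huS := hZ₂S huZ₂
  have hcomm : ∀ c ∈ S, c * u * c⁻¹ = u → ∀ w ∈ Z₂, c * w * c⁻¹ = w := by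
    intro c hc hcu w hw
    obtain ⟨i, z', hz', rfl⟩ := hcyc u huZ₂ hzu w hw
    have h1 : c * (u ^ i * z') * c⁻¹ = (c * u * c⁻¹) ^ i * (c * z' * c⁻¹) := by
      rw [conj_zpow]
      group
    rw [h1, hcu, hZc z' hz' c hc]
    group
  have hab : ∀ w ∈ Z₂, ∀ w' ∈ Z₂, w * w' = w' * w := by
    intro w hw w' hw'
    obtain ⟨i, z₁, hz₁, rfl⟩ := hcyc u huZ₂ hzu w hw
    obtain ⟨j, z₂, hz₂, rfl⟩ := hcyc u huZ₂ hzu w' hw'
    have h1 := hZc z₁ hz₁ _ (S.mul_mem (S.zpow_mem huS j) (hZS hz₂))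
    have h2 := hZc z₂ hz₂ _ (S.zpow_mem huS i)
    have h3 : u ^ i * u ^ j = u ^ j * u ^ i := (Commute.refl u).zpow_zpow i j
    calc u ^ i * z₁ * (u ^ j * z₂) = u ^ i * (z₁ * (u ^ j * z₂)) := by group
      _ = u ^ i * ((u ^ j * z₂) * z₁) := by rw [h1]
      _ = (u ^ i * u ^ j) * (z₂ * z₁) := by group
      _ = u ^ j * (u ^ i * z₂) * z₁ := by rw [h3]; group
      _ = u ^ j * (z₂ * u ^ i) * z₁ := by rw [h2]
      _ = u ^ j * z₂ * (u ^ i * z₁) := by group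
  have hconj : ∀ s ∈ S, ∀ w ∈ Z₂, s * w * s⁻¹ ∈ Z₂ := by
    intro s hs w hw
    have h1 := Z₂.mul_mem (hZZ₂ (hZ₂c w hw s hs)) hw
    simpa using h1
  have hZ₂n : S ≤ Subgroup.normalizer (Z₂ : Set Ω) := fun s hs => mem_normalizer_of_conj_mem hZ₂S (hconj s hs)
  obtain ⟨C, hCdef⟩ : ∃ C, C = S ⊓ Subgroup.centralizer (Z₂ : Set Ω) := ⟨_, rfl⟩
  rw [← hCdef]
  have hCmem : ∀ c, c ∈ C ↔ c ∈ S ∧ ∀ w ∈ Z₂, w * c = c * w := by
    intro c
    rw [hCdef, Subgroup.mem_inf, Subgroup.mem_centralizer_iff]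
    simp
  have hCS : C ≤ S := fun c hc => ((hCmem c).1 hc).1
  have hZ₂C : Z₂ ≤ C := fun w hw => (hCmem w).2 ⟨hZ₂S hw, fun w' hw' => hab w' hw' w hw⟩
  have hCn : S ≤ Subgroup.normalizer (C : Set Ω) := by
    refine fun s hs => mem_normalizer_of_conj_mem hCS (fun c hc => ?_)
    obtain ⟨hcS, hc2⟩ := (hCmem c).1 hc
    refine (hCmem _).2 ⟨S.mul_mem (S.mul_mem hs hcS) (S.inv_mem hs), fun w hw => ?_⟩
    have h1 := hc2 _ (hconj s⁻¹ (S.inv_mem hs) w hw)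
    calc w * (s * c * s⁻¹) = s * ((s⁻¹ * w * s⁻¹⁻¹) * c) * s⁻¹ := by group
      _ = s * (c * (s⁻¹ * w * s⁻¹⁻¹)) * s⁻¹ := by rw [h1]
      _ = s * c * s⁻¹ * w := by group
  have hCc : centralizerIn S C ≤ C := by
    rintro y ⟨hyS, hy⟩
    refine (hCmem y).2 ⟨hyS, fun w hw => ?_⟩
    exact Subgroup.mem_centralizer_iff.1 hy w (hZ₂C hw)
  obtain ⟨x, hxS, hxu⟩ : ∃ x ∈ S, x * u ≠ u * x := by
    by_contra hcon
    push Not at hcon
    exact hzu (hZcent u huS hcon)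
  have hxC : x ∉ C := fun h => hxu (((hCmem x).1 h).2 u huZ₂).symm
  -- the commutator map
  have hθZ : ∀ s ∈ S, s * u * s⁻¹ * u⁻¹ ∈ Z := fun s hs => hZ₂c u huZ₂ s hs
  have hθmul : ∀ a ∈ S, ∀ b ∈ S, (a * b) * u * (a * b)⁻¹ * u⁻¹ = (a * u * a⁻¹ * u⁻¹) * (b * u * b⁻¹ * u⁻¹) := by
    intro a ha b hb
    have h1 := hZc _ (hθZ b hb) a ha
    have h2 : a * ((b * u * b⁻¹ * u⁻¹) * u) * a⁻¹ = ((b * u * b⁻¹ * u⁻¹)) * (a * u * a⁻¹) := by
      calc a * ((b * u * b⁻¹ * u⁻¹) * u) * a⁻¹ = (a * (b * u * b⁻¹ * u⁻¹)) * u * a⁻¹ := by group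
        _ = ((b * u * b⁻¹ * u⁻¹) * a) * u * a⁻¹ := by rw [h1]
        _ = _ := by group
    have h3 := hZc _ (hθZ a ha) _ (hZS (hθZ b hb))
    calc (a * b) * u * (a * b)⁻¹ * u⁻¹ = (a * ((b * u * b⁻¹ * u⁻¹) * u) * a⁻¹) * u⁻¹ := by group
      _ = (b * u * b⁻¹ * u⁻¹) * (a * u * a⁻¹ * u⁻¹) := by rw [h2]; group
      _ = _ := h3
  let Θ : ↥S →* ↥Z := MonoidHom.mk' (fun s => ⟨(s : Ω) * u * (s : Ω)⁻¹ * u⁻¹, hθZ s s.2⟩) (fun a b => Subtype.ext (hθmul a a.2 b b.2))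
  have hΘv : ∀ s : ↥S, ((Θ s : ↥Z) : Ω) = (s : Ω) * u * (s : Ω)⁻¹ * u⁻¹ := fun _ => rfl
  have hΘC : ∀ s : ↥S, Θ s = 1 → (s : Ω) ∈ C := by
    intro s hs
    have h1 : (s : Ω) * u * (s : Ω)⁻¹ * u⁻¹ = 1 := congrArg Subtype.val hs
    have h2 : (s : Ω) * u * (s : Ω)⁻¹ = u := mul_inv_eq_one.1 h1
    refine (hCmem _).2 ⟨s.2, fun w hw => ?_⟩
    have h3 := hcomm s s.2 h2 w hw
    rw [mul_inv_eq_iff_eq_mul] at h3
    exact h3.symm
  haveI hpZ : Fact (Nat.card Z).Prime := ⟨hZcard ▸ hp.out⟩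
  have hΘx : Θ ⟨x, hxS⟩ ≠ 1 := by
    intro h1
    exact hxC (hΘC _ h1)
  have hs : ∀ s ∈ S, ∃ i : ℤ, ∃ c ∈ C, s = x ^ i * c := by
    intro s hs
    obtain ⟨i, hi⟩ := Subgroup.mem_zpowers_iff.1 (mem_zpowers_of_prime_card (p := Nat.card Z) rfl (g' := Θ ⟨s, hs⟩) hΘx)
    refine ⟨i, x ^ (-i) * s, hΘC ⟨x ^ (-i) * s, S.mul_mem (S.zpow_mem hxS _) hs⟩ ?_, by group⟩
    have e : (⟨x ^ (-i) * s, S.mul_mem (S.zpow_mem hxS _) hs⟩ : ↥S) = (⟨x, hxS⟩ : ↥S) ^ (-i) * ⟨s, hs⟩ := rfl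
    rw [e, map_mul, map_zpow, ← hi, zpow_neg, inv_mul_cancel]
  have hxp : x ^ p ∈ C := by
    refine hΘC ⟨x ^ p, S.pow_mem hxS p⟩ ?_
    have e : (⟨x ^ p, S.pow_mem hxS p⟩ : ↥S) = (⟨x, hxS⟩ : ↥S) ^ p := rfl
    rw [e, map_pow, ← hZcard]
    exact pow_card_eq_one'
  -- the automorphism
  have hZ₂fn : F.IsFullyNormalized Z₂ := ZJ.fullyNormalized_of_normal hZ₂S hZ₂n
  obtain ⟨ψ, hψ, hψv⟩ := (receptive_of_fullyNormalized hS hF hZ₂fn).2 Z₂ φ hφ hφZ
  have hCE : C ≤ extender S Z₂ φ := by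
    intro c hc
    obtain ⟨hcS, hc2⟩ := (hCmem c).1 hc
    have hcconj : ∀ w ∈ Z₂, c * w * c⁻¹ = w := by
      intro w hw
      rw [← hc2 w hw]
      group
    refine Subgroup.subset_closure ⟨hcS, ?_, 1, S.one_mem, fun w hw => ?_⟩
    · refine mem_normalizer_of_conj_mem hZ₂S (fun w hw => ?_)
      rw [hcconj w hw]
      exact hw
    · have e : (⟨c * w * c⁻¹, hw⟩ : ↥Z₂) = w := Subtype.ext (hcconj w w.2)
      rw [e]
      group
  have hf : IsMapOn F C (toFun ψ) := (isMapOn_toFun hψ).mono hCE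
  have hfZ₂ : ∀ (v : Ω) (hv : v ∈ Z₂), toFun ψ v = φ ⟨v, hv⟩ := by
    intro v hv
    rw [toFun_of_mem ψ (hCE (hZ₂C hv))]
    exact hψv v hv _
  have hfC : ∀ c ∈ C, toFun ψ c ∈ C := by
    intro c hc
    refine (hCmem _).2 ⟨hf.mem_S hc, fun w hw => ?_⟩
    have hw' : w ∈ φ.range := by
      rw [hφZ]
      exact hw
    obtain ⟨⟨v, hv⟩, rfl⟩ := hw'
    rw [← hfZ₂ v hv, ← hf.map_mul (hZ₂C hv) hc, ← hf.map_mul hc (hZ₂C hv), ((hCmem c).1 hc).2 v hv]
  haveI := finite_of_le hCS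
  have hfI : IsImage (toFun ψ) C C := by
    have hinj : Function.Injective (fun c : C => (⟨toFun ψ c, hfC c c.2⟩ : C)) := by
      intro a b hab
      exact Subtype.ext (hf.injOn a.2 b.2 (congrArg Subtype.val hab))
    have hsurj := Finite.surjective_of_injective hinj
    intro y
    constructor
    · intro hy
      obtain ⟨c, hc⟩ := hsurj ⟨y, hy⟩
      exact ⟨c, c.2, congrArg Subtype.val hc⟩
    · rintro ⟨c, hc, rfl⟩
      exact hfC c hc
  obtain ⟨a, ha, hav⟩ := exists_aut_of_map hf hfI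
  refine isEssential_of_index hS hF hCS hCn hCc hxS hxC hs hxp ⟨a, ha, fun hmem => ?_⟩
  obtain ⟨y, hy, hyv⟩ := mem_autInducedBy_iff.1 hmem
  have hau : ∀ v (hv : v ∈ Z₂), ((a ⟨v, hZ₂C hv⟩ : C) : Ω) = φ ⟨v, hv⟩ := by
    intro v hv
    rw [← fn_of_mem a (hZ₂C hv), hav _ (hZ₂C hv), hfZ₂ v hv]
  -- `y` fixes `u`
  have hzC : z ∈ C := hZ₂C hz
  have huC : u ∈ C := hZ₂C huZ₂
  have haz : a ⟨z, hzC⟩ = ⟨u, huC⟩ := Subtype.ext ((hau z hz).trans hudef.symm)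
  have hainv : a⁻¹ ⟨u, huC⟩ = ⟨z, hzC⟩ := by
    rw [← haz, MulAut.inv_apply_self]
  have hcxz : autOfNormalizer (hCn hxS) ⟨z, hzC⟩ = ⟨z, hzC⟩ := by
    apply Subtype.ext
    rw [autOfNormalizer_coe]
    show x * z * x⁻¹ = z
    rw [hZc z hzZ x hxS]
    group
  have h2 : (a * autOfNormalizer (hCn hxS) * a⁻¹) ⟨u, huC⟩ = ⟨u, huC⟩ := by
    rw [MulAut.mul_apply, MulAut.mul_apply, hainv, hcxz, haz]
  have h1 : y * u * y⁻¹ = u := by
    have h3 := hyv ⟨u, huC⟩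
    rw [h2] at h3
    exact h3.symm
  have hyZ₂ := hcomm y hy h1
  have hw₀ : ((a ⟨u, huC⟩ : C) : Ω) ∈ Z₂ := by
    rw [hau u huZ₂]
    exact hφZ.le ⟨_, rfl⟩
  have h3 := hyv (a ⟨u, huC⟩)
  rw [hyZ₂ _ hw₀] at h3
  have h4 : (a * autOfNormalizer (hCn hxS) * a⁻¹) (a ⟨u, huC⟩) = a (autOfNormalizer (hCn hxS) ⟨u, huC⟩) := by
    rw [MulAut.mul_apply, MulAut.mul_apply, MulAut.inv_apply_self]
  rw [h4] at h3
  have h5 : autOfNormalizer (hCn hxS) ⟨u, huC⟩ = ⟨u, huC⟩ := a.injective (Subtype.ext h3)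
  have h6 : x * u * x⁻¹ = u := congrArg Subtype.val h5
  apply hxu
  rw [mul_inv_eq_iff_eq_mul] at h6
  exact h6

/-- **S5270** -/
theorem main (hS : IsPGroup p ↥S) (n : ℕ) (hn : Nat.card S = p ^ n) (h4 : 4 ≤ n) (hmax : Subgroup.lowerCentralSeries S (n - 2) ≠ ⊥)
    (hF : F.IsSaturated p) (φ : ↥((Subgroup.upperCentralSeries ↥S 2).map S.subtype) →* Ω)
    (hφ : φ ∈ F.Hom ((Subgroup.upperCentralSeries ↥S 2).map S.subtype))
    (hφZ : φ.range = ((Subgroup.upperCentralSeries ↥S 2).map S.subtype))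
    (hmove : ∃ (z : Ω) (hz : z ∈ ((Subgroup.upperCentralSeries ↥S 2).map S.subtype)), z ∈ ((Subgroup.center ↥S).map S.subtype) ∧
      φ ⟨z, hz⟩ ∉ ((Subgroup.center ↥S).map S.subtype)) :
    F.IsEssential p (S ⊓ Subgroup.centralizer (((Subgroup.upperCentralSeries ↥S 2).map S.subtype) : Set Ω)) := by
  classical
  haveI hnil : Group.IsNilpotent ↥S := hS.isNilpotent
  have hc : Group.nilpotencyClass ↥S = n - 1 := by
    apply le_antisymm (Cfsg.Agent.Lib.Basic.nilpotencyClass_le_of_card_eq_prime_pow p n hn (by omega))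
    by_contra hlt
    have h1 : Group.nilpotencyClass ↥S ≤ n - 2 := by omega
    have h2 := Subgroup.lowerCentralSeries_eq_bot_iff_nilpotencyClass_le.2 h1
    apply hmax
    rw [← Cfsg.Agent.Lib.Fusion2.PowRing.top_lowerCentralSeries_map, h2, Subgroup.map_bot]
  have hrel := relIndex_center_upper h4 hn hc
  have hcz := Cfsg.Agent.Lib.Transfer.card_center_of_maximal_class (p := p) (n := n) (by omega) hn hc
  have hup : ∀ w ∈ Subgroup.upperCentralSeries ↥S 2, ∀ y : ↥S, w * y * w⁻¹ * y⁻¹ ∈ Subgroup.center ↥S := by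
    intro w hw y
    rw [show (2 : ℕ) = 1 + 1 from rfl, Subgroup.mem_upperCentralSeries_succ_iff] at hw
    have := hw y
    rwa [Subgroup.upperCentralSeries_one] at this
  refine core_thm hS hF (Subgroup.map_subtype_le _) (Subgroup.map_mono ?_) ?_ ?_ ?_ ?_ ?_ φ hφ hφZ hmove
  · rw [← Subgroup.upperCentralSeries_one]
    exact Subgroup.upperCentralSeries_mono ↥S (by omega)
  · rintro _ ⟨z, hz, rfl⟩ s hs
    have := Subgroup.mem_center_iff.1 hz ⟨s, hs⟩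
    exact congrArg Subtype.val this
  · rintro _ ⟨w, hw, rfl⟩ s hs
    have h1 := Subgroup.inv_mem _ (hup w hw ⟨s, hs⟩)
    refine ⟨_, h1, ?_⟩
    show ((w * ⟨s, hs⟩ * w⁻¹ * (⟨s, hs⟩ : ↥S)⁻¹ : ↥S)⁻¹ : ↥S).1 = _
    simp only [mul_inv_rev, inv_inv, Subgroup.coe_mul, Subgroup.coe_inv]
    group
    rfl
  · rintro _ ⟨u, hu, rfl⟩ huZ _ ⟨w, hw, rfl⟩
    have huZ' : u ∉ Subgroup.center ↥S := fun h => huZ ⟨u, h, rfl⟩
    have hcard : Nat.card ↥((Subgroup.upperCentralSeries ↥S 2).map (QuotientGroup.mk' (Subgroup.center ↥S))) = p := by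
      rw [Cfsg.Agent.Lib.PLocal.card_map_mk'_eq_relIndex, hrel]
    have hne : (⟨QuotientGroup.mk' (Subgroup.center ↥S) u, ⟨u, hu, rfl⟩⟩ : ↥((Subgroup.upperCentralSeries ↥S 2).map (QuotientGroup.mk' (Subgroup.center ↥S)))) ≠ 1 := by
      intro h1
      have h2 : QuotientGroup.mk' (Subgroup.center ↥S) u = 1 := congrArg Subtype.val h1
      rw [← MonoidHom.mem_ker, QuotientGroup.ker_mk'] at h2
      exact huZ' h2
    obtain ⟨i, hi⟩ := Subgroup.mem_zpowers_iff.1 (mem_zpowers_of_prime_card (p := p) hcard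
      (g' := ⟨QuotientGroup.mk' (Subgroup.center ↥S) w, ⟨w, hw, rfl⟩⟩) hne)
    have h3 : QuotientGroup.mk' (Subgroup.center ↥S) (u ^ i) = QuotientGroup.mk' (Subgroup.center ↥S) w := by
      rw [map_zpow]
      exact congrArg Subtype.val hi
    have h4 : (u ^ i)⁻¹ * w ∈ Subgroup.center ↥S := QuotientGroup.eq.1 h3
    refine ⟨i, _, ⟨_, h4, rfl⟩, ?_⟩
    show (w : Ω) = ((u ^ i * ((u ^ i)⁻¹ * w) : ↥S) : Ω)
    rw [mul_inv_cancel_left]
  · intro y hy hys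
    refine ⟨⟨y, hy⟩, Subgroup.mem_center_iff.2 (fun s => Subtype.ext (hys s s.2)), rfl⟩
  · rw [← hcz]
    exact (Nat.card_congr (Subgroup.equivMapOfInjective _ _ Subtype.val_injective).toEquiv).symm

end Cfsg.Agent.Lib.Fusion2.MaxEss
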