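/-
Realizing fusion on `2`-groups with a cyclic subgroup of index two.
-/
import Cfsg.Agent.Lib.Fusion2.AbelChain
import Cfsg.Agent.Lib.Fusion.Model4
import Cfsg.Agent.Lib.Fusion.Realized

set_option autoImplicit false
set_option linter.unusedSectionVars false

namespace Cfsg.Agent.Lib.Fusion2.SuperSol

open Cfsg Cfsg.FusionSystem Cfsg.Agent.Lib.Fusion

section Present

theorem meta_mul {G : Type*} [Group G] {x y : G} {s t : ℕ} (h1 : y * y = x ^ t) (h2 : y * x * y⁻¹ = x ^ s) (i k : ℕ) {j l : ℕ}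
    (hj : j < 2) (hl : l < 2) :
    (x ^ i * y ^ j) * (x ^ k * y ^ l) = x ^ (i + k * s ^ j + j * l * t) * y ^ ((j + l) % 2) := by
  have h3 : y * x ^ k = x ^ (k * s) * y := by
    have : y * x ^ k * y⁻¹ = x ^ (s * k) := by
      rw [← conj_pow, h2, pow_mul]
    rw [mul_comm k s, ← this]
    group
  interval_cases j <;> interval_cases l
  · simp [pow_add]
  · simp [pow_add, mul_assoc]
  · simp only [pow_one, pow_zero, mul_one, mul_zero, Nat.add_zero, zero_add]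
    norm_num
    rw [pow_add, mul_assoc, h3]
    simp [mul_assoc]
  · simp only [pow_one, mul_one, one_mul]
    norm_num
    rw [pow_add, pow_add, mul_assoc (x ^ i), ← mul_assoc y (x ^ k), h3, mul_assoc (x ^ (k * s)), h1]
    simp [mul_assoc]

variable {G₁ G₂ : Type*} [Group G₁] [Group G₂]

/-- Maps out of a group with a cyclic subgroup of index two. -/
theorem exists_inj_hom_of_meta [Finite G₁] [Finite G₂] {M s t : ℕ} {x₁ y₁ : G₁} {x₂ y₂ : G₂} (hM : orderOf x₁ = M)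
    (hcard : Nat.card G₁ = 2 * M) (hy₁ : y₁ ∉ Subgroup.zpowers x₁) (h₁ : y₁ * y₁ = x₁ ^ t) (h₂ : y₁ * x₁ * y₁⁻¹ = x₁ ^ s)
    (hM₂ : orderOf x₂ = M) (hy₂ : y₂ ∉ Subgroup.zpowers x₂) (h₃ : y₂ * y₂ = x₂ ^ t) (h₄ : y₂ * x₂ * y₂⁻¹ = x₂ ^ s) :
    ∃ f : G₁ →* G₂, Function.Injective f ∧ f x₁ = x₂ ∧ f y₁ = y₂ := by
  classical
  have hM0 : 0 < M := hM ▸ orderOf_pos x₁
  have hidx : (Subgroup.zpowers x₁).index = 2 := by
    have h := Subgroup.card_mul_index (Subgroup.zpowers x₁)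
    rw [Nat.card_zpowers, hM, hcard, mul_comm 2 M] at h
    exact Nat.eq_of_mul_eq_mul_left hM0 h
  have hmemp : ∀ {z : G₁}, z ∈ Subgroup.zpowers x₁ → ∃ i : ℕ, z = x₁ ^ i := by
    intro z hz
    obtain ⟨i, hi⟩ := mem_powers_iff_mem_zpowers.2 hz
    exact ⟨i, hi.symm⟩
  have hrep : ∀ g : G₁, ∃ i j : ℕ, j < 2 ∧ g = x₁ ^ i * y₁ ^ j := by
    intro g
    by_cases hg : g ∈ Subgroup.zpowers x₁
    · obtain ⟨i, hi⟩ := hmemp hg
      exact ⟨i, 0, by norm_num, by simp [hi]⟩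
    · have h1 : g * y₁⁻¹ ∈ Subgroup.zpowers x₁ := by
        rw [Subgroup.mul_mem_iff_of_index_two hidx]
        exact iff_of_false hg (fun h => hy₁ (by simpa using Subgroup.inv_mem _ h))
      obtain ⟨i, hi⟩ := hmemp h1
      refine ⟨i, 1, by norm_num, ?_⟩
      rw [pow_one, ← hi]
      group
  have hj_eq : ∀ {a b : G₁} {i k j l : ℕ} , a = x₁ ^ i * y₁ ^ j → b = x₁ ^ k * y₁ ^ l → j < 2 → l < 2 → a = b → j = l := by
    intro a b i k j l ha hb hj hl hab
    rw [ha, hb] at hab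
    by_contra hne
    have hc : (j = 0 ∧ l = 1) ∨ (j = 1 ∧ l = 0) := by omega
    rcases hc with ⟨rfl, rfl⟩ | ⟨rfl, rfl⟩
    · apply hy₁
      have : y₁ = (x₁ ^ k)⁻¹ * x₁ ^ i := by
        simp only [pow_zero, mul_one, pow_one] at hab
        rw [hab]
        group
      rw [this]
      exact Subgroup.mul_mem _ (Subgroup.inv_mem _ (Subgroup.npow_mem_zpowers _ _)) (Subgroup.npow_mem_zpowers _ _)
    · apply hy₁
      have : y₁ = (x₁ ^ i)⁻¹ * x₁ ^ k := by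
        simp only [pow_zero, mul_one, pow_one] at hab
        rw [← hab]
        group
      rw [this]
      exact Subgroup.mul_mem _ (Subgroup.inv_mem _ (Subgroup.npow_mem_zpowers _ _)) (Subgroup.npow_mem_zpowers _ _)
  have hwd : ∀ {i k j l : ℕ}, j < 2 → l < 2 → x₁ ^ i * y₁ ^ j = x₁ ^ k * y₁ ^ l → x₂ ^ i * y₂ ^ j = x₂ ^ k * y₂ ^ l := by
    intro i k j l hj hl h
    have hjl := hj_eq rfl rfl hj hl h
    subst hjl
    have h5 : x₁ ^ i = x₁ ^ k := mul_right_cancel h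
    have h6 := pow_eq_pow_iff_modEq.1 h5
    rw [hM] at h6
    have h7 : x₂ ^ i = x₂ ^ k := by
      apply pow_eq_pow_iff_modEq.2
      rw [hM₂]
      exact h6
    rw [h7]
  choose I J hJ hIJ using hrep
  let f : G₁ →* G₂ := MonoidHom.mk' (fun g => x₂ ^ I g * y₂ ^ J g) (by
    intro a b
    have h5 : a * b = x₁ ^ (I a + I b * s ^ J a + J a * J b * t) * y₁ ^ ((J a + J b) % 2) := by
      conv_lhs => rw [hIJ a, hIJ b]
      exact meta_mul h₁ h₂ _ _ (hJ a) (hJ b)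
    have h6 : x₂ ^ I (a * b) * y₂ ^ J (a * b) = x₂ ^ (I a + I b * s ^ J a + J a * J b * t) * y₂ ^ ((J a + J b) % 2) :=
      hwd (hJ _) (Nat.mod_lt _ (by norm_num)) ((hIJ (a * b)).symm.trans h5)
    show x₂ ^ I (a * b) * y₂ ^ J (a * b) = _
    rw [h6, meta_mul h₃ h₄ _ _ (hJ a) (hJ b)])
  have hf : ∀ g, f g = x₂ ^ I g * y₂ ^ J g := fun g => rfl
  have hfv : ∀ {i j : ℕ}, j < 2 → f (x₁ ^ i * y₁ ^ j) = x₂ ^ i * y₂ ^ j := by
    intro i j hj
    rw [hf]
    exact hwd (hJ _) hj (hIJ _).symm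
  refine ⟨f, ?_, ?_, ?_⟩
  · rw [injective_iff_map_eq_one]
    intro g hg
    rw [hIJ g] at hg ⊢
    rw [hfv (hJ g)] at hg
    obtain ⟨i, j⟩ : ∃ i j, i = I g ∧ j = J g := ⟨_, _, rfl, rfl⟩
    have hJg := hJ g
    by_cases hj : J g = 0
    · rw [hj, pow_zero, mul_one] at hg ⊢
      have h5 : orderOf x₂ ∣ I g := orderOf_dvd_of_pow_eq_one hg
      rw [hM₂, ← hM] at h5
      exact orderOf_dvd_iff_pow_eq_one.1 h5
    · exfalso
      have hj1 : J g = 1 := by omega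
      rw [hj1, pow_one] at hg
      apply hy₂
      have : y₂ = (x₂ ^ I g)⁻¹ := eq_inv_of_mul_eq_one_right hg
      rw [this]
      exact Subgroup.inv_mem _ (Subgroup.npow_mem_zpowers _ _)
  · have := hfv (i := 1) (j := 0) (by norm_num)
    simpa using this
  · have := hfv (i := 0) (j := 1) (by norm_num)
    simpa using this

end Present

section Real

variable {Ω : Type*} [Group Ω] {S : Subgroup Ω}

/-- The fusion system of an injective homomorphism. -/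
noncomputable def realSys {G : Type*} [Group G] (ι : S →* G) (hι : Function.Injective ι) : FusionSystem S where
  Hom P := {φ | ∃ hP : P ≤ S, ∃ hφ : ∀ x : P, φ x ∈ S, ∃ g : G, ∀ x : P, ι ⟨φ x, hφ x⟩ = g * ι ⟨x, hP x.2⟩ * g⁻¹}
  le_of_mem := by
    rintro P φ ⟨hP, hφ, -⟩
    exact ⟨hP, hφ⟩
  injective_of_mem := by
    rintro P φ ⟨hP, hφ, g, hg⟩ a b hab
    have h1 : ι ⟨φ a, hφ a⟩ = ι ⟨φ b, hφ b⟩ := congrArg ι (Subtype.ext hab)
    rw [hg, hg] at h1
    have h2 := hι (mul_left_cancel (mul_right_cancel h1))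
    exact Subtype.ext (Subtype.mk.inj h2)
  conj_mem := by
    intro P g hP hg
    refine ⟨hP, fun x => S.mul_mem (S.mul_mem hg (hP x.2)) (S.inv_mem hg), ι ⟨g, hg⟩, fun x => ?_⟩
    rw [← map_inv, ← map_mul, ← map_mul]
    rfl
  comp_mem := by
    rintro P Q φ ψ ⟨hP, hφ, a, ha⟩ ⟨hQ, hψ, b, hb⟩ h
    refine ⟨hP, fun x => hψ _, b * a, fun x => ?_⟩
    show ι ⟨ψ ⟨φ x, h x⟩, _⟩ = _
    rw [hb ⟨φ x, h x⟩]
    have e : (⟨((⟨φ x, h x⟩ : Q) : Ω), hQ (h x)⟩ : S) = ⟨φ x, hφ x⟩ := rfl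
    rw [e, ha]
    group
  inv_mem := by
    rintro P φ ⟨hP, hφ, a, ha⟩
    have hinj : Function.Injective φ := by
      intro u v huv
      have h1 : ι ⟨φ u, hφ u⟩ = ι ⟨φ v, hφ v⟩ := congrArg ι (Subtype.ext huv)
      rw [ha, ha] at h1
      have h2 := hι (mul_left_cancel (mul_right_cancel h1))
      exact Subtype.ext (Subtype.mk.inj h2)
    let e : P ≃* φ.range := MonoidHom.ofInjective hinj
    have he : ∀ x : P, e.symm ⟨φ x, ⟨x, rfl⟩⟩ = x := fun x => e.symm_apply_apply x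
    refine ⟨P.subtype.comp e.symm.toMonoidHom, ?_, fun x => by
      show ((e.symm ⟨φ x, ⟨x, rfl⟩⟩ : P) : Ω) = x
      rw [he]⟩
    refine ⟨?_, fun y => hP (e.symm y).2, a⁻¹, ?_⟩
    · rintro _ ⟨x, rfl⟩
      exact hφ x
    · rintro ⟨_, x, rfl⟩
      have h1 := ha x
      have e2 : (P.subtype.comp e.symm.toMonoidHom) ⟨φ x, ⟨x, rfl⟩⟩ = (x : Ω) := by
        show ((e.symm ⟨φ x, ⟨x, rfl⟩⟩ : P) : Ω) = x
        rw [he]
      simp only [e2]
      show ι ⟨x, _⟩ = a⁻¹ * ι ⟨φ x, _⟩ * a⁻¹⁻¹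
      rw [h1]
      group

theorem realSys_realized {G : Type*} [Group G] (ι : S →* G) (hι : Function.Injective ι) :
    (realSys ι hι).IsRealizedBy ι := by
  refine ⟨hι, fun P hP φ hφ => ⟨?_, ?_⟩⟩
  · rintro ⟨_, _, g, hg⟩
    exact ⟨g, hg⟩
  · rintro ⟨g, hg⟩
    exact ⟨hP, hφ, g, hg⟩

variable [Finite S]

/-- A fusion on a `2`-group with an index two subgroup which forbids normality. -/
theorem not_all_normal [Fact (Nat.Prime 2)] (hS : IsPGroup 2 S) {G : Type*} [Group G] [Finite G] (ι : S →* G)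
    (hι : Function.Injective ι) (hsyl : ¬ 2 ∣ ι.range.index) {N : Subgroup S} (hN : N.index = 2) {y w : S} (hw : w ∉ N)
    (g : G) (hg : g * ι (y * y) * g⁻¹ = ι w) (hall : ∀ F : FusionSystem S, F.IsSaturated 2 → F.IsNormal S) : False := by
  have hreal := realSys_realized ι hι
  have hP : IsPGroup 2 ι.range := hS.of_surjective (MonoidHom.rangeRestrict _) (MonoidHom.rangeRestrict_surjective _)
  have hF : (realSys ι hι).IsSaturated 2 := isSaturated_of_realized hreal ⟨hP.toSylow hsyl, IsPGroup.toSylow_coe _ _⟩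
  have hNF := hall _ hF
  have hPS : Subgroup.zpowers (((y * y : S)) : Ω) ≤ S := by
    rw [Subgroup.zpowers_le]
    exact (y * y).2
  obtain ⟨f, hmap, hv⟩ := exists_map_of_gconj hreal hPS g (by
    intro x hx
    obtain ⟨k, hk⟩ := Subgroup.mem_zpowers_iff.1 hx
    have hk' : x = (y * y) ^ k := Subtype.ext (by
      rw [← hk]
      simp)
    rw [hk', map_zpow, ← conj_zpow, hg, ← map_zpow]
    exact ⟨_, rfl⟩)
  obtain ⟨φ, hφ, hφv⟩ := hmap
  obtain ⟨α, hα, hαv⟩ := exists_aut_of_isNormal hNF hPS hφ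
  have hmem : (((y * y : S)) : Ω) ∈ Subgroup.zpowers (((y * y : S)) : Ω) := Subgroup.mem_zpowers _
  have h1 := hαv ⟨_, hmem⟩
  rw [hφv] at h1
  have h2 := hv (y * y) hmem
  rw [hg] at h2
  have h3 := hι h2
  have h4 : α (y * y) = w := by
    apply Subtype.ext
    have h5 : fn α ((y * y : S) : Ω) = ((α (y * y) : S) : Ω) := fn_coe α (y * y)
    simp only at h1
    rw [h5] at h1
    have h6 : toS S (f ((y * y : S) : Ω)) = α (y * y) := by
      rw [← h1, toS_coe]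
    rw [← h6, h3]
  apply hw
  rw [← h4, map_mul]
  rw [Subgroup.mul_mem_iff_of_index_two hN]

end Real

end Cfsg.Agent.Lib.Fusion2.SuperSol
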