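/-
Dihedral and generalized quaternion Sylow `2`-subgroups of `PGL₂` and `SL₂`.
-/
import Cfsg.Agent.Lib.Fusion2.MetaReal
import Mathlib.LinearAlgebra.Matrix.GeneralLinearGroup.Card
import Mathlib.NumberTheory.LSeries.PrimesInAP
import Mathlib.GroupTheory.SpecificGroups.Cyclic

set_option autoImplicit false
set_option linter.unusedSectionVars false

namespace Cfsg.Agent.Lib.Fusion2.SuperSol

open Matrix

section Arith

/-- Primes in residue classes modulo a power of two. -/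
theorem exists_prime_mod {a m : ℕ} (ha : Odd a) (hm : 1 ≤ m) (hlt : a < 2 ^ m) : ∃ ℓ k : ℕ, ℓ.Prime ∧ ℓ = a + 2 ^ m * k ∧ 2 < ℓ := by
  have hq : 2 ^ m ≠ 0 := by positivity
  have hc : IsCoprime (a : ℤ) ((2 ^ m : ℕ) : ℤ) := by
    obtain ⟨b, hb⟩ := ha
    have h1 : IsCoprime (a : ℤ) 2 := ⟨1, -(b : ℤ), by rw [hb]; push_cast; ring⟩
    push_cast
    exact h1.pow_right
  obtain ⟨p, hp, hpp, hmod⟩ := Nat.forall_exists_prime_gt_and_zmodEq (a + 2) hq hc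
  have h1 := (Int.modEq_iff_dvd.1 hmod.symm)
  obtain ⟨c, hc⟩ := h1
  have hc0 : 0 ≤ c := by
    by_contra h
    have h2 : c ≤ -1 := by omega
    have h3 : ((2 ^ m : ℕ) : ℤ) * c ≤ -((2 ^ m : ℕ) : ℤ) := by
      have h4 : (0 : ℤ) < ((2 ^ m : ℕ) : ℤ) := by positivity
      nlinarith
    have h5 : (p : ℤ) > a := by exact_mod_cast (by omega : p > a)
    omega
  obtain ⟨k, rfl⟩ := Int.eq_ofNat_of_zero_le hc0
  refine ⟨p, k, hpp, ?_, ?_⟩
  · have : (p : ℤ) = a + ((2 ^ m * k : ℕ) : ℤ) := by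
      push_cast at hc ⊢
      linarith
    exact_mod_cast this
  · omega

theorem exists_order_of_dvd {A : Type*} [Group A] [Finite A] [IsCyclic A] {d : ℕ} (hd : d ∣ Nat.card A) :
    ∃ a : A, orderOf a = d := by
  obtain ⟨g, hg⟩ := IsCyclic.exists_ofOrder_eq_natCard (α := A)
  have hcard : 0 < Nat.card A := Nat.card_pos
  have h0 : Nat.card A / d ≠ 0 := by
    have := Nat.div_pos (Nat.le_of_dvd hcard hd) (Nat.pos_of_dvd_of_pos hd hcard)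
    omega
  refine ⟨g ^ (Nat.card A / d), ?_⟩
  rw [orderOf_pow_of_dvd h0 (by rw [hg]; exact Nat.div_dvd_of_dvd hd), hg]
  exact Nat.div_div_self hd hcard.ne'

theorem pow_half_eq_neg_one {F : Type*} [Field F] {u : Fˣ} {s : ℕ} (hs : 1 ≤ s) (hu : orderOf u = 2 ^ s) :
    u ^ 2 ^ (s - 1) = -1 := by
  have h1 : (u ^ 2 ^ (s - 1)) * (u ^ 2 ^ (s - 1)) = 1 := by
    rw [← pow_add, ← two_mul, ← pow_succ', Nat.sub_add_cancel hs, ← hu, pow_orderOf_eq_one]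
  have h2 : u ^ 2 ^ (s - 1) ≠ 1 := by
    intro h
    have h3 := orderOf_dvd_of_pow_eq_one h
    rw [hu] at h3
    have h4 := Nat.pow_dvd_pow_iff_le_right (x := 2) (by norm_num : 1 < 2) |>.1 h3
    omega
  have h3 : ((u ^ 2 ^ (s - 1) : Fˣ) : F) * ((u ^ 2 ^ (s - 1) : Fˣ) : F) = 1 := by
    rw [← Units.val_mul, h1, Units.val_one]
  rcases mul_self_eq_one_iff.1 h3 with h4 | h4
  · exact absurd (Units.ext h4) h2
  · exact Units.ext (by rw [h4]; simp)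

theorem card_gl2 {ℓ : ℕ} [hℓ : Fact ℓ.Prime] : Nat.card (GL (Fin 2) (ZMod ℓ)) = (ℓ - 1) * ((ℓ - 1) * (ℓ + 1) * ℓ) := by
  rw [Matrix.card_GL_field, Fin.prod_univ_two, ZMod.card]
  obtain ⟨m, rfl⟩ : ∃ m, ℓ = m + 1 := ⟨ℓ - 1, (Nat.sub_add_cancel hℓ.out.pos).symm⟩
  simp only [Nat.add_sub_cancel, Fin.val_zero, Fin.val_one, pow_zero, pow_one]
  have h1 : (m + 1) ^ 2 - 1 = m * (m + 1 + 1) := Nat.sub_eq_of_eq_add (by ring)
  have h2 : (m + 1) ^ 2 - (m + 1) = m * (m + 1) := Nat.sub_eq_of_eq_add (by ring)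
  rw [h1, h2]
  ring

theorem card_units_zmod {ℓ : ℕ} [hℓ : Fact ℓ.Prime] : Nat.card (ZMod ℓ)ˣ = ℓ - 1 := by
  rw [Nat.card_eq_fintype_card, ZMod.card_units]

end Arith

section Basics

variable (K : Type) [Field K]

/-- Diagonal matrices -/
def dgHom : Kˣ × Kˣ →* GL (Fin 2) K where
  toFun p := ⟨!![(p.1 : K), 0; 0, (p.2 : K)], !![((p.1⁻¹ : Kˣ) : K), 0; 0, ((p.2⁻¹ : Kˣ) : K)],
    by simp [Matrix.mul_fin_two, Matrix.one_fin_two], by simp [Matrix.mul_fin_two, Matrix.one_fin_two]⟩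
  map_one' := Units.ext (by simp [Matrix.one_fin_two])
  map_mul' p q := Units.ext (by simp [Matrix.mul_fin_two])

theorem dgHom_val (p : Kˣ × Kˣ) : ((dgHom K p : GL (Fin 2) K) : Matrix (Fin 2) (Fin 2) K) = !![(p.1 : K), 0; 0, (p.2 : K)] := rfl

theorem dgHom_pow (a b : Kˣ) (k : ℕ) : dgHom K (a, b) ^ k = dgHom K (a ^ k, b ^ k) := by
  rw [← map_pow, Prod.pow_mk]

/-- The swap matrix. -/
def wM : GL (Fin 2) K := ⟨!![0, 1; 1, 0], !![0, 1; 1, 0],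
    by simp [Matrix.mul_fin_two, Matrix.one_fin_two], by simp [Matrix.mul_fin_two, Matrix.one_fin_two]⟩

theorem wM_val : ((wM K : GL (Fin 2) K) : Matrix (Fin 2) (Fin 2) K) = !![0, 1; 1, 0] := rfl

theorem wM_sq : wM K * wM K = 1 := Units.ext (by simp [wM_val, Matrix.mul_fin_two, Matrix.one_fin_two])

theorem wM_inv : (wM K)⁻¹ = wM K := inv_eq_of_mul_eq_one_left (wM_sq K)

/-- The Hadamard matrix. -/
noncomputable def hM (h2 : (2 : K) ≠ 0) : GL (Fin 2) K :=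
  Matrix.GeneralLinearGroup.mkOfDetNeZero !![1, 1; 1, -1] (by
    rw [Matrix.det_fin_two_of]
    intro h
    apply h2
    linear_combination -h)

theorem hM_val (h2 : (2 : K) ≠ 0) : ((hM K h2 : GL (Fin 2) K) : Matrix (Fin 2) (Fin 2) K) = !![1, 1; 1, -1] := rfl

theorem dg_scalar (c : Kˣ) : dgHom K (c, c) = Matrix.GeneralLinearGroup.scalar (Fin 2) c := by
  apply Units.ext
  rw [dgHom_val, Matrix.GeneralLinearGroup.coe_scalar]
  ext i j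
  fin_cases i <;> fin_cases j <;> simp [Matrix.scalar_apply]

theorem mem_center_iff_dg {u : GL (Fin 2) K} : u ∈ Subgroup.center (GL (Fin 2) K) ↔ ∃ c : Kˣ, u = dgHom K (c, c) := by
  rw [Matrix.GeneralLinearGroup.center_eq_range_scalar]
  constructor
  · rintro ⟨c, rfl⟩
    exact ⟨c, (dg_scalar K c).symm⟩
  · rintro ⟨c, rfl⟩
    exact ⟨c, (dg_scalar K c).symm⟩

theorem card_center_gl {ℓ : ℕ} [hℓ : Fact ℓ.Prime] : Nat.card (Subgroup.center (GL (Fin 2) (ZMod ℓ))) = ℓ - 1 := by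
  rw [Matrix.GeneralLinearGroup.center_eq_range_scalar, ← card_units_zmod]
  have hinj : Function.Injective (Matrix.GeneralLinearGroup.scalar (R := ZMod ℓ) (Fin 2)) := by
    intro a b hab
    rw [← dg_scalar, ← dg_scalar] at hab
    have := congrArg (fun u : GL (Fin 2) (ZMod ℓ) => (u : Matrix (Fin 2) (Fin 2) (ZMod ℓ)) 0 0) hab
    simp only [dgHom_val] at this
    exact Units.ext (by simpa using this)
  exact (Nat.card_congr (MonoidHom.ofInjective hinj).toEquiv).symm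

end Basics

section Dih

theorem dih_data {s : ℕ} (hs : 2 ≤ s) : ∃ (G : Type) (_ : Group G) (_ : Finite G) (X Y g : G) (o : ℕ),
    orderOf X = 2 ^ s ∧ Y ∉ Subgroup.zpowers X ∧ Y * Y = X ^ 0 ∧ Y * X * Y⁻¹ = X ^ (2 ^ s - 1) ∧
    g * X ^ (2 * 2 ^ (s - 2)) * g⁻¹ = X ^ 0 * Y ∧ Odd o ∧ Nat.card G = 2 ^ (s + 1) * o := by
  have h2s : 4 ≤ 2 ^ s := by
    calc 4 = 2 ^ 2 := by norm_num
      _ ≤ 2 ^ s := Nat.pow_le_pow_right (by norm_num) hs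
  have h2e : 2 ^ (s + 1) = 2 * 2 ^ s := by rw [pow_succ']
  obtain ⟨ℓ, k, hℓp, hℓ, hℓ2⟩ := exists_prime_mod (a := 1 + 2 ^ s) (m := s + 1)
    (by
      rw [add_comm]
      exact Even.add_one (Nat.even_pow.2 ⟨even_two, by omega⟩))
    (by omega) (by omega)
  haveI : Fact ℓ.Prime := ⟨hℓp⟩
  have h2 : (2 : ZMod ℓ) ≠ 0 := by
    intro h
    have h3 : ((2 : ℕ) : ZMod ℓ) = 0 := by exact_mod_cast h
    rw [ZMod.natCast_eq_zero_iff] at h3
    have := Nat.le_of_dvd (by norm_num) h3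
    omega
  -- the order computation
  obtain ⟨o₁, ho₁⟩ : ∃ o₁, o₁ = 1 + 2 * k := ⟨_, rfl⟩
  have hℓ1 : ℓ - 1 = 2 ^ s * o₁ := by
    rw [hℓ, ho₁, h2e]
    have : 1 + 2 ^ s + 2 * 2 ^ s * k = 2 ^ s * (1 + 2 * k) + 1 := by ring
    rw [this, Nat.add_sub_cancel]
  obtain ⟨a, ha⟩ : ∃ a : (ZMod ℓ)ˣ, orderOf a = 2 ^ s :=
    exists_order_of_dvd (by rw [card_units_zmod, hℓ1]; exact dvd_mul_right _ _)
  have han : a ^ 2 ^ (s - 1) = -1 := pow_half_eq_neg_one (by omega) ha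
  let Z := Subgroup.center (GL (Fin 2) (ZMod ℓ))
  let π : GL (Fin 2) (ZMod ℓ) →* GL (Fin 2) (ZMod ℓ) ⧸ Z := QuotientGroup.mk' Z
  have hπ : ∀ u, π u = 1 ↔ ∃ c : (ZMod ℓ)ˣ, u = dgHom _ (c, c) := by
    intro u
    rw [← mem_center_iff_dg]
    exact QuotientGroup.eq_one_iff u
  have hπc : ∀ c : (ZMod ℓ)ˣ, π (dgHom _ (c, c)) = 1 := fun c => (hπ _).2 ⟨c, rfl⟩
  have hX : ∀ j : ℕ, π (dgHom _ (a, 1)) ^ j = π (dgHom _ (a ^ j, 1)) := by
    intro j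
    rw [← map_pow, dgHom_pow, one_pow]
  have hone : ∀ b : (ZMod ℓ)ˣ, π (dgHom _ (b, 1)) = 1 ↔ b = 1 := by
    intro b
    constructor
    · intro h
      obtain ⟨c, hc⟩ := (hπ _).1 h
      have h00 := congrArg (fun u : GL (Fin 2) (ZMod ℓ) => (u : Matrix (Fin 2) (Fin 2) (ZMod ℓ)) 0 0) hc
      have h11 := congrArg (fun u : GL (Fin 2) (ZMod ℓ) => (u : Matrix (Fin 2) (Fin 2) (ZMod ℓ)) 1 1) hc
      simp only [dgHom_val] at h00 h11
      apply Units.ext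
      simp at h00 h11
      rw [h00, ← h11, Units.val_one]
    · rintro rfl
      exact hπc 1
  refine ⟨_, inferInstance, inferInstance, π (dgHom _ (a, 1)), π (wM _), π (hM _ h2),
    o₁ * (1 + 2 ^ (s - 1) * o₁) * ℓ, ?_, ?_, ?_, ?_, ?_, ?_, ?_⟩
  · rw [← ha]
    apply orderOf_eq_orderOf_iff.2
    intro n
    rw [hX, hone]
  · intro hmem
    obtain ⟨j, hj⟩ := mem_powers_iff_mem_zpowers.2 hmem
    have hj' : π (dgHom _ (a, 1)) ^ j = π (wM _) := hj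
    rw [hX] at hj'
    have h5 : ((dgHom _ (a ^ j, 1))⁻¹ * wM _ : GL (Fin 2) (ZMod ℓ)) ∈ Z := QuotientGroup.eq.1 hj'
    obtain ⟨c, hc⟩ := (mem_center_iff_dg _).1 h5
    have hc' : wM (ZMod ℓ) = dgHom _ (a ^ j, 1) * dgHom _ (c, c) := by
      rw [← hc]
      group
    have h01 := congrArg (fun u : GL (Fin 2) (ZMod ℓ) => (u : Matrix (Fin 2) (Fin 2) (ZMod ℓ)) 0 1) hc'
    simp [wM_val, Units.val_mul, dgHom_val, Matrix.mul_fin_two] at h01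
  · rw [← map_mul, wM_sq, map_one, pow_zero]
  · have hXM : π (dgHom _ (a, 1)) ^ 2 ^ s = 1 := by
      rw [hX, ← ha, pow_orderOf_eq_one]
      exact hπc 1
    have hXinv : π (dgHom _ (a, 1)) ^ (2 ^ s - 1) = (π (dgHom _ (a, 1)))⁻¹ := by
      apply eq_inv_of_mul_eq_one_left
      rw [← pow_succ, Nat.sub_add_cancel (by omega), hXM]
    rw [hXinv, ← map_inv, wM_inv]
    apply eq_inv_of_mul_eq_one_left
    rw [← map_mul, ← map_mul, ← map_mul]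
    have : wM (ZMod ℓ) * dgHom _ (a, 1) * wM _ * dgHom _ (a, 1) = dgHom _ (a, a) := by
      apply Units.ext
      simp [wM_val, Units.val_mul, dgHom_val, Matrix.mul_fin_two]
    rw [this]
    exact hπc a
  · have e1 : 2 * 2 ^ (s - 2) = 2 ^ (s - 1) := by
      rw [← pow_succ']
      congr 1
      omega
    rw [e1, hX, han, pow_zero, one_mul, mul_inv_eq_iff_eq_mul, ← map_mul, ← map_mul]
    have h7 : hM (ZMod ℓ) h2 * dgHom _ (-1, 1) = dgHom _ (-1, -1) * (wM _ * hM _ h2) := by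
      apply Units.ext
      simp [wM_val, hM_val, Units.val_mul, dgHom_val, Matrix.mul_fin_two]
    rw [h7, map_mul, hπc, one_mul]
  · have hodd1 : Odd o₁ := by
      rw [ho₁, add_comm]
      exact Even.add_one (even_two_mul k)
    have hodd2 : Odd (1 + 2 ^ (s - 1) * o₁) := by
      rw [add_comm]
      apply Even.add_one
      exact Even.mul_right (Nat.even_pow.2 ⟨even_two, by omega⟩) _
    have hodd3 : Odd ℓ := hℓp.odd_of_ne_two (by omega)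
    exact (hodd1.mul hodd2).mul hodd3
  · have hc := Subgroup.card_eq_card_quotient_mul_card_subgroup Z
    rw [card_gl2, card_center_gl, hℓ1] at hc
    have hpos : 0 < 2 ^ s * o₁ := by
      have : 0 < o₁ := by omega
      positivity
    have hc2 : Nat.card (GL (Fin 2) (ZMod ℓ) ⧸ Z) = 2 ^ s * o₁ * (ℓ + 1) * ℓ := by
      apply Nat.eq_of_mul_eq_mul_right hpos
      rw [← hc]
      ring
    rw [hc2]
    have hl1 : ℓ + 1 = 2 * (1 + 2 ^ (s - 1) * o₁) := by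
      have h3 : ℓ = 2 ^ s * o₁ + 1 := by omega
      have h4 : 2 ^ s = 2 * 2 ^ (s - 1) := by
        rw [← pow_succ']
        congr 1
        omega
      rw [h3, h4]
      ring
    rw [hl1, pow_succ]
    ring

end Dih

section Quat

theorem mat_eq {K : Type} [Field K] {a b c d a' b' c' d' : K} (h1 : a = a') (h2 : b = b') (h3 : c = c') (h4 : d = d') :
    (!![a, b; c, d] : Matrix (Fin 2) (Fin 2) K) = !![a', b'; c', d'] := by
  subst h1 h2 h3 h4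
  rfl

theorem quat_data {s : ℕ} (hs : 3 ≤ s) : ∃ (G : Type) (_ : Group G) (_ : Finite G) (X Y g : G) (o : ℕ),
    orderOf X = 2 ^ s ∧ Y ∉ Subgroup.zpowers X ∧ Y * Y = X ^ 2 ^ (s - 1) ∧ Y * X * Y⁻¹ = X ^ (2 ^ s - 1) ∧
    g * X ^ (2 * 2 ^ (s - 3)) * g⁻¹ = X ^ 0 * Y ∧ Odd o ∧ Nat.card G = 2 ^ (s + 1) * o := by
  have h2s : 4 ≤ 2 ^ s := by
    calc 4 = 2 ^ 2 := by norm_num
      _ ≤ 2 ^ s := Nat.pow_le_pow_right (by norm_num) (by omega)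
  have h2e : 2 ^ (s + 1) = 2 * 2 ^ s := by rw [pow_succ']
  obtain ⟨ℓ, k, hℓp, hℓ, hℓ2⟩ := exists_prime_mod (a := 1 + 2 ^ s) (m := s + 1)
    (by
      rw [add_comm]
      exact Even.add_one (Nat.even_pow.2 ⟨even_two, by omega⟩))
    (by omega) (by omega)
  haveI : Fact ℓ.Prime := ⟨hℓp⟩
  have h2 : (2 : ZMod ℓ) ≠ 0 := by
    intro h
    have h3 : ((2 : ℕ) : ZMod ℓ) = 0 := by exact_mod_cast h
    rw [ZMod.natCast_eq_zero_iff] at h3
    have := Nat.le_of_dvd (by norm_num) h3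
    omega
  obtain ⟨o₁, ho₁⟩ : ∃ o₁, o₁ = 1 + 2 * k := ⟨_, rfl⟩
  have hℓ1 : ℓ - 1 = 2 ^ s * o₁ := by
    rw [hℓ, ho₁, h2e]
    have : 1 + 2 ^ s + 2 * 2 ^ s * k = 2 ^ s * (1 + 2 * k) + 1 := by ring
    rw [this, Nat.add_sub_cancel]
  obtain ⟨a, ha⟩ : ∃ a : (ZMod ℓ)ˣ, orderOf a = 2 ^ s :=
    exists_order_of_dvd (by rw [card_units_zmod, hℓ1]; exact dvd_mul_right _ _)
  have han : a ^ 2 ^ (s - 1) = -1 := pow_half_eq_neg_one (by omega) ha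
  obtain ⟨i, hi⟩ : ∃ i : (ZMod ℓ)ˣ, i = a ^ 2 ^ (s - 2) := ⟨_, rfl⟩
  have hii : i * i = -1 := by
    rw [hi, ← pow_add, ← two_mul, ← pow_succ', ← han]
    congr 2
    omega
  have hι : ((i : (ZMod ℓ)ˣ) : ZMod ℓ) * ((i : (ZMod ℓ)ˣ) : ZMod ℓ) = -1 := by
    rw [← Units.val_mul, hii]
    simp
  obtain ⟨ι, hιdef⟩ : ∃ ι : ZMod ℓ, ι = ((i : (ZMod ℓ)ˣ) : ZMod ℓ) := ⟨_, rfl⟩
  rw [← hιdef] at hι
  have hι0 : ι ≠ 0 := by
    rw [hιdef]
    exact Units.ne_zero i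
  have hiinv : ((i⁻¹ : (ZMod ℓ)ˣ) : ZMod ℓ) = -ι := by
    rw [Units.val_inv_eq_inv_val, ← hιdef]
    exact (eq_inv_of_mul_eq_one_left (by linear_combination -hι : (-ι) * ι = 1)).symm
  let D : GL (Fin 2) (ZMod ℓ) →* (ZMod ℓ)ˣ := Matrix.GeneralLinearGroup.det
  have hD : ∀ u : GL (Fin 2) (ZMod ℓ), u ∈ D.ker ↔ (u : Matrix (Fin 2) (Fin 2) (ZMod ℓ)).det = 1 := by
    intro u
    rw [MonoidHom.mem_ker]
    constructor
    · intro h
      have := congrArg Units.val h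
      simpa [D] using this
    · intro h
      exact Units.ext (by simpa [D] using h)
  have hdgmem : ∀ b : (ZMod ℓ)ˣ, dgHom _ (b, b⁻¹) ∈ D.ker := by
    intro b
    rw [hD, dgHom_val, Matrix.det_fin_two_of]
    show (b : ZMod ℓ) * ((b⁻¹ : (ZMod ℓ)ˣ) : ZMod ℓ) - 0 * 0 = 1
    rw [mul_zero, sub_zero, Units.mul_inv]
  let wQ : GL (Fin 2) (ZMod ℓ) := Matrix.GeneralLinearGroup.mkOfDetNeZero !![0, 1; -1, 0] (by
    rw [Matrix.det_fin_two_of, mul_zero, mul_neg, mul_one, sub_neg_eq_add, zero_add]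
    exact one_ne_zero)
  have hwQ : (wQ : Matrix (Fin 2) (Fin 2) (ZMod ℓ)) = !![0, 1; -1, 0] := rfl
  obtain ⟨u, hu⟩ : ∃ u : ZMod ℓ, u = (-(2 * ι))⁻¹ := ⟨_, rfl⟩
  have hu1 : u * (-(2 * ι)) = 1 := by
    rw [hu]
    apply inv_mul_cancel₀
    simp [h2, hι0]
  have hdetg : (!![1, u; ι, -(u * ι)] : Matrix (Fin 2) (Fin 2) (ZMod ℓ)).det = 1 := by
    rw [Matrix.det_fin_two_of]
    linear_combination hu1
  let gQ : GL (Fin 2) (ZMod ℓ) := Matrix.GeneralLinearGroup.mkOfDetNeZero !![1, u; ι, -(u * ι)] (by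
    rw [hdetg]
    exact one_ne_zero)
  have hgQ : (gQ : Matrix (Fin 2) (Fin 2) (ZMod ℓ)) = !![1, u; ι, -(u * ι)] := rfl
  have hwmem : wQ ∈ D.ker := by
    rw [hD, hwQ, Matrix.det_fin_two_of, mul_zero, mul_neg, mul_one, sub_neg_eq_add, zero_add]
  have hgmem : gQ ∈ D.ker := by
    rw [hD, hgQ, hdetg]
  let X : D.ker := ⟨dgHom _ (a, a⁻¹), hdgmem a⟩
  let Y : D.ker := ⟨wQ, hwmem⟩
  let g : D.ker := ⟨gQ, hgmem⟩
  have hXv : ∀ j : ℕ, ((X ^ j : D.ker) : GL (Fin 2) (ZMod ℓ)) = dgHom _ (a ^ j, (a⁻¹) ^ j) := by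
    intro j
    rw [Subgroup.coe_pow, dgHom_pow]
  have hXone : ∀ j : ℕ, X ^ j = 1 ↔ a ^ j = 1 := by
    intro j
    constructor
    · intro h
      have h1 := congrArg (fun v : D.ker => ((v : GL (Fin 2) (ZMod ℓ)) : Matrix (Fin 2) (Fin 2) (ZMod ℓ)) 0 0) h
      simp only [hXv, dgHom_val] at h1
      apply Units.ext
      simpa using h1
    · intro h
      apply Subtype.ext
      rw [hXv, h, inv_pow, h, inv_one]
      exact map_one (dgHom (ZMod ℓ))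
  have hXM : X ^ 2 ^ s = 1 := (hXone _).2 (by rw [← ha, pow_orderOf_eq_one])
  have hXinv : X ^ (2 ^ s - 1) = X⁻¹ := by
    apply eq_inv_of_mul_eq_one_left
    rw [← pow_succ, Nat.sub_add_cancel (by omega), hXM]
  refine ⟨D.ker, inferInstance, inferInstance, X, Y, g, o₁ * (1 + 2 ^ (s - 1) * o₁) * ℓ, ?_, ?_, ?_, ?_, ?_, ?_, ?_⟩
  · rw [← ha]
    apply orderOf_eq_orderOf_iff.2
    exact hXone
  · intro hmem
    obtain ⟨j, hj⟩ := mem_powers_iff_mem_zpowers.2 hmem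
    have hj' : X ^ j = Y := hj
    have h1 := congrArg (fun v : D.ker => ((v : GL (Fin 2) (ZMod ℓ)) : Matrix (Fin 2) (Fin 2) (ZMod ℓ)) 0 0) hj'
    simp only [hXv, dgHom_val, Y, hwQ] at h1
    simp at h1
  · apply Subtype.ext
    rw [hXv, inv_pow, han]
    apply Units.ext
    show (wQ : Matrix (Fin 2) (Fin 2) (ZMod ℓ)) * (wQ : Matrix (Fin 2) (Fin 2) (ZMod ℓ)) = _
    rw [hwQ, dgHom_val, Matrix.mul_fin_two]
    have h1 : (-1 : (ZMod ℓ)ˣ) = -1 := rfl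
    have h3 : (((-1 : (ZMod ℓ)ˣ)⁻¹ : (ZMod ℓ)ˣ) : ZMod ℓ) = -1 := by
      rw [inv_neg_one]
      rfl
    refine mat_eq ?_ ?_ ?_ ?_
    · show 0 * 0 + 1 * (-1) = (((-1 : (ZMod ℓ)ˣ) : (ZMod ℓ)ˣ) : ZMod ℓ)
      rw [Units.val_neg, Units.val_one]
      ring
    · show 0 * 1 + 1 * 0 = 0
      ring
    · show -1 * 0 + 0 * (-1) = 0
      ring
    · show -1 * 1 + 0 * 0 = (((-1 : (ZMod ℓ)ˣ)⁻¹ : (ZMod ℓ)ˣ) : ZMod ℓ)
      rw [h3]
      ring
  · rw [hXinv, mul_inv_eq_iff_eq_mul]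
    apply mul_left_cancel (a := X)
    rw [mul_inv_cancel_left]
    apply Subtype.ext
    apply Units.ext
    show ((dgHom _ (a, a⁻¹) : GL (Fin 2) (ZMod ℓ)) : Matrix (Fin 2) (Fin 2) (ZMod ℓ)) * ((wQ : Matrix (Fin 2) (Fin 2) (ZMod ℓ)) * ((dgHom _ (a, a⁻¹) : GL (Fin 2) (ZMod ℓ)) : Matrix (Fin 2) (Fin 2) (ZMod ℓ))) = wQ
    rw [hwQ, dgHom_val, Matrix.mul_fin_two, Matrix.mul_fin_two]
    have h1 : (a : ZMod ℓ) * ((a⁻¹ : (ZMod ℓ)ˣ) : ZMod ℓ) = 1 := Units.mul_inv a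
    have h2' : ((a⁻¹ : (ZMod ℓ)ˣ) : ZMod ℓ) * (a : ZMod ℓ) = 1 := Units.inv_mul a
    refine mat_eq ?_ ?_ ?_ ?_
    · show (a : ZMod ℓ) * (0 * (a : ZMod ℓ) + 1 * 0) + 0 * (-1 * (a : ZMod ℓ) + 0 * 0) = 0
      ring
    · show (a : ZMod ℓ) * (0 * 0 + 1 * ((a⁻¹ : (ZMod ℓ)ˣ) : ZMod ℓ)) + 0 * (-1 * 0 + 0 * ((a⁻¹ : (ZMod ℓ)ˣ) : ZMod ℓ)) = 1
      linear_combination h1
    · show 0 * (0 * (a : ZMod ℓ) + 1 * 0) + ((a⁻¹ : (ZMod ℓ)ˣ) : ZMod ℓ) * (-1 * (a : ZMod ℓ) + 0 * 0) = -1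
      linear_combination -h2'
    · show 0 * (0 * 0 + 1 * ((a⁻¹ : (ZMod ℓ)ˣ) : ZMod ℓ)) + ((a⁻¹ : (ZMod ℓ)ˣ) : ZMod ℓ) * (-1 * 0 + 0 * ((a⁻¹ : (ZMod ℓ)ˣ) : ZMod ℓ)) = 0
      ring
  · rw [pow_zero, one_mul, mul_inv_eq_iff_eq_mul]
    apply Subtype.ext
    apply Units.ext
    have e1 : 2 * 2 ^ (s - 3) = 2 ^ (s - 2) := by
      rw [← pow_succ']
      congr 1
      omega
    show ((g : GL (Fin 2) (ZMod ℓ)) : Matrix (Fin 2) (Fin 2) (ZMod ℓ)) * (((X ^ (2 * 2 ^ (s - 3)) : D.ker) : GL (Fin 2) (ZMod ℓ)) : Matrix (Fin 2) (Fin 2) (ZMod ℓ)) = (wQ : Matrix (Fin 2) (Fin 2) (ZMod ℓ)) * (gQ : Matrix (Fin 2) (Fin 2) (ZMod ℓ))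
    rw [hXv, e1, inv_pow, ← hi, dgHom_val]
    show (gQ : Matrix (Fin 2) (Fin 2) (ZMod ℓ)) * _ = _
    rw [hwQ, hgQ]
    rw [Matrix.mul_fin_two, Matrix.mul_fin_two]
    refine mat_eq ?_ ?_ ?_ ?_
    · show 1 * ((i : (ZMod ℓ)ˣ) : ZMod ℓ) + u * 0 = 0 * 1 + 1 * ι
      rw [← hιdef]
      ring
    · show 1 * 0 + u * ((i⁻¹ : (ZMod ℓ)ˣ) : ZMod ℓ) = 0 * u + 1 * (-(u * ι))
      rw [hiinv]
      ring
    · show ι * ((i : (ZMod ℓ)ˣ) : ZMod ℓ) + (-(u * ι)) * 0 = -1 * 1 + 0 * ι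
      rw [← hιdef]
      linear_combination hι
    · show ι * 0 + (-(u * ι)) * ((i⁻¹ : (ZMod ℓ)ˣ) : ZMod ℓ) = -1 * u + 0 * (-(u * ι))
      rw [hiinv]
      linear_combination u * hι
  · have hodd1 : Odd o₁ := by
      rw [ho₁, add_comm]
      exact Even.add_one (even_two_mul k)
    have hodd2 : Odd (1 + 2 ^ (s - 1) * o₁) := by
      rw [add_comm]
      apply Even.add_one
      exact Even.mul_right (Nat.even_pow.2 ⟨even_two, by omega⟩) _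
    have hodd3 : Odd ℓ := hℓp.odd_of_ne_two (by omega)
    exact (hodd1.mul hodd2).mul hodd3
  · have hc := Subgroup.card_mul_index D.ker
    have hrange : D.range = ⊤ := by
      rw [MonoidHom.range_eq_top]
      intro c
      refine ⟨dgHom _ (c, 1), ?_⟩
      apply Units.ext
      show ((dgHom _ (c, 1) : GL (Fin 2) (ZMod ℓ)) : Matrix (Fin 2) (Fin 2) (ZMod ℓ)).det = c
      rw [dgHom_val, Matrix.det_fin_two_of]
      simp
    have hidx : D.ker.index = ℓ - 1 := by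
      rw [Subgroup.index_ker, hrange, Subgroup.card_top, card_units_zmod]
    rw [hidx, card_gl2, hℓ1] at hc
    have hpos : 0 < 2 ^ s * o₁ := by
      have : 0 < o₁ := by omega
      positivity
    have hc2 : Nat.card D.ker = 2 ^ s * o₁ * (ℓ + 1) * ℓ := by
      apply Nat.eq_of_mul_eq_mul_right hpos
      rw [hc]
      ring
    rw [hc2]
    have hl1 : ℓ + 1 = 2 * (1 + 2 ^ (s - 1) * o₁) := by
      have h3 : ℓ = 2 ^ s * o₁ + 1 := by omega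
      have h4 : 2 ^ s = 2 * 2 ^ (s - 1) := by
        rw [← pow_succ']
        congr 1
        omega
      rw [h3, h4]
      ring
    rw [hl1, pow_succ]
    ring

end Quat

end Cfsg.Agent.Lib.Fusion2.SuperSol
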