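/-
Semidihedral Sylow `2`-subgroups of `GL₂`.
-/
import Cfsg.Agent.Lib.Fusion2.MetaGL
import Mathlib.FieldTheory.Finite.GaloisField

set_option autoImplicit false
set_option linter.unusedSectionVars false

namespace Cfsg.Agent.Lib.Fusion2.SuperSol

open Matrix

section Setup

variable {ℓ : ℕ} [hℓ : Fact ℓ.Prime] {L : Type} [Field L] [Algebra (ZMod ℓ) L]

/-- Multiplication as a linear equivalence. -/
def mulE (u : Lˣ) : L ≃ₗ[ZMod ℓ] L where
  toFun v := (u : L) * v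
  invFun v := ((u⁻¹ : Lˣ) : L) * v
  map_add' := mul_add _
  map_smul' c v := mul_smul_comm c (u : L) v
  left_inv v := by simp
  right_inv v := by simp

@[simp] theorem mulE_apply (u : Lˣ) (v : L) : mulE (ℓ := ℓ) u v = (u : L) * v := rfl

/-- Multiplication as a homomorphism. -/
def mulEHom : Lˣ →* (L ≃ₗ[ZMod ℓ] L) :=
  MonoidHom.mk' mulE (fun a b => LinearEquiv.ext fun v => by
    simp [LinearEquiv.mul_apply, mul_assoc])

theorem mulEHom_apply (u : Lˣ) (v : L) : mulEHom (ℓ := ℓ) u v = (u : L) * v := rfl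

theorem mulEHom_inj : Function.Injective (mulEHom (ℓ := ℓ) (L := L)) := by
  intro a b h
  have := congrArg (fun f : L ≃ₗ[ZMod ℓ] L => f 1) h
  simp only [mulEHom_apply, mul_one] at this
  exact Units.ext this

/-- Conjugates of the base. -/
theorem pow_eq_of_algebraMap (c : ZMod ℓ) : (algebraMap (ZMod ℓ) L c) ^ ℓ = algebraMap (ZMod ℓ) L c := by
  rw [← map_pow, ZMod.pow_card]

theorem smul_one_pow (c : ZMod ℓ) : (c • (1 : L)) ^ ℓ = c • (1 : L) := by
  rw [← Algebra.algebraMap_eq_smul_one, pow_eq_of_algebraMap]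

/-- Frobenius as a linear equivalence. -/
noncomputable def frobE [CharP L ℓ] (h : ∀ v : L, (v ^ ℓ) ^ ℓ = v) : L ≃ₗ[ZMod ℓ] L where
  toFun v := v ^ ℓ
  invFun v := v ^ ℓ
  map_add' x y := add_pow_char x y ℓ
  map_smul' c v := by
    simp only [RingHom.id_apply]
    rw [smul_pow, ZMod.pow_card]
  left_inv := h
  right_inv := h

/-- The coordinates with respect to `1, z`. -/
noncomputable def coordE (hr : Module.finrank (ZMod ℓ) L = 2) [Module.Finite (ZMod ℓ) L] (z : L) (hz : z ^ ℓ ≠ z) :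
    (ZMod ℓ × ZMod ℓ) ≃ₗ[ZMod ℓ] L :=
  LinearMap.linearEquivOfInjective
    ((LinearMap.toSpanSingleton (ZMod ℓ) L 1).coprod (LinearMap.toSpanSingleton (ZMod ℓ) L z))
    (by
      rw [← LinearMap.ker_eq_bot, LinearMap.ker_eq_bot']
      rintro ⟨u, t⟩ h
      have h1 : u • (1 : L) + t • z = 0 := by simpa using h
      have ht : t = 0 := by
        by_contra ht
        apply hz
        have h2 : z = (-(t⁻¹ * u)) • (1 : L) := by
          have h3 : t • z = -(u • (1 : L)) := eq_neg_of_add_eq_zero_right h1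
          calc z = t⁻¹ • (t • z) := by rw [inv_smul_smul₀ ht]
            _ = (-(t⁻¹ * u)) • (1 : L) := by rw [h3, smul_neg, smul_smul, neg_smul]
        rw [h2, smul_one_pow]
      subst ht
      have hu : u = 0 := by
        have : u • (1 : L) = 0 := by simpa using h1
        have h5 := congrArg id this
        rw [← Algebra.algebraMap_eq_smul_one] at h5
        exact (map_eq_zero_iff (algebraMap (ZMod ℓ) L) (algebraMap (ZMod ℓ) L).injective).1 h5
      subst hu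
      rfl)
    (by rw [hr, Module.finrank_prod, Module.finrank_self])

theorem coordE_apply (hr : Module.finrank (ZMod ℓ) L = 2) [Module.Finite (ZMod ℓ) L] (z : L) (hz : z ^ ℓ ≠ z) (u t : ZMod ℓ) :
    coordE hr z hz (u, t) = u • (1 : L) + t • z := by
  simp [coordE]

theorem card_linearAut [Module.Finite (ZMod ℓ) L] (hr : Module.finrank (ZMod ℓ) L = 2) :
    Nat.card (L ≃ₗ[ZMod ℓ] L) = Nat.card (GL (Fin 2) (ZMod ℓ)) := by
  let b : L ≃ₗ[ZMod ℓ] (Fin 2 → ZMod ℓ) := LinearEquiv.ofFinrankEq _ _ (by rw [hr]; simp)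
  have e1 : (L ≃ₗ[ZMod ℓ] L) ≃ ((Fin 2 → ZMod ℓ) ≃ₗ[ZMod ℓ] (Fin 2 → ZMod ℓ)) :=
    { toFun := fun φ => b.symm.trans (φ.trans b)
      invFun := fun ψ => b.trans (ψ.trans b.symm)
      left_inv := fun φ => by ext v; simp
      right_inv := fun ψ => by ext v; simp }
  have e2 : GL (Fin 2) (ZMod ℓ) ≃* ((Fin 2 → ZMod ℓ) ≃ₗ[ZMod ℓ] (Fin 2 → ZMod ℓ)) :=
    Matrix.GeneralLinearGroup.toLin.trans (LinearMap.GeneralLinearGroup.generalLinearEquiv _ _)
  rw [Nat.card_congr e1, Nat.card_congr e2.toEquiv]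

end Setup

section SD

theorem sd_data {n : ℕ} (hn : 3 ≤ n) : ∃ (G : Type) (_ : Group G) (_ : Finite G) (X Y g : G) (o : ℕ),
    orderOf X = 2 ^ n ∧ Y ∉ Subgroup.zpowers X ∧ Y * Y = X ^ 0 ∧ Y * X * Y⁻¹ = X ^ (2 ^ (n - 1) - 1) ∧
    g * X ^ (2 * 2 ^ (n - 3)) * g⁻¹ = X ^ 1 * Y ∧ Odd o ∧ Nat.card G = 2 ^ (n + 1) * o := by
  have h2n1 : 4 ≤ 2 ^ (n - 1) := by
    calc 4 = 2 ^ 2 := by norm_num
      _ ≤ 2 ^ (n - 1) := Nat.pow_le_pow_right (by norm_num) (by omega)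
  have h2n : 2 ^ n = 2 * 2 ^ (n - 1) := by
    rw [← pow_succ']
    congr 1
    omega
  have h2n2 : 2 ^ (n - 1) = 2 * 2 ^ (n - 2) := by
    rw [← pow_succ']
    congr 1
    omega
  have h2n3 : 2 ^ (n - 2) = 2 * 2 ^ (n - 3) := by
    rw [← pow_succ']
    congr 1
    omega
  have h2pos : 0 < 2 ^ (n - 3) := by positivity
  obtain ⟨ℓ, k, hℓp, hℓ, hℓ2⟩ := exists_prime_mod (a := 2 ^ (n - 1) - 1) (m := n)
    (by
      have : Even (2 ^ (n - 1)) := Nat.even_pow.2 ⟨even_two, by omega⟩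
      exact Nat.Even.sub_odd (by omega) this odd_one)
    (by omega) (by omega)
  haveI : Fact ℓ.Prime := ⟨hℓp⟩
  obtain ⟨o₁, ho₁⟩ : ∃ o₁, o₁ = 1 + 2 * k := ⟨_, rfl⟩
  obtain ⟨o₂, ho₂⟩ : ∃ o₂, o₂ = 2 ^ (n - 2) - 1 + 2 ^ (n - 1) * k := ⟨_, rfl⟩
  have hp1 : ℓ + 1 = 2 ^ (n - 1) * o₁ := by
    rw [hℓ, ho₁, h2n]
    have : 1 ≤ 2 ^ (n - 1) := by omega
    zify [this]
    ring
  have hm1 : ℓ - 1 = 2 * o₂ := by
    have e1 : ℓ = 2 * o₂ + 1 := by
      rw [hℓ, ho₂, h2n, h2n2]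
      have h6 : 1 ≤ 2 ^ (n - 2) := by omega
      have h7 : 1 ≤ 2 * 2 ^ (n - 2) := by omega
      zify [h6, h7]
      ring
    omega
  have hodd1 : Odd o₁ := by
    rw [ho₁, add_comm]
    exact Even.add_one (even_two_mul k)
  have hodd2 : Odd o₂ := by
    rw [ho₂]
    have h8 : Even (2 ^ (n - 1) * k) := Even.mul_right (Nat.even_pow.2 ⟨even_two, by omega⟩) _
    have h9 : Odd (2 ^ (n - 2) - 1) :=
      Nat.Even.sub_odd (by omega) (Nat.even_pow.2 ⟨even_two, by omega⟩) odd_one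
    exact h9.add_even h8
  have hodd3 : Odd ℓ := hℓp.odd_of_ne_two (by omega)
  -- the field
  let L := GaloisField ℓ 2
  have hr : Module.finrank (ZMod ℓ) L = 2 := GaloisField.finrank ℓ (by norm_num)
  have hcardL : Nat.card L = ℓ ^ 2 := GaloisField.card ℓ 2 (by norm_num)
  haveI : Finite L := Nat.finite_of_card_ne_zero (by
    rw [hcardL]
    exact pow_ne_zero _ hℓp.ne_zero)
  haveI : Module.Finite (ZMod ℓ) L := Module.Finite.of_finite
  have hpow2 : ∀ v : L, (v ^ ℓ) ^ ℓ = v := by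
    intro v
    letI := Fintype.ofFinite L
    have h1 := FiniteField.pow_card v
    rw [Fintype.card_eq_nat_card, hcardL] at h1
    rw [← pow_mul, ← pow_two, h1]
  have hcardU : Nat.card Lˣ = ℓ ^ 2 - 1 := by
    rw [Nat.card_units, hcardL]
  have hsq : ℓ ^ 2 - 1 = (ℓ - 1) * (ℓ + 1) := by
    obtain ⟨m, rfl⟩ : ∃ m, ℓ = m + 1 := ⟨ℓ - 1, (Nat.sub_add_cancel hℓp.pos).symm⟩
    rw [Nat.add_sub_cancel]
    exact Nat.sub_eq_of_eq_add (by ring)
  obtain ⟨x, hx⟩ : ∃ x : Lˣ, orderOf x = 2 ^ n := by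
    apply exists_order_of_dvd
    rw [hcardU, hsq, hm1, hp1, h2n, mul_mul_mul_comm]
    exact dvd_mul_right _ _
  have hxn : x ^ 2 ^ (n - 1) = -1 := pow_half_eq_neg_one (by omega) hx
  have hxM : x ^ 2 ^ n = 1 := by rw [← hx, pow_orderOf_eq_one]
  obtain ⟨a, ha⟩ : ∃ a, a = 2 ^ (n - 1) - 1 := ⟨_, rfl⟩
  have hxℓ : x ^ ℓ = x ^ a := by
    have hgen : ∀ m, m = a + 2 ^ n * k → x ^ m = x ^ a := by
      rintro m rfl
      rw [pow_add, pow_mul, hxM, one_pow, mul_one]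
    exact hgen ℓ (by rw [ha]; exact hℓ)
  have hxℓ1 : ((x : L)) ^ ℓ * (x : L) = -1 := by
    have : x ^ ℓ * x = -1 := by
      rw [← pow_succ, hp1, pow_mul, hxn]
      obtain ⟨q, hq⟩ := hodd1
      rw [hq, pow_succ, pow_mul]
      simp
    have h1 := congrArg (Units.val) this
    simpa using h1
  obtain ⟨i, hi⟩ : ∃ i, i = x ^ 2 ^ (n - 2) := ⟨_, rfl⟩
  have hii : ((i : Lˣ) : L) * ((i : Lˣ) : L) = -1 := by
    have : i * i = -1 := by
      rw [hi, ← pow_add, ← two_mul, ← h2n2, hxn]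
    have h1 := congrArg (Units.val) this
    simpa using h1
  haveI hchar : CharP L ℓ := charP_of_injective_algebraMap (algebraMap (ZMod ℓ) L).injective ℓ
  have h2L : (2 : L) ≠ 0 := by
    intro h
    have h3 : ((2 : ℕ) : L) = 0 := by exact_mod_cast h
    rw [CharP.cast_eq_zero_iff L ℓ] at h3
    have := Nat.le_of_dvd (by norm_num) h3
    omega
  have hi0 : ((i : Lˣ) : L) ≠ 0 := Units.ne_zero i
  have hiℓ : (i : L) ^ ℓ = -(i : L) := by
    have h1 : i ^ (ℓ + 1) = 1 := by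
      rw [hi, hp1, ← pow_mul, h2n3]
      have : 2 * 2 ^ (n - 3) * (2 ^ (n - 1) * o₁) = 2 ^ n * (2 ^ (n - 3) * o₁) := by
        rw [h2n]
        ring
      rw [this, pow_mul, hxM, one_pow]
    have h2 : (i : L) ^ ℓ * (i : L) = 1 := by
      have := congrArg (Units.val) h1
      rw [pow_succ] at this
      simpa using this
    have h3 : (-(i : L)) * (i : L) = 1 := by
      rw [neg_mul, hii, neg_neg]
    exact mul_right_cancel₀ hi0 (h2.trans h3.symm)
  have hiz : (i : L) ^ ℓ ≠ (i : L) := by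
    intro h
    rw [hiℓ] at h
    have h3 : (2 : L) * (i : L) = 0 := by
      linear_combination -h
    rcases mul_eq_zero.1 h3 with h4 | h4
    · exact h2L h4
    · exact hi0 h4
  have hxz : (x : L) ^ ℓ ≠ (x : L) := by
    intro h
    apply hiz
    rw [hi, Units.val_pow_eq_pow_val, ← pow_mul, mul_comm, pow_mul, h]
  haveI hfinG : Finite (L ≃ₗ[ZMod ℓ] L) := Finite.of_injective (fun f : L ≃ₗ[ZMod ℓ] L => (f : L → L)) DFunLike.coe_injective
  let X : L ≃ₗ[ZMod ℓ] L := mulEHom x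
  let Y : L ≃ₗ[ZMod ℓ] L := frobE hpow2
  have hYv : ∀ v, Y v = v ^ ℓ := fun v => rfl
  have hXj : ∀ (j : ℕ) (v : L), (X ^ j) v = ((x ^ j : Lˣ) : L) * v := by
    intro j v
    show ((mulEHom x) ^ j) v = _
    rw [← map_pow, mulEHom_apply]
  refine ⟨L ≃ₗ[ZMod ℓ] L, inferInstance, hfinG, X, Y, (coordE hr (i : L) hiz).symm.trans (coordE hr (x : L) hxz),
    o₂ * o₂ * o₁ * ℓ, ?_, ?_, ?_, ?_, ?_, ?_, ?_⟩
  · rw [← hx]
    exact orderOf_injective _ mulEHom_inj x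
  · intro hmem
    obtain ⟨j, hj⟩ := mem_powers_iff_mem_zpowers.2 hmem
    have hj' : X ^ j = Y := hj
    have h1 := congrArg (fun f : L ≃ₗ[ZMod ℓ] L => f 1) hj'
    simp only [hXj, hYv, mul_one, one_pow] at h1
    have h2 : X ^ j = 1 := by
      ext v
      rw [hXj, h1, one_mul]
      rfl
    rw [h2] at hj'
    have h3 := congrArg (fun f : L ≃ₗ[ZMod ℓ] L => f (x : L)) hj'
    simp only [hYv] at h3
    exact hxz h3.symm
  · ext v
    show ((v ^ ℓ) ^ ℓ) = _
    rw [hpow2]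
    rfl
  · rw [mul_inv_eq_iff_eq_mul]
    ext v
    show Y (X v) = (X ^ _) (Y v)
    rw [hXj, hYv, hYv, ← ha]
    show ((x : L) * v) ^ ℓ = _
    rw [mul_pow, ← Units.val_pow_eq_pow_val, hxℓ]
  · rw [pow_one, mul_inv_eq_iff_eq_mul]
    ext v
    obtain ⟨⟨u, t⟩, rfl⟩ := (coordE hr (i : L) hiz).surjective v
    have e0 : 2 * 2 ^ (n - 3) = 2 ^ (n - 2) := h2n3.symm
    have e1 : (X ^ (2 * 2 ^ (n - 3))) (coordE hr (i : L) hiz (u, t)) = coordE hr (i : L) hiz (-t, u) := by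
      rw [hXj, e0, ← hi, coordE_apply, coordE_apply]
      simp only [Algebra.smul_def, map_neg, mul_one]
      linear_combination (algebraMap (ZMod ℓ) L t) * hii
    have hg : ∀ p, ((coordE hr (i : L) hiz).symm.trans (coordE hr (x : L) hxz)) (coordE hr (i : L) hiz p) = coordE hr (x : L) hxz p := by
      intro p
      simp
    show ((coordE hr (i : L) hiz).symm.trans (coordE hr (x : L) hxz)) ((X ^ (2 * 2 ^ (n - 3))) (coordE hr (i : L) hiz (u, t))) =
      X (Y (((coordE hr (i : L) hiz).symm.trans (coordE hr (x : L) hxz)) (coordE hr (i : L) hiz (u, t))))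
    rw [e1, hg, hg, coordE_apply, coordE_apply, map_add, map_smul, map_smul, hYv, hYv, one_pow]
    show _ = (x : L) * (u • (1 : L) + t • ((x : L) ^ ℓ))
    simp only [Algebra.smul_def, map_neg, mul_one]
    linear_combination (-(algebraMap (ZMod ℓ) L t)) * hxℓ1
  · exact ((hodd2.mul hodd2).mul hodd1).mul hodd3
  · rw [card_linearAut hr, card_gl2, hm1, hp1]
    have : 2 ^ (n + 1) = 2 * 2 * 2 ^ (n - 1) := by
      rw [pow_succ, h2n]
      ring
    rw [this]
    ring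

end SD

end Cfsg.Agent.Lib.Fusion2.SuperSol
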