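/-
Metacyclic `p`-groups of supersoluble type.
-/
import Cfsg.Agent.Lib.Fusion2.MetaSD
import Mathlib.GroupTheory.SpecificGroups.Dihedral
import Mathlib.GroupTheory.SpecificGroups.Quaternion

set_option autoImplicit false
set_option linter.unusedSectionVars false

namespace Cfsg.Agent.Lib.Fusion2.SuperSol

open Cfsg Cfsg.FusionSystem Cfsg.Agent.Lib.Fusion

section Small

open QuaternionGroup in
/-- The automorphism of order three of the quaternion group. -/
def q8Fun : QuaternionGroup 2 → QuaternionGroup 2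
  | a i => (![a 0, xa 0, a 2, xa 2] : Fin 4 → QuaternionGroup 2) i
  | xa i => (![xa 3, a 3, xa 1, a 1] : Fin 4 → QuaternionGroup 2) i

theorem q8Fun_mul : ∀ x y, q8Fun (x * y) = q8Fun x * q8Fun y := by
  decide

theorem q8Fun_fun3 : ∀ x, q8Fun (q8Fun (q8Fun x)) = x := by
  decide

theorem q8Fun_ne : q8Fun (QuaternionGroup.a 1) ≠ QuaternionGroup.a 1 := by
  decide

/-- The automorphism of order three. -/
def q8Aut : MulAut (QuaternionGroup 2) where
  toFun := q8Fun
  invFun x := q8Fun (q8Fun x)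
  left_inv := q8Fun_fun3
  right_inv := q8Fun_fun3
  map_mul' := q8Fun_mul

/-- The group `D₄` of order four is homocyclic. -/
def dih2Fun : DihedralGroup 2 → (Multiplicative (ZMod 2) × Multiplicative (ZMod 2)) × PUnit
  | DihedralGroup.r i => ((Multiplicative.ofAdd i, 1), PUnit.unit)
  | DihedralGroup.sr i => ((Multiplicative.ofAdd i, Multiplicative.ofAdd 1), PUnit.unit)

theorem dih2Fun_mul : ∀ x y, dih2Fun (x * y) = dih2Fun x * dih2Fun y := by
  decide

theorem dih2Fun_bij : Function.Bijective dih2Fun := by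
  constructor
  · decide
  · rintro ⟨⟨u, v⟩, ⟨⟩⟩
    revert u v
    decide

theorem ofAdd_one_ne : (Multiplicative.ofAdd (1 : ZMod 2) : Multiplicative (ZMod 2)) ≠ 1 := by decide

/-- The isomorphism. -/
noncomputable def dih2Equiv : DihedralGroup 2 ≃* (Multiplicative (ZMod 2) × Multiplicative (ZMod 2)) × PUnit :=
  MulEquiv.ofBijective (MonoidHom.mk' dih2Fun dih2Fun_mul) dih2Fun_bij

end Small

variable {Ω : Type*} [Group Ω] {S : Subgroup Ω} [Finite S]

/-- Realization of fusion by a group with the same presentation. -/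
theorem family_false [Fact (Nat.Prime 2)] (hS : IsPGroup 2 S) {G : Type*} [Group G] [Finite G] {M s t r i₀ o : ℕ} {x₁ y₁ : S}
    {X Y g : G} (hM : orderOf x₁ = M) (hcard : Nat.card S = 2 * M) (hy₁ : y₁ ∉ Subgroup.zpowers x₁) (h₁ : y₁ * y₁ = x₁ ^ t)
    (h₂ : y₁ * x₁ * y₁⁻¹ = x₁ ^ s) (hM₂ : orderOf X = M) (hy₂ : Y ∉ Subgroup.zpowers X) (h₃ : Y * Y = X ^ t)
    (h₄ : Y * X * Y⁻¹ = X ^ s) (hg : g * X ^ (2 * r) * g⁻¹ = X ^ i₀ * Y) (ho : Odd o) (hcG : Nat.card G = Nat.card S * o)
    (hall : ∀ F : FusionSystem S, F.IsSaturated 2 → F.IsNormal S) : False := by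
  obtain ⟨f, hinj, hfx, hfy⟩ := exists_inj_hom_of_meta hM hcard hy₁ h₁ h₂ hM₂ hy₂ h₃ h₄
  have hM0 : 0 < M := hM ▸ orderOf_pos x₁
  have hidx : (Subgroup.zpowers x₁).index = 2 := by
    have h := Subgroup.card_mul_index (Subgroup.zpowers x₁)
    rw [Nat.card_zpowers, hM, hcard, mul_comm 2 M] at h
    exact Nat.eq_of_mul_eq_mul_left hM0 h
  have hrange : Nat.card f.range = Nat.card S := (Nat.card_congr (MonoidHom.ofInjective hinj).toEquiv).symm
  have hsyl : ¬ 2 ∣ f.range.index := by
    have h := Subgroup.card_mul_index f.range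
    rw [hrange, hcG] at h
    have hS0 : 0 < Nat.card S := Nat.card_pos
    have h1 := Nat.eq_of_mul_eq_mul_left hS0 h
    rw [h1]
    intro h2
    exact (Nat.not_even_iff_odd.2 ho) (even_iff_two_dvd.2 h2)
  refine not_all_normal hS f hinj hsyl hidx (y := x₁ ^ r) (w := x₁ ^ i₀ * y₁) ?_ g ?_ hall
  · intro h
    apply hy₁
    have e : y₁ = (x₁ ^ i₀)⁻¹ * (x₁ ^ i₀ * y₁) := by group
    rw [e]
    exact Subgroup.mul_mem _ (Subgroup.inv_mem _ (Subgroup.npow_mem_zpowers _ _)) h
  · rw [← pow_add, ← two_mul, map_pow, map_mul, map_pow, hfx, hfy, hg]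

theorem dih_false [Fact (Nat.Prime 2)] (hS : IsPGroup 2 S) {s : ℕ} (hs : 2 ≤ s) (e : S ≃* DihedralGroup (2 ^ s))
    (hall : ∀ F : FusionSystem S, F.IsSaturated 2 → F.IsNormal S) : False := by
  obtain ⟨G, _, _, X, Y, g, o, h1, h2, h3, h4, h5, h6, h7⟩ := dih_data hs
  have hpos : 0 < 2 ^ s := by positivity
  haveI : NeZero (2 ^ s) := ⟨hpos.ne'⟩
  have hcard : Nat.card S = 2 * 2 ^ s := by
    rw [Nat.card_congr e.toEquiv, DihedralGroup.nat_card]
  refine family_false hS (M := 2 ^ s) (s := 2 ^ s - 1) (t := 0) (r := 2 ^ (s - 2)) (i₀ := 0) (o := o)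
    (x₁ := e.symm (DihedralGroup.r 1)) (y₁ := e.symm (DihedralGroup.sr 0)) ?_ hcard ?_ ?_ ?_ h1 h2 h3 h4 h5 h6 ?_ hall
  · rw [MulEquiv.orderOf_eq, DihedralGroup.orderOf_r_one]
  · intro hm
    obtain ⟨k, hk⟩ := Subgroup.mem_zpowers_iff.1 hm
    have h8 := congrArg e hk
    simp only [map_zpow, MulEquiv.apply_symm_apply, DihedralGroup.r_one_zpow] at h8
    cases h8
  · apply e.injective
    simp [DihedralGroup.sr_mul_sr]
  · apply e.injective
    simp only [map_mul, map_inv, map_pow, MulEquiv.apply_symm_apply, DihedralGroup.r_one_pow, DihedralGroup.sr_mul_r,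
      DihedralGroup.inv_sr, DihedralGroup.sr_mul_sr]
    congr 1
    rw [Nat.cast_sub hpos, Nat.cast_one]
    have : ((2 ^ s : ℕ) : ZMod (2 ^ s)) = 0 := ZMod.natCast_self _
    rw [this]
    ring
  · rw [h7, hcard]
    rw [pow_succ']

theorem quat_false [Fact (Nat.Prime 2)] (hS : IsPGroup 2 S) {s : ℕ} (hs : 3 ≤ s) (e : S ≃* QuaternionGroup (2 ^ (s - 1)))
    (hall : ∀ F : FusionSystem S, F.IsSaturated 2 → F.IsNormal S) : False := by
  obtain ⟨G, _, _, X, Y, g, o, h1, h2, h3, h4, h5, h6, h7⟩ := quat_data hs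
  have hpos : 0 < 2 ^ (s - 1) := by positivity
  haveI : NeZero (2 ^ (s - 1)) := ⟨hpos.ne'⟩
  have h2s : 2 * 2 ^ (s - 1) = 2 ^ s := by
    rw [← pow_succ']
    congr 1
    omega
  have hcard : Nat.card S = 2 * 2 ^ s := by
    rw [Nat.card_congr e.toEquiv, Nat.card_eq_fintype_card, QuaternionGroup.card, ← h2s]
    ring
  refine family_false hS (M := 2 ^ s) (s := 2 ^ s - 1) (t := 2 ^ (s - 1)) (r := 2 ^ (s - 3)) (i₀ := 0) (o := o)
    (x₁ := e.symm (QuaternionGroup.a 1)) (y₁ := e.symm (QuaternionGroup.xa 0)) ?_ hcard ?_ ?_ ?_ h1 h2 h3 h4 h5 h6 ?_ hall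
  · rw [MulEquiv.orderOf_eq, QuaternionGroup.orderOf_a_one, h2s]
  · intro hm
    obtain ⟨k, hk⟩ := mem_powers_iff_mem_zpowers.2 hm
    have h8 : e.symm (QuaternionGroup.a 1) ^ k = e.symm (QuaternionGroup.xa 0) := hk
    have h9 := congrArg e h8
    simp only [map_pow, MulEquiv.apply_symm_apply, QuaternionGroup.a_one_pow] at h9
    cases h9
  · apply e.injective
    simp only [map_mul, map_pow, MulEquiv.apply_symm_apply, QuaternionGroup.a_one_pow, QuaternionGroup.xa_mul_xa]
    congr 1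
    ring
  · have e0 : e.symm (QuaternionGroup.a 1) ^ (2 ^ s - 1) = (e.symm (QuaternionGroup.a 1))⁻¹ := by
      apply eq_inv_of_mul_eq_one_left
      rw [← pow_succ, Nat.sub_add_cancel (Nat.one_le_two_pow), ← map_pow, ← h2s, QuaternionGroup.a_one_pow_n, map_one]
    rw [e0, mul_inv_eq_iff_eq_mul, eq_inv_mul_iff_mul_eq]
    apply e.injective
    simp only [map_mul, MulEquiv.apply_symm_apply, QuaternionGroup.xa_mul_a, QuaternionGroup.a_mul_xa]
    congr 1
    ring
  · rw [h7, hcard]
    rw [pow_succ']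

theorem sd_false [Fact (Nat.Prime 2)] (hS : IsPGroup 2 S) (h : IsQuasiDihedral S)
    (hall : ∀ F : FusionSystem S, F.IsSaturated 2 → F.IsNormal S) : False := by
  obtain ⟨n, hn, hcard, x, y, hx, hy, hc⟩ := h
  obtain ⟨G, _, _, X, Y, g, o, h1, h2, h3, h4, h5, h6, h7⟩ := sd_data hn
  have h2n1 : 4 ≤ 2 ^ (n - 1) := by
    calc 4 = 2 ^ 2 := by norm_num
      _ ≤ 2 ^ (n - 1) := Nat.pow_le_pow_right (by norm_num) (by omega)
  have h2n : 2 ^ n = 2 * 2 ^ (n - 1) := by
    rw [← pow_succ']
    congr 1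
    omega
  refine family_false hS (M := 2 ^ n) (s := 2 ^ (n - 1) - 1) (t := 0) (r := 2 ^ (n - 3)) (i₀ := 1) (o := o)
    (x₁ := x) (y₁ := y) hx (by rw [hcard, pow_succ']) ?_ ?_ hc h1 h2 h3 h4 h5 h6 (by rw [h7, hcard]) hall
  · intro hm
    obtain ⟨k, rfl⟩ := Subgroup.mem_zpowers_iff.1 hm
    have h8 : x ^ k * x * (x ^ k)⁻¹ = x := by
      rw [(Commute.zpow_self x k).eq]
      simp
    rw [h8] at hc
    have h9 : x ^ (2 ^ (n - 1) - 2) = 1 := by
      have : x ^ (2 ^ (n - 1) - 1) = x ^ (2 ^ (n - 1) - 2) * x := by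
        rw [← pow_succ]
        congr 1
        omega
      rw [this] at hc
      have h11 : x ^ (2 ^ (n - 1) - 2) * x = 1 * x := by
        rw [one_mul]
        exact hc.symm
      exact mul_right_cancel h11
    have h10 := orderOf_dvd_of_pow_eq_one h9
    rw [hx] at h10
    have := Nat.le_of_dvd (by omega) h10
    omega
  · rw [pow_zero, ← pow_two]
    have := pow_orderOf_eq_one y
    rwa [hy] at this

/-- The main theorem on metacyclic groups. -/
theorem metacyclic_supersol {p : ℕ} [hp : Fact p.Prime] (hS : IsPGroup p S) (hm : IsMetacyclic S) :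
    (∀ F : FusionSystem S, F.IsSaturated p → (∃ (m : ℕ) (c : Fin (m + 1) → Subgroup Ω), c 0 = ⊥ ∧ c (Fin.last m) = S ∧ (∀ i : Fin (m + 1), F.StronglyClosed (c i)) ∧ ∀ i : Fin m, c i.castSucc ≤ c i.succ ∧ ∃ x ∈ S, c i.succ = c i.castSucc ⊔ Subgroup.zpowers x)) ↔
    ¬ ((∃ n : ℕ, 0 < n ∧ Nonempty (↥S ≃* Multiplicative (ZMod (p ^ n)) × Multiplicative (ZMod (p ^ n)))) ∨
      (p = 2 ∧ ((∃ n : ℕ, 2 ≤ n ∧ Nonempty (↥S ≃* DihedralGroup n)) ∨ IsQuasiDihedral ↥S ∨
        (∃ n : ℕ, 2 ≤ n ∧ Nonempty (↥S ≃* QuaternionGroup n))))) := by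
  constructor
  · intro h
    have hH := H_cond_of_all hS h
    have hall : ∀ F : FusionSystem S, F.IsSaturated p → F.IsNormal S := by
      intro F hF
      obtain ⟨m, c, h0, hl, hsc, hst⟩ := h F hF
      obtain ⟨d, hd⟩ := exists_supChain h0 hl hsc hst
      exact hd.isNormal hS hF
    rintro (⟨n, hn, ⟨e⟩⟩ | ⟨rfl, hB | hC | hD⟩)
    · have hz := zmod_elt p n hn
      exact no_H_cond_of_factor (H₀ := PUnit.{1}) (e.trans MulEquiv.prodUnique.symm) hz.1 hz.2 hH
    · obtain ⟨n, hn, ⟨e⟩⟩ := hB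
      obtain ⟨a, ha⟩ := IsPGroup.iff_card.1 hS
      rw [Nat.card_congr e.toEquiv, DihedralGroup.nat_card] at ha
      have ha0 : a ≠ 0 := by
        rintro rfl
        simp at ha
      obtain ⟨s, rfl⟩ : ∃ s, a = s + 1 := ⟨a - 1, by omega⟩
      have hns : n = 2 ^ s := by
        rw [pow_succ'] at ha
        exact Nat.eq_of_mul_eq_mul_left (by norm_num) ha
      subst hns
      by_cases hs : 2 ≤ s
      · exact dih_false hS hs e hall
      · have hs1 : s = 1 := by
          have : s ≠ 0 := by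
            rintro rfl
            simp at hn
          omega
        subst hs1
        have hb : (Multiplicative.ofAdd (1 : ZMod 2) : Multiplicative (ZMod 2)) ≠ 1 := ofAdd_one_ne
        have e' : S ≃* (Multiplicative (ZMod 2) × Multiplicative (ZMod 2)) × PUnit.{1} := e.trans dih2Equiv
        exact no_H_cond_of_factor (p := 2) e' hb (fun h => absurd rfl h) hH
    · exact sd_false hS hC hall
    · obtain ⟨n, hn, ⟨e⟩⟩ := hD
      obtain ⟨a, ha⟩ := IsPGroup.iff_card.1 hS
      haveI : NeZero n := ⟨by omega⟩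
      rw [Nat.card_congr e.toEquiv, Nat.card_eq_fintype_card, QuaternionGroup.card] at ha
      have ha2 : 2 ≤ a := by
        by_contra hlt
        have : a = 0 ∨ a = 1 := by omega
        rcases this with rfl | rfl <;> omega
      obtain ⟨s, rfl⟩ : ∃ s, a = s + 2 := ⟨a - 2, by omega⟩
      have hns : n = 2 ^ s := by
        have : 4 * n = 4 * 2 ^ s := by
          rw [ha]
          ring
        omega
      subst hns
      by_cases hs : 2 ≤ s
      · exact quat_false (s := s + 1) hS (by omega) e hall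
      · have hs1 : s = 1 := by
          have : s ≠ 0 := by
            rintro rfl
            simp at hn
          omega
        subst hs1
        let τ : MulAut S := MulAut.congr e.symm q8Aut
        have hq3 : q8Aut ^ 3 = 1 := by
          ext x
          rw [pow_succ, pow_two, MulAut.mul_apply, MulAut.mul_apply]
          exact q8Fun_fun3 x
        have hτ3 : τ ^ 3 = 1 := by
          show (MulAut.congr e.symm q8Aut) ^ 3 = 1
          rw [← map_pow, hq3, map_one]
        have hord : orderOf τ ∣ 3 := orderOf_dvd_of_pow_eq_one hτ3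
        have hcop : (Nat.card (Subgroup.zpowers τ)).Coprime 2 := by
          rw [Nat.card_zpowers]
          exact Nat.Coprime.coprime_dvd_left hord (by norm_num)
        have h1 := (hH _ hcop).2 _ (Subgroup.mem_zpowers _)
        rw [pow_one] at h1
        have h2 : q8Aut = 1 := (MulAut.congr e.symm).injective (by
          rw [map_one]
          exact h1)
        have h3 := congrArg (fun f : MulAut (QuaternionGroup 2) => f (QuaternionGroup.a 1)) h2
        exact q8Fun_ne h3
  · intro hnot F hF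
    have hh : ¬ ∃ e : ℕ, 0 < e ∧ Nonempty (↥S ≃* Hm p e) := fun ⟨e, he, hi⟩ => hnot (Or.inl ⟨e, he, hi⟩)
    have hq : ¬ (p = 2 ∧ Nonempty (↥S ≃* QuaternionGroup 2)) := fun ⟨h2, hi⟩ =>
      hnot (Or.inr ⟨h2, Or.inr (Or.inr ⟨2, le_rfl, hi⟩)⟩)
    have hHc : ∀ H : Subgroup (MulAut S), (Nat.card H).Coprime p → IsMulCommutative H ∧ ∀ h ∈ H, h ^ (p - 1) = 1 :=
      fun H hH => metacyclic_H_cond hS hm hh hq hH
    have hN : F.IsNormal S := by
      by_cases hp2 : p = 2
      · subst hp2
        by_cases hab : IsMulCommutative S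
        · exact isNormal_of_abelian hS hF hab
        · have hcommOf : ∀ {G : Type} [Group G] (e : ↥S ≃* G), (∀ x y : G, x * y = y * x) → False := by
            intro G _ e hc
            exact hab ⟨⟨fun a b => e.injective (by rw [map_mul, map_mul]; exact hc _ _)⟩⟩
          have hd : ¬ ∃ m : ℕ, Nonempty (↥S ≃* DihedralGroup m) := by
            rintro ⟨m, ⟨e⟩⟩
            have hm' : m = 0 ∨ m = 1 ∨ 2 ≤ m := by omega
            rcases hm' with rfl | rfl | hm2
            · have h1 := Nat.card_congr e.toEquiv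
              rw [DihedralGroup.nat_card] at h1
              have h2 : 0 < Nat.card S := Nat.card_pos
              omega
            · exact hcommOf e (by decide)
            · exact hnot (Or.inr ⟨rfl, Or.inl ⟨m, hm2, ⟨e⟩⟩⟩)
          have hq' : ¬ ∃ m : ℕ, Nonempty (↥S ≃* QuaternionGroup m) := by
            rintro ⟨m, ⟨e⟩⟩
            have hm' : m = 0 ∨ m = 1 ∨ 2 ≤ m := by omega
            rcases hm' with rfl | rfl | hm2
            · haveI : Finite (QuaternionGroup 0) := Finite.of_equiv _ e.toEquiv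
              have hinj : Function.Injective (QuaternionGroup.a : ZMod (2 * 0) → QuaternionGroup 0) := by
                intro u v huv
                cases huv
                rfl
              haveI : Finite ℤ := Finite.of_injective (α := ℤ) (QuaternionGroup.a : ZMod (2 * 0) → QuaternionGroup 0) hinj
              exact not_finite ℤ
            · exact hcommOf e (by decide)
            · exact hnot (Or.inr ⟨rfl, Or.inr (Or.inr ⟨m, hm2, ⟨e⟩⟩)⟩)
          have hsd : ¬ IsQuasiDihedral ↥S := fun h => hnot (Or.inr ⟨rfl, Or.inr (Or.inl h)⟩)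
          exact isNormal_of_essential_le hS hF stronglyClosed_self (fun _ hE =>
            le_essential_of_metacyclic2 hS hF stronglyClosed_self hm hd hq' hsd hE)
      · exact isNormal_of_essential_le hS hF stronglyClosed_self (fun _ hE =>
          le_essential_of_metacyclic hS hF hp2 stronglyClosed_self hm hE)
    exact exists_chain_of_normal hS hF hN hHc

end Cfsg.Agent.Lib.Fusion2.SuperSol
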