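import Cfsg.Agent.Lib.Fusion.NormalGroup
import Cfsg.Agent.Lib.Fusion.Alperin
import Cfsg.Agent.Lib.Fusion.Criterion2
import Cfsg.Agent.Lib.TwoFusion.TransferCtrl

/-!
# Normal subsystems of a constrained group: setup

Everything is stated with conjugation maps: `EM E R g` says that conjugation by `g` on `R` is a map of `E`.
-/

set_option autoImplicit false
set_option linter.unusedSectionVars false
set_option linter.style.haveILetI false

namespace Cfsg.Agent.Lib.Fusion2.NormConstr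

open Cfsg Cfsg.FusionSystem Cfsg.Agent.Lib.Fusion

/-! ### The stable transfer -/

section transfer

variable {X : Type*} [Group X] [Finite X] {p : ℕ} [hp : Fact p.Prime]

theorem stable_aux {P T : Subgroup X} {A : Type*} [CommGroup A] (ϕ : P →* A) (hs : Function.Surjective ϕ)
    (hk : ∀ x : P, ϕ x = 1 ↔ (x : X) ∈ T)
    (hstab : ∀ g x, x ∈ P → g * x * g⁻¹ ∈ P → x⁻¹ * (g * x * g⁻¹) ∈ T)
    (hpT : ∀ x ∈ P, ∃ k : ℕ, x ^ p ^ k ∈ T)
    (hTP : T ≤ P)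
    (hcop : Nat.Coprime P.index p) :
    ∃ Y : Subgroup X, Y.Normal ∧ Y ⊓ P = T ∧ (∀ x, ∃ k : ℕ, x ^ p ^ k ∈ Y) ∧ ∀ x, ∃ u ∈ P, x * u⁻¹ ∈ Y := by
  have hρ : ∀ x (hx : x ∈ P), ϕ.transfer x = ϕ ⟨x, hx⟩ ^ P.index := by
    intro x hx
    refine Cfsg.Agent.Lib.TwoFusion.transfer_eq_pow_of_ctrl P ϕ x hx (fun n a hm => ?_)
    have hxn : x ^ n ∈ P := P.pow_mem hx n
    have h1 : (x ^ n)⁻¹ * (a⁻¹ * x ^ n * a⁻¹⁻¹) ∈ T := by
      refine hstab a⁻¹ (x ^ n) hxn ?_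
      simpa using hm
    have hm' : (⟨x ^ n, hxn⟩ : P)⁻¹ * ⟨a⁻¹ * x ^ n * a, hm⟩ = ⟨(x ^ n)⁻¹ * (a⁻¹ * x ^ n * a⁻¹⁻¹), by
        rw [inv_inv]; exact P.mul_mem (P.inv_mem hxn) hm⟩ := by
      apply Subtype.ext
      simp
    have h2 : ϕ ((⟨x ^ n, hxn⟩ : P)⁻¹ * ⟨a⁻¹ * x ^ n * a, hm⟩) = 1 := by
      rw [hm']
      exact (hk _).2 h1
    rw [map_mul, map_inv, inv_mul_eq_one] at h2
    rw [← h2, ← map_pow]
    rfl
  have hpow : ∀ a : A, ∃ k : ℕ, a ^ p ^ k = 1 := by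
    intro a
    obtain ⟨u, rfl⟩ := hs a
    obtain ⟨k, hk'⟩ := hpT u u.2
    refine ⟨k, ?_⟩
    rw [← map_pow]
    exact (hk _).2 hk'
  refine ⟨ϕ.transfer.ker, inferInstance, ?_, ?_, ?_⟩
  · ext x
    constructor
    · rintro ⟨hx1, hx2⟩
      have h1 : ϕ ⟨x, hx2⟩ ^ P.index = 1 := by
        rw [← hρ x hx2]
        exact hx1
      obtain ⟨k, hk'⟩ := hpow (ϕ ⟨x, hx2⟩)
      have h2 := orderOf_dvd_of_pow_eq_one h1
      have h3 := orderOf_dvd_of_pow_eq_one hk'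
      have h4 : orderOf (ϕ ⟨x, hx2⟩) = 1 :=
        Nat.Coprime.eq_one_of_dvd (Nat.Coprime.coprime_dvd_left h3 (Nat.Coprime.pow_left k hcop.symm)) h2
      rw [orderOf_eq_one_iff] at h4
      exact (hk _).1 h4
    · intro hx
      refine ⟨?_, hTP hx⟩
      show x ∈ ϕ.transfer.ker
      rw [MonoidHom.mem_ker, hρ x (hTP hx), (hk ⟨x, hTP hx⟩).2 hx, one_pow]
  · intro x
    obtain ⟨k, hk'⟩ := hpow (ϕ.transfer x)
    exact ⟨k, by rw [MonoidHom.mem_ker, map_pow, hk']⟩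
  · intro x
    obtain ⟨k, hk'⟩ := hpow (ϕ.transfer x)
    have h1 : 1 < p ^ (k + 1) := Nat.one_lt_pow (Nat.succ_ne_zero _) hp.out.one_lt
    obtain ⟨m, hm⟩ := Nat.exists_mul_mod_eq_one_of_coprime (hcop.pow_right (k + 1)) h1
    obtain ⟨u, hu⟩ := hs (ϕ.transfer x ^ m)
    refine ⟨u, u.2, ?_⟩
    rw [MonoidHom.mem_ker, map_mul, map_inv, hρ u u.2]
    have h2 : ϕ u = ϕ.transfer x ^ m := hu
    have h3 : (ϕ.transfer x) ^ p ^ (k + 1) = 1 := by
      rw [pow_succ, pow_mul, hk', one_pow]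
    have h5 : (ϕ.transfer x ^ m) ^ P.index = ϕ.transfer x := by
      rw [← pow_mul, mul_comm, pow_eq_pow_mod _ h3, hm.2, pow_one]
    have h4 : ϕ ⟨u, u.2⟩ = ϕ.transfer x ^ m := h2
    rw [h4, h5, mul_inv_cancel]

/-- The stable transfer: a subgroup `P` of index prime to `p` with a subgroup `T` such that `P / T` is a `p`-group
whose classes are stable under conjugation gives a normal subgroup meeting `P` in `T`, with `p`-group quotient. -/
theorem exists_normal_of_stable {P T : Subgroup X} (hTP : T ≤ P)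
    (hstab : ∀ g x, x ∈ P → g * x * g⁻¹ ∈ P → x⁻¹ * (g * x * g⁻¹) ∈ T)
    (hpT : ∀ x ∈ P, ∃ k : ℕ, x ^ p ^ k ∈ T)
    (hcop : Nat.Coprime P.index p) :
    ∃ Y : Subgroup X, Y.Normal ∧ Y ⊓ P = T ∧ (∀ x, ∃ k : ℕ, x ^ p ^ k ∈ Y) ∧ ∀ x, ∃ u ∈ P, x * u⁻¹ ∈ Y := by
  have hN : (T.subgroupOf P).Normal := ⟨fun n hn g => by
    rw [Subgroup.mem_subgroupOf] at hn ⊢
    have h1 := hstab g n n.2 (P.mul_mem (P.mul_mem g.2 n.2) (P.inv_mem g.2))
    have h3 := T.mul_mem hn h1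
    simpa using h3⟩
  have hcomm : ∀ a b : P ⧸ T.subgroupOf P, a * b = b * a := by
    intro a b
    obtain ⟨x, rfl⟩ := QuotientGroup.mk_surjective a
    obtain ⟨y, rfl⟩ := QuotientGroup.mk_surjective b
    rw [← QuotientGroup.mk_mul, ← QuotientGroup.mk_mul, QuotientGroup.eq, Subgroup.mem_subgroupOf]
    have h1 := hstab (x : X)⁻¹ y y.2 (P.mul_mem (P.mul_mem (P.inv_mem x.2) y.2) (by simpa using x.2))
    have e : (((x * y)⁻¹ * (y * x) : P) : X) = (y : X)⁻¹ * ((x : X)⁻¹ * y * (x : X)⁻¹⁻¹) := by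
      simp [mul_assoc]
    rw [e]
    exact h1
  letI : CommGroup (P ⧸ T.subgroupOf P) := { (inferInstance : Group (P ⧸ T.subgroupOf P)) with mul_comm := hcomm }
  refine stable_aux (QuotientGroup.mk' (T.subgroupOf P)) (QuotientGroup.mk'_surjective _) (fun x => ?_) hstab hpT hTP hcop
  rw [QuotientGroup.mk'_apply, QuotientGroup.eq_one_iff, Subgroup.mem_subgroupOf]

end transfer

/-! ### Conjugation maps of a subsystem -/

variable {G : Type*} [Group G]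

/-- Conjugation by `g` on `R` is a map of `E`. -/
def EM {T : Subgroup G} (E : FusionSystem T) (R : Subgroup G) (g : G) : Prop :=
  IsMapOn E R (fun x => g * x * g⁻¹)

section em

variable {T : Subgroup G} {E : FusionSystem T} {R R' : Subgroup G} {g g' k : G}

theorem EM.mono (h : EM E R g) (hR : R' ≤ R) : EM E R' g := IsMapOn.mono h hR

theorem EM.congr (h : EM E R g) (he : ∀ x ∈ R, g * x * g⁻¹ = g' * x * g'⁻¹) : EM E R g' := IsMapOn.congr h he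

theorem EM.comp (hg : EM E R g) (hk : EM E R' k) (hv : ∀ x ∈ R, g * x * g⁻¹ ∈ R') : EM E R (k * g) :=
  IsMapOn.congr (IsMapOn.comp hg hk hv) (fun x _ => by group)

theorem EM.le (h : EM E R g) : R ≤ T := IsMapOn.le h

theorem EM.mem (h : EM E R g) {x : G} (hx : x ∈ R) : g * x * g⁻¹ ∈ T := IsMapOn.mem_S h hx

theorem em_of_mem (hR : R ≤ T) {t : G} (ht : t ∈ T) : EM E R t := isMapOn_conj hR ht

theorem EM.inv (h : EM E R g) : EM E (cj g R) g⁻¹ := by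
  have hi : IsImage (fun x => g * x * g⁻¹) R (cj g R) := fun y => by
    constructor
    · rintro ⟨x, hx, rfl⟩
      exact ⟨x, hx, rfl⟩
    · rintro ⟨x, hx, rfl⟩
      exact ⟨x, hx, rfl⟩
  obtain ⟨f, hf, -, hfg, -⟩ := IsMapOn.exists_inv h hi
  refine IsMapOn.congr hf ?_
  rintro _ ⟨x, hx, rfl⟩
  have := hfg x hx
  show f (g * x * g⁻¹) = g⁻¹ * (g * x * g⁻¹) * g⁻¹⁻¹
  rw [this]
  group

theorem EM.of_mem_centralizer (hR : R ≤ T) (hc : g ∈ Subgroup.centralizer (R : Set G)) : EM E R g := by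
  refine EM.congr (em_of_mem hR T.one_mem) (fun x hx => ?_)
  have := Subgroup.mem_centralizer_iff.1 hc x hx
  rw [← this]
  group

end em

variable [Finite G] {p : ℕ} [hp : Fact p.Prime]

theorem mem_normalizer_of_conj {R : Subgroup G} {g : G} (h : ∀ x ∈ R, g * x * g⁻¹ ∈ R) :
    g ∈ Subgroup.normalizer (R : Set G) :=
  mem_normalizer_of_conj_mem (S := R) le_rfl h

/-- What is used of a normal subsystem of the fusion system of `G`. -/
structure NS (S : Sylow p G) (T : Subgroup G) (E : FusionSystem T) : Prop where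
  hTS : T ≤ (S : Subgroup G)
  hsat : E.IsSaturated p
  conj : ∀ {R : Subgroup G} {φ : R →* G}, φ ∈ E.Hom R → ∃ g : G, ∀ x : R, φ x = g * (x : G) * g⁻¹
  sc : ∀ (g x : G), x ∈ T → g * x * g⁻¹ ∈ (S : Subgroup G) → g * x * g⁻¹ ∈ T
  inv : ∀ {R : Subgroup G} {g n : G}, EM E R g → n ∈ Subgroup.normalizer (T : Set G) → EM E (cj n R) (n * g * n⁻¹)
  frat : ∀ {R : Subgroup G} {g : G}, R ≤ T → cj g R ≤ (S : Subgroup G) →
    ∃ n ∈ Subgroup.normalizer (T : Set G), EM E R (n⁻¹ * g)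
  n4 : ∀ {g : G}, g ∈ Subgroup.normalizer (T : Set G) → EM E T g → ∃ g' : G, (∀ x ∈ T, g' * x * g'⁻¹ = g * x * g⁻¹) ∧
    ∀ c ∈ centralizerIn (S : Subgroup G) T, c⁻¹ * (g' * c * g'⁻¹) ∈ T ⊓ Subgroup.centralizer (T : Set G)

theorem ns_of_isNormalIn (S : Sylow p G) {T : Subgroup G} (hTS : T ≤ (S : Subgroup G)) {E : FusionSystem T}
    (hE : E.IsNormalIn (groupFusionSystem (S : Subgroup G)) p) : NS S T E := by
  obtain ⟨⟨hsat, -, hsub, hsc, hinv, hfrat⟩, hn4⟩ := hE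
  refine ⟨hTS, hsat, ?_, ?_, ?_, ?_, ?_⟩
  · intro R φ hφ
    obtain ⟨-, -, g, hg⟩ := hsub R hφ
    exact ⟨g, hg⟩
  · intro g x hx hS
    have hle : Subgroup.zpowers x ≤ T := Subgroup.zpowers_le.2 hx
    have hm : conjHom (Subgroup.zpowers x) g ∈ (groupFusionSystem (S : Subgroup G)).Hom (Subgroup.zpowers x) := by
      refine ⟨hle.trans hTS, ?_, g, fun _ => rfl⟩
      rintro ⟨y, k, rfl⟩
      show g * x ^ k * g⁻¹ ∈ (S : Subgroup G)
      rw [← conj_zpow]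
      exact Subgroup.zpow_mem _ hS k
    exact hsc.2 _ hle _ hm ⟨x, Subgroup.mem_zpowers x⟩
  · intro R g n hem hn
    obtain ⟨φ, hφ, hv⟩ := hem
    have hRT : R ≤ T := (E.le_of_mem hφ).1
    let α : MulAut T := T.normalizerMonoidHom ⟨n, hn⟩
    have hα : α ∈ (groupFusionSystem (S : Subgroup G)).autGroup T :=
      (mem_autGroup_gfs hTS).2 ⟨n, fun _ => rfl⟩
    obtain ⟨χ, hχ, hχv⟩ := hinv R hRT φ hφ α hα
    have hX : (R.subgroupOf T).map (T.subtype.comp α.toMonoidHom) = cj n R := by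
      ext y
      constructor
      · rintro ⟨t, ht, rfl⟩
        exact ⟨t, ht, rfl⟩
      · rintro ⟨t, ht, rfl⟩
        exact ⟨⟨t, hRT ht⟩, ht, rfl⟩
    rw [← hX]
    refine ⟨χ, hχ, ?_⟩
    rintro ⟨_, ⟨t, ht, rfl⟩⟩
    have h1 := hχv ⟨t, ht⟩ (E.le_of_mem hφ |>.2 ⟨t, ht⟩) ⟨t, ht, rfl⟩
    have h2 : ((α ⟨φ ⟨t, ht⟩, (E.le_of_mem hφ).2 ⟨t, ht⟩⟩ : T) : G) = n * φ ⟨t, ht⟩ * n⁻¹ := rfl
    rw [h2, hv] at h1
    refine h1.trans ?_
    show n * (g * (t : G) * g⁻¹) * n⁻¹ = n * g * n⁻¹ * (n * (t : G) * n⁻¹) * (n * g * n⁻¹)⁻¹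
    group
  · intro R g hR hg
    have hφ : conjHom R g ∈ (groupFusionSystem (S : Subgroup G)).Hom R :=
      ⟨hR.trans hTS, fun x => hg (conj_mem_cj x.2), g, fun _ => rfl⟩
    obtain ⟨α, hα, φ₀, hφ₀, hv⟩ := hfrat R hR _ hφ
    obtain ⟨n, hn⟩ := (mem_autGroup_gfs hTS).1 hα
    have hnT : n ∈ Subgroup.normalizer (T : Set G) := mem_normalizer_of_conj (fun x hx => by
      rw [← hn ⟨x, hx⟩]
      exact (α ⟨x, hx⟩).2)
    refine ⟨n, hnT, φ₀, hφ₀, fun x => ?_⟩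
    have h1 := hv x ((E.le_of_mem hφ₀).2 x)
    rw [hn] at h1
    have h2 : g * (x : G) * g⁻¹ = n * φ₀ x * n⁻¹ := h1
    have h3 : φ₀ x = n⁻¹ * (g * (x : G) * g⁻¹) * n := by
      rw [h2]
      group
    rw [h3]
    group
  · intro g hg hem
    obtain ⟨φ, hφ, hv⟩ := hem
    let α : MulAut T := T.normalizerMonoidHom ⟨g, hg⟩
    have hα : α ∈ E.autGroup T := by
      refine Subgroup.subset_closure ?_
      have : T.subtype.comp α.toMonoidHom = φ := MonoidHom.ext (fun x => (hv x).symm)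
      show T.subtype.comp α.toMonoidHom ∈ E.Hom T
      rw [this]
      exact hφ
    obtain ⟨β, hβ, hβ1, hβ2⟩ := hn4 α hα
    have hle : T ⊔ centralizerIn (S : Subgroup G) T ≤ (S : Subgroup G) := sup_le hTS inf_le_left
    obtain ⟨g', hg'⟩ := (mem_autGroup_gfs hle).1 hβ
    refine ⟨g', fun x hx => ?_, fun c hc => ?_⟩
    · have h1 := hβ1 ⟨x, hx⟩
      rw [hg'] at h1
      exact h1
    · have h1 := hβ2 ⟨c, Subgroup.mem_sup_right hc⟩ hc
      rw [hg'] at h1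
      exact h1

section spec

variable {S : Sylow p G} {T : Subgroup G} {E : FusionSystem T}

theorem isPGroup_zpowers_of_pow {X : Type*} [Group X] {a : X} {k : ℕ} (h : a ^ p ^ k = 1) :
    IsPGroup p (Subgroup.zpowers a) := by
  rintro ⟨_, z, rfl⟩
  refine ⟨k, Subtype.ext ?_⟩
  show (a ^ z) ^ p ^ k = 1
  rw [← zpow_natCast, ← zpow_mul, mul_comm, zpow_mul, zpow_natCast, h, one_zpow]

theorem NS.isPGroup_T (h : NS S T E) : IsPGroup p T := S.isPGroup'.to_le h.hTS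

/-- The automorphism induced by an element of the normalizer, as an element of `Aut_E(R)`. -/
theorem normalizerAut_mem {R : Subgroup G} {g : G} (hg : g ∈ Subgroup.normalizer (R : Set G)) (hem : EM E R g) :
    R.normalizerMonoidHom ⟨g, hg⟩ ∈ E.autGroup R := by
  obtain ⟨φ, hφ, hv⟩ := hem
  refine Subgroup.subset_closure ?_
  have : R.subtype.comp (R.normalizerMonoidHom ⟨g, hg⟩).toMonoidHom = φ := MonoidHom.ext (fun x => (hv x).symm)
  show R.subtype.comp (R.normalizerMonoidHom ⟨g, hg⟩).toMonoidHom ∈ E.Hom R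
  rw [this]
  exact hφ

theorem normalizerAut_pow {R : Subgroup G} {g : G} (hg : g ∈ Subgroup.normalizer (R : Set G)) {k : ℕ}
    (hk : g ^ p ^ k = 1) : (R.normalizerMonoidHom ⟨g, hg⟩) ^ p ^ k = 1 := by
  rw [← map_pow]
  have : (⟨g, hg⟩ : Subgroup.normalizer (R : Set G)) ^ p ^ k = 1 := Subtype.ext hk
  rw [this, map_one]

/-- A `p`-element normalizing `T` and acting on the fully automized `R` in `E` acts as an element of `T`. -/
theorem NS.exists_T_of_pow (h : NS S T E) {R : Subgroup G} (hR : E.IsFullyAutomized p R) {g : G}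
    (hgR : g ∈ Subgroup.normalizer (R : Set G)) (hgT : g ∈ Subgroup.normalizer (T : Set G)) (hem : EM E R g)
    {k : ℕ} (hk : g ^ p ^ k = 1) : ∃ t ∈ T, ∀ r ∈ R, g * r * g⁻¹ = t * r * t⁻¹ := by
  have hRT : R ≤ T := hR.1
  have hαE := normalizerAut_mem hgR hem
  obtain ⟨α, hαd⟩ : ∃ α, α = R.normalizerMonoidHom ⟨g, hgR⟩ := ⟨_, rfl⟩
  rw [← hαd] at hαE
  have hU : IsPGroup p (Subgroup.zpowers α) := isPGroup_zpowers_of_pow (k := k) (by
    rw [hαd]; exact normalizerAut_pow hgR hk)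
  have hUE : Subgroup.zpowers α ≤ E.autGroup R := Subgroup.zpowers_le.2 hαE
  have hle : autInducedBy T R ≤ E.autGroup R := autInducedBy_le_autGroup hRT
  have hUn : Subgroup.zpowers α ≤ Subgroup.normalizer (autInducedBy T R : Set (MulAut R)) := by
    rw [Subgroup.zpowers_le]
    refine mem_normalizer_of_conj (fun y hy => ?_)
    obtain ⟨t, ht, hty⟩ := mem_autInducedBy_iff.1 hy
    refine mem_autInducedBy_iff.2 ⟨g * t * g⁻¹, conj_mem_of_normalizer hgT ht, fun x => ?_⟩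
    have hinv : α⁻¹ = R.normalizerMonoidHom ⟨g⁻¹, Subgroup.inv_mem _ hgR⟩ := by
      rw [hαd, ← map_inv]
      rfl
    have h1 : ((α⁻¹ x : R) : G) = g⁻¹ * (x : G) * g⁻¹⁻¹ := by
      rw [hinv]
      rfl
    have h2 : ((α * y * α⁻¹) x : R) = α (y (α⁻¹ x)) := rfl
    have h3 : ∀ z : R, ((α z : R) : G) = g * (z : G) * g⁻¹ := fun z => by
      rw [hαd]
      rfl
    rw [h2, h3, hty, h1]
    group
  have hU2 := le_of_normalizes_sylowIn hle hR.2 (isPGroup_autInducedBy h.isPGroup_T hRT) hU hUE hUn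
  obtain ⟨t, ht, hty⟩ := mem_autInducedBy_iff.1 (hU2 (Subgroup.mem_zpowers α))
  refine ⟨t, ht, fun r hr => ?_⟩
  rw [← hty ⟨r, hr⟩, hαd]
  rfl

/-- A `p`-element acting on the fully automized `R` in `E` is conjugate under `Aut_E(R)` into `Aut_T(R)`. -/
theorem NS.exists_conj_T_of_pow (h : NS S T E) {R : Subgroup G} (hR : E.IsFullyAutomized p R) {g : G}
    (hgR : g ∈ Subgroup.normalizer (R : Set G)) (hem : EM E R g) {k : ℕ} (hk : g ^ p ^ k = 1) :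
    ∃ b ∈ Subgroup.normalizer (R : Set G), EM E R b ∧ ∃ t ∈ T, ∀ r ∈ R, (b * g * b⁻¹) * r * (b * g * b⁻¹)⁻¹ = t * r * t⁻¹ := by
  have hRT : R ≤ T := hR.1
  have hαE := normalizerAut_mem hgR hem
  obtain ⟨α, hαd⟩ : ∃ α, α = R.normalizerMonoidHom ⟨g, hgR⟩ := ⟨_, rfl⟩
  rw [← hαd] at hαE
  have hU : IsPGroup p (Subgroup.zpowers α) := isPGroup_zpowers_of_pow (k := k) (by
    rw [hαd]; exact normalizerAut_pow hgR hk)
  have hUE : Subgroup.zpowers α ≤ E.autGroup R := Subgroup.zpowers_le.2 hαE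
  obtain ⟨c, hc, hcU⟩ := SylowIn.exists_conj hR.2 hU hUE
  have hcI : c * α * c⁻¹ ∈ autInducedBy T R := hcU (conj_mem_cj (Subgroup.mem_zpowers α))
  have hcI' : IsIso E c := (mem_autGroup_iff hRT).1 hc
  obtain ⟨b, hb⟩ := h.conj hcI'
  have hb' : ∀ x : R, ((c x : R) : G) = b * (x : G) * b⁻¹ := hb
  have hbN : b ∈ Subgroup.normalizer (R : Set G) := mem_normalizer_of_conj (fun x hx => by
    rw [← hb' ⟨x, hx⟩]
    exact (c ⟨x, hx⟩).2)
  have hbE : EM E R b := ⟨_, hcI', hb⟩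
  obtain ⟨t, ht, hty⟩ := mem_autInducedBy_iff.1 hcI
  refine ⟨b, hbN, hbE, t, ht, fun r hr => ?_⟩
  rw [← hty ⟨r, hr⟩]
  have h2 : ((c * α * c⁻¹) ⟨r, hr⟩ : R) = c (α (c⁻¹ ⟨r, hr⟩)) := rfl
  have h3 : ∀ z : R, ((α z : R) : G) = g * (z : G) * g⁻¹ := fun z => by
    rw [hαd]
    rfl
  have h4 : ((c⁻¹ ⟨r, hr⟩ : R) : G) = b⁻¹ * r * b := by
    have h5 := hb' (c⁻¹ ⟨r, hr⟩)
    have h6 : c (c⁻¹ ⟨r, hr⟩) = ⟨r, hr⟩ := by simp
    rw [h6] at h5
    have h7 : r = b * ((c⁻¹ ⟨r, hr⟩ : R) : G) * b⁻¹ := h5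
    have h8 : b⁻¹ * r * b = b⁻¹ * (b * ((c⁻¹ ⟨r, hr⟩ : R) : G) * b⁻¹) * b := by rw [← h7]
    rw [h8]
    group
  rw [h2, hb', h3, h4]
  group

end spec

end Cfsg.Agent.Lib.Fusion2.NormConstr
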