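import Cfsg.Agent.Lib.Fusion2.NormConstr

/-!
# Normal subsystems of a constrained group: the subgroups `G₀`, `K₁`, `K₂`
-/

set_option autoImplicit false
set_option linter.unusedSectionVars false
set_option linter.style.haveILetI false

namespace Cfsg.Agent.Lib.Fusion2.NormConstr

open Cfsg Cfsg.FusionSystem Cfsg.Agent.Lib.Fusion

variable {G : Type*} [Group G] [Finite G] {p : ℕ} [hp : Fact p.Prime]

theorem cj_normal {N : Subgroup G} (hN : N.Normal) (g : G) : cj g N = N := by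
  ext x
  rw [mem_cj]
  constructor
  · intro hx
    have := hN.conj_mem _ hx g
    have e : g * (g⁻¹ * x * g) * g⁻¹ = x := by group
    rwa [e] at this
  · intro hx
    have := hN.conj_mem _ hx g⁻¹
    simpa using this

theorem cj_of_mem_normalizer {N : Subgroup G} {g : G} (hg : g ∈ Subgroup.normalizer (N : Set G)) : cj g N = N := by
  ext x
  rw [mem_cj]
  have h1 := (Subgroup.mem_normalizer_iff.1 hg (g⁻¹ * x * g))
  have e : g * (g⁻¹ * x * g) * g⁻¹ = x := by group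
  rw [e] at h1
  exact h1

/-- An element is the product of a `p`-element and a `p'`-element among its powers. -/
theorem exists_split (g : G) : ∃ i j e : ℕ, g ^ i * g ^ j = g ∧ (g ^ i) ^ p ^ e = 1 ∧ Nat.Coprime (orderOf (g ^ j)) p := by
  have hpos : orderOf g ≠ 0 := (orderOf_pos g).ne'
  obtain ⟨e, m, hm, he⟩ := Nat.exists_eq_pow_mul_and_not_dvd hpos p hp.out.ne_one
  have hc : Nat.Coprime (p ^ e) m := Nat.Coprime.pow_left e ((Nat.Prime.coprime_iff_not_dvd hp.out).2 hm)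
  let i := (Nat.chineseRemainder hc 1 0 : ℕ)
  let j := (Nat.chineseRemainder hc 0 1 : ℕ)
  have hi1 : i ≡ 1 [MOD p ^ e] := (Nat.chineseRemainder hc 1 0).2.1
  have hi2 : i ≡ 0 [MOD m] := (Nat.chineseRemainder hc 1 0).2.2
  have hj1 : j ≡ 0 [MOD p ^ e] := (Nat.chineseRemainder hc 0 1).2.1
  have hj2 : j ≡ 1 [MOD m] := (Nat.chineseRemainder hc 0 1).2.2
  refine ⟨i, j, e, ?_, ?_, ?_⟩
  · rw [← pow_add]
    have h1 : i + j ≡ 1 [MOD p ^ e] := by simpa using hi1.add hj1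
    have h2 : i + j ≡ 1 [MOD m] := by simpa using hi2.add hj2
    have h3 : i + j ≡ 1 [MOD p ^ e * m] := (Nat.modEq_and_modEq_iff_modEq_mul hc).1 ⟨h1, h2⟩
    rw [← he] at h3
    have h4 := pow_eq_pow_iff_modEq.2 h3
    rwa [pow_one] at h4
  · rw [← pow_mul]
    have h2 : m ∣ i := (Nat.modEq_zero_iff_dvd).1 hi2
    have : orderOf g ∣ i * p ^ e := by
      rw [he, mul_comm]
      exact Nat.mul_dvd_mul_right h2 _
    exact orderOf_dvd_iff_pow_eq_one.1 this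
  · have h2 : p ^ e ∣ j := (Nat.modEq_zero_iff_dvd).1 hj1
    have h3 : (g ^ j) ^ m = 1 := by
      rw [← pow_mul]
      have : orderOf g ∣ j * m := by
        rw [he]
        exact Nat.mul_dvd_mul_right h2 _
      exact orderOf_dvd_iff_pow_eq_one.1 this
    have h4 := orderOf_dvd_of_pow_eq_one h3
    exact Nat.Coprime.coprime_dvd_left h4 ((Nat.Prime.coprime_iff_not_dvd hp.out).2 hm).symm

theorem eq_one_of_two_pows {X : Type*} [Monoid X] {a : X} {m k : ℕ} (hc : Nat.Coprime m p) (h1 : a ^ m = 1)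
    (h2 : a ^ p ^ k = 1) : a = 1 := by
  have h3 := orderOf_dvd_of_pow_eq_one h1
  have h4 := orderOf_dvd_of_pow_eq_one h2
  have h5 : orderOf a = 1 :=
    Nat.Coprime.eq_one_of_dvd (Nat.Coprime.coprime_dvd_left h4 (Nat.Coprime.pow_left k hc.symm)) h3
  exact orderOf_eq_one_iff.1 h5

theorem mem_of_pow_mem {K : Subgroup G} {c : G} {k : ℕ} (hc : (orderOf c).Coprime p) (h : c ^ p ^ k ∈ K) : c ∈ K := by
  obtain ⟨m, hm⟩ := exists_pow_eq_self_of_coprime (Nat.Coprime.pow_left k hc.symm)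
  rw [← hm]
  exact K.pow_mem h m

/-- What we need about `Q = O_p(G)`. -/
structure NC (S : Sylow p G) (T Q : Subgroup G) (E : FusionSystem T) : Prop extends NS S T E where
  Qn : Q.Normal
  QS : Q ≤ (S : Subgroup G)
  Qc : Subgroup.centralizer (Q : Set G) ≤ Q
  Qmax : ∀ N : Subgroup G, N.Normal → IsPGroup p N → N ≤ Q

variable {S : Sylow p G} {T Q : Subgroup G} {E : FusionSystem T}

theorem NS.conj_S (h : NS S T E) {s x : G} (hs : s ∈ (S : Subgroup G)) (hx : x ∈ T) : s * x * s⁻¹ ∈ T :=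
  h.sc s x hx (Subgroup.mul_mem _ (Subgroup.mul_mem _ hs (h.hTS hx)) (Subgroup.inv_mem _ hs))

theorem NS.S_le (h : NS S T E) : (S : Subgroup G) ≤ Subgroup.normalizer (T : Set G) :=
  fun _ hs => mem_normalizer_of_conj (fun _ hx => h.conj_S hs hx)

namespace NC

variable (h : NC S T Q E)
include h

theorem Qp : IsPGroup p Q := S.isPGroup'.to_le h.QS

theorem Q0_normal : (Q ⊓ T).Normal :=
  ⟨fun x hx g => ⟨h.Qn.conj_mem x hx.1 g, h.sc g x hx.2 (h.QS (h.Qn.conj_mem x hx.1 g))⟩⟩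

theorem Q0_cj (g : G) : cj g (Q ⊓ T) = Q ⊓ T := cj_normal h.Q0_normal g

theorem Q0_le_normalizer (g : G) : g ∈ Subgroup.normalizer ((Q ⊓ T : Subgroup G) : Set G) :=
  mem_normalizer_of_conj (fun x hx => h.Q0_normal.conj_mem x hx g)

/-- The elements acting on `Q₀` as elements of `Aut_E(Q₀)`. -/
def G0 : Subgroup G where
  carrier := {g | EM E (Q ⊓ T) g}
  mul_mem' := fun ha hb => EM.comp hb ha (fun x hx => h.Q0_normal.conj_mem x hx _)
  one_mem' := em_of_mem inf_le_right T.one_mem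
  inv_mem' := by
    intro a ha
    have h1 := EM.inv ha
    rwa [h.Q0_cj] at h1

theorem mem_G0 {g : G} : g ∈ h.G0 ↔ EM E (Q ⊓ T) g := Iff.rfl

theorem G0_normal : h.G0.Normal := ⟨fun x hx g => by
  have hle : cj g (Q ⊓ T) ≤ (S : Subgroup G) := by
    rw [h.Q0_cj]
    exact inf_le_left.trans h.QS
  obtain ⟨n, hn, hem⟩ := h.frat inf_le_right hle
  have he : n⁻¹ * g ∈ h.G0 := hem
  have h1 : (n⁻¹ * g) * x * (n⁻¹ * g)⁻¹ ∈ h.G0 := h.G0.mul_mem (h.G0.mul_mem he hx) (h.G0.inv_mem he)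
  have h2 := h.inv h1 hn
  rw [h.Q0_cj] at h2
  have e : n * ((n⁻¹ * g) * x * (n⁻¹ * g)⁻¹) * n⁻¹ = g * x * g⁻¹ := by group
  rw [e] at h2
  exact h2⟩

theorem T_le_G0 : T ≤ h.G0 := fun _ ht => em_of_mem inf_le_right ht

/-- The elements acting trivially on `Q / Q₀`. -/
def K1 : Subgroup G where
  carrier := {g | ∀ q ∈ Q, q⁻¹ * g * q * g⁻¹ ∈ Q ⊓ T}
  mul_mem' := by
    intro a b ha hb q hq
    have h1 := ha q hq
    have h2 := h.Q0_normal.conj_mem _ (hb q hq) a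
    have e : q⁻¹ * (a * b) * q * (a * b)⁻¹ = (q⁻¹ * a * q * a⁻¹) * (a * (q⁻¹ * b * q * b⁻¹) * a⁻¹) := by group
    rw [e]
    exact Subgroup.mul_mem _ h1 h2
  one_mem' := by
    intro q _
    simp [Subgroup.one_mem]
  inv_mem' := by
    intro a ha q hq
    have h1 := Subgroup.inv_mem _ (ha q hq)
    have h2 := h.Q0_normal.conj_mem _ h1 a⁻¹
    have e : q⁻¹ * a⁻¹ * q * a⁻¹⁻¹ = a⁻¹ * (q⁻¹ * a * q * a⁻¹)⁻¹ * a⁻¹⁻¹ := by group
    rw [e]
    exact h2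

theorem mem_K1 {g : G} : g ∈ h.K1 ↔ ∀ q ∈ Q, q⁻¹ * g * q * g⁻¹ ∈ Q ⊓ T := Iff.rfl

theorem K1_normal : h.K1.Normal := ⟨fun x hx g q hq => by
  have hq' : g⁻¹ * q * g⁻¹⁻¹ ∈ Q := h.Qn.conj_mem q hq g⁻¹
  have h1 := h.Q0_normal.conj_mem _ (hx _ hq') g
  have e : q⁻¹ * (g * x * g⁻¹) * q * (g * x * g⁻¹)⁻¹ =
      g * ((g⁻¹ * q * g⁻¹⁻¹)⁻¹ * x * (g⁻¹ * q * g⁻¹⁻¹) * x⁻¹) * g⁻¹ := by group
  rw [e]
  exact h1⟩

theorem T_le_K1 : T ≤ h.K1 := by
  intro t ht q hq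
  have hq1 : q⁻¹ ∈ (S : Subgroup G) := Subgroup.inv_mem _ (h.QS hq)
  refine ⟨?_, ?_⟩
  · have h1 := h.Qn.conj_mem q hq t
    have e : q⁻¹ * t * q * t⁻¹ = q⁻¹ * (t * q * t⁻¹) := by group
    rw [e]
    exact Q.mul_mem (Q.inv_mem hq) h1
  · have h1 := h.toNS.conj_S hq1 ht
    rw [inv_inv] at h1
    exact T.mul_mem h1 (T.inv_mem ht)

/-- `K₂`. -/
def K2 : Subgroup G := h.G0 ⊓ h.K1

theorem K2_normal : h.K2.Normal :=
  letI := h.G0_normal
  letI := h.K1_normal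
  inferInstanceAs (h.G0 ⊓ h.K1).Normal

theorem T_le_K2 : T ≤ h.K2 := le_inf h.T_le_G0 h.T_le_K1

/-- The centralizer of `Q₀`. -/
def C0 (_h' : NC S T Q E) : Subgroup G := Subgroup.centralizer ((Q ⊓ T : Subgroup G) : Set G)

theorem mem_C0 {g : G} : g ∈ h.C0 ↔ ∀ x ∈ Q ⊓ T, x * g = g * x := Subgroup.mem_centralizer_iff

theorem C0_normal : h.C0.Normal := ⟨fun c hc g => by
  rw [mem_C0] at hc ⊢
  intro x hx
  have h1 := hc _ (h.Q0_normal.conj_mem x hx g⁻¹)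
  have e1 : x * (g * c * g⁻¹) = g * ((g⁻¹ * x * g⁻¹⁻¹) * c) * g⁻¹ := by group
  have e2 : g * c * g⁻¹ * x = g * (c * (g⁻¹ * x * g⁻¹⁻¹)) * g⁻¹ := by group
  rw [e1, e2, h1]⟩

theorem C0_le_G0 : h.C0 ≤ h.G0 := fun _ hc => EM.of_mem_centralizer inf_le_right hc

/-- The stabilizer of the chain `1 ≤ Q₀ ≤ Q`. -/
def D : Subgroup G := h.K1 ⊓ h.C0

theorem D_normal : h.D.Normal :=
  letI := h.K1_normal
  letI := h.C0_normal
  inferInstanceAs (h.K1 ⊓ h.C0).Normal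

theorem D_le_K2 : h.D ≤ h.K2 := fun _ hx => ⟨h.C0_le_G0 hx.2, hx.1⟩

theorem D_le : h.D ≤ Q := by
  refine h.Qmax _ h.D_normal ?_
  have hQ0p : IsPGroup p (Q ⊓ T : Subgroup G) := h.Qp.to_le inf_le_left
  obtain ⟨m, hm⟩ := IsPGroup.iff_card.1 hQ0p
  intro g
  have hgK := g.2.1
  have hgC : (g : G) ∈ h.C0 := g.2.2
  have hc : (g : G) ^ p ^ m ∈ Subgroup.centralizer (Q : Set G) := by
    rw [Subgroup.mem_centralizer_iff]
    intro q hq
    have hj := hgK q hq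
    obtain ⟨j, hjd⟩ : ∃ j, j = q⁻¹ * (g : G) * q * (g : G)⁻¹ := ⟨_, rfl⟩
    rw [← hjd] at hj
    have hgq : (g : G) * q = q * j * g := by
      rw [hjd]
      group
    have hcomm : j * (g : G) = g * j := (h.mem_C0).1 hgC j hj
    have hit : ∀ n : ℕ, (g : G) ^ n * q = q * j ^ n * (g : G) ^ n := by
      intro n
      induction n with
      | zero => simp
      | succ n ih =>
        have hc' : Commute (g : G) j := hcomm.symm
        have hcn : (g : G) * j ^ n = j ^ n * g := (hc'.pow_right n).eq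
        calc (g : G) ^ (n + 1) * q = g * ((g : G) ^ n * q) := by rw [pow_succ']; group
          _ = g * (q * j ^ n * (g : G) ^ n) := by rw [ih]
          _ = ((g : G) * q) * j ^ n * (g : G) ^ n := by group
          _ = q * j * g * j ^ n * (g : G) ^ n := by rw [hgq]
          _ = q * j * (g * j ^ n) * (g : G) ^ n := by group
          _ = q * j * (j ^ n * g) * (g : G) ^ n := by rw [hcn]
          _ = q * (j * j ^ n) * (g * (g : G) ^ n) := by group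
          _ = q * j ^ (n + 1) * (g : G) ^ (n + 1) := by rw [pow_succ', pow_succ']
    have h1 := hit (p ^ m)
    have hj1 : j ^ p ^ m = 1 := by
      rw [← hm]
      have := pow_card_eq_one' (G := (Q ⊓ T : Subgroup G)) (x := ⟨j, hj⟩)
      exact congrArg Subtype.val this
    rw [hj1, mul_one] at h1
    exact h1.symm
  obtain ⟨k, hk⟩ := h.Qp ⟨_, h.Qc hc⟩
  refine ⟨m + k, Subtype.ext ?_⟩
  have hk' : ((g : G) ^ p ^ m) ^ p ^ k = 1 := congrArg Subtype.val hk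
  show (g : G) ^ p ^ (m + k) = 1
  rw [pow_add, pow_mul, hk']

theorem T_inf_C0 {t : G} (ht : t ∈ T) (hc : t ∈ h.C0) : t ∈ Q ⊓ T := ⟨h.D_le ⟨h.T_le_K1 ht, hc⟩, ht⟩

theorem Q0_fullyNormalized : E.IsFullyNormalized (Q ⊓ T) := by
  refine ⟨inf_le_right, fun Q' _ => Subgroup.card_le_of_le ?_⟩
  rintro x ⟨hx, -⟩
  exact ⟨hx, mem_normalizer_of_conj (fun y hy => by
    exact h.Q0_normal.conj_mem y hy x)⟩

theorem Q0_fullyAutomized : E.IsFullyAutomized p (Q ⊓ T) :=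
  (fullyNormalized_spec h.isPGroup_T h.hsat h.Q0_fullyNormalized).2

theorem Q0_receptive : E.IsReceptive (Q ⊓ T) :=
  receptive_of_fullyNormalized h.isPGroup_T h.hsat h.Q0_fullyNormalized

theorem T_fullyAutomized : E.IsFullyAutomized p T :=
  (fullyNormalized_spec h.isPGroup_T h.hsat fullyNormalized_self).2

theorem pow_of_S {x : G} (hx : x ∈ (S : Subgroup G)) : ∃ k : ℕ, x ^ p ^ k = 1 := by
  obtain ⟨k, hk⟩ := S.isPGroup' ⟨x, hx⟩
  exact ⟨k, congrArg Subtype.val hk⟩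

/-- The elements of `S ∩ K₂`. -/
theorem exists_of_mem_P {x : G} (hx : x ∈ (S : Subgroup G) ⊓ h.K2) : ∃ t ∈ T, ∃ d ∈ h.D, x = t * d := by
  obtain ⟨k, hk⟩ := h.pow_of_S hx.1
  obtain ⟨t, ht, hv⟩ := h.toNS.exists_T_of_pow h.Q0_fullyAutomized (h.Q0_le_normalizer x) (h.S_le hx.1) hx.2.1 hk
  refine ⟨t, ht, t⁻¹ * x, ?_, by group⟩
  refine ⟨h.K1.mul_mem (h.K1.inv_mem (h.T_le_K1 ht)) hx.2.2, (h.mem_C0).2 (fun y hy => ?_)⟩
  have h1 := hv y hy
  calc y * (t⁻¹ * x) = t⁻¹ * (t * y * t⁻¹) * x := by group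
    _ = t⁻¹ * (x * y * x⁻¹) * x := by rw [h1]
    _ = t⁻¹ * x * y := by group

theorem stable {g x : G} (hg : g ∈ h.K2) (hx : x ∈ (S : Subgroup G) ⊓ h.K2)
    (hy : g * x * g⁻¹ ∈ (S : Subgroup G) ⊓ h.K2) : x⁻¹ * (g * x * g⁻¹) ∈ T := by
  obtain ⟨t, ht, d, hd, rfl⟩ := h.exists_of_mem_P hx
  have hdQ := h.D_le hd
  have hj := hg.2 d hdQ
  obtain ⟨j, hjd⟩ : ∃ j, j = d⁻¹ * g * d * g⁻¹ := ⟨_, rfl⟩
  rw [← hjd] at hj
  have hgd : g * d * g⁻¹ = d * j := by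
    rw [hjd]
    group
  have hjS : j ∈ (S : Subgroup G) := h.QS hj.1
  have hdS : d ∈ (S : Subgroup G) := h.QS hdQ
  have e1 : g * (t * d) * g⁻¹ = (g * t * g⁻¹) * (d * j) := by
    rw [← hgd]
    group
  rw [e1] at hy ⊢
  have h1 : g * t * g⁻¹ ∈ (S : Subgroup G) := by
    have h2 := Subgroup.mul_mem _ hy.1 (Subgroup.inv_mem _ (Subgroup.mul_mem _ hdS hjS))
    have e : g * t * g⁻¹ = (g * t * g⁻¹) * (d * j) * (d * j)⁻¹ := by group
    rw [e]
    exact h2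
  have h3 := h.sc g t ht h1
  have h4 := h.toNS.conj_S (Subgroup.inv_mem _ hdS) (T.mul_mem (T.inv_mem ht) h3)
  have e2 : (t * d)⁻¹ * ((g * t * g⁻¹) * (d * j)) = d⁻¹ * (t⁻¹ * (g * t * g⁻¹)) * d⁻¹⁻¹ * j := by group
  rw [e2]
  exact T.mul_mem h4 hj.2

end NC

/-- The properties of the subgroup `H`. -/
structure IsH (h : NC S T Q E) (H : Subgroup G) : Prop where
  le : H ≤ h.K2
  conj : ∀ g ∈ h.K2, ∀ x ∈ H, g * x * g⁻¹ ∈ H
  inf : H ⊓ ((S : Subgroup G) ⊓ h.K2) = T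
  pow : ∀ x ∈ h.K2, ∃ k : ℕ, x ^ p ^ k ∈ H
  ext : ∀ x ∈ h.K2, ∃ u ∈ (S : Subgroup G) ⊓ h.K2, x * u⁻¹ ∈ H

theorem NC.exists_H (h : NC S T Q E) : ∃ H : Subgroup G, IsH h H := by
  haveI hK := h.K2_normal
  have hsyl : SylowIn p ((S : Subgroup G) ⊓ h.K2) h.K2 := sylowIn_inf S h.K2
  obtain ⟨R, hR⟩ := hsyl
  have hidx : Nat.Coprime (((S : Subgroup G) ⊓ h.K2).subgroupOf h.K2).index p := by
    rw [← hR, Nat.coprime_comm, Nat.Prime.coprime_iff_not_dvd hp.out]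
    exact R.not_dvd_index
  have hTle : T.subgroupOf h.K2 ≤ ((S : Subgroup G) ⊓ h.K2).subgroupOf h.K2 := fun x hx => by
    rw [Subgroup.mem_subgroupOf] at hx ⊢
    exact ⟨h.hTS hx, x.2⟩
  obtain ⟨Y, hYn, hYP, hY1, hY2⟩ := exists_normal_of_stable (p := p) hTle
    (fun g x hx hy => by
      rw [Subgroup.mem_subgroupOf] at hx hy ⊢
      exact h.stable g.2 hx hy)
    (fun x hx => by
      rw [Subgroup.mem_subgroupOf] at hx
      obtain ⟨k, hk⟩ := h.pow_of_S hx.1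
      refine ⟨k, ?_⟩
      rw [Subgroup.mem_subgroupOf]
      have : (((x ^ p ^ k : h.K2)) : G) = 1 := by
        rw [Subgroup.coe_pow, hk]
      rw [this]
      exact T.one_mem)
    hidx
  have hmem : ∀ x : h.K2, (x : G) ∈ Y.map h.K2.subtype ↔ x ∈ Y := fun x => by
    constructor
    · rintro ⟨y, hy, hyx⟩
      have : y = x := Subtype.ext hyx
      rwa [← this]
    · intro hx
      exact ⟨x, hx, rfl⟩
  refine ⟨Y.map h.K2.subtype, ?_, ?_, ?_, ?_, ?_⟩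
  · rintro _ ⟨x, -, rfl⟩
    exact x.2
  · rintro g hg _ ⟨x, hx, rfl⟩
    exact ⟨_, hYn.conj_mem x hx ⟨g, hg⟩, rfl⟩
  · ext x
    constructor
    · rintro ⟨⟨y, hy, rfl⟩, hx⟩
      have h1 : y ∈ Y ⊓ ((S : Subgroup G) ⊓ h.K2).subgroupOf h.K2 := ⟨hy, Subgroup.mem_subgroupOf.2 hx⟩
      rw [hYP] at h1
      exact h1
    · intro hx
      have hxK := h.T_le_K2 hx
      have h1 : (⟨x, hxK⟩ : h.K2) ∈ T.subgroupOf h.K2 := hx
      rw [← hYP] at h1
      exact ⟨⟨⟨x, hxK⟩, h1.1, rfl⟩, h.hTS hx, hxK⟩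
  · intro x hx
    obtain ⟨k, hk⟩ := hY1 ⟨x, hx⟩
    exact ⟨k, ⟨_, hk, rfl⟩⟩
  · intro x hx
    obtain ⟨u, hu, hxu⟩ := hY2 ⟨x, hx⟩
    rw [Subgroup.mem_subgroupOf] at hu
    exact ⟨u, hu, ⟨_, hxu, rfl⟩⟩

end Cfsg.Agent.Lib.Fusion2.NormConstr
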