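/-
Normal subgroups of `F` intersected with a strongly closed subgroup, and centralizers in a strongly closed subgroup.
-/
import Cfsg.Agent.Lib.Fusion.NormalCriterion
import Cfsg.Agent.Lib.Fusion.Rigid
import Cfsg.Agent.Lib.Fusion2.NormalAPI

set_option autoImplicit false

namespace Cfsg.Agent.Lib.Fusion2

open Cfsg Cfsg.FusionSystem Cfsg.Agent.Lib.Fusion

variable {Ω : Type*} [Group Ω] {S : Subgroup Ω} [Finite S] {F : FusionSystem S} {p : ℕ} [Fact p.Prime]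

/-- Elements of `Aut_F(U)` preserve `R ∩ U`, for `R` strongly closed. -/
theorem autGroup_mem_of_stronglyClosed' {R U : Subgroup Ω} (hUS : U ≤ S) (hR : F.StronglyClosed R) {α : MulAut U}
    (hα : α ∈ F.autGroup U) {x : U} (hx : (x : Ω) ∈ R) : ((α x : U) : Ω) ∈ R := by
  have hφ := (mem_autGroup_iff hUS).1 hα
  have hRU : R ⊓ U ≤ U := inf_le_right
  exact hR.2 (R ⊓ U) inf_le_left _ (restrict_mem hφ hRU) ⟨x, hx, x.2⟩

/-- `Q ⊓ T` is strongly closed. -/
theorem stronglyClosed_inf {Q T : Subgroup Ω} (hQ : F.StronglyClosed Q) (hT : F.StronglyClosed T) :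
    F.StronglyClosed (Q ⊓ T) :=
  ⟨inf_le_left.trans hQ.1, fun U hU φ hφ x =>
    ⟨hQ.2 U (hU.trans inf_le_left) φ hφ x, hT.2 U (hU.trans inf_le_right) φ hφ x⟩⟩

/-- For `Q` normal in `F`, and `E` a saturated subsystem of `F` on a strongly closed `T`, `Q ∩ T` is normal in `E`. -/
theorem isNormal_inf (hS : IsPGroup p S) {T : Subgroup Ω} (E : FusionSystem T) (hE : E.IsSaturated p)
    (hsub : E.IsSubsystemOf F) (hT : F.StronglyClosed T) {Q : Subgroup Ω} (hQ : F.IsNormal Q) :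
    E.IsNormal (Q ⊓ T) := by
  haveI : Finite T := finite_of_le hT.1
  have hTp : IsPGroup p T := hS.to_le hT.1
  have hQsc := Cfsg.Agent.Lib.Fusion.stronglyClosed_of_isNormal hQ
  have hRsc : E.StronglyClosed (Q ⊓ T) := ⟨inf_le_right, fun U hU φ hφ x =>
    ⟨hQsc.2 U (hU.trans inf_le_left) φ (hsub U hφ) x, hT.2 U (hU.trans inf_le_right) φ (hsub U hφ) x⟩⟩
  refine Cfsg.Agent.Lib.Fusion.isNormal_of_essential_le hTp hE hRsc (fun U hU => ?_)
  have hr := isRadical_of_essential hTp hU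
  have hUc := hU.1
  have hUT : U ≤ T := hUc.1
  have := finite_of_le hUT
  have hle : autInducedBy (Q ⊓ T) U ≤ autInducedBy T U := by
    intro α hα
    obtain ⟨g, hg, hga⟩ := mem_autInducedBy_iff.1 hα
    exact mem_autInducedBy_iff.2 ⟨g, hg.2, hga⟩
  have hleA : autInducedBy (Q ⊓ T) U ≤ E.autGroup U := hle.trans (autInducedBy_le_autGroup hUT)
  have hp : IsPGroup p ((autInducedBy (Q ⊓ T) U).subgroupOf (E.autGroup U)) :=
    (isPGroup_autInducedBy hTp hUT).to_le hle |>.comap_subtype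
  have hnorm : ((autInducedBy (Q ⊓ T) U).subgroupOf (E.autGroup U)).Normal := by
    constructor
    rintro ⟨β, hβA⟩ hβ ⟨α, hαA⟩
    obtain ⟨g, hg, hgb⟩ := mem_autInducedBy_iff.1 hβ
    have hφ := hsub U ((mem_autGroup_iff hUT).1 hαA)
    obtain ⟨ψ, hψ, hag, him⟩ := hQ.2 U _ hφ
    have hgX : g ∈ U ⊔ Q := Subgroup.mem_sup_right hg.1
    have hψg : ψ ⟨g, hgX⟩ ∈ Q := him.le ⟨⟨g, hgX⟩, hg.1, rfl⟩
    have hRX : Q ⊓ T ≤ U ⊔ Q := inf_le_left.trans le_sup_right
    have hψgT : ψ ⟨g, hgX⟩ ∈ T := hT.2 (Q ⊓ T) inf_le_right _ (restrict_mem hψ hRX) ⟨g, hg⟩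
    refine mem_autInducedBy_iff.2 ⟨ψ ⟨g, hgX⟩, ⟨hψg, hψgT⟩, fun x => ?_⟩
    show ((α (β (α⁻¹ x)) : U) : Ω) = _
    have h1 : ψ (Subgroup.inclusion le_sup_left (α⁻¹ x)) = ((α (α⁻¹ x) : U) : Ω) := hag _
    rw [MulAut.apply_inv_self] at h1
    have h2 : ψ (Subgroup.inclusion le_sup_left (β (α⁻¹ x))) = ((α (β (α⁻¹ x)) : U) : Ω) := hag _
    rw [← h2, ← h1, ← map_inv, ← map_mul, ← map_mul]
    congr 1
    apply Subtype.ext
    exact hgb _
  have hle2 : (autInducedBy (Q ⊓ T) U).subgroupOf (E.autGroup U) ≤ pCore p (E.autGroup U) :=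
    Cfsg.Agent.Lib.Basic.le_pCore hnorm hp
  refine le_of_inn hTp hUT (hUc.2 U (isConj_refl hUT)) inf_le_right
    (normalizer_of_stronglyClosed hRsc) (fun g hg hgn => ?_)
  have hcQ : autOfNormalizer hgn ∈ autInducedBy (Q ⊓ T) U := autOfNormalizer_mem_autInducedBy hgn hg
  rw [← hr.2]
  exact ⟨⟨_, hleA hcQ⟩, hle2 hcQ, rfl⟩

/-- An element of `Aut_F(U)` some `p`-power of which fixes a centric subgroup pointwise has `p`-power order. -/
theorem exists_pow_eq_one_of_fix_centric (hS : IsPGroup p S) (hF : F.IsSaturated p) {Q U : Subgroup Ω}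
    (hQc : F.IsCentric Q) (hQU : Q ≤ U) (hUS : U ≤ S) {β : MulAut U} (hβ : β ∈ F.autGroup U) {a : ℕ}
    (hfix : ∀ x : U, (x : Ω) ∈ Q → ((β ^ p ^ a) x : U) = x) : ∃ c, β ^ p ^ c = 1 := by
  have hγ : β ^ p ^ a ∈ F.autGroup U := pow_mem hβ _
  have hφ := (mem_autGroup_iff hUS).1 hγ
  obtain ⟨z, hzQ, -, hz⟩ := exists_eq_conj_of_fix hS hF hQc hQU hφ (fun x hx => congrArg Subtype.val (hfix x hx))
  have hzU : z ∈ U := hQU hzQ
  have hγeq : β ^ p ^ a = MulAut.conj (⟨z, hzU⟩ : U) := by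
    ext y
    exact hz y
  have hUp : IsPGroup p U := hS.to_le hUS
  obtain ⟨b, hb⟩ := hUp ⟨z, hzU⟩
  refine ⟨a + b, ?_⟩
  rw [pow_add, pow_mul, hγeq, ← map_pow, hb, map_one]

/-- The subgroup of `Aut_F(U)` of automorphisms which are trivial on `R ≤ Q ≤ U` and act trivially on `Q/R`. -/
def autStabTwo (F : FusionSystem S) (U Q R : Subgroup Ω) (hRQ : R ≤ Q) (hUS : U ≤ S) (hQ : F.StronglyClosed Q) :
    Subgroup (MulAut U) where
  carrier := {β | β ∈ F.autGroup U ∧ (∀ y : U, (y : Ω) ∈ R → β y = y) ∧ ∀ y : U, (y : Ω) ∈ Q → (y : Ω)⁻¹ * β y ∈ R}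
  one_mem' := ⟨Subgroup.one_mem _, fun _ _ => rfl, fun y _ => by simp [R.one_mem]⟩
  mul_mem' := by
    rintro a b ⟨ha, ha1, ha2⟩ ⟨hb, hb1, hb2⟩
    refine ⟨mul_mem ha hb, fun y hy => ?_, fun y hy => ?_⟩
    · rw [MulAut.mul_apply, hb1 y hy, ha1 y hy]
    · rw [MulAut.mul_apply]
      have h1 : ((b y : U) : Ω) ∈ Q := by
        have := Q.mul_mem hy (hRQ (hb2 y hy))
        simpa using this
      have h2 := R.mul_mem (hb2 y hy) (ha2 (b y) h1)
      simpa [mul_assoc] using h2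
  inv_mem' := by
    rintro a ⟨ha, ha1, ha2⟩
    refine ⟨inv_mem ha, fun y hy => ?_, fun y hy => ?_⟩
    · rw [MulAut.inv_def]
      apply a.symm_apply_eq.2
      exact (ha1 y hy).symm
    · have h1 : ((a⁻¹ y : U) : Ω) ∈ Q := autGroup_mem_of_stronglyClosed' hUS hQ (inv_mem ha) hy
      have h2 := ha2 (a⁻¹ y) h1
      rw [MulAut.apply_inv_self] at h2
      have h3 := R.inv_mem h2
      simpa using h3

/-- `autStabTwo` is a normal subgroup of `Aut_F(U)`. -/
theorem autStabTwo_normal (U Q R : Subgroup Ω) (hRQ : R ≤ Q) (hUS : U ≤ S) (hQ : F.StronglyClosed Q)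
    (hR : F.StronglyClosed R) : ((autStabTwo F U Q R hRQ hUS hQ).subgroupOf (F.autGroup U)).Normal := by
  constructor
  rintro ⟨β, hβA⟩ ⟨-, hβ1', hβ2'⟩ ⟨α, hαA⟩
  have hβ1 : ∀ y : U, (y : Ω) ∈ R → β y = y := hβ1'
  have hβ2 : ∀ y : U, (y : Ω) ∈ Q → (y : Ω)⁻¹ * β y ∈ R := hβ2'
  refine ⟨mul_mem (mul_mem hαA hβA) (inv_mem hαA), fun y hy => ?_, fun y hy => ?_⟩
  · show α (β (α⁻¹ y)) = y
    have h1 : ((α⁻¹ y : U) : Ω) ∈ R := autGroup_mem_of_stronglyClosed' hUS hR (inv_mem hαA) hy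
    rw [hβ1 _ h1, MulAut.apply_inv_self]
  · show (y : Ω)⁻¹ * ((α (β (α⁻¹ y)) : U) : Ω) ∈ R
    have h1 : ((α⁻¹ y : U) : Ω) ∈ Q := autGroup_mem_of_stronglyClosed' hUS hQ (inv_mem hαA) hy
    have h2 := hβ2 _ h1
    set r : U := (α⁻¹ y)⁻¹ * β (α⁻¹ y) with hr
    have h3 : (r : Ω) ∈ R := by
      rw [hr]
      simpa using h2
    have h4 := autGroup_mem_of_stronglyClosed' hUS hR hαA h3
    have h5 : α r = y⁻¹ * α (β (α⁻¹ y)) := by
      rw [hr, map_mul, map_inv, MulAut.apply_inv_self]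
    rw [h5] at h4
    simpa using h4

/-- `autStabTwo` is a `p`-group when `Q` is centric. -/
theorem autStabTwo_isPGroup (hS : IsPGroup p S) (hF : F.IsSaturated p) (U Q R : Subgroup Ω) (hRQ : R ≤ Q) (hUS : U ≤ S)
    (hQU : Q ≤ U) (hQ : F.StronglyClosed Q) (hQc : F.IsCentric Q) : IsPGroup p (autStabTwo F U Q R hRQ hUS hQ) := by
  have := finite_of_le hUS
  have hUp : IsPGroup p U := hS.to_le hUS
  rintro ⟨β, hβA, hβ1, hβ2⟩
  -- `β` stabilizes the chain `1 ≤ R ≤ Q`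
  let W : ℕ → Subgroup U := fun i => if i = 0 then ⊥ else if i = 1 then R.subgroupOf U else Q.subgroupOf U
  have hW0 : W 0 = ⊥ := rfl
  have hW1 : W 1 = R.subgroupOf U := rfl
  have hW2 : W 2 = Q.subgroupOf U := rfl
  have hinv : ∀ i ≤ 2, ∀ x ∈ W i, β x ∈ W i := by
    intro i hi x hx
    interval_cases i
    · rw [hW0, Subgroup.mem_bot] at hx ⊢
      rw [hx, map_one]
    · rw [hW1, Subgroup.mem_subgroupOf] at hx ⊢
      rw [hβ1 x hx]
      exact hx
    · rw [hW2, Subgroup.mem_subgroupOf] at hx ⊢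
      exact autGroup_mem_of_stronglyClosed' hUS hQ hβA hx
  have hstep : ∀ i < 2, ∀ x ∈ W (i + 1), x⁻¹ * β x ∈ W i := by
    intro i hi x hx
    interval_cases i
    · rw [hW0, Subgroup.mem_bot]
      have hx' : (x : Ω) ∈ R := by
        have : x ∈ W 1 := hx
        rw [hW1, Subgroup.mem_subgroupOf] at this
        exact this
      rw [hβ1 x hx', inv_mul_cancel]
    · rw [hW1, Subgroup.mem_subgroupOf]
      have hx' : (x : Ω) ∈ Q := by
        have : x ∈ W 2 := hx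
        rw [hW2, Subgroup.mem_subgroupOf] at this
        exact this
      simpa using hβ2 x hx'
  obtain ⟨a, ha⟩ := exists_pow_fix_chain hUp β W 2 hinv ⟨0, fun x hx => by
    rw [hW0, Subgroup.mem_bot] at hx
    rw [hx, map_one]⟩ hstep
  obtain ⟨c, hc⟩ := exists_pow_eq_one_of_fix_centric hS hF hQc hQU hUS hβA (a := a) (fun x hx => ha x (by
    rw [hW2, Subgroup.mem_subgroupOf]
    exact hx))
  exact ⟨c, Subtype.ext (by simpa using hc)⟩

/-- If `Q` is normal and centric in `F`, and `T` is strongly closed, then `C_T(Q ∩ T)` is normal in `F`. -/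
theorem isNormal_centralizer_inf (hS : IsPGroup p S) (hF : F.IsSaturated p) {T Q : Subgroup Ω}
    (hT : F.StronglyClosed T) (hQ : F.IsNormal Q) (hQc : F.IsCentric Q) :
    F.IsNormal (centralizerIn T (Q ⊓ T)) := by
  have hQsc := Cfsg.Agent.Lib.Fusion.stronglyClosed_of_isNormal hQ
  have hRsc := stronglyClosed_inf hQsc hT
  have hGS : centralizerIn T (Q ⊓ T) ≤ S := inf_le_left.trans hT.1
  have hRX : ∀ U : Subgroup Ω, Q ⊓ T ≤ U ⊔ Q := fun U => inf_le_left.trans le_sup_right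
  have hGsc : F.StronglyClosed (centralizerIn T (Q ⊓ T)) := by
    refine ⟨hGS, fun U hU φ hφ x => ⟨hT.2 U (hU.trans inf_le_left) φ hφ x, ?_⟩⟩
    show φ x ∈ Subgroup.centralizer _
    obtain ⟨ψ, hψ, hag, him⟩ := hQ.2 U φ hφ
    rw [Subgroup.mem_centralizer_iff]
    intro r hr
    have hm := map_eq_of_stronglyClosed hRsc (hRX U) hψ
    have hr' : r ∈ ((Q ⊓ T).subgroupOf (U ⊔ Q)).map ψ := by rw [hm]; exact hr
    obtain ⟨r₀, hr₀, rfl⟩ := hr'
    rw [← hag x, ← map_mul, ← map_mul]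
    congr 1
    apply Subtype.ext
    have hx2 : (x : Ω) ∈ Subgroup.centralizer ((Q ⊓ T : Subgroup Ω) : Set Ω) := (hU x.2).2
    exact Subgroup.mem_centralizer_iff.1 hx2 _ hr₀
  refine isNormal_of_essential_le hS hF hGsc (fun U hU => ?_)
  have hr := isRadical_of_essential hS hU
  have hUc := hU.1
  have hUS : U ≤ S := hUc.1
  have hQU : Q ≤ U := le_of_isNormal hS hQ hUc hr
  have hRQ : Q ⊓ T ≤ Q := inf_le_left
  have := finite_of_le hUS
  have hnorm := autStabTwo_normal U Q (Q ⊓ T) hRQ hUS hQsc hRsc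
  have hp := autStabTwo_isPGroup hS hF U Q (Q ⊓ T) hRQ hUS hQU hQsc hQc
  have hle2 : (autStabTwo F U Q (Q ⊓ T) hRQ hUS hQsc).subgroupOf (F.autGroup U) ≤ pCore p (F.autGroup U) :=
    Cfsg.Agent.Lib.Basic.le_pCore hnorm hp.comap_subtype
  refine le_of_inn hS hUS (hUc.2 U (isConj_refl hUS)) hGS (normalizer_of_stronglyClosed hGsc) (fun g hg hgn => ?_)
  have hgS : g ∈ S := hGS hg
  have hgT : g ∈ T := hg.1
  have hcA : autOfNormalizer hgn ∈ F.autGroup U := autOfNormalizer_mem_autGroup hUS ⟨hgS, hgn⟩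
  have hcB : autOfNormalizer hgn ∈ autStabTwo F U Q (Q ⊓ T) hRQ hUS hQsc := by
    refine ⟨hcA, fun y hy => ?_, fun y hy => ?_⟩
    · apply Subtype.ext
      show g * (y : Ω) * g⁻¹ = y
      have h1 := Subgroup.mem_centralizer_iff.1 hg.2 y hy
      rw [← h1]
      group
    · show (y : Ω)⁻¹ * (g * (y : Ω) * g⁻¹) ∈ Q ⊓ T
      have hyS : (y : Ω) ∈ S := hUS y.2
      refine ⟨Q.mul_mem (Q.inv_mem hy) ((normalizer_of_stronglyClosed hQsc hgS |> Subgroup.mem_normalizer_iff.1) y |>.1 hy), ?_⟩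
      have h1 : (y : Ω)⁻¹ * g * (y : Ω) ∈ T := by
        have := conj_mem_of_normalizer (normalizer_of_stronglyClosed hT (S.inv_mem hyS)) hgT
        simpa using this
      have h2 := T.mul_mem h1 (T.inv_mem hgT)
      simpa [mul_assoc] using h2
  rw [← hr.2]
  exact ⟨⟨_, hcA⟩, hle2 hcB, rfl⟩

/-- The core of a constrained system is centric. -/
theorem core_isCentric (hF : F.IsConstrained p) : F.IsCentric F.core := by
  obtain ⟨-, Q, hQ, hQc⟩ := hF
  have hle : Q ≤ F.core := le_sSup hQ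
  exact isCentric_of_le hQc hle (core_isNormal F).1

/-- A normal subsystem of a constrained system is constrained. -/
theorem isConstrained_of_isNormalIn (hS : IsPGroup p S) (hF : F.IsConstrained p) {T : Subgroup Ω} (E : FusionSystem T)
    (hE : E.IsNormalIn F p) : E.IsConstrained p := by
  obtain ⟨⟨hEs, -, hsub, hT, -⟩, -⟩ := hE
  have hFs := hF.1
  haveI : Finite T := finite_of_le hT.1
  have hcore := core_isNormal F
  have hcorec := core_isCentric hF
  refine ⟨hEs, F.core ⊓ T, isNormal_inf hS E hEs hsub hT hcore, ?_⟩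
  have hRn := isNormal_inf hS E hEs hsub hT hcore
  have hRsc := Cfsg.Agent.Lib.Fusion.stronglyClosed_of_isNormal hRn
  refine ⟨inf_le_right, fun R' hR' => ?_⟩
  obtain ⟨φ, hφ, rfl⟩ := hR'
  have hm := map_eq_of_stronglyClosed hRsc le_rfl hφ
  have hrange : φ.range = F.core ⊓ T := by
    refine Eq.trans ?_ hm
    ext y
    constructor
    · rintro ⟨x, rfl⟩
      exact ⟨x, by simp [Subgroup.mem_subgroupOf], rfl⟩
    · rintro ⟨x, -, rfl⟩
      exact ⟨x, rfl⟩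
  rw [hrange]
  have hG := isNormal_centralizer_inf hS hFs hT hcore hcorec
  have hle : centralizerIn T (F.core ⊓ T) ≤ F.core := le_sSup hG
  exact le_inf hle inf_le_left

end Cfsg.Agent.Lib.Fusion2
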