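import Cfsg.Agent.Lib.Fusion2.PowRing
import Cfsg.Agent.Lib.Fusion.Functor
import Cfsg.Agent.Lib.Coprime.Conj
import Cfsg.Agent.Lib.OddLocal.UniqueP
import Cfsg.Agent.Lib.PGroups.Parts
import Cfsg.Agent.Lib.Basic.Core

/-!
# `p^n`-th powers of central elements in groups of small class
-/

set_option autoImplicit false
set_option linter.unusedSectionVars false
set_option linter.style.haveILetI false

universe u

namespace Cfsg.Agent.Lib.Fusion2.PowRing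

open Cfsg Subgroup
open scoped commutatorElement

theorem commute_pow_of_nil {L : Type*} [Group L] {p : ℕ} (hp : p.Prime) (n : ℕ) {H : Subgroup L} {t : L}
    (hHc : ∀ a ∈ H, ∀ b ∈ H, a * b = b * a) (hHn : ∀ a ∈ H, ∀ u : L, u * a * u⁻¹ ∈ H)
    (htp : t ^ p ∈ centralizer (H : Set L))
    (hnil : ∀ a ∈ H, (fun x => ⁅t, x⁆)^[n * (p - 1) + 1] a = 1) {a : L} (ha : a ∈ H) :
    t * a ^ (p ^ n) * t⁻¹ = a ^ (p ^ n) := by
  letI : CommGroup H := { (inferInstance : Group H) with mul_comm := fun a b => Subtype.ext (hHc a a.2 b b.2) }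
  let f : H →* H :=
    { toFun := fun x => ⟨t * x * t⁻¹, hHn x x.2 t⟩
      map_one' := by
        apply Subtype.ext
        simp
      map_mul' := by
        intro x y
        apply Subtype.ext
        show t * ((x : L) * y) * t⁻¹ = (t * x * t⁻¹) * (t * y * t⁻¹)
        group }
  have hfv : ∀ x : H, ((f x : H) : L) = t * x * t⁻¹ := fun _ => rfl
  have hfi : ∀ (k : ℕ) (x : H), ((f^[k] x : H) : L) = t ^ k * x * (t ^ k)⁻¹ := by
    intro k x
    induction k generalizing x with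
    | zero => simp
    | succ k ih =>
      rw [Function.iterate_succ_apply, ih, hfv, pow_succ]
      group
  have hf : ∀ x : H, f^[p] x = x := by
    intro x
    apply Subtype.ext
    rw [hfi]
    have := mem_centralizer_iff.1 htp x x.2
    rw [← this]
    group
  have hit : ∀ (k : ℕ) (x : H), (((fun x => f x * x⁻¹)^[k] x : H) : L) = (fun x => ⁅t, x⁆)^[k] (x : L) := by
    intro k x
    induction k generalizing x with
    | zero => rfl
    | succ k ih =>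
      rw [Function.iterate_succ_apply, ih, Function.iterate_succ_apply]
      congr 1
  have h := comm_key hp n f hf (fun x => Subtype.ext (by rw [hit]; exact hnil x x.2)) ⟨a, ha⟩
  rw [mul_pow, inv_pow, mul_inv_eq_one] at h
  have h2 := congrArg Subtype.val h
  have e1 : ((f ⟨a, ha⟩ ^ p ^ n : H) : L) = (t * a * t⁻¹) ^ p ^ n := rfl
  have e2 : (((⟨a, ha⟩ : H) ^ p ^ n : H) : L) = a ^ p ^ n := rfl
  rw [e1, e2, conj_pow] at h2
  exact h2

variable {p : ℕ} [hpf : Fact p.Prime]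

theorem power_center_key (n : ℕ) :
    ∀ (N : ℕ) (L : Type u) [Group L] [Finite L] (P : Sylow p L), Nat.card L = N →
      centralizer ((pCore p L : Subgroup L) : Set L) ≤ pCore p L →
      (∀ t ∈ (P : Subgroup L), ∀ a ∈ (P : Subgroup L), (fun x => ⁅t, x⁆)^[n * (p - 1) + 1] a = 1) →
      ∀ y ∈ (P : Subgroup L), (∀ t ∈ (P : Subgroup L), t * y = y * t) →
      ∀ g : L, ∃ y' ∈ (P : Subgroup L), (∀ t ∈ (P : Subgroup L), t * y' = y' * t) ∧ g * y ^ (p ^ n) * g⁻¹ = y' ^ (p ^ n) := by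
  intro N
  induction N using Nat.strong_induction_on with
  | _ N IH =>
  intro L _ _ P hN hc hnil y hy hyc g
  classical
  obtain ⟨Q, hQdef⟩ : ∃ Q : Subgroup L, Q = pCore p L := ⟨_, rfl⟩
  rw [← hQdef] at hc
  have hQn : Q.Normal := hQdef ▸ Cfsg.Agent.Lib.Basic.pCore_normal (G := L) p
  have hQp : IsPGroup p Q := hQdef ▸ Cfsg.Agent.Lib.Basic.pCore_isPGroup (G := L) p
  have hQP : Q ≤ P := hQdef ▸ Cfsg.Agent.Lib.Basic.pCore_le_sylow P
  have hQmax : ∀ N : Subgroup L, N.Normal → IsPGroup p N → N ≤ Q := fun N h1 h2 =>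
    hQdef ▸ Cfsg.Agent.Lib.Basic.le_pCore h1 h2
  by_cases hPQ : (P : Subgroup L) ≤ Q
  · have hPeq : (P : Subgroup L) = Q := le_antisymm hPQ hQP
    have hPn : (P : Subgroup L).Normal := hPeq ▸ hQn
    refine ⟨g * y * g⁻¹, hPn.conj_mem y hy g, fun t ht => ?_, by rw [conj_pow]⟩
    have h3 := hyc (g⁻¹ * t * g) (by simpa using hPn.conj_mem t ht g⁻¹)
    calc t * (g * y * g⁻¹) = g * ((g⁻¹ * t * g) * y) * g⁻¹ := by group
      _ = g * (y * (g⁻¹ * t * g)) * g⁻¹ := by rw [h3]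
      _ = g * y * g⁻¹ * t := by group
  obtain ⟨g₀, hg₀P, hg₀Q⟩ := SetLike.not_le_iff_exists.1 hPQ
  obtain ⟨H, hHdef⟩ : ∃ H : Subgroup L, H = (Subgroup.center ↥Q).map Q.subtype := ⟨_, rfl⟩
  have hHmem : ∀ a, a ∈ H ↔ a ∈ Q ∧ ∀ q ∈ Q, q * a = a * q := by
    intro a
    rw [hHdef]
    constructor
    · rintro ⟨x, hx, rfl⟩
      refine ⟨x.2, fun q hq => ?_⟩
      have := Subgroup.mem_center_iff.1 hx ⟨q, hq⟩
      exact congrArg Subtype.val this
    · rintro ⟨h1, h2⟩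
      refine ⟨⟨a, h1⟩, Subgroup.mem_center_iff.2 fun q => Subtype.ext (h2 q q.2), rfl⟩
  have hHc : ∀ a ∈ H, ∀ b ∈ H, a * b = b * a := fun a ha b hb => ((hHmem b).1 hb).2 a ((hHmem a).1 ha).1
  have hHn : ∀ a ∈ H, ∀ t : L, t * a * t⁻¹ ∈ H := by
    intro a ha t
    obtain ⟨h1, h2⟩ := (hHmem a).1 ha
    refine (hHmem _).2 ⟨hQn.conj_mem a h1 t, fun q hq => ?_⟩
    have h3 := h2 (t⁻¹ * q * t) (by simpa using hQn.conj_mem q hq t⁻¹)
    calc q * (t * a * t⁻¹) = t * ((t⁻¹ * q * t) * a) * t⁻¹ := by group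
      _ = t * (a * (t⁻¹ * q * t)) * t⁻¹ := by rw [h3]
      _ = t * a * t⁻¹ * q := by group
  have hyH : y ∈ H := by
    refine (hHmem y).2 ⟨hc ?_, fun q hq => hyc q (hQP hq)⟩
    rw [mem_centralizer_iff]
    intro q hq
    exact hyc q (hQP hq)
  -- the element of order `p` modulo `O_p`
  obtain ⟨m₀, hm₀⟩ := P.isPGroup' ⟨g₀, hg₀P⟩
  have hm₀' : g₀ ^ p ^ m₀ = 1 := congrArg Subtype.val hm₀
  have hex : ∃ k, g₀ ^ p ^ k ∈ Q := ⟨m₀, by rw [hm₀']; exact Q.one_mem⟩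
  have hk₀ : Nat.find hex ≠ 0 := by
    intro h0
    have := Nat.find_spec hex
    rw [h0, pow_zero, pow_one] at this
    exact hg₀Q this
  obtain ⟨k, hk⟩ : ∃ k, Nat.find hex = k + 1 := Nat.exists_eq_succ_of_ne_zero hk₀
  obtain ⟨g₁, hg₁def⟩ : ∃ g₁, g₁ = g₀ ^ p ^ k := ⟨_, rfl⟩
  have hg₁Q : g₁ ∉ Q := by
    rw [hg₁def]
    exact Nat.find_min hex (by omega)
  have hg₁p : g₁ ^ p ∈ Q := by
    have := Nat.find_spec hex
    rw [hk, pow_succ, pow_mul] at this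
    rw [hg₁def]
    exact this
  have hg₁P : g₁ ∈ (P : Subgroup L) := by
    rw [hg₁def]
    exact (P : Subgroup L).pow_mem hg₀P _
  have hg₁c : g₁ ^ p ∈ centralizer (H : Set L) := by
    rw [mem_centralizer_iff]
    intro a ha
    exact ((hHmem a).1 ha).2 _ hg₁p |>.symm
  have hcomm : ∀ h : L, g₁ * (h * y ^ (p ^ n) * h⁻¹) * g₁⁻¹ = h * y ^ (p ^ n) * h⁻¹ := by
    intro h
    have := commute_pow_of_nil hpf.out n hHc hHn hg₁c (fun a ha => hnil g₁ hg₁P a (hQP ((hHmem a).1 ha).1)) (hHn y hyH h)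
    rwa [conj_pow] at this
  -- the normal closure
  obtain ⟨M, hMdef⟩ : ∃ M : Subgroup L, M = normalClosure ({g₁} : Set L) := ⟨_, rfl⟩
  haveI hMn : M.Normal := by rw [hMdef]; infer_instance
  have hg₁M : g₁ ∈ M := by
    rw [hMdef]
    exact subset_normalClosure (Set.mem_singleton g₁)
  have hMz : ∀ m ∈ M, m * y ^ (p ^ n) * m⁻¹ = y ^ (p ^ n) := by
    have hle : M ≤ centralizer ({y ^ (p ^ n)} : Set L) := by
      rw [hMdef]
      refine (closure_le _).2 ?_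
      intro x hx
      obtain ⟨a, ha, hc'⟩ := Group.mem_conjugatesOfSet_iff.1 hx
      obtain ⟨c, hc'⟩ := isConj_iff.1 hc'
      rw [Set.mem_singleton_iff.1 ha] at hc'
      rw [SetLike.mem_coe, mem_centralizer_iff]
      intro u hu
      rw [Set.mem_singleton_iff.1 hu, ← hc']
      have h1 := hcomm c⁻¹
      simp only [inv_inv] at h1
      have h2 : c * g₁ * c⁻¹ * y ^ (p ^ n) * (c * g₁ * c⁻¹)⁻¹ = c * (g₁ * (c⁻¹ * y ^ (p ^ n) * c) * g₁⁻¹) * c⁻¹ := by group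
      have h3 : c * g₁ * c⁻¹ * y ^ (p ^ n) * (c * g₁ * c⁻¹)⁻¹ = y ^ (p ^ n) := by
        rw [h2, h1]
        group
      calc y ^ (p ^ n) * (c * g₁ * c⁻¹) = (c * g₁ * c⁻¹ * y ^ (p ^ n) * (c * g₁ * c⁻¹)⁻¹) * (c * g₁ * c⁻¹) := by rw [h3]
        _ = c * g₁ * c⁻¹ * y ^ (p ^ n) := by group
    intro m hm
    have h1 := mem_centralizer_iff.1 (hle hm) (y ^ (p ^ n)) rfl
    rw [← h1]
    group
  -- Frattini
  have hsup : normalizer (((P : Subgroup L) ⊓ M : Subgroup L) : Set L) ⊔ M = ⊤ := by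
    obtain ⟨R, hR⟩ := Cfsg.Agent.Lib.Coprime.exists_sylow_map_eq_inf P M
    have := Sylow.normalizer_sup_eq_top R
    rwa [hR] at this
  obtain ⟨H₁, hH₁⟩ : ∃ H₁ : Subgroup L, H₁ = normalizer (((P : Subgroup L) ⊓ M : Subgroup L) : Set L) := ⟨_, rfl⟩
  rw [← hH₁] at hsup
  have hH₁top : H₁ ≠ ⊤ := by
    intro htop
    rw [hH₁] at htop
    have hnormal := Subgroup.normalizer_eq_top_iff.1 htop
    have h1 := hQmax _ hnormal (P.isPGroup'.to_le inf_le_left)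
    exact hg₁Q (h1 ⟨hg₁P, hg₁M⟩)
  have hPH : (P : Subgroup L) ≤ H₁ := by
    rw [hH₁]
    intro t ht
    apply Cfsg.Agent.Lib.PGroups.mem_normalizer_of_conj_le'
    rintro x ⟨hx1, hx2⟩
    exact ⟨(P : Subgroup L).mul_mem ((P : Subgroup L).mul_mem ht hx1) ((P : Subgroup L).inv_mem ht), hMn.conj_mem x hx2 t⟩
  have hcard : Nat.card H₁ < N := hN ▸ Cfsg.Agent.Lib.OddLocal.card_lt_of_ne_top hH₁top
  let Ps : Sylow p H₁ := P.subtype hPH
  have hPs : (Ps : Subgroup H₁) = (P : Subgroup L).subgroupOf H₁ := Sylow.coe_subtype _ _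
  have hc' : centralizer ((pCore p H₁ : Subgroup H₁) : Set H₁) ≤ pCore p H₁ := by
    intro c hc₁
    have hQH : Q ≤ H₁ := hQP.trans hPH
    have hQ' : Q.subgroupOf H₁ ≤ pCore p H₁ :=
      Cfsg.Agent.Lib.Basic.le_pCore (hQn.subgroupOf H₁) (hQp.comap_subtype (K := H₁))
    have hcQ : (c : L) ∈ centralizer (Q : Set L) := by
      rw [mem_centralizer_iff]
      intro q hq
      have := mem_centralizer_iff.1 hc₁ ⟨q, hQH hq⟩ (hQ' hq)
      exact congrArg Subtype.val this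
    exact hQ' (hc hcQ)
  have hPsmem : ∀ x : H₁, x ∈ (Ps : Subgroup H₁) ↔ (x : L) ∈ (P : Subgroup L) := fun x => by
    rw [hPs, Subgroup.mem_subgroupOf]
  have hiter : ∀ (k : ℕ) (t a : H₁), (((fun x => ⁅t, x⁆)^[k] a : H₁) : L) = (fun x => ⁅(t : L), x⁆)^[k] (a : L) := by
    intro k t a
    induction k generalizing a with
    | zero => rfl
    | succ k ih =>
      rw [Function.iterate_succ_apply, ih, Function.iterate_succ_apply]
      rfl
  have hnil' : ∀ t ∈ (Ps : Subgroup H₁), ∀ a ∈ (Ps : Subgroup H₁), (fun x => ⁅t, x⁆)^[n * (p - 1) + 1] a = 1 := by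
    intro t ht a ha
    apply Subtype.ext
    rw [hiter]
    exact hnil t ((hPsmem t).1 ht) a ((hPsmem a).1 ha)
  have hg : g ∈ H₁ ⊔ M := by
    rw [hsup]
    exact mem_top g
  obtain ⟨h, hh, m, hm, rfl⟩ := Subgroup.mem_sup_of_normal_right.1 hg
  obtain ⟨y', hy'1, hy'2, hy'3⟩ := IH _ hcard H₁ Ps rfl hc' hnil' ⟨y, hPH hy⟩ ((hPsmem _).2 hy)
    (fun t ht => Subtype.ext (hyc _ ((hPsmem t).1 ht))) ⟨h, hh⟩
  refine ⟨y', (hPsmem _).1 hy'1, fun t ht => ?_, ?_⟩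
  · have := hy'2 ⟨t, hPH ht⟩ ((hPsmem _).2 ht)
    exact congrArg Subtype.val this
  · have h3 := congrArg Subtype.val hy'3
    have h4 : h * y ^ (p ^ n) * h⁻¹ = (y' : L) ^ (p ^ n) := h3
    have e3 : h * m * y ^ (p ^ n) * (h * m)⁻¹ = h * (m * y ^ (p ^ n) * m⁻¹) * h⁻¹ := by group
    rw [e3, hMz m hm, h4]

end Cfsg.Agent.Lib.Fusion2.PowRing
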