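import Mathlib

/-!
# `p`-power maps and unipotent operators of order dividing `p`
-/

set_option autoImplicit false

namespace Cfsg.Agent.Lib.Fusion2.PowRing

open Polynomial

/-- If `τ^p = 1` and `(τ - 1)^(n (p - 1) + 1) = 0` then `p^n (τ - 1) = 0`. -/
theorem ring_key {R : Type*} [Ring R] {p : ℕ} (hp : p.Prime) (n : ℕ) (τ : R) (hτ : τ ^ p = 1)
    (hnil : (τ - 1) ^ (n * (p - 1) + 1) = 0) : ((p : R)) ^ n * (τ - 1) = 0 := by
  obtain ⟨r, hr⟩ := exists_add_pow_prime_eq hp (X : ℤ[X]) 1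
  have hp2 := hp.two_le
  obtain ⟨q, hq⟩ : ∃ q, p = q + 1 := ⟨p - 1, by omega⟩
  have hq1 : p - 1 = q := by omega
  have hr0 : r.coeff 0 = 1 := by
    have h1 := congrArg (fun f : ℤ[X] => f.coeff 1) hr
    simp only [one_pow, mul_one] at h1
    rw [coeff_X_add_one_pow] at h1
    have h2 : ((X : ℤ[X]) ^ p + 1 + (p : ℤ[X]) * X * r).coeff 1 = (p : ℤ) * r.coeff 0 := by
      have e1 : (p : ℤ[X]) * X * r = C (p : ℤ) * (X * r) := by
        rw [map_natCast]
        ring
      rw [e1, coeff_add, coeff_add, coeff_C_mul, coeff_X_pow, coeff_one]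
      have : (1 : ℕ) ≠ p := by omega
      rw [if_neg this, if_neg (by norm_num : ¬ (1 : ℕ) = 0)]
      have e2 : (X * r).coeff 1 = r.coeff 0 := by
        rw [mul_comm, coeff_mul_X]
      rw [e2]
      simp
    rw [h2] at h1
    have h3 : ((p : ℕ).choose 1 : ℤ) = p := by simp
    rw [h3] at h1
    have hp0 : (p : ℤ) ≠ 0 := by exact_mod_cast hp.ne_zero
    exact (mul_left_cancel₀ hp0 (by rw [mul_one]; exact h1.symm : (p : ℤ) * r.coeff 0 = (p : ℤ) * 1))
  have hdvd : (X : ℤ[X]) ∣ r - 1 := by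
    rw [X_dvd_iff]
    simp [hr0]
  obtain ⟨w, hw⟩ := hdvd
  have hkey : ∀ j : ℕ, ∃ Q : ℤ[X], (p : ℤ[X]) ^ j * X * r ^ j = (-1) ^ j * X ^ (j * q + 1) + ((X + 1) ^ p - 1) * Q := by
    intro j
    induction j with
    | zero => exact ⟨0, by simp⟩
    | succ j ih =>
      obtain ⟨Q, hQ⟩ := ih
      refine ⟨(p : ℤ[X]) * r * Q + (-1) ^ j * X ^ (j * q), ?_⟩
      have hr' : (X + 1 : ℤ[X]) ^ p - 1 = X ^ p + (p : ℤ[X]) * X * r := by
        rw [hr]
        ring
      have e : (p : ℤ[X]) ^ (j + 1) * X * r ^ (j + 1) = (p : ℤ[X]) * r * ((p : ℤ[X]) ^ j * X * r ^ j) := by ring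
      rw [e, hQ, hr']
      have e2 : (X : ℤ[X]) ^ ((j + 1) * q + 1) = X ^ (j * q) * X ^ (q + 1) := by
        rw [← pow_add]
        congr 1
        ring
      have e3 : (X : ℤ[X]) ^ (j * q + 1) = X ^ (j * q) * X := by
        rw [pow_succ]
      rw [e2, e3, pow_succ (-1 : ℤ[X]) j, ← hq]
      ring
  obtain ⟨Q, hQ⟩ := hkey n
  rw [hq1] at hnil
  let ev : ℤ[X] →ₐ[ℤ] R := aeval (τ - 1)
  have hevX : ev X = τ - 1 := aeval_X _
  have hev := congrArg ev hQ
  simp only [map_mul, map_add, map_pow, map_sub, map_one, map_neg, map_natCast, hevX] at hev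
  have e0 : τ - 1 + 1 = τ := by abel
  rw [e0, hτ, hnil, sub_self] at hev
  simp only [mul_zero, zero_mul, add_zero] at hev
  have hevr : ev r = 1 + (τ - 1) * ev w := by
    have : r = 1 + X * w := by rw [← hw]; ring
    rw [this]
    simp [hevX]
  have hcomm : Commute (τ - 1) (ev w) := by
    have : Commute (ev X) (ev w) := by
      exact (Commute.all X w).map ev
    rwa [hevX] at this
  have hnilp : IsNilpotent ((τ - 1) * ev w) := by
    apply hcomm.isNilpotent_mul_right
    exact ⟨_, hnil⟩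
  have hunit : IsUnit (ev r) := by
    rw [hevr]
    exact hnilp.isUnit_one_add
  have hunit2 : IsUnit (ev r ^ n) := hunit.pow n
  obtain ⟨u, hu⟩ := hunit2
  have h5 : (p : R) ^ n * (τ - 1) * (↑u : R) = 0 := by
    rw [hu]
    exact hev
  have : (p : R) ^ n * (τ - 1) = (p : R) ^ n * (τ - 1) * (↑u : R) * (↑u⁻¹ : R) := by
    rw [mul_assoc _ (↑u : R), Units.mul_inv, mul_one]
  rw [this, h5, zero_mul]

/-- The group-theoretic form on a commutative group. -/
theorem comm_key {A : Type*} [CommGroup A] {p : ℕ} (hp : p.Prime) (n : ℕ) (f : A →* A) (hf : ∀ a, f^[p] a = a)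
    (hnil : ∀ a, (fun x => f x * x⁻¹)^[n * (p - 1) + 1] a = 1) (a : A) : (f a * a⁻¹) ^ (p ^ n) = 1 := by
  let τ : AddMonoid.End (Additive A) := MonoidHom.toAdditive f
  have hτa : ∀ x : Additive A, τ x = Additive.ofMul (f x.toMul) := fun _ => rfl
  have hpow : (τ ^ p) = 1 := by
    refine DFunLike.ext _ _ fun x => ?_
    rw [AddMonoid.End.coe_pow]
    have : ∀ (k : ℕ) (x : Additive A), (⇑τ)^[k] x = Additive.ofMul (f^[k] x.toMul) := by
      intro k x
      induction k generalizing x with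
      | zero => rfl
      | succ k ih =>
        rw [Function.iterate_succ_apply, ih, hτa, Function.iterate_succ_apply]
        rfl
    rw [this, hf]
    rfl
  have hsub : ∀ x : Additive A, (τ - 1) x = Additive.ofMul (f x.toMul * x.toMul⁻¹) := by
    intro x
    show τ x - x = _
    rw [sub_eq_add_neg, hτa]
    rfl
  have hitt : ∀ (k : ℕ) (x : Additive A), ((τ - 1) ^ k) x = Additive.ofMul ((fun x => f x * x⁻¹)^[k] x.toMul) := by
    intro k x
    rw [AddMonoid.End.coe_pow]
    induction k generalizing x with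
    | zero => rfl
    | succ k ih =>
      rw [Function.iterate_succ_apply, ih, hsub, Function.iterate_succ_apply]
      rfl
  have hnil' : (τ - 1) ^ (n * (p - 1) + 1) = 0 := by
    refine DFunLike.ext _ _ fun x => ?_
    rw [hitt, hnil]
    rfl
  have h := ring_key hp n τ hpow hnil'
  have h2 := congrArg (fun g : AddMonoid.End (Additive A) => g (Additive.ofMul a)) h
  rw [← Nat.cast_pow] at h2
  have h3 : (((p ^ n : ℕ) : AddMonoid.End (Additive A)) * (τ - 1)) (Additive.ofMul a) = ((p ^ n : ℕ) : AddMonoid.End (Additive A)) ((τ - 1) (Additive.ofMul a)) := rfl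
  rw [h3, AddMonoid.End.natCast_apply, hsub] at h2
  exact h2

end Cfsg.Agent.Lib.Fusion2.PowRing
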