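import Cfsg.Agent.Lib.Fusion2.Transvection
import Cfsg.Agent.Lib.Fusion2.RankTwo
import Cfsg.Agent.Lib.Fusion2.CritSub
import Cfsg.Agent.Lib.Fusion2.Focal
import Cfsg.Agent.Lib.Fusion2.NormConstr2
import Cfsg.Agent.Lib.Fusion.Alperin
import Cfsg.Agent.Lib.Fusion.Criterion3
import Cfsg.Agent.Lib.Fusion.GTGroupSys
import Cfsg.Agent.Lib.Transfer.Rank

/-!
# Rank two `p`-groups: group theoretic tools

Automorphisms stabilizing `L ≤ V` and centralizing `V`'s order `p` elements, the word giving a torus, and power formulas.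
-/

set_option autoImplicit false
set_option linter.unusedSectionVars false
set_option linter.style.haveILetI false

namespace Cfsg.Agent.Lib.Fusion2.RK

open Cfsg Cfsg.FusionSystem Cfsg.Agent.Lib.Fusion

universe u

variable {Ω : Type u} [Group Ω] {p : ℕ} [hp : Fact p.Prime]

/-! ### Elementwise lemmas on `fn` -/

theorem fnp {R : Subgroup Ω} (c : MulAut R) {x : Ω} (hx : x ∈ R) (n : ℕ) : fn c (x ^ n) = (fn c x) ^ n := by
  induction n with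
  | zero =>
    have h1 := fn_map_mul c R.one_mem R.one_mem
    rw [mul_one] at h1
    simpa using mul_eq_left.1 h1.symm
  | succ n ih => rw [pow_succ, fn_map_mul c (R.pow_mem hx n) hx, ih, pow_succ]

theorem fn1 {R : Subgroup Ω} (c : MulAut R) : fn c 1 = 1 := by
  have h1 := fnp c R.one_mem 0
  simpa using h1

/-- A restriction of an automorphism. -/
theorem exists_restrict {E Y : Subgroup Ω} [Finite Y] (hYE : Y ≤ E) (α : MulAut E) (h : ∀ y ∈ Y, fn α y ∈ Y) :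
    ∃ τ : MulAut Y, ∀ y : Y, ((τ y : Y) : Ω) = fn α y := by
  let f : Y →* Y :=
    { toFun := fun y => ⟨fn α y, h y y.2⟩
      map_one' := Subtype.ext (fn1 α)
      map_mul' := fun a b => Subtype.ext (fn_map_mul α (hYE a.2) (hYE b.2)) }
  have hinj : Function.Injective f := by
    intro a b hab
    have h1 : fn α a = fn α b := congrArg Subtype.val hab
    exact Subtype.ext (fn_inj α (hYE a.2) (hYE b.2) h1)
  exact ⟨MulEquiv.ofBijective f (Finite.injective_iff_bijective.1 hinj), fun y => rfl⟩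

theorem fn_surj_on {E Y : Subgroup Ω} [Finite Y] (hYE : Y ≤ E) (α : MulAut E) (h : ∀ y ∈ Y, fn α y ∈ Y) {y : Ω} (hy : y ∈ Y) :
    ∃ z ∈ Y, fn α z = y := by
  obtain ⟨τ, hτ⟩ := exists_restrict hYE α h
  refine ⟨(τ⁻¹ ⟨y, hy⟩ : Y), (τ⁻¹ ⟨y, hy⟩ : Y).2, ?_⟩
  rw [← hτ]
  simp

/-- A `p'`-automorphism of a `p`-group (`p` odd) centralizing the elements of order `p` is trivial. -/
theorem fix_of_fix_omega {G : Type*} [Group G] [Finite G] (hG : IsPGroup p G) (hp2 : p ≠ 2) {β : MulAut G} {n : ℕ}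
    (hn : n.Coprime p) (hβ : β ^ n = 1) (h : ∀ x : G, x ^ p = 1 → β x = x) : β = 1 := by
  have hpp := hp.out
  obtain ⟨B, -, -, hB, -, hB2⟩ := CritSub.exists_faithful hG (⊤ : Subgroup G) (Subgroup.zpowers β)
    (fun _ _ _ _ => trivial) (fun _ _ _ _ => trivial) (dvd_refl p)
    (Nat.Prime.dvd_choose_self hpp two_ne_zero (lt_of_le_of_ne hpp.two_le hp2.symm))
  exact hB2 β (Subgroup.mem_zpowers β) ⟨n, hn, hβ⟩ (fun b hb => h b (hB b hb))

/-- `β ^ n = 1`, `n` prime to `p`, and `x⁻¹ β(x)` is fixed by `β` and a `p`-element: `x` is fixed. -/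
theorem fix_of_step {E : Subgroup Ω} {β : MulAut E} {n : ℕ} (hn : n.Coprime p) (hβ : β ^ n = 1) {x : Ω} (hx : x ∈ E)
    (hz : fn β (x⁻¹ * fn β x) = x⁻¹ * fn β x) {k : ℕ} (hzp : (x⁻¹ * fn β x) ^ p ^ k = 1) : fn β x = x := by
  obtain ⟨z, hzd⟩ : ∃ z, z = x⁻¹ * fn β x := ⟨_, rfl⟩
  rw [← hzd] at hz hzp
  have hzE : z ∈ E := by
    rw [hzd]
    exact E.mul_mem (E.inv_mem hx) (fn_mem β hx)
  have hb : fn β x = x * z := by
    rw [hzd, mul_inv_cancel_left]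
  have hpow : ∀ m : ℕ, fn (β ^ m) x = x * z ^ m := by
    intro m
    induction m with
    | zero => simp [fn_one hx]
    | succ m ih =>
      rw [pow_succ', fn_mul _ _ hx, ih, fn_map_mul β hx (E.pow_mem hzE m), hb, fnp β hzE, hz, pow_succ', mul_assoc]
  have h1 := hpow n
  rw [hβ, fn_one hx] at h1
  have h2 : z ^ n = 1 := by
    have : x * z ^ n = x * 1 := by rw [← h1, mul_one]
    exact mul_left_cancel this
  have h3 : z = 1 := NormConstr.eq_one_of_two_pows hn h2 hzp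
  rw [hb, h3, mul_one]

/-! ### The stabilizer of a section -/

/-- Automorphisms of `E` trivial on `L` and on `V/L`. -/
def WW (E L V : Subgroup Ω) (hLV : L ≤ V) (hVE : V ≤ E) : Subgroup (MulAut E) where
  carrier := {α | (∀ l ∈ L, fn α l = l) ∧ ∀ v ∈ V, v⁻¹ * fn α v ∈ L}
  one_mem' := ⟨fun l hl => fn_one (hVE (hLV hl)), fun v hv => by
    rw [fn_one (hVE hv), inv_mul_cancel]
    exact L.one_mem⟩
  mul_mem' := by
    rintro a b ⟨ha1, ha2⟩ ⟨hb1, hb2⟩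
    refine ⟨fun l hl => ?_, fun v hv => ?_⟩
    · rw [fn_mul _ _ (hVE (hLV hl)), hb1 l hl, ha1 l hl]
    · have h1 := hb2 v hv
      have h2 : fn b v = v * (v⁻¹ * fn b v) := by group
      rw [fn_mul _ _ (hVE hv), h2, fn_map_mul a (hVE hv) (hVE (hLV h1)), ha1 _ h1, ← mul_assoc]
      exact L.mul_mem (ha2 v hv) h1
  inv_mem' := by
    rintro a ⟨ha1, ha2⟩
    have h1 : ∀ l ∈ L, fn a⁻¹ l = l := by
      intro l hl
      have := fn_inv_fn a (hVE (hLV hl))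
      rwa [ha1 l hl] at this
    refine ⟨h1, fun v hv => ?_⟩
    have hE := hVE hv
    have hiE := fn_mem a⁻¹ hE
    have h2 : fn a (v⁻¹ * fn a⁻¹ v) = (v⁻¹ * fn a v)⁻¹ := by
      rw [fn_map_mul a (E.inv_mem hE) hiE, fn_fn_inv a hE, fn_map_inv a hE, mul_inv_rev, inv_inv]
    have h3 : fn a (v⁻¹ * fn a⁻¹ v) ∈ L := by
      rw [h2]
      exact L.inv_mem (ha2 v hv)
    have h4 := h1 _ h3
    rw [fn_inv_fn a (E.mul_mem (E.inv_mem hE) hiE)] at h4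
    rw [h4]
    exact h3

theorem mem_WW {E L V : Subgroup Ω} {hLV : L ≤ V} {hVE : V ≤ E} {α : MulAut E} :
    α ∈ WW E L V hLV hVE ↔ (∀ l ∈ L, fn α l = l) ∧ ∀ v ∈ V, v⁻¹ * fn α v ∈ L := Iff.rfl

section Master

variable {E L V : Subgroup Ω} [Finite E]

/-- **The master lemma.** -/
theorem WW_isPGroup (hE : IsPGroup p E) (hp2 : p ≠ 2) (hLV : L ≤ V) (hVE : V ≤ E) (hVn : ∀ e ∈ E, ∀ v ∈ V, e * v * e⁻¹ ∈ V)
    (hΩ : ∀ x ∈ E, x ^ p = 1 → (∀ v ∈ V, x * v = v * x) → x ∈ V) : IsPGroup p (WW E L V hLV hVE) := by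
  classical
  rintro ⟨α, hα⟩
  have hpe : ∀ x ∈ E, ∃ k : ℕ, x ^ p ^ k = 1 := by
    intro x hx
    obtain ⟨k, hk⟩ := hE ⟨x, hx⟩
    exact ⟨k, by simpa using congrArg Subtype.val hk⟩
  obtain ⟨a, ha⟩ := GT.exists_coprime_pow (p := p) α
  obtain ⟨β, hβd⟩ : ∃ β, β = α ^ p ^ a := ⟨_, rfl⟩
  rw [← hβd] at ha
  have hβW : β ∈ WW E L V hLV hVE := by
    rw [hβd]
    exact Subgroup.pow_mem _ hα _
  have hβn : β ^ orderOf β = 1 := pow_orderOf_eq_one β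
  obtain ⟨hβ1, hβ2⟩ := hβW
  -- trivial on `V`
  have hV : ∀ v ∈ V, fn β v = v := by
    intro v hv
    obtain ⟨k, hk⟩ := hpe _ (E.mul_mem (E.inv_mem (hVE hv)) (fn_mem β (hVE hv)))
    exact fix_of_step ha hβn (hVE hv) (hβ1 _ (hβ2 v hv)) hk
  -- the centralizer
  obtain ⟨Y, hYd⟩ : ∃ Y, Y = E ⊓ Subgroup.centralizer (V : Set Ω) := ⟨_, rfl⟩
  have hYmem : ∀ x, x ∈ Y ↔ x ∈ E ∧ ∀ v ∈ V, x * v = v * x := by
    intro x
    rw [hYd, Subgroup.mem_inf, Subgroup.mem_centralizer_iff]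
    exact and_congr_right (fun _ => ⟨fun h v hv => (h v hv).symm, fun h v hv => (h v hv).symm⟩)
  have hYE : Y ≤ E := fun x hx => ((hYmem x).1 hx).1
  haveI : Finite Y := finite_of_le hYE
  have hβY : ∀ y ∈ Y, fn β y ∈ Y := by
    intro y hy
    obtain ⟨hy1, hy2⟩ := (hYmem y).1 hy
    refine (hYmem _).2 ⟨fn_mem β hy1, fun v hv => ?_⟩
    have h1 := congrArg (fn β) (hy2 v hv)
    rwa [fn_map_mul β hy1 (hVE hv), fn_map_mul β (hVE hv) hy1, hV v hv] at h1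
  obtain ⟨τ, hτ⟩ := exists_restrict hYE β hβY
  have hτpow : ∀ (m : ℕ) (y : Y), (((τ ^ m) y : Y) : Ω) = fn (β ^ m) y := by
    intro m
    induction m with
    | zero =>
      intro y
      simp only [pow_zero]
      rw [fn_one (hYE y.2)]
      rfl
    | succ m ih =>
      intro y
      rw [pow_succ', MulAut.mul_apply, hτ, ih, pow_succ', fn_mul _ _ (hYE y.2)]
  have hτ1 : τ = 1 := by
    refine fix_of_fix_omega (hE.to_le hYE) hp2 ha ?_ ?_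
    · ext y
      rw [hτpow, hβn, fn_one (hYE y.2)]
      rfl
    · intro y hy
      have hy' : (y : Ω) ^ p = 1 := by simpa using congrArg Subtype.val hy
      apply Subtype.ext
      rw [hτ]
      exact hV _ (hΩ _ (hYE y.2) hy' ((hYmem _).1 y.2).2)
  have hYfix : ∀ y ∈ Y, fn β y = y := by
    intro y hy
    have := hτ ⟨y, hy⟩
    rw [hτ1] at this
    exact this.symm
  -- trivial on `E`
  have hfix : ∀ x ∈ E, fn β x = x := by
    intro x hx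
    have hzY : x⁻¹ * fn β x ∈ Y := by
      refine (hYmem _).2 ⟨E.mul_mem (E.inv_mem hx) (fn_mem β hx), fun v hv => ?_⟩
      have h1 := hVn x hx v hv
      have h2 := hV _ h1
      rw [fn_map_mul β (E.mul_mem hx (hVE hv)) (E.inv_mem hx), fn_map_mul β hx (hVE hv), hV v hv, fn_map_inv β hx] at h2
      -- `β(x) v β(x)⁻¹ = x v x⁻¹`
      have h3 : fn β x * v = x * v * x⁻¹ * fn β x := by
        rw [← h2]
        group
      calc x⁻¹ * fn β x * v = x⁻¹ * (fn β x * v) := by group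
        _ = x⁻¹ * (x * v * x⁻¹ * fn β x) := by rw [h3]
        _ = v * (x⁻¹ * fn β x) := by group
    obtain ⟨k, hk⟩ := hpe _ (hYE hzY)
    exact fix_of_step ha hβn hx (hYfix _ hzY) hk
  have hβ1' : β = 1 := fn_ext (fun x hx => by rw [hfix x hx, fn_one hx])
  refine ⟨a, Subtype.ext ?_⟩
  show α ^ p ^ a = 1
  rw [← hβd, hβ1']

end Master

/-! ### Power formulas -/

/-- The class two power formula. -/
theorem pow_class2 {u z c : Ω} (h1 : c * z = z * c) (h2 : c * u = u * c) (h3 : z * u * z⁻¹ = c * u) (n : ℕ) :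
    (u * z) ^ n = u ^ n * c ^ n.choose 2 * z ^ n := by
  have hc : Commute c z := h1
  have hcu : Commute c u := h2
  have hzn : ∀ m : ℕ, z ^ m * u * z⁻¹ ^ m = c ^ m * u := by
    intro m
    induction m with
    | zero => simp
    | succ m ih =>
      calc z ^ (m + 1) * u * z⁻¹ ^ (m + 1) = z ^ m * (z * u * z⁻¹) * z⁻¹ ^ m := by
            rw [pow_succ, pow_succ z⁻¹]
            rw [show z⁻¹ ^ m * z⁻¹ = z⁻¹ * z⁻¹ ^ m from (Commute.pow_self z⁻¹ m).eq]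
            group
        _ = z ^ m * (c * u) * z⁻¹ ^ m := by rw [h3]
        _ = c * (z ^ m * u * z⁻¹ ^ m) := by
            have h4 : z ^ m * c = c * z ^ m := ((hc.pow_right m).eq).symm
            calc z ^ m * (c * u) * z⁻¹ ^ m = (z ^ m * c) * u * z⁻¹ ^ m := by group
              _ = c * z ^ m * u * z⁻¹ ^ m := by rw [h4]
              _ = _ := by group
        _ = c ^ (m + 1) * u := by rw [ih, pow_succ', mul_assoc]
  induction n with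
  | zero => simp
  | succ n ih =>
    have h5 : z ^ n * u = c ^ n * u * z ^ n := by
      have := hzn n
      rw [← this]
      simp
    have h6 : (n + 1).choose 2 = n.choose 2 + n := by
      rw [Nat.choose_succ_succ' n 1, Nat.choose_one_right, add_comm]
    rw [pow_succ, ih, h6, pow_add c]
    have h7 : Commute (c ^ n.choose 2) u := hcu.pow_left _
    have h8 : Commute (c ^ n) u := hcu.pow_left _
    calc u ^ n * c ^ n.choose 2 * z ^ n * (u * z) = u ^ n * c ^ n.choose 2 * (z ^ n * u) * z := by group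
      _ = u ^ n * c ^ n.choose 2 * (c ^ n * u * z ^ n) * z := by rw [h5]
      _ = u ^ n * (c ^ n.choose 2 * (c ^ n * u)) * z ^ n * z := by group
      _ = u ^ n * (u * (c ^ n.choose 2 * c ^ n)) * z ^ n * z := by
          have h9 : c ^ n.choose 2 * (c ^ n * u) = u * (c ^ n.choose 2 * c ^ n) := by
            rw [h8.eq, ← mul_assoc, h7.eq, mul_assoc]
          rw [h9]
      _ = u ^ (n + 1) * (c ^ n.choose 2 * c ^ n) * z ^ (n + 1) := by
          rw [pow_succ u, pow_succ z]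
          group

/-- The third order iterate formula. -/
theorem iter3 {T : Ω → Ω} {x a b c : Ω} (hm : ∀ s t, s ∈ ({x, a, b, c} : Set Ω) → t ∈ ({x, a, b, c} : Set Ω) → s * t = t * s)
    (h1 : ∀ s t : Ω, s ∈ Subgroup.closure ({x, a, b, c} : Set Ω) → t ∈ Subgroup.closure ({x, a, b, c} : Set Ω) → T (s * t) = T s * T t)
    (h2 : T 1 = 1)
    (h3 : T x = x * a) (h4 : T a = a * b) (h5 : T b = b * c) (h6 : T c = c) (n : ℕ) :
    T^[n] x = x * a ^ n * b ^ n.choose 2 * c ^ n.choose 3 := by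
  obtain ⟨K, hK⟩ : ∃ K, K = Subgroup.closure ({x, a, b, c} : Set Ω) := ⟨_, rfl⟩
  rw [← hK] at h1
  have hxK : x ∈ K := by rw [hK]; exact Subgroup.subset_closure (by simp)
  have haK : a ∈ K := by rw [hK]; exact Subgroup.subset_closure (by simp)
  have hbK : b ∈ K := by rw [hK]; exact Subgroup.subset_closure (by simp)
  have hcK : c ∈ K := by rw [hK]; exact Subgroup.subset_closure (by simp)
  have hax : a * x = x * a := hm _ _ (by simp) (by simp)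
  have hbx : b * x = x * b := hm _ _ (by simp) (by simp)
  have hcx : c * x = x * c := hm _ _ (by simp) (by simp)
  have hba : b * a = a * b := hm _ _ (by simp) (by simp)
  have hca : c * a = a * c := hm _ _ (by simp) (by simp)
  have hcb : c * b = b * c := hm _ _ (by simp) (by simp)
  have hTp : ∀ (s : Ω) (m : ℕ), s ∈ K → T (s ^ m) = (T s) ^ m := by
    intro s m hs
    induction m with
    | zero => simpa using h2
    | succ m ih => rw [pow_succ, h1 _ _ (K.pow_mem hs m) hs, ih, pow_succ]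
  have hcoma : ∀ m : ℕ, Commute b (a ^ m) := fun m => Commute.pow_right hba m
  induction n with
  | zero => simp
  | succ n ih =>
    rw [Function.iterate_succ_apply', ih]
    rw [h1 _ _ (K.mul_mem (K.mul_mem hxK (K.pow_mem haK n)) (K.pow_mem hbK _)) (K.pow_mem hcK _),
      h1 _ _ (K.mul_mem hxK (K.pow_mem haK n)) (K.pow_mem hbK _), h1 _ _ hxK (K.pow_mem haK n), hTp _ _ haK, hTp _ _ hbK, hTp _ _ hcK,
      h3, h4, h5, h6]
    have hc1 : Commute a b := Commute.symm hba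
    have hc2 : Commute b c := Commute.symm hcb
    rw [hc1.mul_pow, hc2.mul_pow]
    have e1 : (n + 1).choose 2 = n.choose 2 + n := by
      rw [Nat.choose_succ_succ' n 1, Nat.choose_one_right, add_comm]
    have e2 : (n + 1).choose 3 = n.choose 3 + n.choose 2 := by
      rw [Nat.choose_succ_succ' n 2, add_comm]
    rw [e1, e2, pow_succ a, pow_add b, pow_add c]
    have c1 : Commute a (b ^ n) := (hc1.pow_right n)
    have c2 : Commute (a ^ n) (b ^ n) := (hc1.pow_pow n n)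
    have c3 : Commute a (b ^ n.choose 2) := hc1.pow_right _
    have c3' : Commute (a ^ n) (b ^ n.choose 2) := hc1.pow_pow _ _
    have c4 : Commute (c ^ n.choose 2) (b ^ n.choose 2) := (Commute.symm hc2).pow_pow _ _
    have c5 : Commute (c ^ n.choose 2) a := (Commute.symm (Commute.symm hca)).pow_left _
    have c6 : Commute (c ^ n.choose 2) (a ^ n) := (Commute.symm (Commute.symm hca)).pow_pow _ _
    have c7 : Commute (c ^ n.choose 2) (b ^ n) := (Commute.symm hc2).pow_pow _ _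
    have c8 : Commute (c ^ n.choose 3) (c ^ n.choose 2) := Commute.pow_pow_self _ _ _
    have c9 : Commute (b ^ n) (b ^ n.choose 2) := Commute.pow_pow_self _ _ _
    -- collect
    calc x * a * (a ^ n * b ^ n) * (b ^ n.choose 2 * c ^ n.choose 2) * c ^ n.choose 3
        = x * (a * a ^ n) * b ^ n * b ^ n.choose 2 * (c ^ n.choose 2 * c ^ n.choose 3) := by group
      _ = x * (a ^ n * a) * b ^ n * b ^ n.choose 2 * (c ^ n.choose 3 * c ^ n.choose 2) := by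
          rw [(Commute.self_pow a n).eq, c8.symm.eq]
      _ = x * (a ^ n * a) * (b ^ n.choose 2 * b ^ n) * (c ^ n.choose 3 * c ^ n.choose 2) := by
          rw [mul_assoc (x * (a ^ n * a)), c9.eq]
      _ = _ := by group

/-! ### The second order power formula -/

theorem pow_class3 {a z a₁ a₂ : Ω} (h12 : a * a₁ = a₁ * a) (h13 : a * a₂ = a₂ * a) (h23 : a₁ * a₂ = a₂ * a₁)
    (h1 : z * a * z⁻¹ = a * a₁) (h2 : z * a₁ * z⁻¹ = a₁ * a₂) (h3 : z * a₂ * z⁻¹ = a₂) (n : ℕ) :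
    (a * z) ^ n = a ^ n * a₁ ^ n.choose 2 * a₂ ^ n.choose 3 * z ^ n := by
  have hiter : ∀ m : ℕ, z ^ m * a * z⁻¹ ^ m = a * a₁ ^ m * a₂ ^ m.choose 2 := by
    have hit := iter3 (T := fun g => z * g * z⁻¹) (x := a) (a := a₁) (b := a₂) (c := 1) (by
        intro s t hs ht
        simp only [Set.mem_insert_iff, Set.mem_singleton_iff] at hs ht
        rcases hs with rfl | rfl | rfl | rfl <;> rcases ht with rfl | rfl | rfl | rfl <;>
          first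
            | rfl
            | simp only [one_mul, mul_one]
            | exact h12
            | exact h12.symm
            | exact h13
            | exact h13.symm
            | exact h23
            | exact h23.symm)
      (fun s t _ _ => by group) (by group) h1 h2 (by rw [h3, mul_one]) (by group)
    intro m
    have h4 := hit m
    have h5 : ∀ (k : ℕ) (g : Ω), (fun g => z * g * z⁻¹)^[k] g = z ^ k * g * z⁻¹ ^ k := by
      intro k
      induction k with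
      | zero => intro g; simp
      | succ k ih =>
        intro g
        rw [Function.iterate_succ_apply', ih, pow_succ' z, pow_succ z⁻¹]
        group
    rw [h5] at h4
    rw [h4]
    simp
  have hc₁₂ : Commute a a₁ := h12
  have hc₁₃ : Commute a a₂ := h13
  have hc₂₃ : Commute a₁ a₂ := h23
  induction n with
  | zero => simp
  | succ n ih =>
    have e1 : (n + 1).choose 2 = n.choose 2 + n := by
      rw [Nat.choose_succ_succ' n 1, Nat.choose_one_right, add_comm]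
    have e2 : (n + 1).choose 3 = n.choose 3 + n.choose 2 := by
      rw [Nat.choose_succ_succ' n 2, add_comm]
    have h6 : z ^ n * a = a * a₁ ^ n * a₂ ^ n.choose 2 * z ^ n := by
      rw [← hiter n]
      simp
    rw [pow_succ, ih, e1, e2, pow_add a₁, pow_add a₂, pow_succ a, pow_succ z]
    calc a ^ n * a₁ ^ n.choose 2 * a₂ ^ n.choose 3 * z ^ n * (a * z)
        = a ^ n * a₁ ^ n.choose 2 * a₂ ^ n.choose 3 * (z ^ n * a) * z := by group
      _ = a ^ n * a₁ ^ n.choose 2 * a₂ ^ n.choose 3 * (a * a₁ ^ n * a₂ ^ n.choose 2 * z ^ n) * z := by rw [h6]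
      _ = a ^ n * (a₁ ^ n.choose 2 * a₂ ^ n.choose 3 * a) * a₁ ^ n * a₂ ^ n.choose 2 * z ^ n * z := by group
      _ = a ^ n * (a * a₁ ^ n.choose 2 * a₂ ^ n.choose 3) * a₁ ^ n * a₂ ^ n.choose 2 * z ^ n * z := by
          have c1 : a₁ ^ n.choose 2 * a = a * a₁ ^ n.choose 2 := ((hc₁₂.pow_right _).eq).symm
          have c2 : a₂ ^ n.choose 3 * a = a * a₂ ^ n.choose 3 := ((hc₁₃.pow_right _).eq).symm
          rw [mul_assoc (a₁ ^ n.choose 2), c2, ← mul_assoc (a₁ ^ n.choose 2), c1]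
      _ = a ^ n * a * a₁ ^ n.choose 2 * (a₂ ^ n.choose 3 * a₁ ^ n) * a₂ ^ n.choose 2 * z ^ n * z := by group
      _ = a ^ n * a * a₁ ^ n.choose 2 * (a₁ ^ n * a₂ ^ n.choose 3) * a₂ ^ n.choose 2 * z ^ n * z := by
          rw [((hc₂₃.pow_pow n (n.choose 3)).eq).symm]
      _ = _ := by group

/-! ### The torus word -/

section TorusAbs

variable {B : Type*} [Group B]

theorem torus_abs (hcomm : ∀ x y : B, x * y = y * x) (hexp : ∀ x : B, x ^ p = 1) (hp2 : p ≠ 2)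
    {t₁ t₂ : MulAut B} {b a' : B} (hgen : ∀ x : B, ∃ i j : ℕ, x = b ^ i * a' ^ j)
    (h1 : t₁ b = b) (h2 : t₁ a' = a' * b) (h3 : t₂ a' = a') {c : ℕ} (hc : ¬ p ∣ c) (h4 : t₂ b = b * a' ^ c) :
    ∃ j₁ j₂ : ℕ, (t₁ * t₂ ^ j₁ * t₁) b = a'⁻¹ ∧ (t₁ * t₂ ^ j₁ * t₁) a' = b ∧
      ((t₁ ^ 2 * t₂ ^ j₂ * t₁ ^ 2) * (t₁ * t₂ ^ j₁ * t₁)) b = (b ^ 2)⁻¹ ∧
      ((t₁ ^ 2 * t₂ ^ j₂ * t₁ ^ 2) * (t₁ * t₂ ^ j₁ * t₁)) a' = (a'⁻¹) ^ ((p + 1) / 2) ∧
      ((t₁ ^ 2 * t₂ ^ j₂ * t₁ ^ 2) * (t₁ * t₂ ^ j₁ * t₁)) * t₁ * ((t₁ ^ 2 * t₂ ^ j₂ * t₁ ^ 2) * (t₁ * t₂ ^ j₁ * t₁))⁻¹ * (t₁ ^ 4)⁻¹ = 1 := by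
  letI : CommGroup B := { (inferInstance : Group B) with mul_comm := hcomm }
  have hpp := hp.out
  obtain ⟨m, hmd⟩ : ∃ m, m = (p + 1) / 2 := ⟨_, rfl⟩
  rw [← hmd]
  have hodd : Odd p := hpp.odd_of_ne_two hp2
  have h2m : 2 * m = p + 1 := by
    obtain ⟨k, hk⟩ := hodd
    rw [hmd, hk]
    omega
  have hx2m : ∀ x : B, (x ^ 2) ^ m = x := by
    intro x
    rw [← pow_mul, h2m, pow_succ, hexp, one_mul]
  have hcop : Nat.Coprime c p := ((Nat.Prime.coprime_iff_not_dvd hpp).2 hc).symm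
  obtain ⟨c', -, hc'⟩ := Nat.exists_mul_mod_eq_one_of_coprime hcop hpp.one_lt
  have hcc : a' ^ (c * c') = a' := by
    rw [pow_eq_pow_mod (c * c') (hexp a'), hc', pow_one]
  have hinv : a' ^ (p - 1) = a'⁻¹ := by
    apply eq_inv_of_mul_eq_one_left
    rw [← pow_succ, Nat.sub_add_cancel hpp.one_le, hexp]
  have hj₁ : a' ^ (c * (c' * (p - 1))) = a'⁻¹ := by
    rw [← mul_assoc, pow_mul, hcc, hinv]
  have hj₂ : a' ^ (c * (c' * (p - 1) * m)) = (a'⁻¹) ^ m := by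
    rw [← mul_assoc, pow_mul, hj₁]
  have ht₂a : ∀ n : ℕ, (t₂ ^ n) a' = a' := by
    intro n
    induction n with
    | zero => rfl
    | succ n ih => rw [pow_succ', MulAut.mul_apply, ih, h3]
  have ht₂b : ∀ n : ℕ, (t₂ ^ n) b = b * a' ^ (c * n) := by
    intro n
    induction n with
    | zero => simp
    | succ n ih =>
      rw [pow_succ', MulAut.mul_apply, ih, map_mul, map_pow, h3, h4, mul_add, pow_add, mul_one, mul_assoc, mul_comm (a' ^ c)]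
  have ht₁b : ∀ n : ℕ, (t₁ ^ n) b = b := by
    intro n
    induction n with
    | zero => rfl
    | succ n ih => rw [pow_succ', MulAut.mul_apply, ih, h1]
  have ht₁a : ∀ n : ℕ, (t₁ ^ n) a' = a' * b ^ n := by
    intro n
    induction n with
    | zero => simp
    | succ n ih =>
      rw [pow_succ', MulAut.mul_apply, ih, map_mul, map_pow, h1, h2, pow_succ, mul_assoc, mul_comm b]
  refine ⟨c' * (p - 1), c' * (p - 1) * m, ?_⟩
  obtain ⟨j₁, hj₁d⟩ : ∃ j₁, j₁ = c' * (p - 1) := ⟨_, rfl⟩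
  rw [← hj₁d] at hj₁ hj₂ ⊢
  obtain ⟨j₂, hj₂d⟩ : ∃ j₂, j₂ = j₁ * m := ⟨_, rfl⟩
  rw [← hj₂d] at hj₂ ⊢
  have hs₁b : (t₁ * t₂ ^ j₁ * t₁) b = a'⁻¹ := by
    simp only [MulAut.mul_apply]
    rw [h1, ht₂b, hj₁, map_mul, map_inv, h1, h2, mul_inv, mul_comm a'⁻¹, ← mul_assoc, mul_inv_cancel, one_mul]
  have hs₁a : (t₁ * t₂ ^ j₁ * t₁) a' = b := by
    simp only [MulAut.mul_apply]
    rw [h2, map_mul, ht₂a, ht₂b, hj₁]
    have : a' * (b * a'⁻¹) = b := by rw [mul_comm b, mul_inv_cancel_left]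
    rw [this, h1]
  have hs₂b : (t₁ ^ 2 * t₂ ^ j₂ * t₁ ^ 2) b = (a'⁻¹) ^ m := by
    simp only [MulAut.mul_apply]
    rw [ht₁b, ht₂b, hj₂, map_mul, map_pow, map_inv, ht₁b, ht₁a, mul_inv, mul_pow, ← mul_assoc, mul_comm b, mul_assoc, inv_pow (b ^ 2), hx2m,
      mul_inv_cancel, mul_one]
  have hs₂a : (t₁ ^ 2 * t₂ ^ j₂ * t₁ ^ 2) a' = b ^ 2 := by
    have e1 : (t₂ ^ j₂) (a' * b ^ 2) = a' * (b * (a'⁻¹) ^ m) ^ 2 := by
      rw [map_mul, map_pow, ht₂a, ht₂b, hj₂]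
    have e2 : (b * (a'⁻¹) ^ m) ^ 2 = b ^ 2 * a'⁻¹ := by
      rw [mul_pow, ← pow_mul (a'⁻¹), mul_comm m 2, h2m, pow_succ (a'⁻¹), inv_pow, hexp, inv_one, one_mul]
    simp only [MulAut.mul_apply]
    rw [ht₁a, e1, e2]
    have : a' * (b ^ 2 * a'⁻¹) = b ^ 2 := by rw [mul_comm (b ^ 2), mul_inv_cancel_left]
    rw [this, map_pow, ht₁b]
  have hdb : ((t₁ ^ 2 * t₂ ^ j₂ * t₁ ^ 2) * (t₁ * t₂ ^ j₁ * t₁)) b = (b ^ 2)⁻¹ := by
    rw [MulAut.mul_apply, hs₁b, map_inv, hs₂a]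
  have hda : ((t₁ ^ 2 * t₂ ^ j₂ * t₁ ^ 2) * (t₁ * t₂ ^ j₁ * t₁)) a' = (a'⁻¹) ^ m := by
    rw [MulAut.mul_apply, hs₁a, hs₂b]
  refine ⟨hs₁b, hs₁a, hdb, hda, ?_⟩
  obtain ⟨d, hd⟩ : ∃ d, d = (t₁ ^ 2 * t₂ ^ j₂ * t₁ ^ 2) * (t₁ * t₂ ^ j₁ * t₁) := ⟨_, rfl⟩
  rw [← hd] at hdb hda ⊢
  have hb4 : ((b ^ 4)⁻¹) ^ m = (b ^ 2)⁻¹ := by
    rw [inv_pow]
    have : (b ^ 4) ^ m = ((b ^ 2) ^ m) ^ 2 := by
      rw [← pow_mul, ← pow_mul, ← pow_mul]
      congr 1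
      ring
    rw [this, hx2m]
  have hk1 : (d * t₁) b = (t₁ ^ 4 * d) b := by
    rw [MulAut.mul_apply, MulAut.mul_apply, h1, hdb, map_inv, map_pow, ht₁b]
  have hk2 : (d * t₁) a' = (t₁ ^ 4 * d) a' := by
    rw [MulAut.mul_apply, MulAut.mul_apply, h2, map_mul, hda, hdb, map_pow, map_inv, ht₁a, mul_inv, mul_pow, hb4]
  have hkey : d * t₁ = t₁ ^ 4 * d := by
    ext x
    obtain ⟨i, j, rfl⟩ := hgen x
    rw [map_mul, map_mul, map_pow, map_pow, map_pow, map_pow, hk1, hk2]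
  have : d * t₁ * d⁻¹ = t₁ ^ 4 := by
    rw [hkey, mul_inv_cancel_right]
  rw [this, mul_inv_cancel]

end TorusAbs

section Torus

variable {P Z E : Subgroup Ω}

/-- The quotient `P/Z`, abstractly. -/
theorem exists_quot (hZP : Z ≤ P) (hPE : P ≤ E) (hPc : ∀ a ∈ P, ∀ b ∈ P, a * b * a⁻¹ * b⁻¹ ∈ Z) :
    ∃ (B : Type u) (_ : Group B) (π : ↥P →* B), Function.Surjective π ∧ (∀ x y : P, π x = π y ↔ (x : Ω)⁻¹ * y ∈ Z) ∧
      ∀ t : MulAut E, (∀ x ∈ P, fn t x ∈ P) → (∀ x ∈ P, fn t⁻¹ x ∈ P) → (∀ x ∈ Z, fn t x ∈ Z) → (∀ x ∈ Z, fn t⁻¹ x ∈ Z) →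
        ∃ τ : MulAut B, ∀ (x : Ω) (hx : x ∈ P) (hx' : fn t x ∈ P), τ (π ⟨x, hx⟩) = π ⟨fn t x, hx'⟩ := by
  have hZn : (Z.subgroupOf P).Normal := by
    refine ⟨fun n hn g => ?_⟩
    rw [Subgroup.mem_subgroupOf] at hn ⊢
    have h1 := hPc g g.2 n (hZP hn)
    have h2 := Z.mul_mem h1 hn
    have e : (g : Ω) * n * (g : Ω)⁻¹ * (n : Ω)⁻¹ * n = g * n * (g : Ω)⁻¹ := by group
    rw [e] at h2
    exact h2
  refine ⟨↥P ⧸ Z.subgroupOf P, inferInstance, QuotientGroup.mk' _, QuotientGroup.mk'_surjective _, ?_, ?_⟩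
  · intro x y
    rw [QuotientGroup.mk'_apply, QuotientGroup.mk'_apply, QuotientGroup.eq, Subgroup.mem_subgroupOf]
    rfl
  · intro t h1 h2 h3 h4
    let res : ↥P ≃* ↥P :=
      { toFun := fun x => ⟨fn t x, h1 x x.2⟩
        invFun := fun x => ⟨fn t⁻¹ x, h2 x x.2⟩
        left_inv := fun x => Subtype.ext (fn_inv_fn t (hPE x.2))
        right_inv := fun x => Subtype.ext (fn_fn_inv t (hPE x.2))
        map_mul' := fun a b => Subtype.ext (fn_map_mul t (hPE a.2) (hPE b.2)) }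
    have hmap : (Z.subgroupOf P).map (res : ↥P →* ↥P) = Z.subgroupOf P := by
      ext y
      constructor
      · rintro ⟨x, hx, rfl⟩
        exact Subgroup.mem_subgroupOf.2 (h3 _ (Subgroup.mem_subgroupOf.1 hx))
      · intro hy
        refine ⟨⟨fn t⁻¹ y, h2 y y.2⟩, Subgroup.mem_subgroupOf.2 (h4 _ (Subgroup.mem_subgroupOf.1 hy)), Subtype.ext (fn_fn_inv t (hPE y.2))⟩
    refine ⟨QuotientGroup.congr _ _ res hmap, fun x hx hx' => ?_⟩
    rfl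

/-- `t` on `P` induces `τ` on the quotient. -/
def Ind {B : Type*} [Group B] (π : ↥P →* B) (t : MulAut E) (τ : MulAut B) : Prop :=
  (∀ x ∈ P, fn t x ∈ P) ∧ (∀ x ∈ P, fn t⁻¹ x ∈ P) ∧ ∀ (x : Ω) (hx : x ∈ P) (hx' : fn t x ∈ P), τ (π ⟨x, hx⟩) = π ⟨fn t x, hx'⟩

theorem Ind.one {B : Type*} [Group B] (π : ↥P →* B) (hPE : P ≤ E) : Ind π (1 : MulAut E) (1 : MulAut B) := by
  refine ⟨fun x hx => ?_, fun x hx => ?_, fun x hx hx' => ?_⟩
  · rwa [fn_one (hPE hx)]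
  · rwa [inv_one, fn_one (hPE hx)]
  · exact congrArg π (Subtype.ext (fn_one (hPE hx)).symm)

theorem Ind.mul {B : Type*} [Group B] {π : ↥P →* B} (hPE : P ≤ E) {u v : MulAut E} {u' v' : MulAut B} (hu : Ind π u u') (hv : Ind π v v') :
    Ind π (u * v) (u' * v') := by
  obtain ⟨hu1, hu2, hu3⟩ := hu
  obtain ⟨hv1, hv2, hv3⟩ := hv
  refine ⟨fun x hx => ?_, fun x hx => ?_, fun x hx hx' => ?_⟩
  · rw [fn_mul _ _ (hPE hx)]
    exact hu1 _ (hv1 x hx)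
  · rw [mul_inv_rev, fn_mul _ _ (hPE hx)]
    exact hv2 _ (hu2 x hx)
  · rw [MulAut.mul_apply, hv3 x hx (hv1 x hx), hu3 _ (hv1 x hx) (hu1 _ (hv1 x hx))]
    exact congrArg π (Subtype.ext (fn_mul _ _ (hPE hx)).symm)

theorem Ind.inv {B : Type*} [Group B] {π : ↥P →* B} (hPE : P ≤ E) {u : MulAut E} {u' : MulAut B} (hu : Ind π u u') :
    Ind π u⁻¹ u'⁻¹ := by
  obtain ⟨hu1, hu2, hu3⟩ := hu
  refine ⟨hu2, fun x hx => ?_, fun x hx hx' => ?_⟩
  · rw [inv_inv]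
    exact hu1 x hx
  · apply u'.injective
    rw [MulAut.apply_inv_self, hu3 _ hx' (hu1 _ hx')]
    exact congrArg π (Subtype.ext (fn_fn_inv u (hPE hx)).symm)

theorem Ind.pow {B : Type*} [Group B] {π : ↥P →* B} (hPE : P ≤ E) {u : MulAut E} {u' : MulAut B} (hu : Ind π u u') (n : ℕ) :
    Ind π (u ^ n) (u' ^ n) := by
  induction n with
  | zero => exact Ind.one π hPE
  | succ n ih =>
    rw [pow_succ, pow_succ]
    exact Ind.mul hPE ih hu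

/-- **The torus word.** -/
theorem torus (hZP : Z ≤ P) (hPE : P ≤ E) (hp2 : p ≠ 2) (hPc : ∀ a ∈ P, ∀ b ∈ P, a * b * a⁻¹ * b⁻¹ ∈ Z) (hPe : ∀ a ∈ P, a ^ p ∈ Z)
    {t₁ t₂ : MulAut E} (ht₁ : ∀ x ∈ P, fn t₁ x ∈ P) (ht₁' : ∀ x ∈ P, fn t₁⁻¹ x ∈ P) (ht₁z : ∀ x ∈ Z, fn t₁ x ∈ Z) (ht₁z' : ∀ x ∈ Z, fn t₁⁻¹ x ∈ Z)
    (ht₂ : ∀ x ∈ P, fn t₂ x ∈ P) (ht₂' : ∀ x ∈ P, fn t₂⁻¹ x ∈ P) (ht₂z : ∀ x ∈ Z, fn t₂ x ∈ Z) (ht₂z' : ∀ x ∈ Z, fn t₂⁻¹ x ∈ Z)
    {b a' : Ω} (hb : b ∈ P) (ha' : a' ∈ P) (hgen : ∀ x ∈ P, ∃ i j : ℕ, x⁻¹ * (b ^ i * a' ^ j) ∈ Z)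
    (h1 : b⁻¹ * fn t₁ b ∈ Z) (h2 : (a' * b)⁻¹ * fn t₁ a' ∈ Z) (h3 : a'⁻¹ * fn t₂ a' ∈ Z) {c : ℕ} (hc : ¬ p ∣ c)
    (h4 : (b * a' ^ c)⁻¹ * fn t₂ b ∈ Z) :
    ∃ j₁ j₂ : ℕ, a' * fn (t₁ * t₂ ^ j₁ * t₁) b ∈ Z ∧ b⁻¹ * fn (t₁ * t₂ ^ j₁ * t₁) a' ∈ Z ∧
      b ^ 2 * fn ((t₁ ^ 2 * t₂ ^ j₂ * t₁ ^ 2) * (t₁ * t₂ ^ j₁ * t₁)) b ∈ Z ∧
      ((a'⁻¹) ^ ((p + 1) / 2))⁻¹ * fn ((t₁ ^ 2 * t₂ ^ j₂ * t₁ ^ 2) * (t₁ * t₂ ^ j₁ * t₁)) a' ∈ Z ∧
      ∀ x ∈ P, x⁻¹ * fn (((t₁ ^ 2 * t₂ ^ j₂ * t₁ ^ 2) * (t₁ * t₂ ^ j₁ * t₁)) * t₁ * ((t₁ ^ 2 * t₂ ^ j₂ * t₁ ^ 2) * (t₁ * t₂ ^ j₁ * t₁))⁻¹ * (t₁ ^ 4)⁻¹) x ∈ Z := by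
  classical
  obtain ⟨B, _, π, hsurj, hπ, hτ⟩ := exists_quot hZP hPE hPc
  obtain ⟨τ₁, hτ₁⟩ := hτ t₁ ht₁ ht₁' ht₁z ht₁z'
  obtain ⟨τ₂, hτ₂⟩ := hτ t₂ ht₂ ht₂' ht₂z ht₂z'
  have hq₁ : Ind π t₁ τ₁ := ⟨ht₁, ht₁', hτ₁⟩
  have hq₂ : Ind π t₂ τ₂ := ⟨ht₂, ht₂', hτ₂⟩
  have hcomm : ∀ x y : B, x * y = y * x := by
    intro x y
    obtain ⟨x, rfl⟩ := hsurj x
    obtain ⟨y, rfl⟩ := hsurj y
    rw [← map_mul, ← map_mul, hπ]
    have := hPc _ (P.inv_mem y.2) _ (P.inv_mem x.2)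
    simpa [mul_assoc] using this
  have hexp : ∀ x : B, x ^ p = 1 := by
    intro x
    obtain ⟨x, rfl⟩ := hsurj x
    rw [← map_pow, ← map_one π, eq_comm, hπ]
    have := hPe _ x.2
    simpa using this
  obtain ⟨j₁, j₂, e1, e2, e3, e4, e5⟩ := torus_abs (t₁ := τ₁) (t₂ := τ₂) (b := π ⟨b, hb⟩) (a' := π ⟨a', ha'⟩) (c := c) hcomm hexp hp2
    (by
      intro x
      obtain ⟨x, rfl⟩ := hsurj x
      obtain ⟨i, j, hij⟩ := hgen x x.2
      refine ⟨i, j, ?_⟩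
      rw [← map_pow, ← map_pow, ← map_mul, hπ]
      exact hij)
    (by
      rw [hτ₁ b hb (ht₁ b hb), eq_comm, hπ]
      exact h1)
    (by
      rw [hτ₁ a' ha' (ht₁ a' ha'), ← map_mul, eq_comm, hπ]
      exact h2)
    (by
      rw [hτ₂ a' ha' (ht₂ a' ha'), eq_comm, hπ]
      exact h3)
    hc
    (by
      rw [hτ₂ b hb (ht₂ b hb), ← map_pow, ← map_mul, eq_comm, hπ]
      exact h4)
  have hs₁ : Ind π (t₁ * t₂ ^ j₁ * t₁) (τ₁ * τ₂ ^ j₁ * τ₁) := Ind.mul hPE (Ind.mul hPE hq₁ (Ind.pow hPE hq₂ j₁)) hq₁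
  have hs₂ : Ind π (t₁ ^ 2 * t₂ ^ j₂ * t₁ ^ 2) (τ₁ ^ 2 * τ₂ ^ j₂ * τ₁ ^ 2) :=
    Ind.mul hPE (Ind.mul hPE (Ind.pow hPE hq₁ 2) (Ind.pow hPE hq₂ j₂)) (Ind.pow hPE hq₁ 2)
  have hd := Ind.mul hPE hs₂ hs₁
  have hw := Ind.mul hPE (Ind.mul hPE (Ind.mul hPE hd hq₁) (Ind.inv hPE hd)) (Ind.inv hPE (Ind.pow hPE hq₁ 4))
  refine ⟨j₁, j₂, ?_, ?_, ?_, ?_, ?_⟩
  · have hv' := hs₁.2.2 b hb (hs₁.1 b hb)
    rw [e1, ← map_inv, hπ] at hv'
    simpa using hv'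
  · have hv' := hs₁.2.2 a' ha' (hs₁.1 a' ha')
    rw [e2, hπ] at hv'
    exact hv'
  · have hv' := hd.2.2 b hb (hd.1 b hb)
    rw [e3, ← map_pow, ← map_inv, hπ] at hv'
    simpa using hv'
  · have hv' := hd.2.2 a' ha' (hd.1 a' ha')
    rw [e4, ← map_inv, ← map_pow, hπ] at hv'
    exact hv'
  · intro x hx
    have hx' := hw.1 x hx
    have hv' := hw.2.2 x hx hx'
    rw [e5, MulAut.one_apply, hπ] at hv'
    exact hv'

end Torus

end Cfsg.Agent.Lib.Fusion2.RK
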