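import Cfsg.Agent.Lib.Fusion2.RK1
import Cfsg.Agent.Lib.Fusion2.AbelIdx
import Cfsg.Agent.Lib.Fusion.EssP2

/-!
# Rank two `p`-groups: the normal four-group `U`
-/

set_option autoImplicit false
set_option linter.unusedSectionVars false
set_option linter.style.haveILetI false

namespace Cfsg.Agent.Lib.Fusion2.RK

open Cfsg Cfsg.FusionSystem Cfsg.Agent.Lib.Fusion Subgroup

universe u

variable {Ω : Type u} [Group Ω] {p : ℕ} [hp : Fact p.Prime]

/-- The rank condition. -/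
def Rk (S : Subgroup Ω) (p : ℕ) : Prop := ∀ E : Subgroup Ω, E ≤ S → IsElementaryAbelian p E → Nat.card E ≤ p ^ 2

/-- Elementary abelian of order `p²`. -/
structure EA (p : ℕ) (U : Subgroup Ω) : Prop where
  comm : ∀ a ∈ U, ∀ b ∈ U, a * b = b * a
  exp : ∀ a ∈ U, a ^ p = 1
  card : Nat.card U = p ^ 2

theorem EA.finite {U : Subgroup Ω} (hU : EA p U) : Finite U :=
  Nat.finite_of_card_ne_zero (by rw [hU.card]; exact pow_ne_zero _ hp.out.ne_zero)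

/-- Powers of an element of order `p`. -/
theorem mem_zpowers_nat {ℓ x : Ω} (hℓ : ℓ ^ p = 1) (hx : x ∈ zpowers ℓ) : ∃ k : ℕ, x = ℓ ^ k := by
  have h1 : IsOfFinOrder ℓ := isOfFinOrder_iff_pow_eq_one.2 ⟨p, hp.out.pos, hℓ⟩
  obtain ⟨k, hk⟩ := (h1.mem_powers_iff_mem_zpowers).2 hx
  exact ⟨k, hk.symm⟩

theorem zpowers_swap {ℓ x : Ω} (hℓ : ℓ ^ p = 1) (hx : x ∈ zpowers ℓ) (hx1 : x ≠ 1) : ∃ m : ℕ, x ^ m = ℓ := by
  obtain ⟨k, rfl⟩ := mem_zpowers_nat hℓ hx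
  have hk : ¬ p ∣ k := by
    rintro ⟨q, rfl⟩
    apply hx1
    rw [pow_mul, hℓ, one_pow]
  have hc : Nat.Coprime k p := ((Nat.Prime.coprime_iff_not_dvd hp.out).2 hk).symm
  obtain ⟨m, -, hm⟩ := Nat.exists_mul_mod_eq_one_of_coprime hc hp.out.one_lt
  refine ⟨m, ?_⟩
  rw [← pow_mul, pow_eq_pow_mod (k * m) hℓ, hm, pow_one]

theorem mem_zpowers_of_mem {ℓ x : Ω} (hℓ : ℓ ^ p = 1) (hx : x ∈ zpowers ℓ) (hx1 : x ≠ 1) : ℓ ∈ zpowers x := by
  obtain ⟨m, rfl⟩ := zpowers_swap hℓ hx hx1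
  exact pow_mem (mem_zpowers x) m

theorem le_of_mem {U : Subgroup Ω} {ℓ : Ω} (h : ℓ ∈ U) : zpowers ℓ ≤ U := (zpowers_le).2 h

/-- A commuting subset of exponent `p` generates an elementary abelian group. -/
theorem closure_elem {T : Set Ω} (hc : ∀ a ∈ T, ∀ b ∈ T, a * b = b * a) (he : ∀ a ∈ T, a ^ p = 1) :
    (∀ a ∈ closure T, ∀ b ∈ closure T, a * b = b * a) ∧ ∀ a ∈ closure T, a ^ p = 1 := by
  have h1 : closure T ≤ centralizer T := by
    rw [closure_le]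
    intro a ha
    rw [SetLike.mem_coe, mem_centralizer_iff]
    exact fun b hb => hc b hb a ha
  have h2 : closure T ≤ centralizer (closure T : Set Ω) := by
    rw [closure_le]
    intro a ha
    rw [SetLike.mem_coe, mem_centralizer_iff]
    intro b hb
    have := h1 hb
    rw [mem_centralizer_iff] at this
    exact (this a ha).symm
  have hcomm : ∀ a ∈ closure T, ∀ b ∈ closure T, a * b = b * a := by
    intro a ha b hb
    have := h2 hb
    rw [mem_centralizer_iff] at this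
    exact this a ha
  refine ⟨hcomm, fun a ha => ?_⟩
  induction ha using closure_induction with
  | mem x hx => exact he x hx
  | one => exact one_pow _
  | mul x y hx hy ihx ihy =>
    have : Commute x y := hcomm x hx y hy
    rw [this.mul_pow, ihx, ihy, one_mul]
  | inv x hx ih => rw [inv_pow, ih, inv_one]

theorem isElementary_of {V : Subgroup Ω} (hc : ∀ a ∈ V, ∀ b ∈ V, a * b = b * a) (he : ∀ a ∈ V, a ^ p = 1) :
    IsElementaryAbelian p V :=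
  ⟨⟨⟨fun a b => Subtype.ext (hc a a.2 b b.2)⟩⟩, he⟩

variable {S : Subgroup Ω}

/-- Elementary abelian sets containing `U` lie in `U`. -/
theorem subset_of_elem [Finite S] (hrk : Rk S p) {U : Subgroup Ω} (hU : EA p U) {T : Set Ω} (hTS : T ⊆ S)
    (hUT : (U : Set Ω) ⊆ T) (hc : ∀ a ∈ T, ∀ b ∈ T, a * b = b * a) (he : ∀ a ∈ T, a ^ p = 1) : T ⊆ U := by
  obtain ⟨h1, h2⟩ := closure_elem hc he
  have hVS : closure T ≤ S := (closure_le _).2 hTS
  haveI : Finite (closure T) := finite_of_le hVS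
  have h3 := hrk _ hVS (isElementary_of h1 h2)
  have hUV : U ≤ closure T := fun x hx => subset_closure (hUT hx)
  have h4 : U = closure T := eq_of_le_of_card_ge hUV (by rw [hU.card]; exact h3)
  intro x hx
  rw [SetLike.mem_coe, h4]
  exact subset_closure hx

theorem mem_of_elem [Finite S] (hrk : Rk S p) {U : Subgroup Ω} (hU : EA p U) (hUS : U ≤ S) {x : Ω} (hxS : x ∈ S)
    (hxp : x ^ p = 1) (hxc : ∀ u ∈ U, x * u = u * x) : x ∈ U := by
  have := subset_of_elem (T := insert x (U : Set Ω)) hrk hU ?_ (Set.subset_insert _ _) ?_ ?_ (Set.mem_insert x _)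
  · exact this
  · rintro y (rfl | hy)
    · exact hxS
    · exact hUS hy
  · rintro a (rfl | ha) b (rfl | hb)
    · rfl
    · exact hxc b hb
    · exact (hxc a ha).symm
    · exact hU.comm a ha b hb
  · rintro a (rfl | ha)
    · exact hxp
    · exact hU.exp a ha

/-- The decomposition of `U` along two independent elements. -/
theorem EA.decomp {U : Subgroup Ω} (hU : EA p U) {ℓ u₀ : Ω} (hℓ : ℓ ∈ U) (hℓ1 : ℓ ≠ 1) (hu₀ : u₀ ∈ U) (hu₀' : u₀ ∉ zpowers ℓ) {x : Ω}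
    (hx : x ∈ U) : ∃ i j : ℕ, x = ℓ ^ i * u₀ ^ j := by
  have hpp := hp.out
  haveI := hU.finite
  have hℓp := hU.exp ℓ hℓ
  have hu₀p := hU.exp u₀ hu₀
  have hcm : ℓ * u₀ = u₀ * ℓ := hU.comm ℓ hℓ u₀ hu₀
  obtain ⟨W, hWd⟩ : ∃ W, W = closure ({ℓ, u₀} : Set Ω) := ⟨_, rfl⟩
  have hWU : W ≤ U := by
    rw [hWd, closure_le]
    rintro y (rfl | rfl)
    · exact hℓ
    · exact hu₀
  haveI : Finite W := finite_of_le hWU
  have hℓW : ℓ ∈ W := by
    rw [hWd]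
    exact subset_closure (Set.mem_insert _ _)
  have hu₀W : u₀ ∈ W := by
    rw [hWd]
    exact subset_closure (Set.mem_insert_of_mem _ rfl)
  have hzW : zpowers ℓ ≤ W := (zpowers_le).2 hℓW
  have hcz : Nat.card (zpowers ℓ) = p := by
    rw [Nat.card_zpowers, orderOf_eq_prime hℓp hℓ1]
  have hdvd : Nat.card W ∣ p ^ 2 := by
    rw [← hU.card]
    exact Subgroup.card_dvd_of_le hWU
  obtain ⟨k, hk2, hk⟩ := (Nat.dvd_prime_pow hpp).1 hdvd
  have hpW : p ∣ Nat.card W := by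
    rw [← hcz]
    exact Subgroup.card_dvd_of_le hzW
  have hk2' : k = 2 := by
    by_contra hne
    have h3 : k = 0 ∨ k = 1 := by omega
    rcases h3 with rfl | rfl
    · rw [hk, pow_zero] at hpW
      exact hpp.one_lt.ne' (Nat.dvd_one.1 hpW)
    · apply hu₀'
      have h4 : zpowers ℓ = W := eq_of_le_of_card_ge hzW (by rw [hcz, hk, pow_one])
      rw [h4]
      exact hu₀W
  subst hk2'
  have hWeq : W = U := eq_of_le_of_card_ge hWU (by rw [hU.card, hk])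
  have hxW : x ∈ closure ({ℓ, u₀} : Set Ω) := by
    rw [← hWd, hWeq]
    exact hx
  have hc1 : Commute ℓ u₀ := hcm
  induction hxW using closure_induction with
  | mem y hy =>
    rcases hy with rfl | rfl
    · exact ⟨1, 0, by simp⟩
    · exact ⟨0, 1, by simp⟩
  | one => exact ⟨0, 0, by simp⟩
  | mul a b ha hb iha ihb =>
    obtain ⟨i, j, rfl⟩ := iha (hWU (by rw [hWd]; exact ha))
    obtain ⟨i', j', rfl⟩ := ihb (hWU (by rw [hWd]; exact hb))
    refine ⟨i + i', j + j', ?_⟩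
    rw [pow_add, pow_add]
    have : u₀ ^ j * ℓ ^ i' = ℓ ^ i' * u₀ ^ j := ((hc1.pow_pow i' j).eq).symm
    calc ℓ ^ i * u₀ ^ j * (ℓ ^ i' * u₀ ^ j') = ℓ ^ i * (u₀ ^ j * ℓ ^ i') * u₀ ^ j' := by group
      _ = ℓ ^ i * (ℓ ^ i' * u₀ ^ j) * u₀ ^ j' := by rw [this]
      _ = _ := by group
  | inv a ha iha =>
    obtain ⟨i, j, rfl⟩ := iha (hWU (by rw [hWd]; exact ha))
    refine ⟨(p - 1) * i, (p - 1) * j, ?_⟩
    have e1 : ∀ y : Ω, y ^ p = 1 → y ^ (p - 1) = y⁻¹ := by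
      intro y hy
      apply eq_inv_of_mul_eq_one_left
      rw [← pow_succ, Nat.sub_add_cancel hpp.one_le, hy]
    rw [pow_mul, pow_mul, e1 _ hℓp, e1 _ hu₀p, mul_inv_rev, inv_pow, inv_pow]
    exact ((hc1.pow_pow i j).inv_inv).eq.symm

/-- The action of a `p`-element on `U`: unipotent along a fixed line. -/
theorem act_line {V : Subgroup Ω} (hV : EA p V) {g : Ω} (hgV : ∀ v ∈ V, g * v * g⁻¹ ∈ V) {N : ℕ} (hgp : g ^ p ^ N = 1) {ℓ : Ω}
    (hℓ : ℓ ∈ V) (hℓ1 : ℓ ≠ 1) (hgℓ : g * ℓ = ℓ * g) {v : Ω} (hv : v ∈ V) : g * v * g⁻¹ * v⁻¹ ∈ zpowers ℓ := by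
  haveI := hV.finite
  let f : V →* V :=
    { toFun := fun x => ⟨g * x * g⁻¹, hgV x x.2⟩
      map_one' := Subtype.ext (by simp)
      map_mul' := fun a b => Subtype.ext (by simp) }
  have hinj : Function.Injective f := by
    intro a b hab
    have h1 : g * (a : Ω) * g⁻¹ = g * b * g⁻¹ := congrArg Subtype.val hab
    apply Subtype.ext
    simpa using h1
  let τ : MulAut V := MulEquiv.ofBijective f (Finite.injective_iff_bijective.1 hinj)
  have hτv : ∀ x : V, ((τ x : V) : Ω) = g * x * g⁻¹ := fun x => rfl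
  have hτp : ∀ (n : ℕ) (x : V), (((τ ^ n) x : V) : Ω) = g ^ n * x * (g ^ n)⁻¹ := by
    intro n
    induction n with
    | zero => intro x; simp
    | succ n ih =>
      intro x
      rw [pow_succ', MulAut.mul_apply, hτv, ih, pow_succ']
      group
  have hτ1 : τ ^ p ^ N = 1 := by
    ext x
    rw [hτp, hgp]
    simp
  by_cases hτ : τ = 1
  · have h1 : g * v * g⁻¹ = v := by
      have := hτv ⟨v, hv⟩
      rw [hτ] at this
      exact this.symm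
    rw [h1, mul_inv_cancel]
    exact one_mem _
  obtain ⟨a, ha1, haf, hax, hafix, -⟩ := rank2_transvection (A := V) (p := p)
    (fun x y => Subtype.ext (hV.comm x x.2 y y.2)) (fun x => Subtype.ext (by simpa using hV.exp x x.2)) (by rw [hV.card]) hτ hτ1
  have hℓf : τ ⟨ℓ, hℓ⟩ = ⟨ℓ, hℓ⟩ := by
    apply Subtype.ext
    rw [hτv]
    show g * ℓ * g⁻¹ = ℓ
    rw [hgℓ, mul_inv_cancel_right]
  obtain ⟨k, hk⟩ := hafix _ hℓf
  have hℓk : ℓ = (a : Ω) ^ k := by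
    have := congrArg Subtype.val hk
    simpa using this
  have hap : (a : Ω) ^ p = 1 := hV.exp a a.2
  have haz : (a : Ω) ∈ zpowers ℓ := by
    apply mem_zpowers_of_mem hap
    · rw [hℓk]
      exact pow_mem (mem_zpowers _) k
    · exact hℓ1
  obtain ⟨j, hj⟩ := hax ⟨v, hv⟩
  have h2 : g * v * g⁻¹ = v * (a : Ω) ^ j := by
    have := congrArg Subtype.val hj
    simpa using (hτv ⟨v, hv⟩).symm.trans this
  rw [h2]
  have h3 : v * (a : Ω) ^ j * v⁻¹ = (a : Ω) ^ j := by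
    rw [hV.comm v hv _ (V.pow_mem a.2 j), mul_inv_cancel_right]
  rw [h3]
  exact pow_mem haz j

theorem conj_pow {z u c : Ω} (h1 : c * z = z * c) (h3 : z * u * z⁻¹ = c * u) (n : ℕ) : z ^ n * u * (z ^ n)⁻¹ = c ^ n * u := by
  have hc : Commute c z := h1
  induction n with
  | zero => simp
  | succ n ih =>
    have h4 : z ^ n * c = c * z ^ n := ((hc.pow_right n).eq).symm
    calc z ^ (n + 1) * u * (z ^ (n + 1))⁻¹ = z ^ n * (z * u * z⁻¹) * (z ^ n)⁻¹ := by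
          rw [pow_succ]
          group
      _ = (z ^ n * c) * u * (z ^ n)⁻¹ := by rw [h3]; group
      _ = c * (z ^ n * u * (z ^ n)⁻¹) := by rw [h4]; group
      _ = c ^ (n + 1) * u := by rw [ih, pow_succ', mul_assoc]

/-- The basic structure around `U`. -/
structure UD (S U : Subgroup Ω) (p : ℕ) (ℓ : Ω) : Prop where
  ea : EA p U
  le : U ≤ S
  nor : ∀ g ∈ S, ∀ u ∈ U, g * u * g⁻¹ ∈ U
  mem : ℓ ∈ U
  ne : ℓ ≠ 1
  cen : ∀ g ∈ S, g * ℓ = ℓ * g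
  act : ∀ g ∈ S, ∀ u ∈ U, g * u * g⁻¹ * u⁻¹ ∈ zpowers ℓ
  rk : ∀ x ∈ S, x ^ p = 1 → (∀ u ∈ U, x * u = u * x) → x ∈ U

theorem exists_UD [Finite S] (hS : IsPGroup p S) (hp2 : p ≠ 2) (hnc : ¬ IsCyclic S) (hrk : Rk S p) : ∃ U ℓ, UD S U p ℓ := by
  have hpp := hp.out
  obtain ⟨A, hAn, hAe, hAc⟩ := Transfer.exists_normal_elementary_sq hp2 hS hnc
  haveI := hAn
  haveI : Group.IsNilpotent S := hS.isNilpotent
  have hAb : A ≠ ⊥ := by
    rintro rfl
    rw [Subgroup.card_bot] at hAc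
    have : 1 < p ^ 2 := Nat.one_lt_pow (by norm_num) hpp.one_lt
    omega
  have h1 := Cfsg.Agent.Lib.Basic.normal_inf_center_ne_bot A hAb
  obtain ⟨⟨z, hz⟩, hz1⟩ := (Subgroup.ne_bot_iff_exists_ne_one).1 h1
  have hzne : (z : Ω) ≠ 1 := fun h => hz1 (Subtype.ext (Subtype.ext h))
  have hmem : ∀ x, x ∈ A.map S.subtype ↔ ∃ a ∈ A, (a : Ω) = x := fun x => Iff.rfl
  have hea : EA p (A.map S.subtype) := by
    refine ⟨?_, ?_, ?_⟩
    · rintro _ ⟨a, ha, rfl⟩ _ ⟨b, hb, rfl⟩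
      have h2 : (⟨a, ha⟩ : A) * ⟨b, hb⟩ = ⟨b, hb⟩ * ⟨a, ha⟩ := hAe.1.is_comm.comm _ _
      have h3 : a * b = b * a := congrArg (fun w : A => (w : S)) h2
      exact congrArg (fun w : S => (w : Ω)) h3
    · rintro _ ⟨a, ha, rfl⟩
      have h2 := hAe.2 a ha
      simpa using congrArg Subtype.val h2
    · rw [← hAc]
      exact Nat.card_congr (A.equivMapOfInjective _ S.subtype_injective).symm.toEquiv
  have hnor : ∀ g ∈ S, ∀ u ∈ A.map S.subtype, g * u * g⁻¹ ∈ A.map S.subtype := by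
    rintro g hg _ ⟨a, ha, rfl⟩
    exact ⟨_, hAn.conj_mem a ha ⟨g, hg⟩, rfl⟩
  refine ⟨A.map S.subtype, (z : Ω), ⟨hea, map_subtype_le _, hnor, ⟨z, hz.1, rfl⟩, hzne, fun g hg => ?_, fun g hg u hu => ?_, fun x hx hxp hxc => ?_⟩⟩
  · have h2 := (Subgroup.mem_center_iff.1 hz.2) ⟨g, hg⟩
    exact congrArg Subtype.val h2
  · obtain ⟨N, hN⟩ := hS ⟨g, hg⟩
    have hN' : g ^ p ^ N = 1 := by simpa using congrArg Subtype.val hN
    have h2 := (Subgroup.mem_center_iff.1 hz.2) ⟨g, hg⟩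
    exact act_line hea (hnor g hg) hN' ⟨z, hz.1, rfl⟩ hzne (congrArg Subtype.val h2) hu
  · exact mem_of_elem hrk hea (map_subtype_le _) hx hxp hxc

theorem mem_cS {U : Subgroup Ω} {x : Ω} : x ∈ centralizerIn S U ↔ x ∈ S ∧ ∀ u ∈ U, x * u = u * x := by
  show x ∈ S ⊓ centralizer (U : Set Ω) ↔ _
  rw [Subgroup.mem_inf, mem_centralizer_iff]
  exact and_congr_right (fun _ => ⟨fun h v hv => (h v hv).symm, fun h v hv => (h v hv).symm⟩)

namespace UD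

variable {U : Subgroup Ω} {ℓ : Ω}

theorem ℓp (h : UD S U p ℓ) : ℓ ^ p = 1 := h.ea.exp ℓ h.mem

theorem zle (h : UD S U p ℓ) : zpowers ℓ ≤ U := (zpowers_le).2 h.mem

theorem cen' (h : UD S U p ℓ) {g : Ω} (hg : g ∈ S) {c : Ω} (hc : c ∈ zpowers ℓ) : g * c = c * g := by
  obtain ⟨k, rfl⟩ := mem_zpowers_nat h.ℓp hc
  exact ((Commute.pow_right (h.cen g hg : Commute g ℓ) k).eq)

theorem exists_compl (h : UD S U p ℓ) : ∃ u₀ ∈ U, u₀ ∉ zpowers ℓ := by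
  by_contra hcon
  push Not at hcon
  have hpp := hp.out
  haveI := h.ea.finite
  have h1 : Nat.card U ≤ Nat.card (zpowers ℓ) := by
    haveI : Finite (zpowers ℓ) := finite_of_le h.zle
    exact Nat.card_le_card_of_injective (fun x : U => (⟨x, hcon x x.2⟩ : zpowers ℓ)) (fun a b hab =>
      Subtype.ext (congrArg (fun w : zpowers ℓ => (w : Ω)) hab))
  rw [h.ea.card, Nat.card_zpowers, orderOf_eq_prime h.ℓp h.ne, pow_two] at h1
  have h2 : p * p ≤ p * 1 := by simpa using h1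
  have h3 := Nat.le_of_mul_le_mul_left h2 hpp.pos
  exact absurd hpp.one_lt (by omega)

theorem mem_cent_of_fix (h : UD S U p ℓ) {g : Ω} (hg : g ∈ S) {u₀ : Ω} (hu₀ : u₀ ∈ U) (hu₀' : u₀ ∉ zpowers ℓ) (hf : g * u₀ = u₀ * g) :
    g ∈ centralizerIn S U := by
  refine mem_cS.2 ⟨hg, fun u hu => ?_⟩
  obtain ⟨i, j, rfl⟩ := h.ea.decomp h.mem h.ne hu₀ hu₀' hu
  have h1 : Commute g (ℓ ^ i) := Commute.pow_right (h.cen g hg) i
  have h2 : Commute g (u₀ ^ j) := Commute.pow_right hf j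
  exact (h1.mul_right h2).eq

theorem mem_zpowers_of_fix (h : UD S U p ℓ) {g : Ω} (hg : g ∈ S) (hgC : g ∉ centralizerIn S U) {u : Ω} (hu : u ∈ U) (hf : g * u = u * g) :
    u ∈ zpowers ℓ := by
  by_contra hcon
  exact hgC (h.mem_cent_of_fix hg hu hcon hf)

theorem exists_mul_pow_mem (h : UD S U p ℓ) {g t : Ω} (hg : g ∈ S) (hgC : g ∉ centralizerIn S U) (ht : t ∈ S) :
    ∃ k : ℕ, t * g ^ k ∈ centralizerIn S U := by
  have hex : ∃ u₁ ∈ U, g * u₁ ≠ u₁ * g := by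
    by_contra hcon
    push Not at hcon
    exact hgC (mem_cS.2 ⟨hg, hcon⟩)
  obtain ⟨u₁, hu₁, hne⟩ := hex
  have hu₁z : u₁ ∉ zpowers ℓ := by
    intro hz
    exact hne (h.cen' hg hz)
  obtain ⟨a, ha⟩ := mem_zpowers_nat h.ℓp (h.act g hg u₁ hu₁)
  obtain ⟨b, hb⟩ := mem_zpowers_nat h.ℓp (h.act t ht u₁ hu₁)
  have ha' : ¬ p ∣ a := by
    rintro ⟨q, rfl⟩
    apply hne
    rw [pow_mul, h.ℓp, one_pow] at ha
    have : g * u₁ * g⁻¹ = u₁ := by
      rwa [mul_inv_eq_one] at ha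
    calc g * u₁ = g * u₁ * g⁻¹ * g := by group
      _ = u₁ * g := by rw [this]
  obtain ⟨i, hi⟩ := AbelIdx.exists_comb (p := p) b ha'
  refine ⟨i, h.mem_cent_of_fix (S.mul_mem ht (S.pow_mem hg i)) hu₁ hu₁z ?_⟩
  have e1 : g * u₁ * g⁻¹ = ℓ ^ a * u₁ := by
    rw [← ha]
    group
  have e2 : t * u₁ * t⁻¹ = ℓ ^ b * u₁ := by
    rw [← hb]
    group
  have e3 := conj_pow (z := g) (u := u₁) (c := ℓ ^ a) (((Commute.pow_left (h.cen g hg).symm a).eq)) e1 i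
  have e4 : t * g ^ i * u₁ * (t * g ^ i)⁻¹ = u₁ := by
    calc t * g ^ i * u₁ * (t * g ^ i)⁻¹ = t * (g ^ i * u₁ * (g ^ i)⁻¹) * t⁻¹ := by group
      _ = t * ((ℓ ^ a) ^ i * u₁) * t⁻¹ := by rw [e3]
      _ = (ℓ ^ a) ^ i * (t * u₁ * t⁻¹) := by
          have : t * (ℓ ^ a) ^ i = (ℓ ^ a) ^ i * t := (((Commute.pow_right (h.cen t ht) a).pow_right i).eq)
          rw [← mul_assoc t, this]
          group
      _ = (ℓ ^ a) ^ i * (ℓ ^ b * u₁) := by rw [e2]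
      _ = ℓ ^ (a * i + b) * u₁ := by rw [pow_add, pow_mul]; group
      _ = u₁ := by
          obtain ⟨q, hq⟩ := hi
          rw [hq, pow_mul, h.ℓp, one_pow, one_mul]
  calc t * g ^ i * u₁ = t * g ^ i * u₁ * (t * g ^ i)⁻¹ * (t * g ^ i) := by group
    _ = u₁ * (t * g ^ i) := by rw [e4]

theorem pow_mem_C (h : UD S U p ℓ) {g : Ω} (hg : g ∈ S) : g ^ p ∈ centralizerIn S U := by
  refine mem_cS.2 ⟨S.pow_mem hg p, fun u hu => ?_⟩
  obtain ⟨a, ha⟩ := mem_zpowers_nat h.ℓp (h.act g hg u hu)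
  have e1 : g * u * g⁻¹ = ℓ ^ a * u := by
    rw [← ha]
    group
  have e3 := conj_pow (z := g) (u := u) (c := ℓ ^ a) (((Commute.pow_left (h.cen g hg).symm a).eq)) e1 p
  rw [← pow_mul, mul_comm, pow_mul, h.ℓp, one_pow, one_mul] at e3
  calc g ^ p * u = g ^ p * u * (g ^ p)⁻¹ * g ^ p := by group
    _ = u * g ^ p := by rw [e3]

/-- A cyclic action on `U` with centralizer `U` and an involution-free complement: `S` has exponent `p`. -/
theorem final_ext [Finite S] (h : UD S U p ℓ) (hp2 : p ≠ 2) (hCU : centralizerIn S U ≤ U) {z : Ω} (hz : z ∈ S) (hzC : z ∉ centralizerIn S U)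
    (hzp : z ^ p = 1) : Nat.card S = p ^ 3 ∧ Monoid.exponent S = p := by
  have hpp := hp.out
  have hUC : U ≤ centralizerIn S U := fun u hu => mem_cS.2 ⟨h.le hu, fun v hv => h.ea.comm u hu v hv⟩
  haveI hNn : (U.subgroupOf S).Normal := ⟨fun n hn g => Subgroup.mem_subgroupOf.2 (h.nor g g.2 n (Subgroup.mem_subgroupOf.1 hn))⟩
  obtain ⟨q, hqd⟩ : ∃ q : S ⧸ U.subgroupOf S, q = QuotientGroup.mk ⟨z, hz⟩ := ⟨_, rfl⟩
  have hq1 : q ≠ 1 := by
    intro hq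
    rw [hqd, QuotientGroup.eq_one_iff] at hq
    exact hzC (hUC (Subgroup.mem_subgroupOf.1 hq))
  have hqp : q ^ p = 1 := by
    rw [hqd, ← QuotientGroup.mk_pow, QuotientGroup.eq_one_iff]
    refine Subgroup.mem_subgroupOf.2 ?_
    have : (((⟨z, hz⟩ : S) ^ p : S) : Ω) = 1 := by simpa using hzp
    rw [this]
    exact U.one_mem
  have hgen : ∀ x : S ⧸ U.subgroupOf S, x ∈ zpowers q := by
    intro x
    obtain ⟨s, rfl⟩ := QuotientGroup.mk_surjective x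
    obtain ⟨k, hk⟩ := h.exists_mul_pow_mem hz hzC s.2
    have h1 : (QuotientGroup.mk s : S ⧸ U.subgroupOf S) * q ^ k = 1 := by
      rw [hqd, ← QuotientGroup.mk_pow, ← QuotientGroup.mk_mul, QuotientGroup.eq_one_iff]
      refine Subgroup.mem_subgroupOf.2 ?_
      exact hCU (by simpa using hk)
    have h2 : (QuotientGroup.mk s : S ⧸ U.subgroupOf S) = (q ^ k)⁻¹ := eq_inv_of_mul_eq_one_left h1
    rw [h2]
    exact Subgroup.inv_mem _ (pow_mem (mem_zpowers q) k)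
  have hQ : Nat.card (S ⧸ U.subgroupOf S) = p := by
    rw [← orderOf_eq_card_of_forall_mem_zpowers hgen, orderOf_eq_prime hqp hq1]
  have hUc : Nat.card (U.subgroupOf S) = p ^ 2 := by
    rw [← h.ea.card]
    exact Nat.card_congr (subgroupOfEquivOfLe h.le).toEquiv
  have hcard : Nat.card S = p ^ 3 := by
    rw [Subgroup.card_eq_card_quotient_mul_card_subgroup (U.subgroupOf S), hQ, hUc]
    ring
  refine ⟨hcard, ?_⟩
  haveI : Nontrivial S := ⟨⟨⟨ℓ, h.le h.mem⟩, 1, fun e => h.ne (congrArg Subtype.val e)⟩⟩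
  rw [Monoid.exponent_eq_prime_iff hpp]
  intro g hg1
  refine orderOf_eq_prime ?_ hg1
  obtain ⟨k, hk⟩ := h.exists_mul_pow_mem hz hzC g.2
  obtain ⟨u, hud⟩ : ∃ u, u = (g : Ω) * z ^ k := ⟨_, rfl⟩
  have huU : u ∈ U := by
    rw [hud]
    exact hCU hk
  obtain ⟨w, hwd⟩ : ∃ w, w = (z ^ k)⁻¹ := ⟨_, rfl⟩
  have hwS : w ∈ S := by
    rw [hwd]
    exact S.inv_mem (S.pow_mem hz k)
  have hwp : w ^ p = 1 := by
    rw [hwd, inv_pow, ← pow_mul, mul_comm, pow_mul, hzp, one_pow, inv_one]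
  have hg : (g : Ω) = u * w := by
    rw [hud, hwd]
    group
  have hc := h.act w hwS u huU
  have h1 := pow_class2 (u := u) (z := w) (c := w * u * w⁻¹ * u⁻¹) (h.cen' hwS hc).symm (h.ea.comm _ (h.zle hc) u huU) (by group) p
  have hdvd : p ∣ p.choose 2 := Nat.Prime.dvd_choose_self hpp two_ne_zero (lt_of_le_of_ne hpp.two_le hp2.symm)
  obtain ⟨q', hq'⟩ := hdvd
  rw [h.ea.exp u huU, hwp, hq', pow_mul, h.ea.exp _ (h.zle hc), one_pow, one_mul, mul_one, ← hg] at h1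
  apply Subtype.ext
  simpa using h1

theorem act' (h : UD S U p ℓ) {g : Ω} (hg : g ∈ S) {v : Ω} (hv : v ∈ U) : v⁻¹ * (g * v * g⁻¹) ∈ zpowers ℓ := by
  have h1 := h.act g hg v hv
  have h2 : v⁻¹ * (g * v * g⁻¹) = g * v * g⁻¹ * v⁻¹ := h.ea.comm _ (U.inv_mem hv) _ (h.nor g hg v hv)
  rw [h2]
  exact h1

end UD

section Rad

variable [Finite S] {F : FusionSystem S}

theorem fn_cy {E : Subgroup Ω} {y : Ω} (hy : y ∈ normalizer (E : Set Ω)) {x : Ω} (hx : x ∈ E) :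
    fn (autOfNormalizer hy) x = y * x * y⁻¹ := by
  rw [fn_of_mem _ hx]
  rfl

theorem cy_mem {E : Subgroup Ω} (hES : E ≤ S) {y : Ω} (hy : y ∈ normalizerIn S E) : autOfNormalizer hy.2 ∈ F.autGroup E :=
  autInducedBy_le_autGroup hES (autOfNormalizer_mem_autInducedBy hy.2 hy.1)

theorem mapOn_pow {X : Subgroup Ω} {f : Ω → Ω} (hf : IsMapOn F X f) {x : Ω} (hx : x ∈ X) (n : ℕ) : f (x ^ n) = (f x) ^ n := by
  induction n with
  | zero => simpa using hf.map_one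
  | succ n ih => rw [pow_succ, hf.map_mul (X.pow_mem hx n) hx, ih, pow_succ]

theorem rad_inn (hS : IsPGroup p S) (hp2 : p ≠ 2) {E L V : Subgroup Ω} (hR : F.IsRadical p E) (hLV : L ≤ V) (hVE : V ≤ E)
    (hVn : ∀ e ∈ E, ∀ v ∈ V, e * v * e⁻¹ ∈ V) (hΩ : ∀ x ∈ E, x ^ p = 1 → (∀ v ∈ V, x * v = v * x) → x ∈ V)
    (hinvL : ∀ α ∈ F.autGroup E, ∀ l ∈ L, fn α l ∈ L) (hinvV : ∀ α ∈ F.autGroup E, ∀ v ∈ V, fn α v ∈ V) {α : MulAut E}
    (hα : α ∈ F.autGroup E) (hαW : α ∈ WW E L V hLV hVE) : α ∈ Inn E := by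
  have hES : E ≤ S := hR.1
  haveI : Finite E := finite_of_le hES
  have hp1 : IsPGroup p (WW E L V hLV hVE) := WW_isPGroup (hS.to_le hES) hp2 hLV hVE hVn hΩ
  have h1 : WW E L V hLV hVE ⊓ F.autGroup E ≤ opAut F p E := by
    refine le_opAut inf_le_right (hp1.to_le inf_le_left) ?_
    rintro β hβ a ⟨ha1, ha2⟩
    refine ⟨⟨fun l hl => ?_, fun v hv => ?_⟩, Subgroup.mul_mem _ (Subgroup.mul_mem _ hβ ha2) (Subgroup.inv_mem _ hβ)⟩
    · have hl' := hinvL _ (Subgroup.inv_mem _ hβ) l hl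
      have hlE := hVE (hLV hl)
      rw [fn_mul _ _ hlE, fn_mul _ _ (fn_mem _ hlE), ha1.1 _ hl', fn_fn_inv β hlE]
    · have hv' := hinvV _ (Subgroup.inv_mem _ hβ) v hv
      have hvE := hVE hv
      have h2 := ha1.2 _ hv'
      have h3 : fn a (fn β⁻¹ v) = fn β⁻¹ v * ((fn β⁻¹ v)⁻¹ * fn a (fn β⁻¹ v)) := by group
      rw [fn_mul _ _ hvE, fn_mul _ _ (fn_mem _ hvE), h3, fn_map_mul β (hVE hv') (hVE (hLV h2)), fn_fn_inv β hvE, inv_mul_cancel_left]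
      exact hinvL _ hβ _ h2
  have h2 : opAut F p E = Inn E := hR.2
  rw [← h2]
  exact h1 ⟨hαW, hα⟩

theorem rad_mem (hS : IsPGroup p S) (hp2 : p ≠ 2) {E L V : Subgroup Ω} (hR : F.IsRadical p E) (hc : centralizerIn S E ≤ E) (hLV : L ≤ V) (hVE : V ≤ E)
    (hVn : ∀ e ∈ E, ∀ v ∈ V, e * v * e⁻¹ ∈ V) (hΩ : ∀ x ∈ E, x ^ p = 1 → (∀ v ∈ V, x * v = v * x) → x ∈ V)
    (hinvL : ∀ α ∈ F.autGroup E, ∀ l ∈ L, fn α l ∈ L) (hinvV : ∀ α ∈ F.autGroup E, ∀ v ∈ V, fn α v ∈ V) {y : Ω}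
    (hy : y ∈ normalizerIn S E) (h1 : ∀ l ∈ L, y * l * y⁻¹ = l) (h2 : ∀ v ∈ V, v⁻¹ * (y * v * y⁻¹) ∈ L) : y ∈ E := by
  refine mem_of_autOfNormalizer_mem_inn hR.1 hc hy (rad_inn hS hp2 hR hLV hVE hVn hΩ hinvL hinvV (cy_mem hR.1 hy) ⟨fun l hl => ?_, fun v hv => ?_⟩)
  · rw [fn_cy _ (hVE (hLV hl)), h1 l hl]
  · rw [fn_cy _ (hVE hv)]
    exact h2 v hv

end Rad

end Cfsg.Agent.Lib.Fusion2.RK
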