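import Cfsg.Agent.Lib.Fusion2.RK2

/-!
# Rank two `p`-groups: essential subgroups centralizing `U`
-/

set_option autoImplicit false
set_option linter.unusedSectionVars false
set_option linter.style.haveILetI false

namespace Cfsg.Agent.Lib.Fusion2.RK

open Cfsg Cfsg.FusionSystem Cfsg.Agent.Lib.Fusion Subgroup

universe u

variable {Ω : Type u} [Group Ω] {p : ℕ} [hp : Fact p.Prime]

/-- A fixed point free involutory automorphism is the inversion. -/
theorem fpf_invol {G : Type*} [Group G] [Finite G] {β : MulAut G} (h2 : β * β = 1) (hf : ∀ g, β g = g → g = 1) :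
    (∀ g, β g = g⁻¹) ∧ ∀ a b : G, a * b = b * a := by
  have hββ : ∀ g, β (β g) = g := fun g => by
    have := congrArg (fun γ : MulAut G => γ g) h2
    simpa using this
  let φ : G → G := fun g => g⁻¹ * β g
  have hinj : Function.Injective φ := by
    intro g h hgh
    have h1 : g⁻¹ * β g = h⁻¹ * β h := hgh
    have h3 : β (h * g⁻¹) = h * g⁻¹ := by
      rw [map_mul, map_inv]
      have h4 : β h = h * (g⁻¹ * β g) := by
        rw [h1, mul_inv_cancel_left]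
      rw [h4]
      group
    have h5 := hf _ h3
    have h6 : h = g := by
      rwa [mul_inv_eq_one] at h5
    exact h6.symm
  have hsurj := Finite.injective_iff_surjective.1 hinj
  have hinv : ∀ g, β g = g⁻¹ := by
    intro x
    obtain ⟨g, rfl⟩ := hsurj x
    show β (g⁻¹ * β g) = (g⁻¹ * β g)⁻¹
    rw [map_mul, map_inv, hββ]
    group
  refine ⟨hinv, fun a b => ?_⟩
  have h7 := map_mul β a b
  rw [hinv, hinv, hinv] at h7
  have h8 : (a * b)⁻¹⁻¹ = (a⁻¹ * b⁻¹)⁻¹ := by rw [h7]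
  simpa using h8

/-- A non-trivial `p`-element has a power of order `p`. -/
theorem exists_pow_p {x : Ω} (hx1 : x ≠ 1) {N : ℕ} (hN : x ^ p ^ N = 1) : ∃ j : ℕ, x ^ p ^ j ≠ 1 ∧ (x ^ p ^ j) ^ p = 1 := by
  induction N with
  | zero => exact absurd (by simpa using hN) hx1
  | succ N ih =>
    by_cases h : x ^ p ^ N = 1
    · exact ih h
    · refine ⟨N, h, ?_⟩
      rw [← pow_mul, ← pow_succ, hN]

theorem iter_conj (z g : Ω) (k : ℕ) : (fun g => z * g * z⁻¹)^[k] g = z ^ k * g * (z ^ k)⁻¹ := by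
  induction k with
  | zero => simp
  | succ k ih =>
    rw [Function.iterate_succ_apply', ih, pow_succ' z]
    group

variable {S : Subgroup Ω} [Finite S] {F : FusionSystem S}

theorem case_i (hS : IsPGroup p S) (hF : F.IsSaturated p) (hp5 : 5 ≤ p) {U : Subgroup Ω} {ℓ : Ω} (h : UD S U p ℓ) {E : Subgroup Ω}
    (hE : F.IsEssential p E) (hEC : E ≤ centralizerIn S U) (hne : ¬ S ≤ E) (hnotE : ¬ (Nat.card S = p ^ 3 ∧ Monoid.exponent S = p)) : False := by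
  classical
  have hpp := hp.out
  have hp2 : p ≠ 2 := by omega
  have hES : E ≤ S := hE.1.1
  have hcent : centralizerIn S E ≤ E := hE.1.2 E (isConj_refl hES)
  have hR : F.IsRadical p E := isRadical_of_essential hS hE
  have hfn : F.IsFullyNormalized E := hE.2.1
  haveI : Finite E := finite_of_le hES
  have hpel : ∀ x ∈ S, ∃ N : ℕ, x ^ p ^ N = 1 := by
    intro x hx
    obtain ⟨k, hk⟩ := hS ⟨x, hx⟩
    exact ⟨k, by simpa using congrArg Subtype.val hk⟩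
  have hUE : U ≤ E := by
    intro u hu
    refine hcent (mem_cS.2 ⟨h.le hu, fun e he => ?_⟩)
    exact ((mem_cS.1 (hEC he)).2 u hu).symm
  have hΩ₁ : ∀ x ∈ E, x ^ p = 1 → x ∈ U := fun x hx hxp => h.rk x (hES hx) hxp (mem_cS.1 (hEC hx)).2
  have hAU : ∀ α : MulAut E, ∀ u ∈ U, fn α u ∈ U := by
    intro α u hu
    apply hΩ₁ _ (fn_mem α (hUE hu))
    rw [← fnp α (hUE hu), h.ea.exp u hu, fn1]
  have hVn : ∀ e ∈ E, ∀ v ∈ U, e * v * e⁻¹ ∈ U := fun e he v hv => h.nor e (hES he) v hv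
  have hΩU : ∀ x ∈ E, x ^ p = 1 → (∀ v ∈ U, x * v = v * x) → x ∈ U := fun x hx hxp _ => hΩ₁ x hx hxp
  -- elements of `C` normalizing `E` lie in `E`
  have hCN : ∀ y ∈ normalizerIn S E, y ∈ centralizerIn S U → y ∈ E := by
    intro y hy hyC
    refine rad_mem hS hp2 hR hcent le_rfl hUE hVn hΩU (fun α _ l hl => hAU α l hl) (fun α _ l hl => hAU α l hl) hy ?_ ?_
    · intro l hl
      rw [(mem_cS.1 hyC).2 l hl, mul_inv_cancel_right]
    · intro v hv
      rw [(mem_cS.1 hyC).2 v hv, mul_inv_cancel_right, inv_mul_cancel]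
      exact U.one_mem
  have hCS : centralizerIn S U ≤ S := inf_le_left
  haveI : Finite (centralizerIn S U) := finite_of_le hCS
  have hCE : centralizerIn S U ≤ E := by
    by_contra hcon
    have hlt : E < centralizerIn S U := lt_of_le_not_ge hEC hcon
    obtain ⟨g, hg, hgE⟩ := exists_mem_normalizerIn_not_mem (hS.to_le hCS) hlt
    exact hgE (hCN g ⟨hCS hg.1, hg.2⟩ hg.1)
  obtain ⟨y, hyN, hyE⟩ := exists_mem_normalizerIn_not_mem hS (lt_of_le_not_ge hES hne)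
  have hyS : y ∈ S := hyN.1
  have hyC : y ∉ centralizerIn S U := fun hc => hyE (hCE hc)
  have hzE : zpowers ℓ ≤ U := h.zle
  -- the fixed line is not invariant
  have hx : ∃ x ∈ F.autGroup E, fn x ℓ ∉ zpowers ℓ := by
    by_contra hcon
    push Not at hcon
    refine hyE (rad_mem hS hp2 hR hcent hzE hUE hVn hΩU ?_ (fun α _ l hl => hAU α l hl) hyN ?_ ?_)
    · intro α hα l hl
      obtain ⟨k, rfl⟩ := mem_zpowers_nat h.ℓp hl
      rw [fnp α (hUE h.mem)]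
      exact pow_mem (hcon α hα) k
    · intro l hl
      rw [h.cen' hyS hl, mul_inv_cancel_right]
    · intro v hv
      exact h.act' hyS hv
  obtain ⟨x, hxA, hxℓ⟩ := hx
  obtain ⟨a', had⟩ : ∃ a', a' = fn x ℓ := ⟨_, rfl⟩
  rw [← had] at hxℓ
  have ha'U : a' ∈ U := by
    rw [had]
    exact hAU x ℓ h.mem
  obtain ⟨b, hbd⟩ : ∃ b, b = a'⁻¹ * (y * a' * y⁻¹) := ⟨_, rfl⟩
  have hbz : b ∈ zpowers ℓ := by
    rw [hbd]
    exact h.act' hyS ha'U
  have hbU : b ∈ U := hzE hbz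
  have hya : y * a' * y⁻¹ = a' * b := by
    rw [hbd, mul_inv_cancel_left]
  have hb1 : b ≠ 1 := by
    intro hb
    rw [hb, mul_one] at hya
    apply hyC
    refine h.mem_cent_of_fix hyS ha'U hxℓ ?_
    calc y * a' = y * a' * y⁻¹ * y := by group
      _ = a' * y := by rw [hya]
  have ha'1 : a' ≠ 1 := fun e => hxℓ (by rw [e]; exact one_mem _)
  have hcy : ∀ u ∈ U, fn (autOfNormalizer hyN.2) u = y * u * y⁻¹ := fun u hu => fn_cy _ (hUE hu)
  -- the torus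
  obtain ⟨t₁, ht₁⟩ : ∃ t₁, t₁ = autOfNormalizer hyN.2 := ⟨_, rfl⟩
  obtain ⟨t₂, ht₂⟩ : ∃ t₂, t₂ = x * t₁ * x⁻¹ := ⟨_, rfl⟩
  have hct : ∀ u ∈ E, fn t₁ u = y * u * y⁻¹ := fun u hu => by rw [ht₁]; exact fn_cy _ hu
  have ht₁A : t₁ ∈ F.autGroup E := by
    rw [ht₁]
    exact cy_mem hES hyN
  have ht₂A : t₂ ∈ F.autGroup E := by
    rw [ht₂]
    exact Subgroup.mul_mem _ (Subgroup.mul_mem _ hxA ht₁A) (Subgroup.inv_mem _ hxA)
  have hbot : ∀ α : MulAut E, ∀ z ∈ (⊥ : Subgroup Ω), fn α z ∈ (⊥ : Subgroup Ω) := by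
    intro α z hz
    rw [Subgroup.mem_bot] at hz ⊢
    rw [hz, fn1]
  have ht₂a : fn t₂ a' = a' := by
    rw [ht₂, fn_mul _ _ (hUE ha'U), fn_mul _ _ (fn_mem _ (hUE ha'U)), had, fn_inv_fn x (hUE h.mem), hct _ (hUE h.mem), h.cen y hyS, mul_inv_cancel_right]
  obtain ⟨w, hwd⟩ : ∃ w, w = fn x⁻¹ b := ⟨_, rfl⟩
  have hwU : w ∈ U := by
    rw [hwd]
    exact hAU _ _ hbU
  obtain ⟨c, hc⟩ := mem_zpowers_nat h.ℓp (h.act' hyS hwU)
  have hyw : y * w * y⁻¹ = w * ℓ ^ c := by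
    rw [← hc, mul_inv_cancel_left]
  have hxw : fn x w = b := by
    rw [hwd]
    exact fn_fn_inv x (hUE hbU)
  have ht₂b : fn t₂ b = b * a' ^ c := by
    rw [ht₂, fn_mul _ _ (hUE hbU), fn_mul _ _ (fn_mem _ (hUE hbU)), ← hwd, hct _ (hUE hwU), hyw,
      fn_map_mul x (hUE hwU) (E.pow_mem (hUE h.mem) c), hxw, fnp x (hUE h.mem), ← had]
  have ha'p : a' ^ p = 1 := h.ea.exp a' ha'U
  have hcd : ¬ p ∣ c := by
    rintro ⟨q, rfl⟩
    rw [pow_mul, h.ℓp, one_pow, mul_one] at hyw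
    have h1 : w ∈ zpowers ℓ := by
      refine h.mem_zpowers_of_fix hyS hyC hwU ?_
      calc y * w = y * w * y⁻¹ * y := by group
        _ = w * y := by rw [hyw]
    obtain ⟨k, rfl⟩ := mem_zpowers_nat h.ℓp h1
    rw [fnp x (hUE h.mem), ← had] at hxw
    have h2 : b ∈ zpowers a' := by
      rw [← hxw]
      exact pow_mem (mem_zpowers _) k
    have h3 := mem_zpowers_of_mem ha'p h2 hb1
    exact hxℓ ((zpowers_le).2 hbz h3)
  have ha'b : a' ∉ zpowers b := fun hin => hxℓ ((zpowers_le).2 hbz hin)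
  obtain ⟨j₁, j₂, e1, e2, -, -, -⟩ := torus (P := U) (Z := ⊥) (E := E) (p := p) bot_le hUE hp2
    (fun a ha b hb => by
      rw [Subgroup.mem_bot, h.ea.comm a ha b hb]
      group)
    (fun a ha => by
      rw [Subgroup.mem_bot]
      exact h.ea.exp a ha)
    (t₁ := t₁) (t₂ := t₂) (fun u hu => hAU _ u hu) (fun u hu => hAU _ u hu) (hbot _) (hbot _)
    (fun u hu => hAU _ u hu) (fun u hu => hAU _ u hu) (hbot _) (hbot _) hbU ha'U
    (fun u hu => by
      obtain ⟨i, j, hij⟩ := h.ea.decomp hbU hb1 ha'U ha'b hu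
      refine ⟨i, j, ?_⟩
      rw [Subgroup.mem_bot, ← hij, inv_mul_cancel])
    (by
      rw [Subgroup.mem_bot, hct _ (hUE hbU), h.cen' hyS hbz]
      group)
    (by
      rw [Subgroup.mem_bot, hct _ (hUE ha'U), hya]
      group)
    (by
      rw [Subgroup.mem_bot, ht₂a]
      group)
    hcd
    (by
      rw [Subgroup.mem_bot, ht₂b]
      group)
  rw [Subgroup.mem_bot] at e1 e2
  obtain ⟨s₁, hs₁⟩ : ∃ s₁, s₁ = t₁ * t₂ ^ j₁ * t₁ := ⟨_, rfl⟩
  rw [← hs₁] at e1 e2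
  have hs₁A : s₁ ∈ F.autGroup E := by
    rw [hs₁]
    exact Subgroup.mul_mem _ (Subgroup.mul_mem _ ht₁A (Subgroup.pow_mem _ ht₂A _)) ht₁A
  have hs₁b : fn s₁ b = a'⁻¹ := by
    have := eq_inv_of_mul_eq_one_right e1
    exact this
  have hs₁a : fn s₁ a' = b := by
    have := inv_mul_eq_one.1 e2
    exact this.symm
  -- the square inverts `U`
  obtain ⟨s₀, hs₀⟩ : ∃ s₀, s₀ = s₁ * s₁ := ⟨_, rfl⟩
  have hs₀A : s₀ ∈ F.autGroup E := by
    rw [hs₀]
    exact Subgroup.mul_mem _ hs₁A hs₁A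
  have hs₀b : fn s₀ b = b⁻¹ := by
    rw [hs₀, fn_mul _ _ (hUE hbU), hs₁b, fn_map_inv _ (hUE ha'U), hs₁a]
  have hs₀a : fn s₀ a' = a'⁻¹ := by
    rw [hs₀, fn_mul _ _ (hUE ha'U), hs₁a, hs₁b]
  have hs₀U : ∀ u ∈ U, fn s₀ u = u⁻¹ := by
    intro u hu
    obtain ⟨i, j, rfl⟩ := h.ea.decomp hbU hb1 ha'U ha'b hu
    rw [fn_map_mul _ (E.pow_mem (hUE hbU) i) (E.pow_mem (hUE ha'U) j), fnp _ (hUE hbU), fnp _ (hUE ha'U), hs₀b, hs₀a, mul_inv_rev, inv_pow, inv_pow]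
    exact h.ea.comm _ (U.inv_mem (U.pow_mem hbU i)) _ (U.inv_mem (U.pow_mem ha'U j))
  -- a `2`-element
  obtain ⟨k₂, m₂, hm₂, hordd⟩ := Nat.exists_eq_pow_mul_and_not_dvd (orderOf_pos s₀).ne' 2 (by norm_num)
  obtain ⟨β, hβd⟩ : ∃ β, β = s₀ ^ m₂ := ⟨_, rfl⟩
  have hβA : β ∈ F.autGroup E := by
    rw [hβd]
    exact Subgroup.pow_mem _ hs₀A _
  have hβ2k : β ^ 2 ^ k₂ = 1 := by
    rw [hβd, ← pow_mul, mul_comm, ← hordd, pow_orderOf_eq_one]
  have hβU : ∀ u ∈ U, fn β u = u⁻¹ := by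
    intro u hu
    obtain ⟨i, hi⟩ : ∃ i, m₂ = 2 * i + 1 := by
      have : ¬ 2 ∣ m₂ := hm₂
      exact ⟨m₂ / 2, by omega⟩
    have hev : ∀ (n : ℕ) (v : Ω), v ∈ U → fn (s₀ ^ (2 * n)) v = v := by
      intro n
      induction n with
      | zero => intro v hv; simp [fn_one (hUE hv)]
      | succ n ih =>
        intro v hv
        rw [show 2 * (n + 1) = 2 * n + 1 + 1 by ring, pow_succ, pow_succ, fn_mul _ _ (hUE hv), fn_mul _ _ (fn_mem _ (hUE hv)), hs₀U v hv,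
          hs₀U _ (U.inv_mem hv), inv_inv, ih v hv]
    rw [hβd, hi, pow_succ, fn_mul _ _ (hUE hu), hs₀U u hu, hev i _ (U.inv_mem hu)]
  -- `β` is an involution
  have hWp : IsPGroup p (WW E U U le_rfl hUE) := WW_isPGroup (hS.to_le hES) hp2 le_rfl hUE hVn hΩU
  have hββ : β * β = 1 := by
    have hmem : β * β ∈ WW E U U le_rfl hUE := by
      have hfix : ∀ l ∈ U, fn (β * β) l = l := by
        intro l hl
        rw [fn_mul _ _ (hUE hl), hβU l hl, hβU _ (U.inv_mem hl), inv_inv]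
      refine ⟨hfix, fun v hv => ?_⟩
      rw [hfix v hv, inv_mul_cancel]
      exact U.one_mem
    obtain ⟨N, hN⟩ := hWp ⟨_, hmem⟩
    have hN' : (β * β) ^ p ^ N = 1 := congrArg Subtype.val hN
    have hcop : Nat.Coprime (2 ^ k₂) p := Nat.Coprime.pow_left _ ((Nat.Prime.coprime_iff_not_dvd Nat.prime_two).2 (fun hd => hp2 ((Nat.prime_dvd_prime_iff_eq Nat.prime_two hpp).1 hd).symm))
    have h2k : (β * β) ^ 2 ^ k₂ = 1 := by
      rw [(Commute.refl β).mul_pow, hβ2k, one_mul]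
    exact NormConstr.eq_one_of_two_pows hcop h2k hN'
  -- fixed point free
  have hsq : ∀ r : Ω, r * r = 1 → r ^ p = 1 → r = 1 := by
    intro r h1 h2
    have hcop : Nat.Coprime 2 p := (Nat.Prime.coprime_iff_not_dvd Nat.prime_two).2 (fun hd => hp2 ((Nat.prime_dvd_prime_iff_eq Nat.prime_two hpp).1 hd).symm)
    exact NormConstr.eq_one_of_two_pows (k := 1) hcop (by rw [pow_two]; exact h1) (by simpa using h2)
  have hβfpf : ∀ e : E, β e = e → e = 1 := by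
    intro e he
    by_contra he1
    have he1' : (e : Ω) ≠ 1 := fun hh => he1 (Subtype.ext hh)
    obtain ⟨N, hN⟩ := hpel _ (hES e.2)
    obtain ⟨j, hj1, hj2⟩ := exists_pow_p he1' hN
    have hjE : (e : Ω) ^ p ^ j ∈ E := E.pow_mem e.2 _
    have hjU := hΩ₁ _ hjE hj2
    have hfix : fn β (e : Ω) = e := by
      rw [fn_coe, he]
    have h3 : fn β ((e : Ω) ^ p ^ j) = (e : Ω) ^ p ^ j := by
      rw [fnp β e.2, hfix]
    rw [hβU _ hjU] at h3
    apply hj1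
    refine hsq _ ?_ hj2
    nth_rewrite 1 [← h3]
    exact inv_mul_cancel _
  obtain ⟨hinvE, hcommE⟩ := fpf_invol hββ hβfpf
  have hcE : ∀ a ∈ E, ∀ b ∈ E, a * b = b * a := by
    intro a ha b hb
    have := hcommE ⟨a, ha⟩ ⟨b, hb⟩
    exact congrArg Subtype.val this
  have hβE : ∀ e ∈ E, fn β e = e⁻¹ := by
    intro e he
    rw [fn_of_mem _ he, hinvE]
    rfl
  have hyEE : ∀ e ∈ E, y * e * y⁻¹ ∈ E := fun e he => conj_mem_of_normalizer hyN.2 he
  -- exponent `p`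
  have hexp : ∀ z ∈ E, z ^ p = 1 := by
    by_contra hcon
    push Not at hcon
    obtain ⟨c₀, hc₀, hc₀1⟩ := hcon
    obtain ⟨N, hN⟩ := hpel _ (hES hc₀)
    have hN' : (c₀ ^ p) ^ p ^ N = 1 := by
      rw [← pow_mul, mul_comm, pow_mul, hN, one_pow]
    obtain ⟨j, hj1, hj2⟩ := exists_pow_p hc₀1 hN'
    obtain ⟨x₁, hx₁d⟩ : ∃ x₁, x₁ = c₀ ^ p ^ j := ⟨_, rfl⟩
    have hx₁ : x₁ ∈ E := by
      rw [hx₁d]
      exact E.pow_mem hc₀ _
    have hx₁1 : x₁ ^ p ≠ 1 := by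
      rw [hx₁d, ← pow_mul, mul_comm, pow_mul]
      exact hj1
    have hx₁2 : (x₁ ^ p) ^ p = 1 := by
      rw [hx₁d, ← pow_mul c₀ (p ^ j) p, mul_comm (p ^ j) p, pow_mul c₀ p (p ^ j)]
      exact hj2
    -- an element whose `p`-th power is outside the line
    have hx₃ : ∃ x₃ ∈ E, x₃ ^ p ∈ U ∧ x₃ ^ p ∉ zpowers ℓ := by
      by_cases hr : x₁ ^ p ∈ zpowers ℓ
      · obtain ⟨m, hm⟩ := zpowers_swap h.ℓp hr hx₁1
        refine ⟨fn x (x₁ ^ m), fn_mem x (E.pow_mem hx₁ m), ?_, ?_⟩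
        · rw [← fnp x (E.pow_mem hx₁ m), ← pow_mul, mul_comm, pow_mul, hm]
          exact hAU x ℓ h.mem
        · rw [← fnp x (E.pow_mem hx₁ m), ← pow_mul, mul_comm, pow_mul, hm, ← had]
          exact hxℓ
      · exact ⟨x₁, hx₁, hΩ₁ _ (E.pow_mem hx₁ p) hx₁2, hr⟩
    obtain ⟨x₃, hx₃E, hx₃U, hx₃z⟩ := hx₃
    -- the commutator map
    obtain ⟨D, hDd⟩ : ∃ D : Ω → Ω, D = fun g => y * g * y⁻¹ * g⁻¹ := ⟨_, rfl⟩
    have hDv : ∀ g, D g = y * g * y⁻¹ * g⁻¹ := fun g => by rw [hDd]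
    have hDE : ∀ g ∈ E, D g ∈ E := fun g hg => by
      rw [hDv]
      exact E.mul_mem (hyEE g hg) (E.inv_mem hg)
    have hT : ∀ g ∈ E, y * g * y⁻¹ = g * D g := by
      intro g hg
      rw [hDv, hcE g hg _ (E.mul_mem (hyEE g hg) (E.inv_mem hg))]
      group
    have hDp : ∀ g ∈ E, (D g) ^ p = D (g ^ p) := by
      intro g hg
      have h1 : Commute (y * g * y⁻¹) g⁻¹ := hcE _ (hyEE g hg) _ (E.inv_mem hg)
      rw [hDv, hDv, h1.mul_pow, _root_.conj_pow, inv_pow]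
    have hDz : ∀ g ∈ zpowers ℓ, D g = 1 := by
      intro g hg
      rw [hDv, h.cen' hyS hg]
      group
    have hDU : ∀ g ∈ U, D g ∈ zpowers ℓ := by
      intro g hg
      rw [hDv]
      exact h.act y hyS g hg
    obtain ⟨a, had'⟩ : ∃ a, a = D x₃ := ⟨_, rfl⟩
    have haE : a ∈ E := by
      rw [had']
      exact hDE _ hx₃E
    have hap : a ^ p = D (x₃ ^ p) := by
      rw [had', hDp _ hx₃E]
    have hap1 : a ^ p ≠ 1 := by
      rw [hap]
      intro h0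
      rw [hDv, mul_inv_eq_one] at h0
      apply hx₃z
      refine h.mem_zpowers_of_fix hyS hyC hx₃U ?_
      calc y * x₃ ^ p = y * x₃ ^ p * y⁻¹ * y := by group
        _ = x₃ ^ p * y := by rw [h0]
    have hapz : a ^ p ∈ zpowers ℓ := by
      rw [hap]
      exact hDU _ hx₃U
    obtain ⟨b₁, hb₁d⟩ : ∃ b₁, b₁ = D a := ⟨_, rfl⟩
    have hb₁E : b₁ ∈ E := by
      rw [hb₁d]
      exact hDE _ haE
    have hb₁p : b₁ ^ p = 1 := by
      rw [hb₁d, hDp _ haE, hDz _ hapz]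
    have hb₁U := hΩ₁ _ hb₁E hb₁p
    obtain ⟨c₁, hc₁d⟩ : ∃ c₁, c₁ = D b₁ := ⟨_, rfl⟩
    have hc₁z : c₁ ∈ zpowers ℓ := by
      rw [hc₁d]
      exact hDU _ hb₁U
    have hc₁E : c₁ ∈ E := hUE (hzE hc₁z)
    have hc₁p : c₁ ^ p = 1 := h.ea.exp _ (hzE hc₁z)
    have hmem : ∀ s, s ∈ ({x₃, a, b₁, c₁} : Set Ω) → s ∈ E := by
      rintro s (rfl | rfl | rfl | rfl)
      · exact hx₃E
      · exact haE
      · exact hb₁E
      · exact hc₁E
    have hiter := iter3 (T := fun g => y * g * y⁻¹) (x := x₃) (a := a) (b := b₁) (c := c₁)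
      (fun s t hs ht => hcE s (hmem s hs) t (hmem t ht)) (fun s t _ _ => by group) (by group)
      (by
        rw [had']
        exact hT _ hx₃E)
      (by
        rw [hb₁d]
        exact hT _ haE)
      (by
        rw [hc₁d]
        exact hT _ hb₁E)
      (by
        show y * c₁ * y⁻¹ = c₁
        rw [h.cen' hyS hc₁z, mul_inv_cancel_right]) p
    rw [iter_conj] at hiter
    have hyp : y ^ p ∈ E := hCE (h.pow_mem_C hyS)
    rw [hcE _ hyp _ hx₃E, mul_inv_cancel_right] at hiter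
    have hd2 : p ∣ p.choose 2 := Nat.Prime.dvd_choose_self hpp two_ne_zero (by omega)
    have hd3 : p ∣ p.choose 3 := Nat.Prime.dvd_choose_self hpp three_ne_zero (by omega)
    obtain ⟨q₂, hq₂⟩ := hd2
    obtain ⟨q₃, hq₃⟩ := hd3
    rw [hq₂, hq₃, pow_mul b₁, hb₁p, pow_mul c₁, hc₁p, one_pow, one_pow, mul_one, mul_one] at hiter
    apply hap1
    have h9 : x₃ * a ^ p = x₃ * 1 := by rw [← hiter, mul_one]
    exact mul_left_cancel h9
  have hCU : centralizerIn S U ≤ U := fun c hc => hΩ₁ c (hCE hc) (hexp c (hCE hc))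
  have hUC : U ≤ centralizerIn S U := fun u hu => mem_cS.2 ⟨h.le hu, fun v hv => h.ea.comm u hu v hv⟩
  -- extension of the inversion
  have hβinv : β⁻¹ = β := inv_eq_of_mul_eq_one_left hββ
  have hβcy : β * t₁ * β⁻¹ = t₁ := by
    apply fn_ext
    intro e he
    rw [hβinv, fn_mul _ _ he, fn_mul _ _ (fn_mem _ he), hβE e he, hct _ (E.inv_mem he), hβE _ (hyEE _ (E.inv_mem he)), hct _ he]
    group
  obtain ⟨ψ, hψ, hψv, hyR⟩ := exists_ext_over (n := β) hS hF hfn hβA hyS hyN.2 (by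
    rw [← ht₁, hβcy, ht₁]
    exact autOfNormalizer_mem_autInducedBy hyN.2 hyS)
  have hf := isMapOn_toFun hψ
  obtain ⟨f, hfd⟩ : ∃ f, f = toFun ψ := ⟨_, rfl⟩
  rw [← hfd] at hf
  have hER := le_extender (autGroup_hom hES hβA)
  have hfE : ∀ e ∈ E, f e = e⁻¹ := by
    intro e he
    rw [hfd, toFun_of_mem _ (hER he), hψv ⟨e, he⟩, hinvE]
    rfl
  have hfyS : f y ∈ S := hf.mem_S hyR
  obtain ⟨w₁, hw₁d⟩ : ∃ w₁, w₁ = y⁻¹ * f y := ⟨_, rfl⟩
  have hw₁C : w₁ ∈ centralizerIn S U := by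
    refine mem_cS.2 ⟨?_, fun u hu => ?_⟩
    · rw [hw₁d]
      exact S.mul_mem (S.inv_mem hyS) hfyS
    · have huE := hUE hu
      have h3 := hf.map_conj hyR (hER (E.inv_mem huE))
      rw [hfE _ (hyEE _ (E.inv_mem huE)), hfE _ (E.inv_mem huE), inv_inv] at h3
      have h4 : f y * u = y * u * y⁻¹ * f y := by
        have h5 : y * u * y⁻¹ = f y * u * (f y)⁻¹ := by
          rw [← h3]
          group
        rw [h5]
        group
      rw [hw₁d]
      calc y⁻¹ * f y * u = y⁻¹ * (f y * u) := by group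
        _ = y⁻¹ * (y * u * y⁻¹ * f y) := by rw [h4]
        _ = u * (y⁻¹ * f y) := by group
  have hw₁U := hCU hw₁C
  obtain ⟨v, hvd⟩ : ∃ v, v = w₁ ^ ((p + 1) / 2) := ⟨_, rfl⟩
  have hvU : v ∈ U := by
    rw [hvd]
    exact U.pow_mem hw₁U _
  have hvv : v * v = w₁ := by
    have hodd : Odd p := hpp.odd_of_ne_two hp2
    have h2m : (p + 1) / 2 + (p + 1) / 2 = p + 1 := by
      obtain ⟨k, hk⟩ := hodd
      rw [hk]
      omega
    rw [hvd, ← pow_add, h2m, pow_succ, h.ea.exp _ hw₁U, one_mul]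
  obtain ⟨y', hy'd⟩ : ∃ y', y' = y * v := ⟨_, rfl⟩
  have hy'S : y' ∈ S := by
    rw [hy'd]
    exact S.mul_mem hyS (h.le hvU)
  have hy'R : y' ∈ extender S E (E.subtype.comp β.toMonoidHom) := by
    rw [hy'd]
    exact Subgroup.mul_mem _ hyR (hER (hUE hvU))
  have hfy' : f y' = y' := by
    have h6 : f y = y * w₁ := by
      rw [hw₁d, mul_inv_cancel_left]
    rw [hy'd, hf.map_mul hyR (hER (hUE hvU)), hfE _ (hUE hvU), h6, ← hvv]
    group
  have hrC := h.pow_mem_C hy'S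
  have hrU := hCU hrC
  have hr1 : y' ^ p = 1 := by
    have h7 := mapOn_pow hf hy'R p
    rw [hfy', hfE _ (hUE hrU)] at h7
    refine hsq _ ?_ (h.ea.exp _ hrU)
    nth_rewrite 1 [← h7]
    exact inv_mul_cancel _
  have hy'C : y' ∉ centralizerIn S U := by
    intro hc
    apply hyC
    have := (centralizerIn S U).mul_mem hc ((centralizerIn S U).inv_mem (hUC hvU))
    rwa [hy'd, mul_inv_cancel_right] at this
  exact hnotE (h.final_ext hp2 hCU hy'S hy'C hr1)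

end Cfsg.Agent.Lib.Fusion2.RK
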