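import Cfsg.Agent.Lib.Fusion2.RK3

/-!
# Rank two `p`-groups: two conjugates of `U` and their product
-/

set_option autoImplicit false
set_option linter.unusedSectionVars false
set_option linter.style.haveILetI false

namespace Cfsg.Agent.Lib.Fusion2.RK

open Cfsg Cfsg.FusionSystem Cfsg.Agent.Lib.Fusion Subgroup

universe u

variable {Ω : Type u} [Group Ω] {p : ℕ} [hp : Fact p.Prime]

/-- The image of a subgroup under an automorphism of `E`. -/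
noncomputable def img {E : Subgroup Ω} (α : MulAut E) (U : Subgroup Ω) : Subgroup Ω := (U.subgroupOf E).map (E.subtype.comp α.toMonoidHom)

theorem mem_img {E U : Subgroup Ω} {α : MulAut E} (hU : U ≤ E) {w : Ω} : w ∈ img α U ↔ ∃ u ∈ U, fn α u = w := by
  constructor
  · rintro ⟨x, hx, rfl⟩
    exact ⟨x, Subgroup.mem_subgroupOf.1 hx, fn_coe α x⟩
  · rintro ⟨u, hu, rfl⟩
    exact ⟨⟨u, hU hu⟩, Subgroup.mem_subgroupOf.2 hu, (fn_of_mem α (hU hu)).symm⟩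

theorem card_img {E U : Subgroup Ω} {α : MulAut E} (hU : U ≤ E) : Nat.card (img α U) = Nat.card U := by
  have hinj : Function.Injective (E.subtype.comp α.toMonoidHom) := by
    intro a b hab
    apply α.injective
    exact Subtype.ext hab
  have h1 : Nat.card (img α U) = Nat.card (U.subgroupOf E) :=
    Nat.card_congr (Subgroup.equivMapOfInjective _ _ hinj).symm.toEquiv
  rw [h1]
  exact Nat.card_congr (subgroupOfEquivOfLe hU).toEquiv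

/-- A normal four-group with a central line, on which `E` acts non trivially. -/
structure Adm (E U : Subgroup Ω) (p : ℕ) (ℓ : Ω) : Prop where
  ea : EA p U
  le : U ≤ E
  nor : ∀ e ∈ E, ∀ u ∈ U, e * u * e⁻¹ ∈ U
  mem : ℓ ∈ U
  ne : ℓ ≠ 1
  cen : ∀ e ∈ E, e * ℓ = ℓ * e
  act : ∀ e ∈ E, ∀ u ∈ U, e * u * e⁻¹ * u⁻¹ ∈ zpowers ℓ
  ng : ∃ g ∈ E, ∀ u ∈ U, g * u = u * g → u ∈ zpowers ℓ

theorem UD.adm {S U E : Subgroup Ω} {ℓ g : Ω} (h : UD S U p ℓ) (hUE : U ≤ E) (hES : E ≤ S) (hg : g ∈ E) (hgC : g ∉ centralizerIn S U) : Adm E U p ℓ :=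
  ⟨h.ea, hUE, fun e he u hu => h.nor e (hES he) u hu, h.mem, h.ne, fun e he => h.cen e (hES he), fun e he u hu => h.act e (hES he) u hu,
    g, hg, fun _ hu hf => h.mem_zpowers_of_fix (hES hg) hgC hu hf⟩

namespace Adm

variable {E U U₁ U₂ : Subgroup Ω} {ℓ ℓ₁ ℓ₂ : Ω}

theorem ℓp (h : Adm E U p ℓ) : ℓ ^ p = 1 := h.ea.exp ℓ h.mem

theorem zle (h : Adm E U p ℓ) : zpowers ℓ ≤ U := (zpowers_le).2 h.mem

theorem cen' (h : Adm E U p ℓ) {g : Ω} (hg : g ∈ E) {c : Ω} (hc : c ∈ zpowers ℓ) : g * c = c * g := by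
  obtain ⟨k, rfl⟩ := mem_zpowers_nat h.ℓp hc
  exact ((Commute.pow_right (h.cen g hg : Commute g ℓ) k).eq)

theorem map (h : Adm E U p ℓ) (α : MulAut E) : Adm E (img α U) p (fn α ℓ) := by
  have hU := h.le
  have hmem : ∀ {w : Ω}, w ∈ img α U ↔ ∃ u ∈ U, fn α u = w := mem_img hU
  refine ⟨⟨?_, ?_, ?_⟩, ?_, ?_, ?_, ?_, ?_, ?_, ?_⟩
  · intro a' ha' b' hb'
    obtain ⟨a, ha, rfl⟩ := hmem.1 ha'
    obtain ⟨b, hb, rfl⟩ := hmem.1 hb'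
    rw [← fn_map_mul α (hU ha) (hU hb), ← fn_map_mul α (hU hb) (hU ha), h.ea.comm a ha b hb]
  · intro a' ha'
    obtain ⟨a, ha, rfl⟩ := hmem.1 ha'
    rw [← fnp α (hU ha), h.ea.exp a ha, fn1]
  · rw [card_img hU, h.ea.card]
  · intro w hw
    obtain ⟨a, ha, rfl⟩ := hmem.1 hw
    exact fn_mem α (hU ha)
  · intro e he w hw
    obtain ⟨a, ha, rfl⟩ := hmem.1 hw
    refine hmem.2 ⟨fn α⁻¹ e * a * (fn α⁻¹ e)⁻¹, h.nor _ (fn_mem _ he) a ha, ?_⟩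
    have he' := fn_mem α⁻¹ he
    rw [fn_map_mul α (E.mul_mem he' (hU ha)) (E.inv_mem he'), fn_map_mul α he' (hU ha), fn_map_inv α he', fn_fn_inv α he]
  · exact hmem.2 ⟨ℓ, h.mem, rfl⟩
  · intro h0
    apply h.ne
    exact fn_inj α (hU h.mem) E.one_mem (by rw [h0, fn1])
  · intro e he
    have he' := fn_mem α⁻¹ he
    have h1 := congrArg (fn α) (h.cen _ he')
    rwa [fn_map_mul α he' (hU h.mem), fn_map_mul α (hU h.mem) he', fn_fn_inv α he] at h1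
  · intro e he w hw
    obtain ⟨a, ha, rfl⟩ := hmem.1 hw
    have he' := fn_mem α⁻¹ he
    obtain ⟨k, hk⟩ := mem_zpowers_nat h.ℓp (h.act _ he' a ha)
    have h1 := congrArg (fn α) hk
    have haE := hU ha
    rw [fn_map_mul α (E.mul_mem (E.mul_mem he' haE) (E.inv_mem he')) (E.inv_mem haE), fn_map_mul α (E.mul_mem he' haE) (E.inv_mem he'),
      fn_map_mul α he' haE, fn_map_inv α he', fn_map_inv α haE, fn_fn_inv α he, fnp α (hU h.mem)] at h1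
    rw [h1]
    exact pow_mem (mem_zpowers _) k
  · obtain ⟨g, hg, hgv⟩ := h.ng
    refine ⟨fn α g, fn_mem α hg, fun w hw hf => ?_⟩
    obtain ⟨a, ha, rfl⟩ := hmem.1 hw
    rw [← fn_map_mul α hg (hU ha), ← fn_map_mul α (hU ha) hg] at hf
    have h1 := fn_inj α (E.mul_mem hg (hU ha)) (E.mul_mem (hU ha) hg) hf
    obtain ⟨k, rfl⟩ := mem_zpowers_nat h.ℓp (hgv a ha h1)
    rw [fnp α (hU h.mem)]
    exact pow_mem (mem_zpowers _) k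

theorem half (h₁ : Adm E U₁ p ℓ₁) (h₂ : Adm E U₂ p ℓ₂) (hne : U₁ ≠ U₂) {z : Ω} (hz₁ : z ∈ U₁) (hz₂ : z ∈ U₂) : z ∈ zpowers ℓ₁ := by
  by_contra hzn
  obtain ⟨g, hg, hgv⟩ := h₁.ng
  have hcz := h₁.act g hg z hz₁
  have hc1 : g * z * g⁻¹ * z⁻¹ ≠ 1 := by
    intro h0
    rw [mul_inv_eq_one] at h0
    apply hzn
    apply hgv z hz₁
    calc g * z = g * z * g⁻¹ * g := by group
      _ = z * g := by rw [h0]
  have hcU : g * z * g⁻¹ * z⁻¹ ∈ U₂ := U₂.mul_mem (h₂.nor g hg z hz₂) (U₂.inv_mem hz₂)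
  have h3 := mem_zpowers_of_mem h₁.ℓp hcz hc1
  have h4 : ℓ₁ ∈ U₂ := (zpowers_le).2 hcU h3
  have h5 : U₁ ≤ U₂ := by
    intro x hx
    obtain ⟨i, j, rfl⟩ := h₁.ea.decomp h₁.mem h₁.ne hz₁ hzn hx
    exact U₂.mul_mem (U₂.pow_mem h4 i) (U₂.pow_mem hz₂ j)
  haveI := h₂.ea.finite
  exact hne (eq_of_le_of_card_ge h5 (by rw [h₁.ea.card, h₂.ea.card]))

variable {S : Subgroup Ω} [Finite S]

theorem common (hrk : Rk S p) (hES : E ≤ S) (h₁ : Adm E U₁ p ℓ₁) (h₂ : Adm E U₂ p ℓ₂) (hne : U₁ ≠ U₂) : ∃ z ∈ U₁, z ∈ U₂ ∧ z ≠ 1 := by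
  by_contra hcon
  push Not at hcon
  have hcm : ∀ a ∈ U₁, ∀ b ∈ U₂, a * b = b * a := by
    intro a ha b hb
    have h1 : a * b * a⁻¹ * b⁻¹ = 1 := by
      refine hcon _ ?_ ?_
      · have := U₁.mul_mem ha (h₁.nor b (h₂.le hb) _ (U₁.inv_mem ha))
        simpa [mul_assoc] using this
      · exact U₂.mul_mem (h₂.nor a (h₁.le ha) b hb) (U₂.inv_mem hb)
    calc a * b = a * b * a⁻¹ * b⁻¹ * (b * a) := by group
      _ = b * a := by rw [h1, one_mul]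
  have h3 := subset_of_elem (T := (U₁ : Set Ω) ∪ U₂) hrk h₁.ea
    (by
      rintro x (hx | hx)
      · exact hES (h₁.le hx)
      · exact hES (h₂.le hx))
    Set.subset_union_left
    (by
      rintro a (ha | ha) b (hb | hb)
      · exact h₁.ea.comm a ha b hb
      · exact hcm a ha b hb
      · exact (hcm b hb a ha).symm
      · exact h₂.ea.comm a ha b hb)
    (by
      rintro a (ha | ha)
      · exact h₁.ea.exp a ha
      · exact h₂.ea.exp a ha)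
  have h5 : U₂ ≤ U₁ := fun x hx => h3 (Or.inr hx)
  haveI := h₁.ea.finite
  exact hne (eq_of_le_of_card_ge h5 (by rw [h₁.ea.card, h₂.ea.card])).symm

theorem line_mem (hrk : Rk S p) (hES : E ≤ S) (h₁ : Adm E U₁ p ℓ₁) (h₂ : Adm E U₂ p ℓ₂) : ℓ₁ ∈ zpowers ℓ₂ := by
  by_cases hne : U₁ = U₂
  · subst hne
    obtain ⟨g, hg, hgv⟩ := h₂.ng
    exact hgv ℓ₁ h₁.mem (h₁.cen g hg)
  · obtain ⟨z, hz₁, hz₂, hz1⟩ := common hrk hES h₁ h₂ hne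
    have h3 := half h₁ h₂ hne hz₁ hz₂
    have h4 := half h₂ h₁ (Ne.symm hne) hz₂ hz₁
    exact (zpowers_le).2 h4 (mem_zpowers_of_mem h₁.ℓp h3 hz1)

theorem with_line (h₂ : Adm E U₂ p ℓ₂) {ℓ : Ω} (h1 : ℓ ∈ zpowers ℓ₂) (h2 : ℓ₂ ∈ zpowers ℓ) (hℓ : ℓ ≠ 1) : Adm E U₂ p ℓ := by
  have he : zpowers ℓ = zpowers ℓ₂ := le_antisymm ((zpowers_le).2 h1) ((zpowers_le).2 h2)
  refine ⟨h₂.ea, h₂.le, h₂.nor, h₂.zle h1, hℓ, fun e he' => h₂.cen' he' h1, fun e he' u hu => ?_, ?_⟩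
  · rw [he]
    exact h₂.act e he' u hu
  · obtain ⟨g, hg, hgv⟩ := h₂.ng
    refine ⟨g, hg, fun u hu hf => ?_⟩
    rw [he]
    exact hgv u hu hf

end Adm

/-- The two conjugates of `U` and their product. -/
structure CD (E U U' P : Subgroup Ω) (p : ℕ) (ℓ u v : Ω) : Prop where
  h₁ : Adm E U p ℓ
  h₂ : Adm E U' p ℓ
  inter : ∀ z ∈ U, z ∈ U' → z ∈ zpowers ℓ
  memP : ∀ x, x ∈ P ↔ ∃ a ∈ U, ∃ b ∈ U', a * b = x
  hu : u ∈ U
  hv : v ∈ U'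
  hc : u * v * u⁻¹ * v⁻¹ ≠ 1

/-- The product of two subgroups, the second normalized by the first. -/
def prd (U U' : Subgroup Ω) (h : ∀ a ∈ U, ∀ b ∈ U', a * b * a⁻¹ ∈ U') : Subgroup Ω where
  carrier := {x | ∃ a ∈ U, ∃ b ∈ U', a * b = x}
  one_mem' := ⟨1, U.one_mem, 1, U'.one_mem, by simp⟩
  mul_mem' := by
    rintro _ _ ⟨a, ha, b, hb, rfl⟩ ⟨a₁, ha₁, b₁, hb₁, rfl⟩
    refine ⟨a * a₁, U.mul_mem ha ha₁, a₁⁻¹ * b * a₁⁻¹⁻¹ * b₁, U'.mul_mem (h _ (U.inv_mem ha₁) b hb) hb₁, ?_⟩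
    group
  inv_mem' := by
    rintro _ ⟨a, ha, b, hb, rfl⟩
    refine ⟨a⁻¹, U.inv_mem ha, a * b⁻¹ * a⁻¹, h a ha _ (U'.inv_mem hb), ?_⟩
    group

variable {S : Subgroup Ω} [Finite S]

theorem exists_CD {E U U' : Subgroup Ω} {ℓ : Ω} (hrk : Rk S p) (hES : E ≤ S) (h₁ : Adm E U p ℓ) (h₂ : Adm E U' p ℓ) (hne : U ≠ U') :
    ∃ P u v, CD E U U' P p ℓ u v := by
  have hcm : ∃ a ∈ U, ∃ b ∈ U', a * b * a⁻¹ * b⁻¹ ≠ 1 := by
    by_contra hcon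
    push Not at hcon
    have h3 := subset_of_elem (T := (U : Set Ω) ∪ U') hrk h₁.ea
      (by
        rintro x (hx | hx)
        · exact hES (h₁.le hx)
        · exact hES (h₂.le hx))
      Set.subset_union_left
      (by
        have hcm : ∀ a ∈ U, ∀ b ∈ U', a * b = b * a := by
          intro a ha b hb
          calc a * b = a * b * a⁻¹ * b⁻¹ * (b * a) := by group
            _ = b * a := by rw [hcon a ha b hb, one_mul]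
        rintro a (ha | ha) b (hb | hb)
        · exact h₁.ea.comm a ha b hb
        · exact hcm a ha b hb
        · exact (hcm b hb a ha).symm
        · exact h₂.ea.comm a ha b hb)
      (by
        rintro a (ha | ha)
        · exact h₁.ea.exp a ha
        · exact h₂.ea.exp a ha)
    have h5 : U' ≤ U := fun x hx => h3 (Or.inr hx)
    haveI := h₁.ea.finite
    exact hne (eq_of_le_of_card_ge h5 (by rw [h₁.ea.card, h₂.ea.card])).symm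
  obtain ⟨u, hu, v, hv, hc⟩ := hcm
  exact ⟨prd U U' (fun a ha b hb => h₂.nor a (h₁.le ha) b hb), u, v, h₁, h₂, fun z hz₁ hz₂ => Adm.half h₁ h₂ hne hz₁ hz₂, fun x => Iff.rfl, hu, hv, hc⟩

namespace CD

variable {E U U' P : Subgroup Ω} {ℓ u v : Ω}

theorem ℓp (h : CD E U U' P p ℓ u v) : ℓ ^ p = 1 := h.h₁.ℓp

theorem cZ (h : CD E U U' P p ℓ u v) {e c : Ω} (he : e ∈ E) (hc : c ∈ zpowers ℓ) : e * c = c * e := h.h₁.cen' he hc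

theorem U_le (h : CD E U U' P p ℓ u v) : U ≤ P := fun a ha => (h.memP a).2 ⟨a, ha, 1, U'.one_mem, mul_one a⟩

theorem U'_le (h : CD E U U' P p ℓ u v) : U' ≤ P := fun b hb => (h.memP b).2 ⟨1, U.one_mem, b, hb, one_mul b⟩

theorem Z_le (h : CD E U U' P p ℓ u v) : zpowers ℓ ≤ P := h.h₁.zle.trans h.U_le

theorem le (h : CD E U U' P p ℓ u v) : P ≤ E := by
  intro x hx
  obtain ⟨a, ha, b, hb, rfl⟩ := (h.memP x).1 hx
  exact E.mul_mem (h.h₁.le ha) (h.h₂.le hb)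

/-- `[a, b] ∈ Z` for `a ∈ U`, `b ∈ U'`. -/
theorem com_mem (h : CD E U U' P p ℓ u v) {a b : Ω} (ha : a ∈ U) (hb : b ∈ U') : a * b * a⁻¹ * b⁻¹ ∈ zpowers ℓ := by
  refine h.inter _ ?_ ?_
  · have := U.mul_mem ha (h.h₁.nor b (h.h₂.le hb) _ (U.inv_mem ha))
    simpa [mul_assoc] using this
  · exact U'.mul_mem (h.h₂.nor a (h.h₁.le ha) b hb) (U'.inv_mem hb)

theorem z_gen (h : CD E U U' P p ℓ u v) : ∃ m : ℕ, (u * v * u⁻¹ * v⁻¹) ^ m = ℓ := zpowers_swap h.ℓp (h.com_mem h.hu h.hv) h.hc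

theorem not_dvd_of_pow (h : CD E U U' P p ℓ u v) {j : ℕ} (hj : (u * v * u⁻¹ * v⁻¹) ^ j = 1) : p ∣ j := by
  have h1 : (u * v * u⁻¹ * v⁻¹) ^ p = 1 := h.h₁.ea.exp _ (h.h₁.zle (h.com_mem h.hu h.hv))
  rw [← orderOf_eq_prime h1 h.hc]
  exact orderOf_dvd_of_pow_eq_one hj

theorem u_not (h : CD E U U' P p ℓ u v) : u ∉ zpowers ℓ := by
  intro hz
  apply h.hc
  have := h.cZ (h.h₂.le h.hv) hz
  rw [← this]
  group

theorem v_not (h : CD E U U' P p ℓ u v) : v ∉ zpowers ℓ := by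
  intro hz
  apply h.hc
  have := h.cZ (h.h₁.le h.hu) hz
  rw [this]
  group

theorem decU (h : CD E U U' P p ℓ u v) {a : Ω} (ha : a ∈ U) : ∃ i j : ℕ, a = ℓ ^ i * u ^ j :=
  h.h₁.ea.decomp h.h₁.mem h.h₁.ne h.hu h.u_not ha

theorem decV (h : CD E U U' P p ℓ u v) {a : Ω} (ha : a ∈ U') : ∃ i j : ℕ, a = ℓ ^ i * v ^ j :=
  h.h₂.ea.decomp h.h₂.mem h.h₂.ne h.hv h.v_not ha

theorem exp (h : CD E U U' P p ℓ u v) (hp2 : p ≠ 2) {x : Ω} (hx : x ∈ P) : x ^ p = 1 := by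
  have hpp := hp.out
  obtain ⟨a, ha, b, hb, rfl⟩ := (h.memP x).1 hx
  have hc : b * a * b⁻¹ * a⁻¹ ∈ zpowers ℓ := h.h₁.act b (h.h₂.le hb) a ha
  have h1 := pow_class2 (u := a) (z := b) (c := b * a * b⁻¹ * a⁻¹) ((h.cZ (h.h₂.le hb) hc).symm) ((h.cZ (h.h₁.le ha) hc).symm) (by group) p
  have hdvd : p ∣ p.choose 2 := Nat.Prime.dvd_choose_self hpp two_ne_zero (lt_of_le_of_ne hpp.two_le hp2.symm)
  obtain ⟨q, hq⟩ := hdvd
  rw [h1, h.h₁.ea.exp a ha, h.h₂.ea.exp b hb, hq, pow_mul, h.h₁.ea.exp _ (h.h₁.zle hc), one_pow, one_mul, mul_one]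

theorem act (h : CD E U U' P p ℓ u v) {e x : Ω} (he : e ∈ E) (hx : x ∈ P) : e * x * e⁻¹ * x⁻¹ ∈ zpowers ℓ := by
  obtain ⟨a, ha, b, hb, rfl⟩ := (h.memP x).1 hx
  have h1 := h.h₁.act e he a ha
  have h2 := h.h₂.act e he b hb
  have h3 : (e * a * e⁻¹ * a⁻¹) * (e * b * e⁻¹ * b⁻¹) = e * (a * b) * e⁻¹ * (a * b)⁻¹ := by
    have h4 := h.cZ (h.h₁.le ha) h2
    calc (e * a * e⁻¹ * a⁻¹) * (e * b * e⁻¹ * b⁻¹) = e * a * e⁻¹ * a⁻¹ * ((e * b * e⁻¹ * b⁻¹) * a) * a⁻¹ := by group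
      _ = e * a * e⁻¹ * a⁻¹ * (a * (e * b * e⁻¹ * b⁻¹)) * a⁻¹ := by rw [h4]
      _ = _ := by group
  rw [← h3]
  exact Subgroup.mul_mem _ h1 h2

theorem nor (h : CD E U U' P p ℓ u v) {e x : Ω} (he : e ∈ E) (hx : x ∈ P) : e * x * e⁻¹ ∈ P := by
  have := P.mul_mem (h.Z_le (h.act he hx)) hx
  simpa using this

theorem comm_P (h : CD E U U' P p ℓ u v) {w : Ω} (hw : w ∈ E) (hu : w * u = u * w) (hv : w * v = v * w) {x : Ω} (hx : x ∈ P) : w * x = x * w := by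
  obtain ⟨a, ha, b, hb, rfl⟩ := (h.memP x).1 hx
  obtain ⟨i, j, rfl⟩ := h.decU ha
  obtain ⟨k, l, rfl⟩ := h.decV hb
  have hℓ : Commute w ℓ := h.h₁.cen w hw
  have hu' : Commute w u := hu
  have hv' : Commute w v := hv
  exact (((hℓ.pow_right i).mul_right (hu'.pow_right j)).mul_right ((hℓ.pow_right k).mul_right (hv'.pow_right l))).eq

theorem inner_gen (h : CD E U U' P p ℓ u v) {c₁ c₂ : Ω} (hc₁ : c₁ ∈ zpowers ℓ) (hc₂ : c₂ ∈ zpowers ℓ) :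
    ∃ r ∈ P, r * u * r⁻¹ = c₁ * u ∧ r * v * r⁻¹ = c₂ * v := by
  have hpp := hp.out
  obtain ⟨z, hzd⟩ : ∃ z, z = u * v * u⁻¹ * v⁻¹ := ⟨_, rfl⟩
  obtain ⟨m, hm⟩ := h.z_gen
  rw [← hzd] at hm
  have huE := h.h₁.le h.hu
  have hvE := h.h₂.le h.hv
  have hzZ : z ∈ zpowers ℓ := by
    rw [hzd]
    exact h.com_mem h.hu h.hv
  have hzp : z ^ p = 1 := h.h₁.ea.exp _ (h.h₁.zle hzZ)
  obtain ⟨k₁, rfl⟩ := mem_zpowers_nat h.ℓp hc₁
  obtain ⟨k₂, rfl⟩ := mem_zpowers_nat h.ℓp hc₂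
  have h1 : ℓ ^ k₁ = z ^ (m * k₁) := by
    rw [pow_mul, hm]
  have h2 : ℓ ^ k₂ = z ^ (m * k₂) := by
    rw [pow_mul, hm]
  rw [h1, h2]
  have hzv : z * v = v * z := (h.cZ hvE hzZ).symm
  have hzi : z⁻¹ * v = v * z⁻¹ := by
    have : Commute z v := hzv
    exact this.inv_left.eq
  have hzu : z * u = u * z := (h.cZ huE hzZ).symm
  have e1 : v * u * v⁻¹ = z⁻¹ * u := by
    rw [hzd]
    group
  have e2 : u * v * u⁻¹ = z * v := by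
    rw [hzd]
    group
  have hi : (z⁻¹) ^ ((p - 1) * (m * k₁)) = z ^ (m * k₁) := by
    have h3 : (z⁻¹) ^ (p - 1) = z := by
      rw [inv_pow]
      apply inv_eq_of_mul_eq_one_left
      rw [← pow_succ', Nat.sub_add_cancel hpp.one_le, hzp]
    rw [pow_mul, h3]
  have c1 := conj_pow (z := v) (u := u) (c := z⁻¹) hzi e1 ((p - 1) * (m * k₁))
  have c2 := conj_pow (z := u) (u := v) (c := z) hzu e2 (m * k₂)
  rw [hi] at c1
  obtain ⟨A, hAd⟩ : ∃ A, A = v ^ ((p - 1) * (m * k₁)) := ⟨_, rfl⟩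
  obtain ⟨B, hBd⟩ : ∃ B, B = u ^ (m * k₂) := ⟨_, rfl⟩
  rw [← hAd] at c1
  rw [← hBd] at c2
  have hAE : A ∈ E := by
    rw [hAd]
    exact E.pow_mem hvE _
  have hBu : B * u = u * B := by
    rw [hBd]
    exact (Commute.pow_self u _).eq
  have hAv : A * v = v * A := by
    rw [hAd]
    exact (Commute.pow_self v _).eq
  have hzA : z ^ (m * k₂) * A = A * z ^ (m * k₂) := ((h.cZ hAE (pow_mem hzZ _)).symm)
  refine ⟨A * B, P.mul_mem (by rw [hAd]; exact P.pow_mem (h.U'_le h.hv) _) (by rw [hBd]; exact P.pow_mem (h.U_le h.hu) _), ?_, ?_⟩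
  · rw [← c1]
    calc A * B * u * (A * B)⁻¹ = A * (B * u) * B⁻¹ * A⁻¹ := by group
      _ = A * (u * B) * B⁻¹ * A⁻¹ := by rw [hBu]
      _ = _ := by group
  · have e5 : B * v = z ^ (m * k₂) * v * B := by
      rw [← c2]
      group
    calc A * B * v * (A * B)⁻¹ = A * (B * v) * B⁻¹ * A⁻¹ := by group
      _ = A * (z ^ (m * k₂) * v * B) * B⁻¹ * A⁻¹ := by rw [e5]
      _ = (A * z ^ (m * k₂)) * v * A⁻¹ := by group
      _ = (z ^ (m * k₂) * A) * v * A⁻¹ := by rw [hzA]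
      _ = z ^ (m * k₂) * (A * v) * A⁻¹ := by group
      _ = z ^ (m * k₂) * (v * A) * A⁻¹ := by rw [hAv]
      _ = _ := by group

theorem inner (h : CD E U U' P p ℓ u v) {e : Ω} (he : e ∈ E) : ∃ r ∈ P, ∀ x ∈ P, (r⁻¹ * e) * x = x * (r⁻¹ * e) := by
  obtain ⟨r, hr, hr1, hr2⟩ := h.inner_gen (h.h₁.act e he u h.hu) (h.h₂.act e he v h.hv)
  refine ⟨r, hr, fun x hx => ?_⟩
  refine h.comm_P (E.mul_mem (E.inv_mem (h.le hr)) he) ?_ ?_ hx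
  · have e1 : r * u * r⁻¹ = e * u * e⁻¹ := by
      rw [hr1]
      group
    have e3 : e * u = r * u * r⁻¹ * e := by
      rw [e1]
      group
    calc r⁻¹ * e * u = r⁻¹ * (e * u) := by group
      _ = r⁻¹ * (r * u * r⁻¹ * e) := by rw [e3]
      _ = _ := by group
  · have e1 : r * v * r⁻¹ = e * v * e⁻¹ := by
      rw [hr2]
      group
    have e3 : e * v = r * v * r⁻¹ * e := by
      rw [e1]
      group
    calc r⁻¹ * e * v = r⁻¹ * (e * v) := by group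
      _ = r⁻¹ * (r * v * r⁻¹ * e) := by rw [e3]
      _ = _ := by group

/-- Automorphisms trivial on `Z` and `P/Z` are inner when `P = E`. -/
theorem inn_of_ww (h : CD E U U' P p ℓ u v) (hEP : E ≤ P) {α : MulAut E} (hα : α ∈ WW E (zpowers ℓ) P h.Z_le h.le) : α ∈ Inn E := by
  have huP := h.U_le h.hu
  have hvP := h.U'_le h.hv
  have huE := h.le huP
  have hvE := h.le hvP
  have h1 := hα.2 u huP
  have h2 := hα.2 v hvP
  have h3 : fn α u = (fn α u * u⁻¹) * u := by group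
  have h4 : fn α v = (fn α v * v⁻¹) * v := by group
  have hc₁ : fn α u * u⁻¹ ∈ zpowers ℓ := by
    have : fn α u * u⁻¹ = u * (u⁻¹ * fn α u) * u⁻¹ := by group
    rw [this, h.cZ huE h1]
    simpa using h1
  have hc₂ : fn α v * v⁻¹ ∈ zpowers ℓ := by
    have : fn α v * v⁻¹ = v * (v⁻¹ * fn α v) * v⁻¹ := by group
    rw [this, h.cZ hvE h2]
    simpa using h2
  obtain ⟨r, hr, hr1, hr2⟩ := h.inner_gen hc₁ hc₂
  rw [← h3] at hr1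
  rw [← h4] at hr2
  have hrE := h.le hr
  have hℓr : r * ℓ * r⁻¹ = ℓ := by
    rw [h.h₁.cen r hrE, mul_inv_cancel_right]
  refine ⟨⟨r, hrE⟩, fn_ext (fun x hx => ?_)⟩
  have hxP := hEP hx
  have hval : fn (MulAut.conj (⟨r, hrE⟩ : E)) x = r * x * r⁻¹ := by
    rw [fn_of_mem _ hx]
    rfl
  rw [hval]
  obtain ⟨a, ha, b, hb, rfl⟩ := (h.memP x).1 hxP
  obtain ⟨i, j, rfl⟩ := h.decU ha
  obtain ⟨k, l, rfl⟩ := h.decV hb
  have hℓE := h.le (h.Z_le (mem_zpowers ℓ))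
  have hαℓ : fn α ℓ = ℓ := hα.1 ℓ (mem_zpowers ℓ)
  rw [fn_map_mul α (E.mul_mem (E.pow_mem hℓE i) (E.pow_mem huE j)) (E.mul_mem (E.pow_mem hℓE k) (E.pow_mem hvE l)),
    fn_map_mul α (E.pow_mem hℓE i) (E.pow_mem huE j), fn_map_mul α (E.pow_mem hℓE k) (E.pow_mem hvE l), fnp α hℓE, fnp α huE, fnp α hℓE, fnp α hvE, hαℓ,
    ← hr1, ← hr2, _root_.conj_pow, _root_.conj_pow]
  have h5 : ∀ n : ℕ, r * ℓ ^ n * r⁻¹ = ℓ ^ n := by
    intro n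
    rw [← _root_.conj_pow, hℓr]
  calc r * (ℓ ^ i * u ^ j * (ℓ ^ k * v ^ l)) * r⁻¹ = (r * ℓ ^ i * r⁻¹) * (r * u ^ j * r⁻¹) * ((r * ℓ ^ k * r⁻¹) * (r * v ^ l * r⁻¹)) := by group
    _ = _ := by rw [h5, h5]

section Rank

variable (hrk : Rk S p) (hES : E ≤ S)
include hrk hES

/-- An element of `E` of order `p` centralizing `P` lies in `Z`. -/
theorem mem_Z (h : CD E U U' P p ℓ u v) {w : Ω} (hw : w ∈ E) (hwp : w ^ p = 1) (hwc : ∀ x ∈ P, w * x = x * w) : w ∈ zpowers ℓ := by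
  refine h.inter w ?_ ?_
  · exact mem_of_elem hrk h.h₁.ea (h.h₁.le.trans hES) (hES hw) hwp (fun a ha => hwc a (h.U_le ha))
  · exact mem_of_elem hrk h.h₂.ea (h.h₂.le.trans hES) (hES hw) hwp (fun a ha => hwc a (h.U'_le ha))

theorem mem_P (hp2 : p ≠ 2) (h : CD E U U' P p ℓ u v) {e : Ω} (he : e ∈ E) (hep : e ^ p = 1) : e ∈ P := by
  obtain ⟨r, hr, hrc⟩ := h.inner he
  have hrE := h.le hr
  obtain ⟨w, hwd⟩ : ∃ w, w = r⁻¹ * e := ⟨_, rfl⟩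
  rw [← hwd] at hrc
  have hwE : w ∈ E := by
    rw [hwd]
    exact E.mul_mem (E.inv_mem hrE) he
  have he' : e = r * w := by
    rw [hwd, mul_inv_cancel_left]
  have hcm : Commute r w := (hrc r hr).symm
  have h1 : w ^ p = 1 := by
    have h2 := hcm.mul_pow p
    rw [← he', hep, h.exp hp2 hr, one_mul] at h2
    exact h2.symm
  rw [he']
  exact P.mul_mem hr (h.Z_le (h.mem_Z hrk hES hwE h1 hrc))

theorem hAP (hp2 : p ≠ 2) (h : CD E U U' P p ℓ u v) (α : MulAut E) {x : Ω} (hx : x ∈ P) : fn α x ∈ P := by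
  refine h.mem_P hrk hES hp2 (fn_mem α (h.le hx)) ?_
  rw [← fnp α (h.le hx), h.exp hp2 hx, fn1]

theorem hAZ (h : CD E U U' P p ℓ u v) (α : MulAut E) {c : Ω} (hc : c ∈ zpowers ℓ) : fn α c ∈ zpowers ℓ := by
  have h1 := Adm.line_mem hrk hES (h.h₁.map α) h.h₁
  obtain ⟨k, rfl⟩ := mem_zpowers_nat h.ℓp hc
  rw [fnp α (h.h₁.le h.h₁.mem)]
  exact pow_mem h1 k

end Rank

theorem cP_u (h : CD E U U' P p ℓ u v) {x : Ω} (hx : x ∈ P) (hc : x * u = u * x) : x ∈ U := by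
  obtain ⟨a, ha, b, hb, rfl⟩ := (h.memP x).1 hx
  have huE := h.h₁.le h.hu
  have hvE := h.h₂.le h.hv
  have hbc : b * u = u * b := by
    have h1 : a * u = u * a := h.h₁.ea.comm a ha u h.hu
    have h2 : a * (b * u) = a * (u * b) := by
      calc a * (b * u) = a * b * u := by group
        _ = u * (a * b) := hc
        _ = (u * a) * b := by group
        _ = (a * u) * b := by rw [h1]
        _ = _ := by group
    exact mul_left_cancel h2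
  obtain ⟨i, j, rfl⟩ := h.decV hb
  obtain ⟨z, hzd⟩ : ∃ z, z = u * v * u⁻¹ * v⁻¹ := ⟨_, rfl⟩
  have hzZ : z ∈ zpowers ℓ := by
    rw [hzd]
    exact h.com_mem h.hu h.hv
  have hℓu : u * ℓ ^ i = ℓ ^ i * u := h.cZ huE (pow_mem (mem_zpowers _) i)
  have hcv : Commute z v := (h.cZ hvE hzZ).symm
  have h3 : u * v ^ j * u⁻¹ = z ^ j * v ^ j := by
    rw [← _root_.conj_pow, ← hcv.mul_pow]
    congr 1
    rw [hzd]
    group
  have h4 : z ^ j = 1 := by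
    have h5 : ℓ ^ i * (z ^ j * v ^ j) = ℓ ^ i * v ^ j := by
      rw [← h3]
      calc ℓ ^ i * (u * v ^ j * u⁻¹) = (ℓ ^ i * u) * v ^ j * u⁻¹ := by group
        _ = (u * ℓ ^ i) * v ^ j * u⁻¹ := by rw [hℓu]
        _ = u * (ℓ ^ i * v ^ j) * u⁻¹ := by group
        _ = (ℓ ^ i * v ^ j) * u * u⁻¹ := by rw [hbc]
        _ = _ := by group
    have h6 := mul_left_cancel h5
    exact mul_eq_right.1 h6
  rw [hzd] at h4
  obtain ⟨q, rfl⟩ := h.not_dvd_of_pow h4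
  rw [pow_mul, h.h₂.ea.exp v h.hv, one_pow, mul_one]
  exact U.mul_mem ha (U.pow_mem h.h₁.mem i)

theorem cP_v (h : CD E U U' P p ℓ u v) {x : Ω} (hx : x ∈ P) (hc : x * v = v * x) : x ∈ U' := by
  obtain ⟨a, ha, b, hb, rfl⟩ := (h.memP x).1 hx
  have huE := h.h₁.le h.hu
  have hvE := h.h₂.le h.hv
  have hac : a * v = v * a := by
    have h1 : b * v = v * b := h.h₂.ea.comm b hb v h.hv
    have h2 : (a * v) * b = (v * a) * b := by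
      calc (a * v) * b = a * (v * b) := by group
        _ = a * (b * v) := by rw [h1]
        _ = a * b * v := by group
        _ = v * (a * b) := hc
        _ = _ := by group
    exact mul_right_cancel h2
  obtain ⟨i, j, rfl⟩ := h.decU ha
  obtain ⟨z, hzd⟩ : ∃ z, z = u * v * u⁻¹ * v⁻¹ := ⟨_, rfl⟩
  have hzZ : z ∈ zpowers ℓ := by
    rw [hzd]
    exact h.com_mem h.hu h.hv
  have hℓv : v * ℓ ^ i = ℓ ^ i * v := h.cZ hvE (pow_mem (mem_zpowers _) i)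
  have hcu : Commute z⁻¹ u := Commute.inv_left (show Commute z u from (h.cZ huE hzZ).symm)
  have h3 : v * u ^ j * v⁻¹ = (z⁻¹) ^ j * u ^ j := by
    rw [← _root_.conj_pow, ← hcu.mul_pow]
    congr 1
    rw [hzd]
    group
  have h4 : z ^ j = 1 := by
    have h5 : ℓ ^ i * ((z⁻¹) ^ j * u ^ j) = ℓ ^ i * u ^ j := by
      rw [← h3]
      calc ℓ ^ i * (v * u ^ j * v⁻¹) = (ℓ ^ i * v) * u ^ j * v⁻¹ := by group
        _ = (v * ℓ ^ i) * u ^ j * v⁻¹ := by rw [hℓv]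
        _ = v * (ℓ ^ i * u ^ j) * v⁻¹ := by group
        _ = (ℓ ^ i * u ^ j) * v * v⁻¹ := by rw [hac]
        _ = _ := by group
    have h6 := mul_left_cancel h5
    have h7 := mul_eq_right.1 h6
    rw [inv_pow] at h7
    exact inv_eq_one.1 h7
  rw [hzd] at h4
  obtain ⟨q, rfl⟩ := h.not_dvd_of_pow h4
  rw [pow_mul, h.h₁.ea.exp u h.hu, one_pow, mul_one]
  exact U'.mul_mem (U'.pow_mem h.h₂.mem i) hb

theorem hgen (h : CD E U U' P p ℓ u v) {b₀ a₀ : Ω} (hb : b₀ ∈ U) (hb' : b₀ ∉ zpowers ℓ) (ha : a₀ ∈ U') (ha' : a₀ ∉ zpowers ℓ) {x : Ω} (hx : x ∈ P) :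
    ∃ i j : ℕ, x⁻¹ * (b₀ ^ i * a₀ ^ j) ∈ zpowers ℓ := by
  obtain ⟨a, ha₁, b, hb₁, rfl⟩ := (h.memP x).1 hx
  obtain ⟨i, j, rfl⟩ := h.h₁.ea.decomp h.h₁.mem h.h₁.ne hb hb' ha₁
  obtain ⟨k, l, rfl⟩ := h.h₂.ea.decomp h.h₂.mem h.h₂.ne ha ha' hb₁
  refine ⟨j, l, ?_⟩
  have hbE := h.h₁.le hb
  have e1 : b₀ ^ j * ℓ ^ k = ℓ ^ k * b₀ ^ j := h.cZ (E.pow_mem hbE j) (pow_mem (mem_zpowers _) k)
  have e2 : ℓ ^ i * b₀ ^ j * (ℓ ^ k * a₀ ^ l) = ℓ ^ i * ℓ ^ k * (b₀ ^ j * a₀ ^ l) := by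
    calc ℓ ^ i * b₀ ^ j * (ℓ ^ k * a₀ ^ l) = ℓ ^ i * (b₀ ^ j * ℓ ^ k) * a₀ ^ l := by group
      _ = ℓ ^ i * (ℓ ^ k * b₀ ^ j) * a₀ ^ l := by rw [e1]
      _ = _ := by group
  rw [e2]
  have haE := h.h₂.le ha
  have hcc : (b₀ ^ j * a₀ ^ l) * (ℓ ^ i * ℓ ^ k) = (ℓ ^ i * ℓ ^ k) * (b₀ ^ j * a₀ ^ l) :=
    h.cZ (E.mul_mem (E.pow_mem hbE j) (E.pow_mem haE l)) (Subgroup.mul_mem _ (pow_mem (mem_zpowers _) i) (pow_mem (mem_zpowers _) k))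
  have e3 : (ℓ ^ i * ℓ ^ k * (b₀ ^ j * a₀ ^ l))⁻¹ * (b₀ ^ j * a₀ ^ l) = (ℓ ^ i * ℓ ^ k)⁻¹ := by
    rw [← hcc]
    group
  rw [e3]
  exact Subgroup.inv_mem _ (Subgroup.mul_mem _ (pow_mem (mem_zpowers _) i) (pow_mem (mem_zpowers _) k))

theorem ww_of_gen (h : CD E U U' P p ℓ u v) {b₀ a₀ : Ω} (hb₀ : b₀ ∈ P) (ha₀ : a₀ ∈ P) (hg : ∀ x ∈ P, ∃ i j : ℕ, x⁻¹ * (b₀ ^ i * a₀ ^ j) ∈ zpowers ℓ)
    {α : MulAut E} (hαZ : ∀ c ∈ zpowers ℓ, fn α c = c) (hαb : b₀⁻¹ * fn α b₀ ∈ zpowers ℓ) (hαa : a₀⁻¹ * fn α a₀ ∈ zpowers ℓ) :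
    α ∈ WW E (zpowers ℓ) P h.Z_le h.le := by
  refine ⟨hαZ, fun x hx => ?_⟩
  have hxE := h.le hx
  obtain ⟨i, j, hij⟩ := hg x hx
  obtain ⟨c, hcd⟩ : ∃ c, c = x⁻¹ * (b₀ ^ i * a₀ ^ j) := ⟨_, rfl⟩
  rw [← hcd] at hij
  have hbE := h.le hb₀
  have haE := h.le ha₀
  have hx' : x = (b₀ ^ i * a₀ ^ j) * c⁻¹ := by
    rw [hcd]
    group
  obtain ⟨c₁, hc₁d⟩ : ∃ c₁, c₁ = b₀⁻¹ * fn α b₀ := ⟨_, rfl⟩
  obtain ⟨c₂, hc₂d⟩ : ∃ c₂, c₂ = a₀⁻¹ * fn α a₀ := ⟨_, rfl⟩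
  rw [← hc₁d] at hαb
  rw [← hc₂d] at hαa
  have e1 : fn α b₀ = b₀ * c₁ := by
    rw [hc₁d, mul_inv_cancel_left]
  have e2 : fn α a₀ = a₀ * c₂ := by
    rw [hc₂d, mul_inv_cancel_left]
  have hcE : c ∈ E := h.le (h.Z_le hij)
  have e3 : fn α x = b₀ ^ i * c₁ ^ i * (a₀ ^ j * c₂ ^ j) * c⁻¹ := by
    have hcb : Commute b₀ c₁ := h.cZ hbE hαb
    have hca : Commute a₀ c₂ := h.cZ haE hαa
    rw [hx', fn_map_mul α (E.mul_mem (E.pow_mem hbE i) (E.pow_mem haE j)) (E.inv_mem hcE), fn_map_mul α (E.pow_mem hbE i) (E.pow_mem haE j),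
      fnp α hbE, fnp α haE, fn_map_inv α hcE, hαZ c hij, e1, e2, hcb.mul_pow, hca.mul_pow]
  have e4 : c₁ ^ i * a₀ ^ j = a₀ ^ j * c₁ ^ i := (h.cZ (E.pow_mem haE j) (pow_mem hαb i)).symm
  have e5 : x⁻¹ * fn α x = c * (c₁ ^ i * c₂ ^ j) * c⁻¹ := by
    rw [e3, hx']
    calc (b₀ ^ i * a₀ ^ j * c⁻¹)⁻¹ * (b₀ ^ i * c₁ ^ i * (a₀ ^ j * c₂ ^ j) * c⁻¹)
        = c * (a₀ ^ j)⁻¹ * (b₀ ^ i)⁻¹ * b₀ ^ i * (c₁ ^ i * a₀ ^ j) * c₂ ^ j * c⁻¹ := by group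
      _ = c * (a₀ ^ j)⁻¹ * (b₀ ^ i)⁻¹ * b₀ ^ i * (a₀ ^ j * c₁ ^ i) * c₂ ^ j * c⁻¹ := by rw [e4]
      _ = _ := by group
  rw [e5]
  exact Subgroup.mul_mem _ (Subgroup.mul_mem _ hij (Subgroup.mul_mem _ (pow_mem hαb i) (pow_mem hαa j))) (Subgroup.inv_mem _ hij)

theorem ww_conj (hrk : Rk S p) (hES : E ≤ S) (hp2 : p ≠ 2) (h : CD E U U' P p ℓ u v) (β : MulAut E) {α : MulAut E} (ha : α ∈ WW E (zpowers ℓ) P h.Z_le h.le) :
    β * α * β⁻¹ ∈ WW E (zpowers ℓ) P h.Z_le h.le := by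
  refine ⟨fun l hl => ?_, fun x hx => ?_⟩
  · have hl' := h.hAZ hrk hES β⁻¹ hl
    have hlE := h.le (h.Z_le hl)
    rw [fn_mul _ _ hlE, fn_mul _ _ (fn_mem _ hlE), ha.1 _ hl', fn_fn_inv β hlE]
  · have hv' := h.hAP hrk hES hp2 β⁻¹ hx
    have hvE := h.le hx
    have h2 := ha.2 _ hv'
    have h3 : fn α (fn β⁻¹ x) = fn β⁻¹ x * ((fn β⁻¹ x)⁻¹ * fn α (fn β⁻¹ x)) := by group
    rw [fn_mul _ _ hvE, fn_mul _ _ (fn_mem _ hvE), h3, fn_map_mul β (h.le hv') (h.le (h.Z_le h2)), fn_fn_inv β hvE, inv_mul_cancel_left]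
    exact h.hAZ hrk hES β h2

theorem com_split (h : CD E U U' P p ℓ u v) {e b₀ r : Ω} (he : e ∈ E) (hb₀ : b₀ ∈ E) (hr : r ∈ P)
    (heq : e * (b₀ * r) * e⁻¹ * (b₀ * r)⁻¹ = e * b₀ * e⁻¹ * b₀⁻¹) : e * r = r * e := by
  obtain ⟨c, hcd⟩ : ∃ c, c = e * r * e⁻¹ * r⁻¹ := ⟨_, rfl⟩
  have hc : c ∈ zpowers ℓ := by
    rw [hcd]
    exact h.act he hr
  have h1 : e * r * e⁻¹ = c * r := by
    rw [hcd]
    group
  have h2 : e * b₀ * e⁻¹ * c = c * (e * b₀ * e⁻¹) := h.cZ (E.mul_mem (E.mul_mem he hb₀) (E.inv_mem he)) hc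
  have h3 : e * (b₀ * r) * e⁻¹ * (b₀ * r)⁻¹ = c * (e * b₀ * e⁻¹ * b₀⁻¹) := by
    calc e * (b₀ * r) * e⁻¹ * (b₀ * r)⁻¹ = e * b₀ * e⁻¹ * (e * r * e⁻¹) * r⁻¹ * b₀⁻¹ := by group
      _ = e * b₀ * e⁻¹ * (c * r) * r⁻¹ * b₀⁻¹ := by rw [h1]
      _ = (e * b₀ * e⁻¹ * c) * b₀⁻¹ := by group
      _ = c * (e * b₀ * e⁻¹) * b₀⁻¹ := by rw [h2]
      _ = _ := by group
  rw [h3] at heq
  have h4 : c = 1 := mul_eq_right.1 heq
  rw [hcd] at h4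
  calc e * r = e * r * e⁻¹ * r⁻¹ * (r * e) := by group
    _ = r * e := by rw [h4, one_mul]

end CD

end Cfsg.Agent.Lib.Fusion2.RK
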