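import Cfsg.Agent.Lib.Fusion2.RK4

/-!
# Rank two `p`-groups: the torus argument
-/

set_option autoImplicit false
set_option linter.unusedSectionVars false
set_option linter.style.haveILetI false

namespace Cfsg.Agent.Lib.Fusion2.RK

open Cfsg Cfsg.FusionSystem Cfsg.Agent.Lib.Fusion Subgroup

universe u

variable {Ω : Type u} [Group Ω] {p : ℕ} [hp : Fact p.Prime] {S : Subgroup Ω} [Finite S] {F : FusionSystem S}

theorem core_C (hS : IsPGroup p S) (hF : F.IsSaturated p) (hp5 : 5 ≤ p) (hrk : Rk S p) {E U U' P : Subgroup Ω} {ℓ u v : Ω} (hUD : UD S U p ℓ)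
    (h : CD E U U' P p ℓ u v) (hfn : F.IsFullyNormalized E) (hc : centralizerIn S E ≤ E) {x : MulAut E} (hxA : x ∈ F.autGroup E)
    (hU' : ∀ w, w ∈ U' ↔ ∃ a ∈ U, fn x a = w)
    (hK : ∀ α ∈ F.autGroup E, α ∈ WW E (zpowers ℓ) P h.Z_le h.le → α ∈ Inn E) {y : Ω} (hy : y ∈ normalizerIn S E) (hyE : y ∉ E)
    (hyC : y ∈ centralizerIn S U) : False := by
  classical
  have hpp := hp.out
  have hp2 : p ≠ 2 := by omega
  have hES : E ≤ S := hfn.1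
  haveI : Finite E := finite_of_le hES
  have hyS : y ∈ S := hy.1
  have hyU : ∀ a ∈ U, y * a = a * y := (mem_cS.1 hyC).2
  have hZE : zpowers ℓ ≤ E := h.Z_le.trans h.le
  have hUE := h.h₁.le
  have hU'E := h.h₂.le
  have huE := hUE h.hu
  have hvE := hU'E h.hv
  have hpel : ∀ x ∈ S, ∃ N : ℕ, x ^ p ^ N = 1 := by
    intro x hx
    obtain ⟨k, hk⟩ := hS ⟨x, hx⟩
    exact ⟨k, by simpa using congrArg Subtype.val hk⟩
  have hAP : ∀ α : MulAut E, ∀ a ∈ P, fn α a ∈ P := fun α a ha => h.hAP hrk hES hp2 α ha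
  have hAZ : ∀ α : MulAut E, ∀ c ∈ zpowers ℓ, fn α c ∈ zpowers ℓ := fun α c hc => h.hAZ hrk hES α hc
  obtain ⟨t₁, ht₁⟩ : ∃ t₁, t₁ = autOfNormalizer hy.2 := ⟨_, rfl⟩
  have hct : ∀ e ∈ E, fn t₁ e = y * e * y⁻¹ := fun e he => by rw [ht₁]; exact fn_cy _ he
  have ht₁A : t₁ ∈ F.autGroup E := by
    rw [ht₁]
    exact cy_mem hES hy
  have ht₁n : ∀ (n : ℕ) (e : Ω), e ∈ E → fn (t₁ ^ n) e = y ^ n * e * (y ^ n)⁻¹ := by
    intro n
    induction n with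
    | zero => intro e he; simp [fn_one he]
    | succ n ih =>
      intro e he
      have h1 : fn (t₁ ^ n) e ∈ E := fn_mem _ he
      rw [pow_succ', fn_mul _ _ he, hct _ h1, ih e he, pow_succ' y]
      group
  have hcyZ : ∀ c ∈ zpowers ℓ, y * c * y⁻¹ = c := fun c hc => by rw [hUD.cen' hyS hc, mul_inv_cancel_right]
  have ht₁Z : ∀ c ∈ zpowers ℓ, fn t₁ c = c := fun c hc => by rw [hct c (hZE hc), hcyZ c hc]
  -- inner elements
  have hyInn : ∀ (g : Ω) (hg : g ∈ normalizerIn S E), autOfNormalizer hg.2 ∈ WW E (zpowers ℓ) P h.Z_le h.le → g ∈ E :=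
    fun g hg hW => mem_of_autOfNormalizer_mem_inn hES hc hg (hK _ (cy_mem hES hg) hW)
  have hgenuv : ∀ x ∈ P, ∃ i j : ℕ, x⁻¹ * (u ^ i * v ^ j) ∈ zpowers ℓ := fun x hx => h.hgen h.hu h.u_not h.hv h.v_not hx
  -- the element `b`
  obtain ⟨b, hbd⟩ : ∃ b, b = v⁻¹ * (y * v * y⁻¹) := ⟨_, rfl⟩
  have hvP : v ∈ P := h.U'_le h.hv
  have huP : u ∈ P := h.U_le h.hu
  have hbP : b ∈ P := by
    rw [hbd, ← hct v hvE]
    exact P.mul_mem (P.inv_mem hvP) (hAP t₁ v hvP)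
  have hyv : y * v * y⁻¹ = v * b := by
    rw [hbd, mul_inv_cancel_left]
  have hzZ := h.com_mem h.hu h.hv
  have hcomb : u * (v * b) * u⁻¹ * (v * b)⁻¹ = u * v * u⁻¹ * v⁻¹ := by
    rw [← hyv]
    have h1 : u * y = y * u := (hyU u h.hu).symm
    have h2 : y⁻¹ * u⁻¹ * y = u⁻¹ := by
      have : Commute y u := hyU u h.hu
      have h3 : y * u⁻¹ = u⁻¹ * y := this.inv_right.eq
      rw [mul_assoc, ← h3]
      group
    calc u * (y * v * y⁻¹) * u⁻¹ * (y * v * y⁻¹)⁻¹ = (u * y) * v * (y⁻¹ * u⁻¹ * y) * v⁻¹ * y⁻¹ := by group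
      _ = (y * u) * v * u⁻¹ * v⁻¹ * y⁻¹ := by rw [h1, h2]
      _ = y * (u * v * u⁻¹ * v⁻¹) * y⁻¹ := by group
      _ = _ := hcyZ _ hzZ
  have hbu : u * b = b * u := h.com_split huE hvE hbP hcomb
  have hbU : b ∈ U := h.cP_u hbP hbu.symm
  have hbE := hUE hbU
  have hbZ : b ∉ zpowers ℓ := by
    intro hbz
    apply hyE
    refine hyInn y hy (h.ww_of_gen huP hvP hgenuv (fun c hc => by rw [fn_cy _ (hZE hc), hcyZ c hc]) ?_ ?_)
    · rw [fn_cy _ huE, hyU u h.hu, mul_inv_cancel_right, inv_mul_cancel]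
      exact one_mem _
    · rw [fn_cy _ hvE, ← hbd]
      exact hbz
  have hgen := fun x hx => h.hgen hbU hbZ h.hv h.v_not (x := x) hx
  -- the second transvection
  obtain ⟨t₂, ht₂⟩ : ∃ t₂, t₂ = x * t₁ * x⁻¹ := ⟨_, rfl⟩
  have ht₂A : t₂ ∈ F.autGroup E := by
    rw [ht₂]
    exact Subgroup.mul_mem _ (Subgroup.mul_mem _ hxA ht₁A) (Subgroup.inv_mem _ hxA)
  have ht₂e : ∀ e ∈ E, fn t₂ e = fn x (fn t₁ (fn x⁻¹ e)) := by
    intro e he
    rw [ht₂, fn_mul _ _ he, fn_mul _ _ (fn_mem _ he)]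
  have ht₂Z : ∀ c ∈ zpowers ℓ, fn t₂ c = c := by
    intro c hc
    rw [ht₂e c (hZE hc), ht₁Z _ (hAZ _ c hc), fn_fn_inv x (hZE hc)]
  have ht₂v : fn t₂ v = v := by
    obtain ⟨a₀, ha₀, ha₀v⟩ := (hU' v).1 h.hv
    have h1 : fn x⁻¹ v = a₀ := by
      rw [← ha₀v]
      exact fn_inv_fn x (hUE ha₀)
    rw [ht₂e v hvE, h1, hct a₀ (hUE ha₀), hyU a₀ ha₀, mul_inv_cancel_right, ha₀v]
  obtain ⟨r₂, hr₂d⟩ : ∃ r₂, r₂ = b⁻¹ * fn t₂ b := ⟨_, rfl⟩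
  have hr₂P : r₂ ∈ P := by
    rw [hr₂d]
    exact P.mul_mem (P.inv_mem hbP) (hAP t₂ b hbP)
  have htb : fn t₂ b = b * r₂ := by
    rw [hr₂d, mul_inv_cancel_left]
  have hcomr : v * (b * r₂) * v⁻¹ * (b * r₂)⁻¹ = v * b * v⁻¹ * b⁻¹ := by
    have hcz := h.act hvE hbP
    have h1 := ht₂Z _ hcz
    rw [fn_map_mul t₂ (E.mul_mem (E.mul_mem hvE hbE) (E.inv_mem hvE)) (E.inv_mem hbE), fn_map_mul t₂ (E.mul_mem hvE hbE) (E.inv_mem hvE),
      fn_map_mul t₂ hvE hbE, fn_map_inv t₂ hvE, fn_map_inv t₂ hbE, ht₂v, htb] at h1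
    exact h1
  have hr₂v : v * r₂ = r₂ * v := h.com_split hvE hbE hr₂P hcomr
  have hr₂U' : r₂ ∈ U' := h.cP_v hr₂P hr₂v.symm
  obtain ⟨i₀, c₀, hr₂⟩ := h.decV hr₂U'
  have hℓE : ℓ ∈ E := hZE (mem_zpowers ℓ)
  have hc₀ : ¬ p ∣ c₀ := by
    rintro ⟨q, rfl⟩
    rw [pow_mul, h.h₂.ea.exp v h.hv, one_pow, mul_one] at hr₂
    have hr₂Z : r₂ ∈ zpowers ℓ := by
      rw [hr₂]
      exact pow_mem (mem_zpowers _) _
    have h1 : t₂ ∈ WW E (zpowers ℓ) P h.Z_le h.le := by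
      refine h.ww_of_gen hbP hvP hgen ht₂Z ?_ ?_
      · rw [← hr₂d]
        exact hr₂Z
      · rw [ht₂v, inv_mul_cancel]
        exact one_mem _
    have h2 := h.ww_conj hrk hES hp2 x⁻¹ h1
    have h3 : x⁻¹ * t₂ * x⁻¹⁻¹ = t₁ := by
      rw [ht₂]
      group
    rw [h3, ht₁] at h2
    exact hyE (hyInn y hy h2)
  -- the torus
  obtain ⟨j₁, j₂, -, -, e3, e4, e5⟩ := torus (P := P) (Z := zpowers ℓ) (E := E) (p := p) h.Z_le h.le hp2 (fun a ha c hc => h.act (h.le ha) hc)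
    (fun a ha => by
      rw [h.exp hp2 ha]
      exact one_mem _)
    (t₁ := t₁) (t₂ := t₂) (hAP _) (hAP _) (hAZ _) (hAZ _) (hAP _) (hAP _) (hAZ _) (hAZ _) (b := b) (a' := v) hbP hvP hgen
    (by
      rw [hct b hbE, hyU b hbU, mul_inv_cancel_right, inv_mul_cancel]
      exact one_mem _)
    (by
      rw [hct v hvE, hyv, inv_mul_cancel]
      exact one_mem _)
    (by
      rw [ht₂v, inv_mul_cancel]
      exact one_mem _)
    hc₀
    (by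
      rw [htb, hr₂]
      have h1 : v ^ c₀ * ℓ ^ i₀ = ℓ ^ i₀ * v ^ c₀ := h.cZ (E.pow_mem hvE c₀) (pow_mem (mem_zpowers _) i₀)
      have h2 : (b * v ^ c₀)⁻¹ * (b * (ℓ ^ i₀ * v ^ c₀)) = ℓ ^ i₀ := by
        rw [← h1]
        group
      rw [h2]
      exact pow_mem (mem_zpowers _) i₀)
  obtain ⟨d, hd⟩ : ∃ d, d = (t₁ ^ 2 * t₂ ^ j₂ * t₁ ^ 2) * (t₁ * t₂ ^ j₁ * t₁) := ⟨_, rfl⟩
  rw [← hd] at e3 e4 e5
  have hdA : d ∈ F.autGroup E := by
    rw [hd]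
    have h1 := fun (n : ℕ) => Subgroup.pow_mem (F.autGroup E) ht₁A n
    have h2 := fun (n : ℕ) => Subgroup.pow_mem (F.autGroup E) ht₂A n
    exact Subgroup.mul_mem _ (Subgroup.mul_mem _ (Subgroup.mul_mem _ (h1 2) (h2 j₂)) (h1 2)) (Subgroup.mul_mem _ (Subgroup.mul_mem _ ht₁A (h2 j₁)) ht₁A)
  haveI := h.h₁.ea.finite
  have hdb : fn d b ∈ U := by
    have h1 := U.mul_mem (U.inv_mem (U.pow_mem hbU 2)) (h.h₁.zle e3)
    simpa using h1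
  have hdU : ∀ a ∈ U, fn d a ∈ U := by
    intro a ha
    obtain ⟨i, j, rfl⟩ := h.h₁.ea.decomp h.h₁.mem h.h₁.ne hbU hbZ ha
    rw [fn_map_mul d (E.pow_mem hℓE i) (E.pow_mem hbE j), fnp d hℓE, fnp d hbE]
    exact U.mul_mem (U.pow_mem (h.h₁.zle (hAZ d ℓ (mem_zpowers ℓ))) i) (U.pow_mem hdb j)
  obtain ⟨w, hwd⟩ : ∃ w, w = d * t₁ * d⁻¹ * (t₁ ^ 4)⁻¹ := ⟨_, rfl⟩
  rw [← hwd] at e5
  have hwA : w ∈ F.autGroup E := by
    rw [hwd]
    exact Subgroup.mul_mem _ (Subgroup.mul_mem _ (Subgroup.mul_mem _ hdA ht₁A) (Subgroup.inv_mem _ hdA)) (Subgroup.inv_mem _ (Subgroup.pow_mem _ ht₁A 4))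
  have hwW : w ∈ WW E (zpowers ℓ) P h.Z_le h.le := by
    refine ⟨fun c hc => ?_, e5⟩
    have h1 : fn (t₁ ^ 4)⁻¹ c = c := by
      have hF₀ : t₁ ∈ WW E (zpowers ℓ) (zpowers ℓ) le_rfl hZE := by
        refine ⟨ht₁Z, fun c' hc' => ?_⟩
        rw [ht₁Z c' hc', inv_mul_cancel]
        exact one_mem _
      exact (Subgroup.inv_mem _ (Subgroup.pow_mem _ hF₀ 4)).1 c hc
    have hcE := hZE hc
    rw [hwd, fn_mul _ _ hcE, h1, fn_mul _ _ hcE, fn_mul _ _ (fn_mem _ hcE), ht₁Z _ (hAZ _ c hc), fn_fn_inv d hcE]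
  obtain ⟨r₀, hr₀⟩ := hK w hwA hwW
  have hwf : ∀ k ∈ E, fn w k = r₀ * k * (r₀ : Ω)⁻¹ := by
    intro k hk
    rw [fn_of_mem _ hk, ← hr₀]
    rfl
  have hcd : d * t₁ = w * t₁ ^ 4 * d := by
    rw [hwd]
    group
  have hinA : d * autOfNormalizer hy.2 * d⁻¹ ∈ autInducedBy S E := by
    rw [← ht₁]
    have h1 : d * t₁ * d⁻¹ = w * t₁ ^ 4 := by
      rw [hcd]
      group
    rw [h1]
    refine Subgroup.mul_mem _ (inn_le_autInducedBy hES (hK w hwA hwW)) (Subgroup.pow_mem _ ?_ 4)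
    rw [ht₁]
    exact autOfNormalizer_mem_autInducedBy hy.2 hyS
  obtain ⟨ψ, hψ, hψv, hyR⟩ := exists_ext_over hS hF hfn hdA hyS hy.2 hinA
  have hf := isMapOn_toFun hψ
  obtain ⟨f, hfd⟩ : ∃ f, f = toFun ψ := ⟨_, rfl⟩
  rw [← hfd] at hf
  have hER := le_extender (autGroup_hom hES hdA)
  have hfE : ∀ e ∈ E, f e = fn d e := by
    intro e he
    rw [hfd, toFun_of_mem _ (hER he), hψv ⟨e, he⟩, fn_of_mem _ he]
  have hfyS : f y ∈ S := hf.mem_S hyR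
  -- `f y` centralizes `U`
  have hFyC : ∀ a ∈ U, f y * a = a * f y := by
    intro a ha
    obtain ⟨a₁, ha₁, rfl⟩ := fn_surj_on hUE d hdU ha
    have h3 := hf.map_conj hyR (hER (hUE ha₁))
    rw [hyU a₁ ha₁, mul_inv_cancel_right, hfE _ (hUE ha₁)] at h3
    calc f y * fn d a₁ = f y * fn d a₁ * (f y)⁻¹ * f y := by group
      _ = fn d a₁ * f y := by rw [← h3]
  -- comparing with `y⁴`
  have hrel : ∀ g' ∈ E, f y * g' * (f y)⁻¹ = r₀ * (y ^ 4 * g' * (y ^ 4)⁻¹) * (r₀ : Ω)⁻¹ := by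
    intro g' hg'
    have he := fn_mem d⁻¹ hg'
    have h3 := hf.map_conj hyR (hER he)
    have hyeE : y * fn d⁻¹ g' * y⁻¹ ∈ E := conj_mem_of_normalizer hy.2 he
    rw [hfE _ hyeE, hfE _ he, fn_fn_inv d hg', ← hct _ he, ← fn_mul _ _ he, hcd, fn_mul _ _ he, fn_fn_inv d hg', fn_mul _ _ hg',
      hwf _ (fn_mem _ hg'), ht₁n 4 _ hg'] at h3
    exact h3.symm
  obtain ⟨e₁, he₁d⟩ : ∃ e₁, e₁ = ((r₀ : Ω) * y ^ 4)⁻¹ * f y := ⟨_, rfl⟩
  have hr₀E : (r₀ : Ω) ∈ E := r₀.2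
  have hy4S : y ^ 4 ∈ S := S.pow_mem hyS 4
  have he₁E : e₁ ∈ E := by
    refine hc (mem_cS.2 ⟨?_, fun g' hg' => ?_⟩)
    · rw [he₁d]
      exact S.mul_mem (S.inv_mem (S.mul_mem (hES hr₀E) hy4S)) hfyS
    · have h3 := hrel g' hg'
      have h4 : f y * g' = r₀ * (y ^ 4 * g' * (y ^ 4)⁻¹) * (r₀ : Ω)⁻¹ * f y := by
        rw [← h3]
        group
      rw [he₁d]
      calc ((r₀ : Ω) * y ^ 4)⁻¹ * f y * g' = ((r₀ : Ω) * y ^ 4)⁻¹ * (f y * g') := by group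
        _ = ((r₀ : Ω) * y ^ 4)⁻¹ * (r₀ * (y ^ 4 * g' * (y ^ 4)⁻¹) * (r₀ : Ω)⁻¹ * f y) := by rw [h4]
        _ = _ := by group
  obtain ⟨e₀, he₀d⟩ : ∃ e₀, e₀ = f y * (y ^ 4)⁻¹ := ⟨_, rfl⟩
  have hfy : f y = e₀ * y ^ 4 := by
    rw [he₀d, inv_mul_cancel_right]
  have he₀E : e₀ ∈ E := by
    have h1 : e₀ = r₀ * fn (t₁ ^ 4) e₁ := by
      rw [ht₁n 4 _ he₁E, he₀d, he₁d]
      group
    rw [h1]
    exact E.mul_mem hr₀E (fn_mem _ he₁E)
  have hy4U : ∀ a ∈ U, y ^ 4 * a = a * y ^ 4 := fun a ha => (Commute.pow_left (hyU a ha : Commute y a) 4).eq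
  have he₀C : ∀ a ∈ U, e₀ * a = a * e₀ := by
    intro a ha
    have h1 : (y ^ 4)⁻¹ * a = a * (y ^ 4)⁻¹ := (Commute.inv_left (show Commute (y ^ 4) a from hy4U a ha)).eq
    rw [he₀d]
    calc f y * (y ^ 4)⁻¹ * a = f y * ((y ^ 4)⁻¹ * a) := by group
      _ = f y * (a * (y ^ 4)⁻¹) := by rw [h1]
      _ = (f y * a) * (y ^ 4)⁻¹ := by group
      _ = (a * f y) * (y ^ 4)⁻¹ := by rw [hFyC a ha]
      _ = _ := by group
  obtain ⟨r₃, hr₃P, hr₃c⟩ := h.inner he₀E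
  obtain ⟨y₄, hy₄d⟩ : ∃ y₄, y₄ = r₃⁻¹ * e₀ := ⟨_, rfl⟩
  rw [← hy₄d] at hr₃c
  have hr₃E := h.le hr₃P
  have hy₄E : y₄ ∈ E := by
    rw [hy₄d]
    exact E.mul_mem (E.inv_mem hr₃E) he₀E
  have he₀r : e₀ = r₃ * y₄ := by
    rw [hy₄d, mul_inv_cancel_left]
  have hr₃U : r₃ ∈ U := by
    refine h.cP_u hr₃P ?_
    have h1 := he₀C u h.hu
    have h2 := hr₃c u huP
    rw [he₀r] at h1
    have h3 : r₃ * u * y₄ = u * r₃ * y₄ := by
      calc r₃ * u * y₄ = r₃ * (u * y₄) := by group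
        _ = r₃ * (y₄ * u) := by rw [h2]
        _ = r₃ * y₄ * u := by group
        _ = u * (r₃ * y₄) := h1
        _ = _ := by group
    exact mul_right_cancel h3
  -- the centralizer of `P`
  obtain ⟨Y, hYd⟩ : ∃ Y, Y = E ⊓ Subgroup.centralizer (P : Set Ω) := ⟨_, rfl⟩
  have hYmem : ∀ g, g ∈ Y ↔ g ∈ E ∧ ∀ a ∈ P, g * a = a * g := by
    intro g
    rw [hYd, Subgroup.mem_inf, Subgroup.mem_centralizer_iff]
    exact and_congr_right (fun _ => ⟨fun h v hv => (h v hv).symm, fun h v hv => (h v hv).symm⟩)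
  have hYE : Y ≤ E := fun g hg => ((hYmem g).1 hg).1
  haveI : Finite Y := finite_of_le hYE
  have hYp : IsPGroup p Y := (hS.to_le hES).to_le hYE
  have hcardZ : Nat.card (zpowers ℓ) = p := by
    rw [Nat.card_zpowers, orderOf_eq_prime h.ℓp h.h₁.ne]
  haveI : Finite (zpowers ℓ) := finite_of_le hZE
  have hYcyc : IsCyclic Y := by
    refine Transfer.isCyclic_of_unique hp2 hYp ((zpowers ℓ).subgroupOf Y) ?_ ?_
    · intro g hg
      refine Subgroup.mem_subgroupOf.2 (h.mem_Z hrk hES (hYE g.2) ?_ ((hYmem _).1 g.2).2)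
      simpa using congrArg Subtype.val hg
    · rw [← hcardZ]
      exact Nat.card_le_card_of_injective (fun g : ↥((zpowers ℓ).subgroupOf Y) => (⟨g.1.1, Subgroup.mem_subgroupOf.1 g.2⟩ : zpowers ℓ))
        (fun a b hab => Subtype.ext (Subtype.ext (congrArg (fun t : zpowers ℓ => (t : Ω)) hab)))
  have hYinv : ∀ α : MulAut E, ∀ g ∈ Y, fn α g ∈ Y := by
    intro α g hg
    obtain ⟨hg1, hg2⟩ := (hYmem g).1 hg
    refine (hYmem _).2 ⟨fn_mem α hg1, fun a ha => ?_⟩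
    have haE := h.le ha
    have h1 := hg2 _ (hAP α⁻¹ a ha)
    have h2 := congrArg (fn α) h1
    rwa [fn_map_mul α hg1 (fn_mem _ haE), fn_map_mul α (fn_mem _ haE) hg1, fn_fn_inv α haE] at h2
  have hYcomm : ∀ α β : MulAut E, ∀ g ∈ Y, fn α (fn β g) = fn β (fn α g) := by
    intro α β g hg
    obtain ⟨τ₁, hτ₁⟩ := exists_restrict hYE α (hYinv α)
    obtain ⟨τ₂, hτ₂⟩ := exists_restrict hYE β (hYinv β)
    have h1 := mulAut_comm_of_isCyclic τ₁ τ₂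
    have h2 := congrArg (fun τ : MulAut Y => ((τ ⟨g, hg⟩ : Y) : Ω)) h1
    simp only [MulAut.mul_apply] at h2
    rw [hτ₁, hτ₂ ⟨g, hg⟩, hτ₂, hτ₁ ⟨g, hg⟩] at h2
    exact h2
  have hYYc : ∀ a ∈ Y, ∀ b ∈ Y, a * b = b * a := by
    intro a ha b hb
    have := (IsCyclic.commutative (α := Y)).is_comm.comm (⟨a, ha⟩ : Y) (⟨b, hb⟩ : Y)
    exact congrArg Subtype.val this
  have hYcen : ∀ g ∈ Y, ∀ e ∈ E, e * g = g * e := by
    intro g hg e he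
    obtain ⟨r, hr, hrc⟩ := h.inner he
    have h1 : r⁻¹ * e ∈ Y := (hYmem _).2 ⟨E.mul_mem (E.inv_mem (h.le hr)) he, hrc⟩
    have h2 := hYYc _ h1 _ hg
    have h3 := ((hYmem g).1 hg).2 r hr
    calc e * g = r * (r⁻¹ * e * g) := by group
      _ = r * (g * (r⁻¹ * e)) := by rw [h2]
      _ = (r * g) * (r⁻¹ * e) := by group
      _ = (g * r) * (r⁻¹ * e) := by rw [h3]
      _ = _ := by group
  -- `y` centralizes `Y`
  have ht₁3 : ∀ g ∈ Y, fn (t₁ ^ 3) g = g := by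
    intro g hg
    have hgE := hYE hg
    have h1 : fn d (fn t₁ (fn d⁻¹ g)) = fn t₁ g := by
      rw [hYcomm d t₁ _ (hYinv _ g hg), fn_fn_inv d hgE]
    have h2 : fn w (fn (t₁ ^ 4) g) = fn (t₁ ^ 4) g := by
      have h3 := hYinv (t₁ ^ 4) g hg
      rw [hwf _ (hYE h3), hYcen _ h3 _ hr₀E, mul_inv_cancel_right]
    have h3 : fn (d * t₁ * d⁻¹) g = fn (w * t₁ ^ 4) g := by
      congr 1
      rw [hcd]
      group
    rw [fn_mul _ _ hgE, fn_mul _ _ (fn_mem _ hgE), h1, fn_mul _ _ hgE, h2, pow_succ', fn_mul _ _ hgE] at h3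
    exact (fn_inj t₁ hgE (fn_mem _ hgE) h3).symm
  obtain ⟨N, hN⟩ := hpel y hyS
  have ht₁N : t₁ ^ p ^ N = 1 := by
    apply fn_ext
    intro e he
    rw [ht₁n _ e he, hN, fn_one he]
    group
  have hcop3 : Nat.Coprime 3 p := (Nat.coprime_primes Nat.prime_three hpp).2 (by omega)
  obtain ⟨n', hn'⟩ := exists_pow_inverse (p := p) hcop3 N
  have hfixY : ∀ α : MulAut E, (∀ g ∈ Y, fn α g = g) → α ∈ WW E Y Y le_rfl hYE := by
    intro α hα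
    refine ⟨hα, fun g hg => ?_⟩
    rw [hα g hg, inv_mul_cancel]
    exact Y.one_mem
  have ht₁F : t₁ ∈ WW E Y Y le_rfl hYE := by
    have h1 := hn' t₁ ht₁N
    rw [← h1]
    exact Subgroup.pow_mem _ (hfixY _ ht₁3) _
  have ht₂F : t₂ ∈ WW E Y Y le_rfl hYE := by
    refine hfixY _ (fun g hg => ?_)
    rw [ht₂e g (hYE hg), ht₁F.1 _ (hYinv _ g hg), fn_fn_inv x (hYE hg)]
  have hdF : d ∈ WW E Y Y le_rfl hYE := by
    rw [hd]
    have h1 := fun (n : ℕ) => Subgroup.pow_mem (WW E Y Y le_rfl hYE) ht₁F n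
    have h2 := fun (n : ℕ) => Subgroup.pow_mem (WW E Y Y le_rfl hYE) ht₂F n
    exact Subgroup.mul_mem _ (Subgroup.mul_mem _ (Subgroup.mul_mem _ (h1 2) (h2 j₂)) (h1 2)) (Subgroup.mul_mem _ (Subgroup.mul_mem _ ht₁F (h2 j₁)) ht₁F)
  have hyY : ∀ g ∈ Y, y * g = g * y := by
    intro g hg
    have h1 := ht₁F.1 g hg
    rw [hct g (hYE hg)] at h1
    calc y * g = y * g * y⁻¹ * y := by group
      _ = g * y := by rw [h1]
  -- `y ^ p ∈ Y`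
  have hyvp : y ^ p * v = v * y ^ p := by
    have hcU : v * b * v⁻¹ ∈ U := h.h₁.nor v hvE b hbU
    have h1 := conj_pow (z := y) (u := v) (c := v * b * v⁻¹) ((hyU _ hcU).symm) (by rw [hyv]; group) p
    rw [h.h₁.ea.exp _ hcU, one_mul] at h1
    calc y ^ p * v = y ^ p * v * (y ^ p)⁻¹ * y ^ p := by group
      _ = v * y ^ p := by rw [h1]
  have hypU : ∀ a ∈ U, y ^ p * a = a * y ^ p := fun a ha => (Commute.pow_left (hyU a ha : Commute y a) p).eq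
  have hypN : y ^ p ∈ normalizerIn S E := Subgroup.pow_mem _ hy p
  have hypE : y ^ p ∈ E := by
    refine hyInn _ hypN (h.ww_of_gen huP hvP hgenuv (fun c hc => ?_) ?_ ?_)
    · rw [fn_cy _ (hZE hc), (Commute.pow_left (hUD.cen' hyS hc : Commute y c) p).eq, mul_inv_cancel_right]
    · rw [fn_cy _ huE, hypU u h.hu, mul_inv_cancel_right, inv_mul_cancel]
      exact one_mem _
    · rw [fn_cy _ hvE, hyvp, mul_inv_cancel_right, inv_mul_cancel]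
      exact one_mem _
  have hypY : y ^ p ∈ Y := (hYmem _).2 ⟨hypE, fun a ha => h.comm_P hypE (hypU u h.hu) hyvp ha⟩
  -- the final computation
  have hy₄Y : y₄ ∈ Y := (hYmem _).2 ⟨hy₄E, hr₃c⟩
  have hfyp : (f y) ^ p = y ^ p := by
    rw [← mapOn_pow hf hyR p, hfE _ hypE]
    exact hdF.1 _ hypY
  have hc1 : Commute r₃ y₄ := (hr₃c r₃ hr₃P).symm
  have hc2 : Commute (r₃ * y₄) (y ^ 4) := by
    have h1 : Commute r₃ y := (hyU r₃ hr₃U).symm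
    have h2 : Commute y₄ y := (hyY y₄ hy₄Y).symm
    exact (h1.mul_left h2).pow_right 4
  have hmain : y₄ ^ p * (y ^ p) ^ 4 = y ^ p := by
    rw [hfy, he₀r, hc2.mul_pow, hc1.mul_pow, h.h₁.ea.exp _ hr₃U, one_mul] at hfyp
    have h1 : (y ^ 4) ^ p = (y ^ p) ^ 4 := by
      rw [← pow_mul, ← pow_mul, mul_comm]
    rw [← h1]
    exact hfyp
  obtain ⟨W, hWd⟩ : ∃ W, W = y ^ p := ⟨_, rfl⟩
  rw [← hWd] at hmain hypY
  have hW3 : W ^ 3 = (y₄ ^ p)⁻¹ := by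
    have h1 : y₄ ^ p * W ^ 3 * W = 1 * W := by
      rw [one_mul, mul_assoc, ← pow_succ]
      exact hmain
    have h2 := mul_right_cancel h1
    exact eq_inv_of_mul_eq_one_right h2
  have hWN : W ^ p ^ N = 1 := by
    rw [hWd, ← pow_mul, mul_comm, pow_mul, hN, one_pow]
  have h3W := hn' W hWN
  obtain ⟨y₃, hy₃d⟩ : ∃ y₃, y₃ = (y₄⁻¹) ^ n' := ⟨_, rfl⟩
  have hy₃Y : y₃ ∈ Y := by
    rw [hy₃d]
    exact Y.pow_mem (Y.inv_mem hy₄Y) _
  have hy₃p : y₃ ^ p = W := by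
    rw [hy₃d, pow_right_comm, inv_pow, ← hW3, h3W]
  have hcm : Commute y y₃⁻¹ := hyY _ (Y.inv_mem hy₃Y)
  have htp : (y * y₃⁻¹) ^ p = 1 := by
    rw [hcm.mul_pow, inv_pow, hy₃p, ← hWd, mul_inv_cancel]
  have htU : y * y₃⁻¹ ∈ U := by
    refine hUD.rk _ (S.mul_mem hyS (hES (hYE (Y.inv_mem hy₃Y)))) htp (fun a ha => ?_)
    have h1 : y₃⁻¹ * a = a * y₃⁻¹ := ((hYmem _).1 (Y.inv_mem hy₃Y)).2 a (h.U_le ha)
    calc y * y₃⁻¹ * a = y * (y₃⁻¹ * a) := by group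
      _ = y * (a * y₃⁻¹) := by rw [h1]
      _ = (y * a) * y₃⁻¹ := by group
      _ = (a * y) * y₃⁻¹ := by rw [hyU a ha]
      _ = _ := by group
  apply hyE
  have := E.mul_mem (hUE htU) (hYE hy₃Y)
  rwa [inv_mul_cancel_right] at this

/-- **The core lemma.** -/
theorem core (hS : IsPGroup p S) (hF : F.IsSaturated p) (hp5 : 5 ≤ p) (hrk : Rk S p) {E U U' P : Subgroup Ω} {ℓ u v : Ω} (hUD : UD S U p ℓ)
    (h : CD E U U' P p ℓ u v) (hfn : F.IsFullyNormalized E) (hc : centralizerIn S E ≤ E) {x : MulAut E} (hxA : x ∈ F.autGroup E)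
    (hU' : ∀ w, w ∈ U' ↔ ∃ a ∈ U, fn x a = w) {g : Ω} (hgE : g ∈ E) (hgC : g ∉ centralizerIn S U)
    (hK : ∀ α ∈ F.autGroup E, α ∈ WW E (zpowers ℓ) P h.Z_le h.le → α ∈ Inn E) {y : Ω} (hy : y ∈ normalizerIn S E) (hyE : y ∉ E) : False := by
  have hES : E ≤ S := hfn.1
  obtain ⟨k, hk⟩ := hUD.exists_mul_pow_mem (hES hgE) hgC hy.1
  have hgN : g ^ k ∈ normalizerIn S E := ⟨S.pow_mem (hES hgE) k, Subgroup.le_normalizer (E.pow_mem hgE k)⟩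
  refine core_C hS hF hp5 hrk hUD h hfn hc hxA hU' hK ((normalizerIn S E).mul_mem hy hgN) (fun hin => hyE ?_) hk
  have := E.mul_mem hin (E.inv_mem (E.pow_mem hgE k))
  rwa [mul_inv_cancel_right] at this

/-- Case `U ≤ E`, `E` not centralizing `U`. -/
theorem case_iii (hS : IsPGroup p S) (hF : F.IsSaturated p) (hp5 : 5 ≤ p) (hrk : Rk S p) {U : Subgroup Ω} {ℓ : Ω} (hUD : UD S U p ℓ) {E : Subgroup Ω}
    (hE : F.IsEssential p E) (hUE : U ≤ E) (hEC : ¬ E ≤ centralizerIn S U) (hne : ¬ S ≤ E) : False := by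
  classical
  have hp2 : p ≠ 2 := by omega
  have hES : E ≤ S := hE.1.1
  have hcent : centralizerIn S E ≤ E := hE.1.2 E (isConj_refl hES)
  have hR : F.IsRadical p E := isRadical_of_essential hS hE
  have hfn : F.IsFullyNormalized E := hE.2.1
  obtain ⟨g, hgE, hgC⟩ := SetLike.not_le_iff_exists.1 hEC
  have hA := hUD.adm hUE hES hgE hgC
  obtain ⟨y, hyN, hyE⟩ := exists_mem_normalizerIn_not_mem hS (lt_of_le_not_ge hES hne)
  have hZinv : ∀ α : MulAut E, ∀ c ∈ zpowers ℓ, fn α c ∈ zpowers ℓ := by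
    intro α c hc
    have h1 := Adm.line_mem hrk hES (hA.map α) hA
    obtain ⟨k, rfl⟩ := mem_zpowers_nat hA.ℓp hc
    rw [fnp α (hUE hA.mem)]
    exact pow_mem h1 k
  by_cases hinv : ∀ α ∈ F.autGroup E, ∀ u ∈ U, fn α u ∈ U
  · refine hyE (rad_mem hS hp2 hR hcent hA.zle hUE hA.nor (fun x hx hxp hxc => hUD.rk x (hES hx) hxp hxc) (fun α _ c hc => hZinv α c hc) hinv hyN ?_ ?_)
    · intro l hl
      rw [hUD.cen' hyN.1 hl, mul_inv_cancel_right]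
    · intro v hv
      exact hUD.act' hyN.1 hv
  · push Not at hinv
    obtain ⟨x, hxA, u₀, hu₀, hu₀x⟩ := hinv
    have hxU := hA.map x
    have hne' : U ≠ img x U := by
      intro heq
      apply hu₀x
      rw [heq]
      exact (mem_img hUE).2 ⟨u₀, hu₀, rfl⟩
    have hA' : Adm E (img x U) p ℓ := hxU.with_line (Adm.line_mem hrk hES hA hxU) (Adm.line_mem hrk hES hxU hA) hA.ne
    obtain ⟨P, u, v, h⟩ := exists_CD hrk hES hA hA' hne'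
    refine core hS hF hp5 hrk hUD h hfn hcent hxA (fun w => mem_img hUE) hgE hgC (fun α hα hαW => ?_) hyN hyE
    refine rad_inn hS hp2 hR h.Z_le h.le (fun e he a ha => h.nor he ha) (fun x hx hxp _ => h.mem_P hrk hES hp2 hx hxp) (fun β _ c hc => h.hAZ hrk hES β hc)
      (fun β _ a ha => h.hAP hrk hES hp2 β ha) hα hαW

end Cfsg.Agent.Lib.Fusion2.RK
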