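import Cfsg.Agent.Lib.Fusion2.RK5

/-!
# Rank two `p`-groups: essential subgroups not containing `U`, reduction to order `p²`
-/

set_option autoImplicit false
set_option linter.unusedSectionVars false
set_option linter.style.haveILetI false

namespace Cfsg.Agent.Lib.Fusion2.RK

open Cfsg Cfsg.FusionSystem Cfsg.Agent.Lib.Fusion Subgroup

universe u

variable {Ω : Type u} [Group Ω] {p : ℕ} [hp : Fact p.Prime] {S : Subgroup Ω} [Finite S] {F : FusionSystem S}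

theorem EA.exists_compl {U : Subgroup Ω} (hU : EA p U) {ℓ : Ω} (hℓ : ℓ ∈ U) (hℓ1 : ℓ ≠ 1) : ∃ u₀ ∈ U, u₀ ∉ zpowers ℓ := by
  by_contra hcon
  push Not at hcon
  have hpp := hp.out
  haveI := hU.finite
  have hzle : zpowers ℓ ≤ U := (zpowers_le).2 hℓ
  have hℓp := hU.exp ℓ hℓ
  have h1 : Nat.card U ≤ Nat.card (zpowers ℓ) := by
    haveI : Finite (zpowers ℓ) := finite_of_le hzle
    exact Nat.card_le_card_of_injective (fun x : U => (⟨x, hcon x x.2⟩ : zpowers ℓ)) (fun a b hab =>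
      Subtype.ext (congrArg (fun w : zpowers ℓ => (w : Ω)) hab))
  rw [hU.card, Nat.card_zpowers, orderOf_eq_prime hℓp hℓ1, pow_two] at h1
  have h2 : p * p ≤ p * 1 := by simpa using h1
  have h3 := Nat.le_of_mul_le_mul_left h2 hpp.pos
  exact absurd hpp.one_lt (by omega)

/-- Normal elementary abelian subgroups of order `p²` of a subgroup. -/
theorem exists_normal_EA {X : Subgroup Ω} [Finite X] (hX : IsPGroup p X) (hp2 : p ≠ 2) (hnc : ¬ IsCyclic X) :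
    ∃ V : Subgroup Ω, V ≤ X ∧ EA p V ∧ ∀ e ∈ X, ∀ v ∈ V, e * v * e⁻¹ ∈ V := by
  obtain ⟨A, hAn, hAe, hAc⟩ := Transfer.exists_normal_elementary_sq hp2 hX hnc
  haveI := hAn
  refine ⟨A.map X.subtype, map_subtype_le _, ⟨?_, ?_, ?_⟩, ?_⟩
  · rintro _ ⟨a, ha, rfl⟩ _ ⟨b, hb, rfl⟩
    have h2 : (⟨a, ha⟩ : A) * ⟨b, hb⟩ = ⟨b, hb⟩ * ⟨a, ha⟩ := hAe.1.is_comm.comm _ _
    have h3 : a * b = b * a := congrArg (fun w : A => (w : X)) h2
    exact congrArg (fun w : X => (w : Ω)) h3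
  · rintro _ ⟨a, ha, rfl⟩
    have h2 := hAe.2 a ha
    simpa using congrArg Subtype.val h2
  · rw [← hAc]
    exact Nat.card_congr (A.equivMapOfInjective _ X.subtype_injective).symm.toEquiv
  · rintro g hg _ ⟨a, ha, rfl⟩
    exact ⟨_, hAn.conj_mem a ha ⟨g, hg⟩, rfl⟩

theorem UD.conj_C {U : Subgroup Ω} {ℓ : Ω} (h : UD S U p ℓ) {g c : Ω} (hg : g ∈ S) (hc : c ∈ centralizerIn S U) : g * c * g⁻¹ ∈ centralizerIn S U := by
  obtain ⟨hcS, hcC⟩ := mem_cS.1 hc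
  refine mem_cS.2 ⟨S.mul_mem (S.mul_mem hg hcS) (S.inv_mem hg), fun u hu => ?_⟩
  have hu' := h.nor g⁻¹ (S.inv_mem hg) u hu
  have h1 := hcC _ hu'
  calc g * c * g⁻¹ * u = g * (c * (g⁻¹ * u * g⁻¹⁻¹)) * g⁻¹ := by group
    _ = g * (g⁻¹ * u * g⁻¹⁻¹ * c) * g⁻¹ := by rw [h1]
    _ = _ := by group

theorem mem_zpowers_of_pow {ℓ r : Ω} (hrp : r ^ p = 1) (hrZ : r ∉ zpowers ℓ) {n : ℕ} (h : r ^ n ∈ zpowers ℓ) : p ∣ n := by
  by_contra hn
  have hc : Nat.Coprime n p := ((Nat.Prime.coprime_iff_not_dvd hp.out).2 hn).symm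
  obtain ⟨m, -, hm⟩ := Nat.exists_mul_mod_eq_one_of_coprime hc hp.out.one_lt
  apply hrZ
  have h1 : (r ^ n) ^ m = r := by
    rw [← pow_mul, pow_eq_pow_mod (n * m) hrp, hm, pow_one]
  rw [← h1]
  exact pow_mem h m

/-- An essential subgroup not containing `U` and not centralizing it has order `p²` and exponent `p`. -/
theorem case_ii_a (hS : IsPGroup p S) (hF : F.IsSaturated p) (hp5 : 5 ≤ p) {U : Subgroup Ω} {ℓ : Ω} (hUD : UD S U p ℓ) {E : Subgroup Ω}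
    (hE : F.IsEssential p E) (hUE : ¬ U ≤ E) (hEC : ¬ E ≤ centralizerIn S U) (hne : ¬ S ≤ E) : EA p E := by
  classical
  have hpp := hp.out
  have hp2 : p ≠ 2 := by omega
  have hES : E ≤ S := hE.1.1
  have hcent : centralizerIn S E ≤ E := hE.1.2 E (isConj_refl hES)
  have hR : F.IsRadical p E := isRadical_of_essential hS hE
  haveI : Finite E := finite_of_le hES
  have hEp : IsPGroup p E := hS.to_le hES
  have hpel : ∀ x ∈ S, ∃ N : ℕ, x ^ p ^ N = 1 := by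
    intro x hx
    obtain ⟨k, hk⟩ := hS ⟨x, hx⟩
    exact ⟨k, by simpa using congrArg Subtype.val hk⟩
  have hℓE : ℓ ∈ E := hcent (mem_cS.2 ⟨hUD.le hUD.mem, fun e he => (hUD.cen e (hES he)).symm⟩)
  have hZE : zpowers ℓ ≤ E := (zpowers_le).2 hℓE
  have hUZ : ∀ a ∈ U, a ∈ E → a ∈ zpowers ℓ := by
    intro a ha haE
    by_contra hcon
    apply hUE
    intro x hx
    obtain ⟨i, j, rfl⟩ := hUD.ea.decomp hUD.mem hUD.ne ha hcon hx
    exact E.mul_mem (E.pow_mem hℓE i) (E.pow_mem haE j)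
  have hΩ₀ : ∀ x ∈ E, x ^ p = 1 → x ∈ centralizerIn S U → x ∈ zpowers ℓ :=
    fun x hx hxp hxC => hUZ x (hUD.rk x (hES hx) hxp (mem_cS.1 hxC).2) hx
  obtain ⟨y, hyN, hyE⟩ := exists_mem_normalizerIn_not_mem hS (lt_of_le_not_ge hES hne)
  have hyS := hyN.1
  have hnc : ¬ IsCyclic E := by
    intro hcyc
    haveI := hcyc
    apply hyE
    have hcA := cy_mem (F := F) hES hyN
    have hW : Subgroup.zpowers (autOfNormalizer hyN.2) ≤ opAut F p E := by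
      refine le_opAut ((zpowers_le).2 hcA) ?_ ?_
      · have hq := isPGroup_autInducedBy (p := p) hS hES ⟨_, autOfNormalizer_mem_autInducedBy hyN.2 hyS⟩
        obtain ⟨N, hN⟩ := hq
        have hN' : (autOfNormalizer hyN.2) ^ p ^ N = 1 := congrArg Subtype.val hN
        rintro ⟨g, k, rfl⟩
        refine ⟨N, Subtype.ext ?_⟩
        show ((autOfNormalizer hyN.2) ^ k) ^ p ^ N = 1
        rw [← zpow_natCast, ← zpow_mul, mul_comm, zpow_mul, zpow_natCast, hN', one_zpow]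
      · intro β _ α hα
        rw [mulAut_comm_of_isCyclic β α, mul_inv_cancel_right]
        exact hα
    have h2 : opAut F p E = Inn E := hR.2
    rw [h2] at hW
    exact mem_of_autOfNormalizer_mem_inn hES hcent hyN (hW (mem_zpowers _))
  obtain ⟨V, hVE, hV, hVn⟩ := exists_normal_EA hEp hp2 hnc
  -- a non central element of `V`
  have hv₀ : ∃ v₀ ∈ V, v₀ ∉ centralizerIn S U := by
    by_contra hcon
    push Not at hcon
    have h1 : V ≤ zpowers ℓ := fun x hx => hΩ₀ x (hVE hx) (hV.exp x hx) (hcon x hx)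
    haveI : Finite (zpowers ℓ) := finite_of_le hZE
    have h2 := Nat.card_le_card_of_injective (Subgroup.inclusion h1) (Subgroup.inclusion_injective h1)
    rw [hV.card, Nat.card_zpowers, orderOf_eq_prime hUD.ℓp hUD.ne, pow_two] at h2
    have h3 : p * p ≤ p * 1 := by simpa using h2
    have h4 := Nat.le_of_mul_le_mul_left h3 hpp.pos
    exact absurd hpp.one_lt (by omega)
  obtain ⟨v₀, hv₀V, hv₀C⟩ := hv₀
  have hv₀S := hES (hVE hv₀V)
  have hv₀1 : v₀ ≠ 1 := by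
    rintro rfl
    exact hv₀C (Subgroup.one_mem _)
  have hℓV : ℓ ∈ V := by
    obtain ⟨w, hwV, hwz⟩ := hV.exists_compl hv₀V hv₀1
    obtain ⟨k, hk⟩ := hUD.exists_mul_pow_mem hv₀S hv₀C (hES (hVE hwV))
    have hxV : w * v₀ ^ k ∈ V := V.mul_mem hwV (V.pow_mem hv₀V k)
    have hx1 : w * v₀ ^ k ≠ 1 := by
      intro h0
      apply hwz
      rw [eq_inv_of_mul_eq_one_left h0]
      exact Subgroup.inv_mem _ (pow_mem (mem_zpowers _) k)
    have h3 := hΩ₀ _ (hVE hxV) (hV.exp _ hxV) hk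
    exact (zpowers_le).2 hxV (mem_zpowers_of_mem hUD.ℓp h3 hx1)
  have hZV : zpowers ℓ ≤ V := (zpowers_le).2 hℓV
  have hdec : ∀ e ∈ E, ∃ a₁ ∈ E, a₁ ∈ centralizerIn S U ∧ ∃ v₁ ∈ V, e = a₁ * v₁ := by
    intro e he
    obtain ⟨k, hk⟩ := hUD.exists_mul_pow_mem hv₀S hv₀C (hES he)
    refine ⟨_, E.mul_mem he (E.pow_mem (hVE hv₀V) k), hk, (v₀ ^ k)⁻¹, V.inv_mem (V.pow_mem hv₀V k), ?_⟩
    group
  have hpow : ∀ a₁ ∈ E, a₁ ∈ centralizerIn S U → ∀ v₁ ∈ V, (a₁ * v₁) ^ p = a₁ ^ p := by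
    intro a₁ ha₁ ha₁C v₁ hv₁
    have hcV : v₁ * a₁ * v₁⁻¹ * a₁⁻¹ ∈ V := by
      have := V.mul_mem hv₁ (hVn a₁ ha₁ _ (V.inv_mem hv₁))
      simpa [mul_assoc] using this
    have hcC : v₁ * a₁ * v₁⁻¹ * a₁⁻¹ ∈ centralizerIn S U :=
      Subgroup.mul_mem _ (hUD.conj_C (hES (hVE hv₁)) ha₁C) (Subgroup.inv_mem _ ha₁C)
    have hcZ := hΩ₀ _ (hVE hcV) (hV.exp _ hcV) hcC
    have h1 := pow_class2 (u := a₁) (z := v₁) (c := v₁ * a₁ * v₁⁻¹ * a₁⁻¹) (hUD.cen' (hES (hVE hv₁)) hcZ).symm (hUD.cen' (hES ha₁) hcZ).symm (by group) p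
    have hdvd : p ∣ p.choose 2 := Nat.Prime.dvd_choose_self hpp two_ne_zero (lt_of_le_of_ne hpp.two_le hp2.symm)
    obtain ⟨q, hq⟩ := hdvd
    rw [h1, hq, pow_mul, hV.exp _ hcV, one_pow, mul_one, hV.exp _ hv₁, mul_one]
  have hΩV : ∀ e ∈ E, e ^ p = 1 → e ∈ V := by
    intro e he hep
    obtain ⟨a₁, ha₁, ha₁C, v₁, hv₁, rfl⟩ := hdec e he
    rw [hpow a₁ ha₁ ha₁C v₁ hv₁] at hep
    exact V.mul_mem (hZV (hΩ₀ a₁ ha₁ hep ha₁C)) hv₁
  by_cases hall : ∀ w ∈ E, w ^ p = 1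
  · have : E = V := le_antisymm (fun x hx => hΩV x hx (hall x hx)) hVE
    rw [this]
    exact hV
  · exfalso
    push Not at hall
    obtain ⟨w, hw, hw1⟩ := hall
    obtain ⟨N, hN⟩ := hpel _ (S.pow_mem (hES hw) p)
    obtain ⟨j, hj1, hj2⟩ := exists_pow_p hw1 hN
    obtain ⟨w₁, hw₁d⟩ : ∃ w₁, w₁ = w ^ p ^ j := ⟨_, rfl⟩
    have hw₁E : w₁ ∈ E := by
      rw [hw₁d]
      exact E.pow_mem hw _
    have hw₁p : w₁ ^ p = (w ^ p) ^ p ^ j := by
      rw [hw₁d, pow_right_comm]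
    rw [← hw₁p] at hj1 hj2
    have hpC : ∀ e ∈ E, e ^ p ∈ centralizerIn S U := fun e he => hUD.pow_mem_C (hES he)
    have ht₁Z : w₁ ^ p ∈ zpowers ℓ := hΩ₀ _ (E.pow_mem hw₁E p) hj2 (hpC _ hw₁E)
    obtain ⟨m, hm⟩ := zpowers_swap hUD.ℓp ht₁Z hj1
    have hℓw : (w₁ ^ m) ^ p = ℓ := by
      rw [pow_right_comm, hm]
    have hZinv : ∀ α : MulAut E, ∀ c ∈ zpowers ℓ, fn α c ∈ zpowers ℓ := by
      intro α c hc
      have h1 : fn α ℓ ∈ zpowers ℓ := by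
        have hwE := E.pow_mem hw₁E m
        refine hΩ₀ _ (fn_mem α hℓE) ?_ ?_
        · rw [← fnp α hℓE, hUD.ℓp, fn1]
        · rw [← hℓw, fnp α hwE]
          exact hpC _ (fn_mem α hwE)
      obtain ⟨k, rfl⟩ := mem_zpowers_nat hUD.ℓp hc
      rw [fnp α hℓE]
      exact pow_mem h1 k
    refine hyE (rad_mem hS hp2 hR hcent hZV hVE hVn (fun x hx hxp _ => hΩV x hx hxp) (fun α _ c hc => hZinv α c hc) ?_ hyN ?_ ?_)
    · intro α _ v hv
      refine hΩV _ (fn_mem α (hVE hv)) ?_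
      rw [← fnp α (hVE hv), hV.exp v hv, fn1]
    · intro l hl
      rw [hUD.cen' hyS hl, mul_inv_cancel_right]
    · intro v hv
      obtain ⟨N', hN'⟩ := hpel y hyS
      have hyV : ∀ v ∈ V, y * v * y⁻¹ ∈ V := by
        intro v hv
        have h1 : y * v * y⁻¹ ∈ E := conj_mem_of_normalizer hyN.2 (hVE hv)
        refine hΩV _ h1 ?_
        rw [_root_.conj_pow, hV.exp v hv, mul_one, mul_inv_cancel]
      have h1 := act_line hV hyV hN' hℓV hUD.ne (hUD.cen y hyS) hv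
      have h2 : v⁻¹ * (y * v * y⁻¹) = y * v * y⁻¹ * v⁻¹ := hV.comm _ (V.inv_mem hv) _ (hyV v hv)
      rw [h2]
      exact h1

end Cfsg.Agent.Lib.Fusion2.RK
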