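import Cfsg.Agent.Lib.Fusion2.RK6

/-!
# Rank two `p`-groups: essential subgroups of order `p²` not containing `U`
-/

set_option autoImplicit false
set_option linter.unusedSectionVars false
set_option linter.style.haveILetI false

namespace Cfsg.Agent.Lib.Fusion2.RK

open Cfsg Cfsg.FusionSystem Cfsg.Agent.Lib.Fusion Subgroup

universe u

variable {Ω : Type u} [Group Ω] {p : ℕ} [hp : Fact p.Prime] {S : Subgroup Ω} [Finite S] {F : FusionSystem S}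

theorem aux_cancel {A B C K : Ω} (h1 : A * B = B * A) (h2 : C * B = B * C) : (A * B)⁻¹ * (C * (B * K)) = A⁻¹ * C * K := by
  calc (A * B)⁻¹ * (C * (B * K)) = (B * A)⁻¹ * ((C * B) * K) := by rw [h1, mul_assoc]
    _ = (B * A)⁻¹ * ((B * C) * K) := by rw [h2]
    _ = _ := by group

theorem case_ii_b (hS : IsPGroup p S) (hF : F.IsSaturated p) (hp5 : 5 ≤ p) (hrk : Rk S p) {U : Subgroup Ω} {ℓ : Ω} (hUD : UD S U p ℓ) {E : Subgroup Ω}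
    (hE : F.IsEssential p E) (hUE : ¬ U ≤ E) (hEC : ¬ E ≤ centralizerIn S U) (hne : ¬ S ≤ E)
    (hnotE : ¬ (Nat.card S = p ^ 3 ∧ Monoid.exponent S = p)) (hEA : EA p E) : False := by
  classical
  have hpp := hp.out
  have hp2 : p ≠ 2 := by omega
  have hES : E ≤ S := hE.1.1
  have hcent : centralizerIn S E ≤ E := hE.1.2 E (isConj_refl hES)
  have hR : F.IsRadical p E := isRadical_of_essential hS hE
  have hfn : F.IsFullyNormalized E := hE.2.1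
  haveI : Finite E := finite_of_le hES
  have hpel : ∀ x ∈ S, ∃ N : ℕ, x ^ p ^ N = 1 := by
    intro x hx
    obtain ⟨k, hk⟩ := hS ⟨x, hx⟩
    exact ⟨k, by simpa using congrArg Subtype.val hk⟩
  have hℓE : ℓ ∈ E := hcent (mem_cS.2 ⟨hUD.le hUD.mem, fun e he => (hUD.cen e (hES he)).symm⟩)
  have hZE : zpowers ℓ ≤ E := (zpowers_le).2 hℓE
  have hZU : zpowers ℓ ≤ U := hUD.zle
  have hUZ : ∀ a ∈ U, a ∈ E → a ∈ zpowers ℓ := by
    intro a ha haE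
    by_contra hcon
    apply hUE
    intro x hx
    obtain ⟨i, j, rfl⟩ := hUD.ea.decomp hUD.mem hUD.ne ha hcon hx
    exact E.mul_mem (E.pow_mem hℓE i) (E.pow_mem haE j)
  have hEC₀ : ∀ e ∈ E, e ∈ centralizerIn S U → e ∈ zpowers ℓ :=
    fun x hx hxC => hUZ x (hUD.rk x (hES hx) (hEA.exp x hx) (mem_cS.1 hxC).2) hx
  obtain ⟨y, hyN, hyE⟩ := exists_mem_normalizerIn_not_mem hS (lt_of_le_not_ge hES hne)
  have hUC : U ≤ centralizerIn S U := fun u hu => mem_cS.2 ⟨hUD.le hu, fun v hv => hUD.ea.comm u hu v hv⟩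
  -- the line is not invariant
  have hx : ∃ x ∈ F.autGroup E, fn x ℓ ∉ zpowers ℓ := by
    by_contra hcon
    push Not at hcon
    refine hyE (rad_mem hS hp2 hR hcent hZE le_rfl (fun e he v hv => E.mul_mem (E.mul_mem he hv) (E.inv_mem he)) (fun x hx _ _ => hx) ?_
      (fun α _ v hv => fn_mem α hv) hyN ?_ ?_)
    · intro α hα c hc
      obtain ⟨k, rfl⟩ := mem_zpowers_nat hUD.ℓp hc
      rw [fnp α hℓE]
      exact pow_mem (hcon α hα) k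
    · intro l hl
      rw [hUD.cen' hyN.1 hl, mul_inv_cancel_right]
    · intro v hv
      obtain ⟨N, hN⟩ := hpel y hyN.1
      have h1 := act_line hEA (fun v hv => conj_mem_of_normalizer hyN.2 hv) hN hℓE hUD.ne (hUD.cen y hyN.1) hv
      have h2 : v⁻¹ * (y * v * y⁻¹) = y * v * y⁻¹ * v⁻¹ := hEA.comm _ (E.inv_mem hv) _ (conj_mem_of_normalizer hyN.2 hv)
      rw [h2]
      exact h1
  obtain ⟨x, hxA, hxℓ⟩ := hx
  obtain ⟨v, hvd⟩ : ∃ v, v = fn x ℓ := ⟨_, rfl⟩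
  rw [← hvd] at hxℓ
  have hvE : v ∈ E := by
    rw [hvd]
    exact fn_mem x hℓE
  have hvS := hES hvE
  have hvp : v ^ p = 1 := hEA.exp v hvE
  have hvC : v ∉ centralizerIn S U := fun hc => hxℓ (hEC₀ v hvE hc)
  obtain ⟨u₀, hu₀U, hu₀Z⟩ := hUD.exists_compl
  have hu₀E : u₀ ∉ E := fun h => hu₀Z (hUZ u₀ hu₀U h)
  have hu₀S := hUD.le hu₀U
  have hact' : ∀ a ∈ U, ∀ e ∈ E, e⁻¹ * (a * e * a⁻¹) ∈ zpowers ℓ := by
    intro a ha e he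
    have := hUD.act e⁻¹ (S.inv_mem (hES he)) a ha
    simpa [mul_assoc] using this
  have hUEn : ∀ a ∈ U, ∀ e ∈ E, a * e * a⁻¹ ∈ E := by
    intro a ha e he
    have := E.mul_mem he (hZE (hact' a ha e he))
    simpa using this
  have hUN : ∀ a ∈ U, a ∈ normalizerIn S E := fun a ha =>
    ⟨hUD.le ha, mem_normalizer_of_conj_mem hES (fun e he => hUEn a ha e he)⟩
  -- the element `b`
  obtain ⟨b, hbd⟩ : ∃ b, b = v⁻¹ * (u₀ * v * u₀⁻¹) := ⟨_, rfl⟩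
  have hbZ : b ∈ zpowers ℓ := by
    rw [hbd]
    exact hact' u₀ hu₀U v hvE
  have hbE : b ∈ E := hZE hbZ
  have hbp : b ^ p = 1 := hEA.exp b hbE
  have hu₀v : u₀ * v * u₀⁻¹ = v * b := by
    rw [hbd, mul_inv_cancel_left]
  have hCSE : ∀ g ∈ S, g * v = v * g → g ∈ E := by
    intro g hg hgv
    refine hcent (mem_cS.2 ⟨hg, fun e he => ?_⟩)
    obtain ⟨i, j, rfl⟩ := hEA.decomp hℓE hUD.ne hvE hxℓ he
    have h1 : Commute g (ℓ ^ i) := Commute.pow_right (hUD.cen g hg) i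
    have h2 : Commute g (v ^ j) := Commute.pow_right hgv j
    exact (h1.mul_right h2).eq
  have hb1 : b ≠ 1 := by
    intro hb
    rw [hb, mul_one] at hu₀v
    apply hu₀E
    refine hCSE u₀ hu₀S ?_
    calc u₀ * v = u₀ * v * u₀⁻¹ * u₀ := by group
      _ = v * u₀ := by rw [hu₀v]
  have hℓb : ℓ ∈ zpowers b := mem_zpowers_of_mem hUD.ℓp hbZ hb1
  have hZb : ∀ c ∈ zpowers ℓ, ∃ i : ℕ, c = b ^ i := fun c hc => mem_zpowers_nat hbp ((zpowers_le).2 hℓb hc)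
  -- the transvections
  have hu₀N := hUN u₀ hu₀U
  obtain ⟨t₁, ht₁⟩ : ∃ t₁, t₁ = autOfNormalizer hu₀N.2 := ⟨_, rfl⟩
  have hct : ∀ e ∈ E, fn t₁ e = u₀ * e * u₀⁻¹ := fun e he => by rw [ht₁]; exact fn_cy _ he
  have ht₁A : t₁ ∈ F.autGroup E := by
    rw [ht₁]
    exact cy_mem hES hu₀N
  obtain ⟨t₂, ht₂⟩ : ∃ t₂, t₂ = x * t₁ * x⁻¹ := ⟨_, rfl⟩
  have ht₂A : t₂ ∈ F.autGroup E := by
    rw [ht₂]
    exact Subgroup.mul_mem _ (Subgroup.mul_mem _ hxA ht₁A) (Subgroup.inv_mem _ hxA)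
  have ht₂e : ∀ e ∈ E, fn t₂ e = fn x (fn t₁ (fn x⁻¹ e)) := by
    intro e he
    rw [ht₂, fn_mul _ _ he, fn_mul _ _ (fn_mem _ he)]
  have ht₂v : fn t₂ v = v := by
    rw [ht₂e v hvE, hvd, fn_inv_fn x hℓE, hct ℓ hℓE, hUD.cen u₀ hu₀S, mul_inv_cancel_right]
  obtain ⟨w₀, hw₀d⟩ : ∃ w₀, w₀ = fn x⁻¹ b := ⟨_, rfl⟩
  have hw₀E : w₀ ∈ E := by
    rw [hw₀d]
    exact fn_mem _ hbE
  obtain ⟨c, hc⟩ := mem_zpowers_nat hUD.ℓp (hact' u₀ hu₀U w₀ hw₀E)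
  have hyw : u₀ * w₀ * u₀⁻¹ = w₀ * ℓ ^ c := by
    rw [← hc, mul_inv_cancel_left]
  have hxw : fn x w₀ = b := by
    rw [hw₀d]
    exact fn_fn_inv x hbE
  have ht₂b : fn t₂ b = b * v ^ c := by
    rw [ht₂e b hbE, ← hw₀d, hct _ hw₀E, hyw, fn_map_mul x hw₀E (E.pow_mem hℓE c), hxw, fnp x hℓE, ← hvd]
  have hcd : ¬ p ∣ c := by
    rintro ⟨q, rfl⟩
    rw [pow_mul, hUD.ℓp, one_pow, mul_one] at hyw
    have hcm : u₀ * w₀ = w₀ * u₀ := by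
      calc u₀ * w₀ = u₀ * w₀ * u₀⁻¹ * u₀ := by group
        _ = w₀ * u₀ := by rw [hyw]
    by_cases hw₀Z : w₀ ∈ zpowers ℓ
    · obtain ⟨k, rfl⟩ := mem_zpowers_nat hUD.ℓp hw₀Z
      rw [fnp x hℓE, ← hvd] at hxw
      have h2 : b ∈ zpowers v := by
        rw [← hxw]
        exact pow_mem (mem_zpowers _) k
      have h3 := mem_zpowers_of_mem hvp h2 hb1
      exact hxℓ ((zpowers_le).2 hbZ h3)
    · apply hu₀E
      refine hcent (mem_cS.2 ⟨hu₀S, fun e he => ?_⟩)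
      obtain ⟨i, j, rfl⟩ := hEA.decomp hℓE hUD.ne hw₀E hw₀Z he
      have h1 : Commute u₀ (ℓ ^ i) := Commute.pow_right (hUD.cen u₀ hu₀S) i
      have h2 : Commute u₀ (w₀ ^ j) := Commute.pow_right hcm j
      exact (h1.mul_right h2).eq
  have hvb : v ∉ zpowers b := fun h => hxℓ ((zpowers_le).2 hbZ h)
  have hbot : ∀ α : MulAut E, ∀ z ∈ (⊥ : Subgroup Ω), fn α z ∈ (⊥ : Subgroup Ω) := by
    intro α z hz
    rw [Subgroup.mem_bot] at hz ⊢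
    rw [hz, fn1]
  obtain ⟨j₁, j₂, -, -, e3, e4, e5⟩ := torus (P := E) (Z := ⊥) (E := E) (p := p) bot_le le_rfl hp2
    (fun a ha b hb => by
      rw [Subgroup.mem_bot, hEA.comm a ha b hb]
      group)
    (fun a ha => by
      rw [Subgroup.mem_bot]
      exact hEA.exp a ha)
    (t₁ := t₁) (t₂ := t₂) (fun u hu => fn_mem _ hu) (fun u hu => fn_mem _ hu) (hbot _) (hbot _)
    (fun u hu => fn_mem _ hu) (fun u hu => fn_mem _ hu) (hbot _) (hbot _) hbE hvE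
    (fun u hu => by
      obtain ⟨i, j, hij⟩ := hEA.decomp hbE hb1 hvE hvb hu
      refine ⟨i, j, ?_⟩
      rw [Subgroup.mem_bot, ← hij, inv_mul_cancel])
    (by
      rw [Subgroup.mem_bot, hct _ hbE, hUD.cen' hu₀S hbZ]
      group)
    (by
      rw [Subgroup.mem_bot, hct _ hvE, hu₀v]
      group)
    (by
      rw [Subgroup.mem_bot, ht₂v]
      group)
    hcd
    (by
      rw [Subgroup.mem_bot, ht₂b]
      group)
  obtain ⟨d, hd⟩ : ∃ d, d = (t₁ ^ 2 * t₂ ^ j₂ * t₁ ^ 2) * (t₁ * t₂ ^ j₁ * t₁) := ⟨_, rfl⟩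
  rw [← hd] at e3 e4 e5
  rw [Subgroup.mem_bot] at e3 e4
  have hdb : fn d b = (b ^ 2)⁻¹ := eq_inv_of_mul_eq_one_right e3
  have hdv : fn d v = (v⁻¹) ^ ((p + 1) / 2) := (inv_mul_eq_one.1 e4).symm
  have hw1 : d * t₁ * d⁻¹ * (t₁ ^ 4)⁻¹ = 1 := by
    apply fn_ext
    intro e he
    have h1 := e5 e he
    rw [Subgroup.mem_bot, inv_mul_eq_one] at h1
    rw [← h1, fn_one he]
  have hcd' : d * t₁ = t₁ ^ 4 * d := by
    have h1 := mul_inv_eq_one.1 hw1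
    rw [← h1]
    group
  have hdA : d ∈ F.autGroup E := by
    rw [hd]
    have h1 := fun (n : ℕ) => Subgroup.pow_mem (F.autGroup E) ht₁A n
    have h2 := fun (n : ℕ) => Subgroup.pow_mem (F.autGroup E) ht₂A n
    exact Subgroup.mul_mem _ (Subgroup.mul_mem _ (Subgroup.mul_mem _ (h1 2) (h2 j₂)) (h1 2)) (Subgroup.mul_mem _ (Subgroup.mul_mem _ ht₁A (h2 j₁)) ht₁A)
  have hdZ : ∀ c ∈ zpowers ℓ, fn d c = (c ^ 2)⁻¹ := by
    intro c hc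
    obtain ⟨i, rfl⟩ := hZb c hc
    rw [fnp d hbE, hdb, inv_pow, ← pow_mul, ← pow_mul, mul_comm]
  have hinA : d * autOfNormalizer hu₀N.2 * d⁻¹ ∈ autInducedBy S E := by
    rw [← ht₁, hcd', mul_inv_cancel_right]
    refine Subgroup.pow_mem _ ?_ 4
    rw [ht₁]
    exact autOfNormalizer_mem_autInducedBy hu₀N.2 hu₀S
  obtain ⟨ψ₁, hψ₁, hψ₁v, hu₀R⟩ := exists_ext_over hS hF hfn hdA hu₀S hu₀N.2 hinA
  have hf₁ := isMapOn_toFun hψ₁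
  obtain ⟨f₁, hf₁d⟩ : ∃ f₁, f₁ = toFun ψ₁ := ⟨_, rfl⟩
  rw [← hf₁d] at hf₁
  have hER₁ := le_extender (autGroup_hom hES hdA)
  have hf₁E : ∀ e ∈ E, f₁ e = fn d e := by
    intro e he
    rw [hf₁d, toFun_of_mem _ (hER₁ he), hψ₁v ⟨e, he⟩, fn_of_mem _ he]
  have ht₁n : ∀ (n : ℕ) (e : Ω), e ∈ E → fn (t₁ ^ n) e = u₀ ^ n * e * (u₀ ^ n)⁻¹ := by
    intro n
    induction n with
    | zero => intro e he; simp [fn_one he]
    | succ n ih =>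
      intro e he
      have h1 : fn (t₁ ^ n) e ∈ E := fn_mem _ he
      rw [pow_succ', fn_mul _ _ he, hct _ h1, ih e he, pow_succ' u₀]
      group
  have hf₁rel : ∀ g' ∈ E, f₁ u₀ * g' * (f₁ u₀)⁻¹ = u₀ ^ 4 * g' * (u₀ ^ 4)⁻¹ := by
    intro g' hg'
    have he := fn_mem d⁻¹ hg'
    have h3 := hf₁.map_conj hu₀R (hER₁ he)
    have hyeE : u₀ * fn d⁻¹ g' * u₀⁻¹ ∈ E := hUEn u₀ hu₀U _ he
    rw [hf₁E _ hyeE, hf₁E _ he, fn_fn_inv d hg', ← hct _ he, ← fn_mul _ _ he, hcd', fn_mul _ _ he, fn_fn_inv d hg', ht₁n 4 _ hg'] at h3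
    exact h3.symm
  have hκE : (u₀ ^ 4)⁻¹ * f₁ u₀ ∈ E := by
    refine hcent (mem_cS.2 ⟨S.mul_mem (S.inv_mem (S.pow_mem hu₀S 4)) (hf₁.mem_S hu₀R), fun g' hg' => ?_⟩)
    have h3 := hf₁rel g' hg'
    have h4 : f₁ u₀ * g' = u₀ ^ 4 * g' * (u₀ ^ 4)⁻¹ * f₁ u₀ := by
      rw [← h3]
      group
    calc (u₀ ^ 4)⁻¹ * f₁ u₀ * g' = (u₀ ^ 4)⁻¹ * (f₁ u₀ * g') := by group
      _ = (u₀ ^ 4)⁻¹ * (u₀ ^ 4 * g' * (u₀ ^ 4)⁻¹ * f₁ u₀) := by rw [h4]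
      _ = _ := by group
  -- the group `N = U E`
  obtain ⟨N, hNd⟩ : ∃ N, N = prd U E hUEn := ⟨_, rfl⟩
  have hNmem : ∀ x, x ∈ N ↔ ∃ a ∈ U, ∃ e ∈ E, a * e = x := by
    intro x
    rw [hNd]
    exact Iff.rfl
  have hUN' : U ≤ N := fun a ha => (hNmem a).2 ⟨a, ha, 1, E.one_mem, mul_one a⟩
  have hEN : E ≤ N := fun e he => (hNmem e).2 ⟨1, U.one_mem, e, he, one_mul e⟩
  have hNS : N ≤ S := by
    intro x hx
    obtain ⟨a, ha, e, he, rfl⟩ := (hNmem x).1 hx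
    exact S.mul_mem (hUD.le ha) (hES he)
  haveI : Finite N := finite_of_le hNS
  have hNexp : ∀ n ∈ N, n ^ p = 1 := by
    intro n hn
    obtain ⟨a, ha, e, he, rfl⟩ := (hNmem n).1 hn
    have hcZ : e * a * e⁻¹ * a⁻¹ ∈ zpowers ℓ := hUD.act e (hES he) a ha
    have h1 := pow_class2 (u := a) (z := e) (c := e * a * e⁻¹ * a⁻¹) (hUD.cen' (hES he) hcZ).symm (hUD.cen' (hUD.le ha) hcZ).symm (by group) p
    have hdvd : p ∣ p.choose 2 := Nat.Prime.dvd_choose_self hpp two_ne_zero (lt_of_le_of_ne hpp.two_le hp2.symm)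
    obtain ⟨q, hq⟩ := hdvd
    rw [h1, hq, pow_mul, hUD.ea.exp _ (hZU hcZ), one_pow, hUD.ea.exp a ha, hEA.exp e he, one_mul, mul_one]
  have hNC : ∀ n ∈ N, n ∈ centralizerIn S U → n ∈ U := by
    intro n hn hnC
    obtain ⟨a, ha, e, he, rfl⟩ := (hNmem n).1 hn
    have h1 : e ∈ centralizerIn S U := by
      have := Subgroup.mul_mem _ (Subgroup.inv_mem _ (hUC ha)) hnC
      simpa using this
    exact U.mul_mem ha (hZU (hEC₀ e he h1))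
  have hNgen : ∀ n ∈ N, ∃ a' ∈ U, ∃ d' : ℕ, n = a' * v ^ d' := by
    intro n hn
    obtain ⟨a, ha, e, he, rfl⟩ := (hNmem n).1 hn
    obtain ⟨i, j, rfl⟩ := hEA.decomp hℓE hUD.ne hvE hxℓ he
    exact ⟨a * ℓ ^ i, U.mul_mem ha (U.pow_mem hUD.mem i), j, by group⟩
  have hbv : b * v = v * b := hEA.comm b hbE v hvE
  have hCNZ : ∀ c' ∈ S, ∀ c₁ ∈ zpowers ℓ, c' * v * c'⁻¹ = v * c₁ → c' ∈ N := by
    intro c' hc' c₁ hc₁ hrel
    obtain ⟨i, rfl⟩ := hZb c₁ hc₁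
    have h1 := conj_pow (z := u₀) (u := v) (c := b) (hUD.cen' hu₀S hbZ).symm (by rw [hu₀v, hbv]) i
    have h2 : b ^ i * v = v * b ^ i := (Commute.pow_left (hbv : Commute b v) i).eq
    have h3 : c' * v = v * b ^ i * c' := by
      rw [← hrel]
      group
    have h4 : v * b ^ i = u₀ ^ i * v * (u₀ ^ i)⁻¹ := by
      rw [h1, h2]
    have h5 : (u₀ ^ i)⁻¹ * c' ∈ E := by
      refine hCSE _ (S.mul_mem (S.inv_mem (S.pow_mem hu₀S i)) hc') ?_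
      calc (u₀ ^ i)⁻¹ * c' * v = (u₀ ^ i)⁻¹ * (c' * v) := by group
        _ = (u₀ ^ i)⁻¹ * (v * b ^ i * c') := by rw [h3]
        _ = (u₀ ^ i)⁻¹ * (u₀ ^ i * v * (u₀ ^ i)⁻¹ * c') := by rw [h4]
        _ = _ := by group
    refine (hNmem _).2 ⟨u₀ ^ i, U.pow_mem hu₀U i, _, h5, ?_⟩
    group
  by_cases hSN : S ≤ N
  · exact hnotE (hUD.final_ext hp2 (fun c hc => hNC c (hSN (mem_cS.1 hc).1) hc) hvS hvC hvp)
  -- the normalizer of `N`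
  obtain ⟨q, hqN, hqn⟩ := exists_mem_normalizerIn_not_mem hS (lt_of_le_not_ge hNS hSN)
  have hvN : v ∈ N := hEN hvE
  have hvnorm : ∀ k : ℕ, v ^ k ∈ normalizerIn S N := fun k => ⟨S.pow_mem hvS k, Subgroup.le_normalizer (N.pow_mem hvN k)⟩
  obtain ⟨k₀, hk₀⟩ := hUD.exists_mul_pow_mem hvS hvC hqN.1
  obtain ⟨s, hsd⟩ : ∃ s, s = q * v ^ k₀ := ⟨_, rfl⟩
  rw [← hsd] at hk₀
  have hsN : s ∈ normalizerIn S N := by
    rw [hsd]
    exact (normalizerIn S N).mul_mem hqN (hvnorm k₀)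
  have hsn : s ∉ N := by
    intro hin
    apply hqn
    have := N.mul_mem hin (N.inv_mem (N.pow_mem hvN k₀))
    rwa [hsd, mul_inv_cancel_right] at this
  have hsS := hsN.1
  have hsC := hk₀
  have hsC' : ∀ a ∈ U, s * a = a * s := (mem_cS.1 hsC).2
  have hrU' : ∀ c' ∈ centralizerIn S U, c' ∈ normalizerIn S N → ∀ n₀ ∈ N, n₀⁻¹ * (c' * n₀ * c'⁻¹) ∈ U := by
    intro c' hc' hc'N n₀ hn₀
    have hcU := (mem_cS.1 hc').2
    have hnN : c' * n₀ * c'⁻¹ ∈ N := conj_mem_of_normalizer hc'N.2 hn₀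
    have hmN := N.mul_mem (N.inv_mem hn₀) hnN
    refine hNC _ hmN (mem_cS.2 ⟨hNS hmN, fun a ha => ?_⟩)
    have h1 := hcU a ha
    have h1' : c'⁻¹ * a = a * c'⁻¹ := (Commute.inv_left (h1 : Commute c' a)).eq
    have h2 := hcU _ (hUD.nor n₀ (hNS hn₀) a ha)
    calc n₀⁻¹ * (c' * n₀ * c'⁻¹) * a = n₀⁻¹ * c' * n₀ * (c'⁻¹ * a) := by group
      _ = n₀⁻¹ * c' * n₀ * (a * c'⁻¹) := by rw [h1']
      _ = n₀⁻¹ * (c' * (n₀ * a * n₀⁻¹)) * n₀ * c'⁻¹ := by group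
      _ = n₀⁻¹ * ((n₀ * a * n₀⁻¹) * c') * n₀ * c'⁻¹ := by rw [h2]
      _ = _ := by group
  obtain ⟨r, hrd⟩ : ∃ r, r = v⁻¹ * (s * v * s⁻¹) := ⟨_, rfl⟩
  have hrU : r ∈ U := by
    rw [hrd]
    exact hrU' s hsC hsN v hvN
  have hsv : s * v * s⁻¹ = v * r := by rw [hrd, mul_inv_cancel_left]
  have hrZ : r ∉ zpowers ℓ := fun h => hsn (hCNZ s hsS r h hsv)
  have hrp : r ^ p = 1 := hUD.ea.exp r hrU
  have hsi : ∀ i : ℕ, s ^ i * v * (s ^ i)⁻¹ = v * r ^ i := by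
    intro i
    have h1 := conj_pow (z := s) (u := v) (c := v * r * v⁻¹) (hsC' _ (hUD.nor v hvS r hrU)).symm (by rw [hsv]; group) i
    rw [h1, _root_.conj_pow]
    group
  have hspv : s ^ p * v = v * s ^ p := by
    have h1 := hsi p
    rw [hrp, mul_one] at h1
    calc s ^ p * v = s ^ p * v * (s ^ p)⁻¹ * s ^ p := by group
      _ = v * s ^ p := by rw [h1]
  have hspE : s ^ p ∈ E := hCSE _ (S.pow_mem hsS p) hspv
  have hspZ : s ^ p ∈ zpowers ℓ := hEC₀ _ hspE (Subgroup.pow_mem _ hsC p)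
  have hsp1 : s ^ p ≠ 1 := fun h => hsn (hUN' (hUD.rk s hsS h hsC'))
  have hstruct : ∀ c' ∈ centralizerIn S U, c' ∈ normalizerIn S N → ∃ i : ℕ, ∃ a₀ ∈ U, c' = s ^ i * a₀ := by
    intro c' hc' hc'N
    have hr₁ := hrU' c' hc' hc'N v hvN
    obtain ⟨i, j, hij⟩ := hUD.ea.decomp hUD.mem hUD.ne hrU hrZ hr₁
    have hcS := hc'N.1
    have hsj : s ^ j ∈ centralizerIn S U := Subgroup.pow_mem _ hsC j
    have hc'' : (s ^ j)⁻¹ * c' ∈ centralizerIn S U := Subgroup.mul_mem _ (Subgroup.inv_mem _ hsj) hc'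
    have hrel : (s ^ j)⁻¹ * c' * v * ((s ^ j)⁻¹ * c')⁻¹ = v * ℓ ^ i := by
      have h1 : c' * v * c'⁻¹ = v * (ℓ ^ i * r ^ j) := by rw [← hij, mul_inv_cancel_left]
      have h2 := hsi j
      have h3 := (mem_cS.1 hsj).2 (r ^ j) (U.pow_mem hrU j)
      have hcomm := (mem_cS.1 hsj).2 (ℓ ^ i * r ^ j) (U.mul_mem (U.pow_mem hUD.mem i) (U.pow_mem hrU j))
      have h5 : (s ^ j)⁻¹ * v * s ^ j = v * (r ^ j)⁻¹ := by
        have h6 : s ^ j * v = v * r ^ j * s ^ j := by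
          calc s ^ j * v = s ^ j * v * (s ^ j)⁻¹ * s ^ j := by group
            _ = _ := by rw [h2]
        have h7 : (r ^ j)⁻¹ * s ^ j = s ^ j * (r ^ j)⁻¹ := (Commute.inv_left (h3.symm : Commute (r ^ j) (s ^ j))).eq
        calc (s ^ j)⁻¹ * v * s ^ j = (s ^ j)⁻¹ * (v * r ^ j * ((r ^ j)⁻¹ * s ^ j)) := by group
          _ = (s ^ j)⁻¹ * (v * r ^ j * (s ^ j * (r ^ j)⁻¹)) := by rw [h7]
          _ = (s ^ j)⁻¹ * ((v * r ^ j * s ^ j) * (r ^ j)⁻¹) := by group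
          _ = (s ^ j)⁻¹ * ((s ^ j * v) * (r ^ j)⁻¹) := by rw [h6]
          _ = _ := by group
      have h8 : ℓ ^ i * r ^ j = r ^ j * ℓ ^ i := hUD.ea.comm _ (U.pow_mem hUD.mem i) _ (U.pow_mem hrU j)
      calc (s ^ j)⁻¹ * c' * v * ((s ^ j)⁻¹ * c')⁻¹ = (s ^ j)⁻¹ * (c' * v * c'⁻¹) * s ^ j := by group
        _ = (s ^ j)⁻¹ * (v * (ℓ ^ i * r ^ j)) * s ^ j := by rw [h1]
        _ = (s ^ j)⁻¹ * v * ((ℓ ^ i * r ^ j) * s ^ j) := by group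
        _ = (s ^ j)⁻¹ * v * (s ^ j * (ℓ ^ i * r ^ j)) := by rw [hcomm]
        _ = ((s ^ j)⁻¹ * v * s ^ j) * (ℓ ^ i * r ^ j) := by group
        _ = v * (r ^ j)⁻¹ * (r ^ j * ℓ ^ i) := by rw [h5, h8]
        _ = v * ℓ ^ i := by group
    have hc''N := hCNZ _ (mem_cS.1 hc'').1 _ (pow_mem (mem_zpowers ℓ) i) hrel
    exact ⟨j, _, hNC _ hc''N hc'', by group⟩
  -- the elements of order `p` normalizing `N`
  have hΩM : ∀ q' ∈ normalizerIn S N, q' ^ p = 1 → q' ∈ N := by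
    intro q' hq' hq'p
    obtain ⟨k, hk⟩ := hUD.exists_mul_pow_mem hvS hvC hq'.1
    obtain ⟨a, had⟩ : ∃ a, a = q' * v ^ k := ⟨_, rfl⟩
    rw [← had] at hk
    obtain ⟨z, hzd⟩ : ∃ z, z = (v ^ k)⁻¹ := ⟨_, rfl⟩
    have hzN : z ∈ N := by
      rw [hzd]
      exact N.inv_mem (N.pow_mem hvN k)
    have hzS := hNS hzN
    have haM : a ∈ normalizerIn S N := by
      rw [had]
      exact (normalizerIn S N).mul_mem hq' (hvnorm k)
    have haS := haM.1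
    have hq'e : q' = a * z := by rw [had, hzd, mul_inv_cancel_right]
    obtain ⟨a₁, ha₁d⟩ : ∃ a₁, a₁ = a⁻¹ * (z * a * z⁻¹) := ⟨_, rfl⟩
    have ha₁C : a₁ ∈ centralizerIn S U := by
      rw [ha₁d]
      exact Subgroup.mul_mem _ (Subgroup.inv_mem _ hk) (hUD.conj_C hzS hk)
    have ha₁N : a₁ ∈ N := by
      have h1 : a⁻¹ * z * a⁻¹⁻¹ ∈ N := conj_mem_of_normalizer (Subgroup.inv_mem _ haM.2) hzN
      have h2 := N.mul_mem h1 (N.inv_mem hzN)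
      have h3 : a⁻¹ * z * a⁻¹⁻¹ * z⁻¹ = a₁ := by
        rw [ha₁d]
        group
      rwa [h3] at h2
    have ha₁U := hNC _ ha₁N ha₁C
    obtain ⟨a₂, ha₂d⟩ : ∃ a₂, a₂ = a₁⁻¹ * (z * a₁ * z⁻¹) := ⟨_, rfl⟩
    have ha₂Z : a₂ ∈ zpowers ℓ := by
      rw [ha₂d]
      exact hUD.act' hzS ha₁U
    have haC := (mem_cS.1 hk).2
    have h1 := pow_class3 (a := a) (z := z) (a₁ := a₁) (a₂ := a₂) (haC a₁ ha₁U) (hUD.cen' haS ha₂Z) (hUD.cen' (hUD.le ha₁U) ha₂Z)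
      (by rw [ha₁d, mul_inv_cancel_left]) (by rw [ha₂d, mul_inv_cancel_left]) (by rw [hUD.cen' hzS ha₂Z, mul_inv_cancel_right]) p
    have hd2 : p ∣ p.choose 2 := Nat.Prime.dvd_choose_self hpp two_ne_zero (by omega)
    have hd3 : p ∣ p.choose 3 := Nat.Prime.dvd_choose_self hpp three_ne_zero (by omega)
    obtain ⟨m₂, hm₂⟩ := hd2
    obtain ⟨m₃, hm₃⟩ := hd3
    have hapow : a ^ p = 1 := by
      rw [← hq'e, hq'p, hm₂, hm₃, pow_mul, pow_mul, hUD.ea.exp a₁ ha₁U, hUD.ea.exp a₂ (hZU ha₂Z), hNexp z hzN, one_pow, one_pow, mul_one, mul_one, mul_one] at h1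
      exact h1.symm
    have haU := hUD.rk a haS hapow haC
    rw [hq'e]
    exact N.mul_mem (hUN' haU) hzN
  have hMS : S ≤ normalizerIn S N := by
    by_contra hcon
    have hMle : normalizerIn S N ≤ S := fun x hx => hx.1
    obtain ⟨g, hgN, hgn⟩ := exists_mem_normalizerIn_not_mem hS (lt_of_le_not_ge hMle hcon)
    apply hgn
    refine ⟨hgN.1, mem_normalizer_of_conj_mem hNS fun x hx => ?_⟩
    refine hΩM _ (conj_mem_of_normalizer hgN.2 ⟨hNS hx, Subgroup.le_normalizer hx⟩) ?_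
    rw [_root_.conj_pow, hNexp x hx]
    group
  have hΩS : ∀ q' ∈ S, q' ^ p = 1 → q' ∈ N := fun q' hq' h => hΩM q' (hMS hq') h
  have hNfn : F.IsFullyNormalized N := by
    refine ⟨hNS, fun Q _ => ?_⟩
    have h1 : normalizerIn S N = S := le_antisymm (fun x hx => hx.1) hMS
    rw [h1]
    exact Subgroup.card_le_of_le (fun x hx => hx.1)
  have hNc : centralizerIn S N ≤ N := by
    intro x hx
    obtain ⟨hxS, hxc⟩ := mem_cS.1 hx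
    exact hEN (hcent (mem_cS.2 ⟨hxS, fun e he => hxc e (hEN he)⟩))
  have hNR₁ : N ≤ extender S E (E.subtype.comp d.toMonoidHom) := by
    intro x hx
    obtain ⟨a, ha, e, he, rfl⟩ := (hNmem x).1 hx
    refine Subgroup.mul_mem _ ?_ (hER₁ he)
    obtain ⟨i, j, rfl⟩ := hUD.ea.decomp hUD.mem hUD.ne hu₀U hu₀Z ha
    exact Subgroup.mul_mem _ (Subgroup.pow_mem _ (hER₁ hℓE) i) (Subgroup.pow_mem _ hu₀R j)
  have hf₁N : IsMapOn F N f₁ := hf₁.mono hNR₁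
  have hf₁im : ∀ x ∈ N, f₁ x ∈ N := by
    intro x hx
    refine hΩS _ (hf₁.mem_S (hNR₁ hx)) ?_
    rw [← mapOn_pow hf₁ (hNR₁ hx), hNexp x hx, hf₁.map_one]
  obtain ⟨δ, hδA, hδv⟩ := exists_aut_of_map hf₁N (isImage_self_of_le hf₁N hf₁im)
  by_cases hδU : ∀ a ∈ U, fn δ a ∈ U
  · -- `δ` preserves `U`
    haveI : Finite U := hUD.ea.finite
    have hδUinv : ∀ a ∈ U, fn δ⁻¹ a ∈ U := by
      intro a ha
      obtain ⟨z, hz, rfl⟩ := fn_surj_on hUN' δ hδU ha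
      rw [fn_inv_fn δ (hUN' hz)]
      exact hz
    have hQ : δ * autOfNormalizer hsN.2 * δ⁻¹ ∈ autInducedBy S N := by
      have hQe : ∀ e ∈ N, fn (δ * autOfNormalizer hsN.2 * δ⁻¹) e = fn δ (s * fn δ⁻¹ e * s⁻¹) := by
        intro e he
        rw [fn_mul _ _ he, fn_mul _ _ (fn_mem _ he), fn_cy _ (fn_mem _ he)]
      have hQU : ∀ a ∈ U, fn (δ * autOfNormalizer hsN.2 * δ⁻¹) a = a := by
        intro a ha
        rw [hQe a (hUN' ha), hsC' _ (hδUinv a ha), mul_inv_cancel_right, fn_fn_inv δ (hUN' ha)]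
      obtain ⟨n₀, hn₀⟩ : ∃ n₀, n₀ = fn δ⁻¹ v := ⟨_, rfl⟩
      have hn₀N : n₀ ∈ N := by
        rw [hn₀]
        exact fn_mem _ hvN
      obtain ⟨r₀, hr₀d⟩ : ∃ r₀, r₀ = n₀⁻¹ * (s * n₀ * s⁻¹) := ⟨_, rfl⟩
      have hsn₀ : s * n₀ * s⁻¹ = n₀ * r₀ := by rw [hr₀d, mul_inv_cancel_left]
      have hr₀U : r₀ ∈ U := by
        rw [hr₀d]
        exact hrU' s hsC hsN n₀ hn₀N
      have hδn₀ : fn δ n₀ = v := by
        rw [hn₀]
        exact fn_fn_inv δ hvN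
      have hQv : fn (δ * autOfNormalizer hsN.2 * δ⁻¹) v = v * fn δ r₀ := by
        rw [hQe v hvN, ← hn₀, hsn₀, fn_map_mul δ hn₀N (hUN' hr₀U), hδn₀]
      have hr'U := hδU r₀ hr₀U
      obtain ⟨j, i, hji⟩ := hUD.ea.decomp hUD.mem hUD.ne hrU hrZ hr'U
      obtain ⟨i', hi'⟩ := hZb (ℓ ^ j) (pow_mem (mem_zpowers ℓ) j)
      have hg₀S : u₀ ^ i' * s ^ i ∈ S := S.mul_mem (S.pow_mem hu₀S i') (S.pow_mem hsS i)
      have hg₀C : u₀ ^ i' * s ^ i ∈ centralizerIn S U := Subgroup.mul_mem _ (hUC (U.pow_mem hu₀U i')) (Subgroup.pow_mem _ hsC i)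
      have hg₀ := hMS hg₀S
      have hvrel : (u₀ ^ i' * s ^ i) * v * (u₀ ^ i' * s ^ i)⁻¹ = v * fn δ r₀ := by
        have h1 := conj_pow (z := u₀) (u := v) (c := b) (hUD.cen' hu₀S hbZ).symm (by rw [hu₀v, hbv]) i'
        have h2 := hsi i
        have h3 : u₀ ^ i' * r ^ i = r ^ i * u₀ ^ i' := hUD.ea.comm _ (U.pow_mem hu₀U i') _ (U.pow_mem hrU i)
        calc (u₀ ^ i' * s ^ i) * v * (u₀ ^ i' * s ^ i)⁻¹ = u₀ ^ i' * (s ^ i * v * (s ^ i)⁻¹) * (u₀ ^ i')⁻¹ := by group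
          _ = u₀ ^ i' * (v * r ^ i) * (u₀ ^ i')⁻¹ := by rw [h2]
          _ = (u₀ ^ i' * v * (u₀ ^ i')⁻¹) * (u₀ ^ i' * r ^ i) * (u₀ ^ i')⁻¹ := by group
          _ = (b ^ i' * v) * (r ^ i * u₀ ^ i') * (u₀ ^ i')⁻¹ := by rw [h1, h3]
          _ = (b ^ i' * v) * r ^ i := by group
          _ = (v * b ^ i') * r ^ i := by rw [(Commute.pow_left hbv i').eq]
          _ = v * (ℓ ^ j * r ^ i) := by
            rw [hi']
            group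
          _ = _ := by rw [← hji]
      have heq : δ * autOfNormalizer hsN.2 * δ⁻¹ = autOfNormalizer hg₀.2 := by
        apply fn_ext
        intro n hn
        obtain ⟨a', ha', d', rfl⟩ := hNgen n hn
        rw [fn_map_mul _ (hUN' ha') (N.pow_mem hvN d'), fnp _ hvN, hQU a' ha', hQv, fn_map_mul _ (hUN' ha') (N.pow_mem hvN d'), fnp _ hvN,
          fn_cy _ (hUN' ha'), fn_cy _ hvN, hvrel, (mem_cS.1 hg₀C).2 a' ha', mul_inv_cancel_right]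
      rw [heq]
      exact autOfNormalizer_mem_autInducedBy hg₀.2 hg₀S
    obtain ⟨ψ₂, hψ₂, hψ₂v, hsR₂⟩ := exists_ext_over hS hF hNfn hδA hsS hsN.2 hQ
    have hf₂ := isMapOn_toFun hψ₂
    obtain ⟨f₂, hf₂d⟩ : ∃ f₂, f₂ = toFun ψ₂ := ⟨_, rfl⟩
    rw [← hf₂d] at hf₂
    have hNR₂ := le_extender (autGroup_hom hNS hδA)
    have hf₂N : ∀ e ∈ N, f₂ e = fn δ e := by
      intro e he
      rw [hf₂d, toFun_of_mem _ (hNR₂ he), hψ₂v ⟨e, he⟩, fn_of_mem _ he]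
    have hf₂₁ : ∀ e ∈ N, f₂ e = f₁ e := fun e he => by rw [hf₂N e he, hδv e he]
    obtain ⟨T, hTd⟩ : ∃ T, T = f₂ s := ⟨_, rfl⟩
    have hTS : T ∈ S := by
      rw [hTd]
      exact hf₂.mem_S hsR₂
    have hTU : ∀ a ∈ U, T * a = a * T := by
      intro a ha
      have ha' := hδUinv a ha
      have h1 := hf₂.map_conj hsR₂ (hNR₂ (hUN' ha'))
      rw [hsC' _ ha', mul_inv_cancel_right, hf₂N _ (hUN' ha'), fn_fn_inv δ (hUN' ha), ← hTd] at h1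
      calc T * a = T * a * T⁻¹ * T := by group
        _ = a * T := by rw [← h1]
    have hTC : T ∈ centralizerIn S U := mem_cS.2 ⟨hTS, hTU⟩
    obtain ⟨f, a₁, ha₁, hTe⟩ := hstruct T hTC (hMS hTS)
    have hTp : T ^ p = (s ^ p) ^ f := by
      have h1 : Commute (s ^ f) a₁ := (mem_cS.1 (Subgroup.pow_mem _ hsC f)).2 a₁ ha₁
      rw [hTe, h1.mul_pow, hUD.ea.exp a₁ ha₁, mul_one, ← pow_mul, ← pow_mul, mul_comm]
    have hσN : s ^ p ∈ N := hUN' (hZU hspZ)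
    have hσ1 : f₂ (s ^ p) = ((s ^ p) ^ 2)⁻¹ := by
      rw [hf₂₁ _ hσN, hf₁E _ hspE, hdZ _ hspZ]
    have hσ2 : f₂ (s ^ p) = T ^ p := by
      rw [mapOn_pow hf₂ hsR₂ p, ← hTd]
    have hσp : (s ^ p) ^ p = 1 := hUD.ea.exp _ (hZU hspZ)
    have hf2 : p ∣ f + 2 := by
      have h1 : (s ^ p) ^ f = ((s ^ p) ^ 2)⁻¹ := by rw [← hTp, ← hσ2, hσ1]
      have h2 : (s ^ p) ^ (f + 2) = 1 := by
        rw [pow_add, h1, inv_mul_cancel]
      have h3 := orderOf_dvd_of_pow_eq_one h2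
      rwa [orderOf_eq_prime hσp hsp1] at h3
    -- the image of `v ^ 2`
    have hm : (p + 1) / 2 * 2 = p + 1 := by
      obtain ⟨k, hk⟩ := hpp.odd_of_ne_two hp2
      omega
    have hv₀ : f₁ (v ^ 2) = v⁻¹ := by
      rw [hf₁E _ (E.pow_mem hvE 2), fnp d hvE, hdv, ← pow_mul, hm, pow_succ, inv_pow, hvp, inv_one, one_mul]
    -- commutator relations
    obtain ⟨c, hcd⟩ : ∃ c, c = r⁻¹ * (v⁻¹ * r * v⁻¹⁻¹) := ⟨_, rfl⟩
    have hcZ : c ∈ zpowers ℓ := by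
      rw [hcd]
      exact hUD.act' (S.inv_mem hvS) hrU
    have hrvc : r * v = v * (r * c) := by
      rw [hcd]
      group
    have hs2 : s * v ^ 2 * s⁻¹ = v ^ 2 * r ^ 2 * c := by
      have hcr : c * r = r * c := (hUD.cen' (hUD.le hrU) hcZ).symm
      rw [← _root_.conj_pow, hsv]
      calc (v * r) ^ 2 = v * (r * v) * r := by simp only [pow_two, mul_assoc]
        _ = v * (v * (r * c)) * r := by rw [hrvc]
        _ = v * v * r * (c * r) := by group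
        _ = v * v * r * (r * c) := by rw [hcr]
        _ = _ := by simp only [pow_two, mul_assoc]
    have hrN := hUN' hrU
    have hcE := hZE hcZ
    have hr2N : r ^ 2 ∈ N := N.pow_mem hrN 2
    have hv2N : v ^ 2 ∈ N := N.pow_mem hvN 2
    have hcN : c ∈ N := hEN hcE
    have e₁ : v⁻¹ * (f₁ r) ^ 2 * f₁ c = T * v⁻¹ * T⁻¹ := by
      have h1 := hf₂.map_conj hsR₂ (hNR₂ hv2N)
      rw [hs2, hf₂₁ _ (N.mul_mem (N.mul_mem hv2N hr2N) hcN), hf₂₁ _ hv2N, hv₀, ← hTd,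
        hf₁.map_mul (hNR₁ (N.mul_mem hv2N hr2N)) (hNR₁ hcN), hf₁.map_mul (hNR₁ hv2N) (hNR₁ hr2N), hv₀, mapOn_pow hf₁ (hNR₁ hrN) 2] at h1
      exact h1
    obtain ⟨c₄, hc₄d⟩ : ∃ c₄, c₄ = v⁻¹ * (a₁ * v * a₁⁻¹) := ⟨_, rfl⟩
    have hc₄Z : c₄ ∈ zpowers ℓ := by
      rw [hc₄d]
      exact hact' a₁ ha₁ v hvE
    have ha₁v : a₁ * v * a₁⁻¹ = v * c₄ := by rw [hc₄d, mul_inv_cancel_left]
    have hTv : T * v * T⁻¹ = v * (r ^ f * c₄) := by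
      have h1 := hUD.cen' (S.pow_mem hsS f) hc₄Z
      calc T * v * T⁻¹ = s ^ f * (a₁ * v * a₁⁻¹) * (s ^ f)⁻¹ := by
            rw [hTe]
            group
        _ = s ^ f * (v * c₄) * (s ^ f)⁻¹ := by rw [ha₁v]
        _ = (s ^ f * v * (s ^ f)⁻¹) * (s ^ f * c₄ * (s ^ f)⁻¹) := by group
        _ = (v * r ^ f) * (c₄ * s ^ f * (s ^ f)⁻¹) := by rw [hsi f, h1]
        _ = _ := by group
    have hRU : r ^ f * c₄ ∈ U := U.mul_mem (U.pow_mem hrU f) (hZU hc₄Z)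
    obtain ⟨R, hRd⟩ : ∃ R, R = r ^ f * c₄ := ⟨_, rfl⟩
    rw [← hRd] at hTv hRU
    obtain ⟨c₇, hc₇d⟩ : ∃ c₇, c₇ = (R⁻¹)⁻¹ * (v * R⁻¹ * v⁻¹) := ⟨_, rfl⟩
    have hc₇Z : c₇ ∈ zpowers ℓ := by
      rw [hc₇d]
      exact hUD.act' hvS (U.inv_mem hRU)
    have e₂ : (f₁ r) ^ 2 * f₁ c = R⁻¹ * c₇ := by
      have h1 : T * v⁻¹ * T⁻¹ = (v * R)⁻¹ := by
        rw [← hTv]
        group
      rw [h1] at e₁
      have h2 : (f₁ r) ^ 2 * f₁ c = v * (v⁻¹ * (f₁ r) ^ 2 * f₁ c) := by group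
      rw [h2, e₁, hc₇d]
      group
    -- the action of `f₁` on `U` modulo the line
    have hκ : (u₀ ^ 4)⁻¹ * f₁ u₀ ∈ zpowers ℓ := by
      have hfu : f₁ u₀ ∈ U := by
        rw [← hδv u₀ (hUN' hu₀U)]
        exact hδU u₀ hu₀U
      exact hUZ _ (U.mul_mem (U.inv_mem (U.pow_mem hu₀U 4)) hfu) hκE
    have hD : (r ^ 4)⁻¹ * f₁ r ∈ zpowers ℓ := by
      obtain ⟨i, j, hij⟩ := hUD.ea.decomp hUD.mem hUD.ne hu₀U hu₀Z hrU
      obtain ⟨κ, hκd⟩ : ∃ κ, κ = (u₀ ^ 4)⁻¹ * f₁ u₀ := ⟨_, rfl⟩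
      rw [← hκd] at hκ
      have hfu : f₁ u₀ = u₀ ^ 4 * κ := by rw [hκd, mul_inv_cancel_left]
      have hfℓ : f₁ ℓ = (ℓ ^ 2)⁻¹ := by
        rw [hf₁E ℓ hℓE, hdZ ℓ (mem_zpowers ℓ)]
      have h1 : f₁ r = ((ℓ ^ 2)⁻¹) ^ i * (u₀ ^ 4 * κ) ^ j := by
        rw [hij, hf₁.map_mul (Subgroup.pow_mem _ (hER₁ hℓE) i) (Subgroup.pow_mem _ hu₀R j), mapOn_pow hf₁ (hER₁ hℓE), mapOn_pow hf₁ hu₀R, hfℓ, hfu]
      have hcu : Commute (u₀ ^ 4) κ := (hUD.cen' (S.pow_mem hu₀S 4) hκ)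
      have hcℓ : Commute (ℓ ^ i) (u₀ ^ j) := hUD.cen' (S.pow_mem hu₀S j) (pow_mem (mem_zpowers ℓ) i) |>.symm
      have h2 : r ^ 4 = (ℓ ^ i) ^ 4 * (u₀ ^ j) ^ 4 := by
        rw [hij, hcℓ.mul_pow]
      have h3 : (u₀ ^ j) ^ 4 = (u₀ ^ 4) ^ j := pow_right_comm u₀ j 4
      rw [h1, h2, hcu.mul_pow, h3]
      have hz₁ : (ℓ ^ i) ^ 4 ∈ zpowers ℓ := pow_mem (pow_mem (mem_zpowers ℓ) i) 4
      have hz₂ : ((ℓ ^ 2)⁻¹) ^ i ∈ zpowers ℓ := pow_mem (inv_mem (pow_mem (mem_zpowers ℓ) 2)) i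
      have hz₃ : κ ^ j ∈ zpowers ℓ := pow_mem hκ j
      have hz := mul_mem (mul_mem (inv_mem hz₁) hz₂) hz₃
      have h4 := aux_cancel (A := (ℓ ^ i) ^ 4) (B := (u₀ ^ 4) ^ j) (C := ((ℓ ^ 2)⁻¹) ^ i) (K := κ ^ j)
        (hUD.cen' (S.pow_mem (S.pow_mem hu₀S 4) j) hz₁).symm (hUD.cen' (S.pow_mem (S.pow_mem hu₀S 4) j) hz₂).symm
      rw [h4]
      exact hz
    obtain ⟨D, hDd⟩ : ∃ D, D = (r ^ 4)⁻¹ * f₁ r := ⟨_, rfl⟩
    rw [← hDd] at hD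
    have hfr : f₁ r = r ^ 4 * D := by rw [hDd, mul_inv_cancel_left]
    have hfc : f₁ c ∈ zpowers ℓ := by
      rw [hf₁E c hcE, hdZ c hcZ]
      exact inv_mem (pow_mem hcZ 2)
    have hcr4 : Commute (r ^ 4) D := hUD.cen' (S.pow_mem (hUD.le hrU) 4) hD
    have hzZ : D ^ 2 * f₁ c ∈ zpowers ℓ := mul_mem (pow_mem hD 2) hfc
    obtain ⟨z, hzd⟩ : ∃ z, z = D ^ 2 * f₁ c := ⟨_, rfl⟩
    rw [← hzd] at hzZ
    have e₃ : r ^ 8 * z = c₄⁻¹ * (r ^ f)⁻¹ * c₇ := by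
      have h1 : (r ^ 4) ^ 2 = r ^ 8 := by rw [← pow_mul]
      rw [hfr, hcr4.mul_pow, h1, hRd, mul_inv_rev] at e₂
      rw [hzd, ← mul_assoc]
      exact e₂
    have h2 : r ^ f * c₄⁻¹ = c₄⁻¹ * r ^ f := hUD.cen' (S.pow_mem (hUD.le hrU) f) (inv_mem hc₄Z)
    have hmod : r ^ (f + 8) ∈ zpowers ℓ := by
      have h3 : r ^ (f + 8) = c₄⁻¹ * c₇ * z⁻¹ := by
        calc r ^ (f + 8) = r ^ f * (r ^ 8 * z) * z⁻¹ := by
              rw [pow_add]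
              group
          _ = r ^ f * (c₄⁻¹ * (r ^ f)⁻¹ * c₇) * z⁻¹ := by rw [e₃]
          _ = (r ^ f * c₄⁻¹) * (r ^ f)⁻¹ * c₇ * z⁻¹ := by group
          _ = (c₄⁻¹ * r ^ f) * (r ^ f)⁻¹ * c₇ * z⁻¹ := by rw [h2]
          _ = _ := by group
      rw [h3]
      exact mul_mem (mul_mem (inv_mem hc₄Z) hc₇Z) (inv_mem hzZ)
    have hf8 : p ∣ f + 8 := mem_zpowers_of_pow hrp hrZ hmod
    have h6 : p ∣ 6 := by
      have h7 : f + 8 = (f + 2) + 6 := by ring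
      rw [h7] at hf8
      exact (Nat.dvd_add_right hf2).1 hf8
    have h8 := Nat.le_of_dvd (by norm_num) h6
    have h9 : p = 5 ∨ p = 6 := by omega
    rcases h9 with h | h
    · rw [h] at h6
      norm_num at h6
    · rw [h] at hpp
      norm_num at hpp
  · push Not at hδU
    obtain ⟨u₁, hu₁, hu₁δ⟩ := hδU
    have hAN := hUD.adm hUN' hNS hvN hvC
    have hAδ := hAN.map δ
    have hne' : U ≠ img δ U := by
      intro heq
      apply hu₁δ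
      rw [heq]
      exact (mem_img hUN').2 ⟨u₁, hu₁, rfl⟩
    have hA' : Adm N (img δ U) p ℓ := hAδ.with_line (Adm.line_mem hrk hNS hAN hAδ) (Adm.line_mem hrk hNS hAδ hAN) hAN.ne
    obtain ⟨P, u, v', h⟩ := exists_CD hrk hNS hAN hA' hne'
    exact core hS hF hp5 hrk hUD h hNfn hNc hδA (fun w => mem_img hUN') hvN hvC
      (fun α _ hαW => h.inn_of_ww (fun x hx => h.mem_P hrk hNS hp2 hx (hNexp x hx)) hαW) hsN hsn

end Cfsg.Agent.Lib.Fusion2.RK
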