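import Cfsg.Agent.Lib.Fusion.NormalGroup
import Cfsg.Agent.Lib.Fusion.Placement

/-!
# A simple fusion system realized by a finite group is realized by a finite simple group
-/

set_option autoImplicit false
set_option linter.unusedSectionVars false

namespace Cfsg.Agent.Lib.Fusion2.SimpleReal

open Cfsg Cfsg.FusionSystem Cfsg.Agent.Lib.Fusion

universe u

variable {Ω : Type u} [Group Ω] {S : Subgroup Ω} {F : FusionSystem S} {G : Type*} [Group G] {ι : S →* G}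

open Classical in
/-- The map `ι` as a total function. -/
noncomputable def jj (ι : S →* G) (x : Ω) : G := if h : x ∈ S then ι ⟨x, h⟩ else 1

theorem jj_of_mem {x : Ω} (h : x ∈ S) : jj ι x = ι ⟨x, h⟩ := dif_pos h

theorem jj_coe (s : S) : jj ι (s : Ω) = ι s := jj_of_mem s.2

theorem jj_mul {x y : Ω} (hx : x ∈ S) (hy : y ∈ S) : jj ι (x * y) = jj ι x * jj ι y := by
  rw [jj_of_mem hx, jj_of_mem hy, jj_of_mem (S.mul_mem hx hy), ← map_mul]
  rfl

theorem jj_one : jj ι (1 : Ω) = 1 := by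
  rw [jj_of_mem S.one_mem]
  exact map_one ι

theorem jj_inv {x : Ω} (hx : x ∈ S) : jj ι x⁻¹ = (jj ι x)⁻¹ := by
  rw [jj_of_mem hx, jj_of_mem (S.inv_mem hx), ← map_inv]
  rfl

theorem jj_inj (hι : Function.Injective ι) {x y : Ω} (hx : x ∈ S) (hy : y ∈ S) (h : jj ι x = jj ι y) : x = y := by
  rw [jj_of_mem hx, jj_of_mem hy] at h
  exact congrArg Subtype.val (hι h)

theorem jj_conj {x y : Ω} (hx : x ∈ S) (hy : y ∈ S) : jj ι (x * y * x⁻¹) = jj ι x * jj ι y * (jj ι x)⁻¹ := by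
  rw [jj_mul (S.mul_mem hx hy) (S.inv_mem hx), jj_mul hx hy, jj_inv hx]

theorem jj_mem_range {x : Ω} (hx : x ∈ S) : jj ι x ∈ ι.range := by
  rw [jj_of_mem hx]
  exact ⟨_, rfl⟩

theorem exists_jj {t : G} (ht : t ∈ ι.range) : ∃ x ∈ S, jj ι x = t := by
  obtain ⟨s, rfl⟩ := ht
  exact ⟨s, s.2, jj_coe s⟩

theorem mem_pull {N : Subgroup G} {x : Ω} : x ∈ pullback ι N ↔ x ∈ S ∧ jj ι x ∈ N := by
  rw [mem_pullback]
  constructor
  · rintro ⟨h, h1⟩
    exact ⟨h, by rwa [jj_of_mem h]⟩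
  · rintro ⟨h, h1⟩
    exact ⟨h, by rwa [jj_of_mem h] at h1⟩

/-- Conjugation in `G` preserving the image gives a map of `F`. -/
theorem exists_map_of_conj (hreal : F.IsRealizedBy ι) {X : Subgroup Ω} (hX : X ≤ S) {d : G}
    (hd : ∀ y ∈ X, d * jj ι y * d⁻¹ ∈ ι.range) :
    ∃ f : Ω → Ω, IsMapOn F X f ∧ ∀ y ∈ X, f y ∈ S ∧ jj ι (f y) = d * jj ι y * d⁻¹ := by
  have hι := hreal.1
  let ρ : X →* ι.range :=
    { toFun := fun x => ⟨d * jj ι x * d⁻¹, hd x x.2⟩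
      map_one' := by
        apply Subtype.ext
        show d * jj ι ((1 : X) : Ω) * d⁻¹ = 1
        rw [Subgroup.coe_one, jj_one]
        group
      map_mul' := fun a b => by
        apply Subtype.ext
        show d * jj ι ((a * b : X) : Ω) * d⁻¹ = (d * jj ι a * d⁻¹) * (d * jj ι b * d⁻¹)
        rw [Subgroup.coe_mul, jj_mul (hX a.2) (hX b.2)]
        group }
  let φ : X →* Ω := (backMap hι).comp ρ
  have hφS : ∀ x : X, φ x ∈ S := fun x => backMap_mem hι _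
  have hv : ∀ x : X, jj ι (φ x) = d * jj ι x * d⁻¹ := by
    intro x
    rw [jj_of_mem (hφS x)]
    exact iota_backMap hι (ρ x)
  have hφ : φ ∈ F.Hom X := by
    refine (hreal.2 X hX φ hφS).2 ⟨d, fun x => ?_⟩
    rw [← jj_of_mem, hv, jj_of_mem (hX x.2)]
  refine ⟨toFun φ, isMapOn_toFun hφ, fun y hy => ?_⟩
  rw [toFun_of_mem φ hy]
  exact ⟨hφS _, hv _⟩

variable (hreal : F.IsRealizedBy ι) (N : Subgroup G) [hN : N.Normal]

/-- The system of `N` on the subgroup corresponding to `N ∩ T`. -/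
def subE (hreal : F.IsRealizedBy ι) (N : Subgroup G) : FusionSystem (pullback ι N) where
  Hom P := {φ | φ ∈ F.Hom P ∧ P ≤ pullback ι N ∧ (∀ x : P, φ x ∈ pullback ι N) ∧ ∃ h ∈ N, ∀ x : P, jj ι (φ x) = h * jj ι x * h⁻¹}
  le_of_mem h := ⟨h.2.1, h.2.2.1⟩
  injective_of_mem h := inj h.1
  conj_mem := by
    intro P g hP hg
    have hgS := (mem_pull.1 hg).1
    refine ⟨F.conj_mem (hP.trans (pullback_le N)) hgS, hP, fun x => ?_, jj ι g, (mem_pull.1 hg).2, fun x => ?_⟩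
    · exact Subgroup.mul_mem _ (Subgroup.mul_mem _ hg (hP x.2)) (Subgroup.inv_mem _ hg)
    · exact jj_conj hgS (pullback_le N (hP x.2))
  comp_mem := by
    intro P Q φ ψ hφ hψ h
    obtain ⟨a, ha, hav⟩ := hφ.2.2.2
    obtain ⟨b, hb, hbv⟩ := hψ.2.2.2
    refine ⟨F.comp_mem hφ.1 hψ.1 h, hφ.2.1, fun x => hψ.2.2.1 _, b * a, N.mul_mem hb ha, fun x => ?_⟩
    show jj ι (ψ ⟨φ x, h x⟩) = _
    rw [hbv]
    show b * jj ι (φ x) * b⁻¹ = _
    rw [hav]
    group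
  inv_mem := by
    intro P φ hφ
    obtain ⟨ψ, hψ, hv⟩ := F.inv_mem hφ.1
    obtain ⟨a, ha, hav⟩ := hφ.2.2.2
    refine ⟨ψ, ⟨hψ, ?_, ?_, a⁻¹, N.inv_mem ha, ?_⟩, hv⟩
    · rintro _ ⟨x, rfl⟩
      exact hφ.2.2.1 x
    · rintro ⟨_, x, rfl⟩
      rw [hv]
      exact hφ.2.1 x.2
    · rintro ⟨_, x, rfl⟩
      rw [hv]
      show jj ι x = a⁻¹ * jj ι (φ x) * a⁻¹⁻¹
      rw [hav]
      group

/-- The restriction of `ι`. -/
noncomputable def iota₀ : ↥(pullback ι N) →* ↥N where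
  toFun x := ⟨jj ι x, (mem_pull.1 x.2).2⟩
  map_one' := Subtype.ext jj_one
  map_mul' a b := Subtype.ext (jj_mul (mem_pull.1 a.2).1 (mem_pull.1 b.2).1)

theorem subE_realized : (subE hreal N).IsRealizedBy (iota₀ (ι := ι) N) := by
  refine ⟨fun a b h => Subtype.ext (jj_inj hreal.1 (mem_pull.1 a.2).1 (mem_pull.1 b.2).1 (congrArg Subtype.val h)),
    fun P hP φ hφ => ⟨?_, ?_⟩⟩
  · rintro ⟨-, -, -, h, hh, hv⟩
    exact ⟨⟨h, hh⟩, fun x => Subtype.ext (hv x)⟩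
  · rintro ⟨g, hg⟩
    have hv : ∀ x : P, jj ι (φ x) = (g : G) * jj ι x * (g : G)⁻¹ := fun x => congrArg Subtype.val (hg x)
    refine ⟨(hreal.2 P (hP.trans (pullback_le N)) φ (fun x => pullback_le N (hφ x))).2 ⟨g, fun x => ?_⟩, hP, hφ, g, g.2, hv⟩
    rw [← jj_of_mem, hv, jj_of_mem]

variable {p : ℕ} [hp : Fact p.Prime] [Finite G]

theorem subE_saturated (T : Sylow p G) (hT : (T : Subgroup G) = ι.range) : (subE hreal N).IsSaturated p := by
  refine isSaturated_of_realized (subE_realized hreal N) ?_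
  obtain ⟨R, hR⟩ := sylowIn_inf T N
  refine ⟨R, ?_⟩
  rw [hR]
  ext ⟨t, ht⟩
  constructor
  · rintro ⟨hT', -⟩
    rw [hT] at hT'
    obtain ⟨x, hxS, hx⟩ := exists_jj hT'
    exact ⟨⟨x, mem_pull.2 ⟨hxS, by rwa [hx]⟩⟩, Subtype.ext hx⟩
  · rintro ⟨x, hx⟩
    have h1 : jj ι (x : Ω) = t := congrArg Subtype.val hx
    rw [Subgroup.mem_subgroupOf]
    show t ∈ (T : Subgroup G) ⊓ N
    rw [← h1]
    refine ⟨?_, ?_⟩
    · rw [hT]
      exact jj_mem_range (mem_pull.1 x.2).1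
    · exact (mem_pull.1 x.2).2

theorem isNormalIn_subE (hF : F.IsSaturated p) (T : Sylow p G) (hT : (T : Subgroup G) = ι.range) [Finite S] :
    (subE hreal N).IsNormalIn F p := by
  classical
  have hι := hreal.1
  obtain ⟨S₀, hS₀def⟩ : ∃ S₀, S₀ = pullback ι N := ⟨_, rfl⟩
  have hS₀S : pullback ι N ≤ S := pullback_le N
  obtain ⟨T₀, hT₀def⟩ : ∃ T₀, T₀ = (T : Subgroup G) ⊓ N := ⟨_, rfl⟩
  have hT₀T : T₀ ≤ (T : Subgroup G) := hT₀def ▸ inf_le_left
  have hT₀N : T₀ ≤ N := hT₀def ▸ inf_le_right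
  have hsyl : SylowIn p T₀ N := hT₀def ▸ sylowIn_inf T N
  have hTp : IsPGroup p (T : Subgroup G) := T.isPGroup'
  have hT₀p : IsPGroup p T₀ := hTp.to_le hT₀T
  have h1 : ∀ x ∈ pullback ι N, jj ι x ∈ T₀ := by
    intro x hx
    rw [hT₀def]
    refine ⟨?_, (mem_pull.1 hx).2⟩
    rw [hT]
    exact jj_mem_range (mem_pull.1 hx).1
  have h2 : ∀ t ∈ T₀, ∃ x ∈ pullback ι N, jj ι x = t := by
    intro t ht
    have ht1 : t ∈ ι.range := hT ▸ hT₀T ht
    obtain ⟨x, hxS, hx⟩ := exists_jj ht1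
    exact ⟨x, mem_pull.2 ⟨hxS, by rw [hx]; exact hT₀N ht⟩, hx⟩
  have hsc : F.StronglyClosed (pullback ι N) := by
    refine ⟨hS₀S, fun R hR φ hφ x => ?_⟩
    obtain ⟨g, hg⟩ := (hreal.2 R (hR.trans hS₀S) φ (val_mem hφ)).1 hφ
    refine mem_pull.2 ⟨val_mem hφ x, ?_⟩
    rw [jj_of_mem (val_mem hφ x), hg]
    exact hN.conj_mem _ (by rw [← jj_of_mem]; exact (mem_pull.1 (hR x.2)).2) g
  have hautS : ∀ {X : Subgroup Ω} (hX : X ≤ S) (α : MulAut X), α ∈ F.autGroup X →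
      ∃ g : G, ∀ y ∈ X, ∀ hy : y ∈ X, jj ι ((α ⟨y, hy⟩ : X) : Ω) = g * jj ι y * g⁻¹ := by
    intro X hX α hα
    have hφ := (mem_autGroup_iff hX).1 hα
    obtain ⟨g, hg⟩ := (hreal.2 X hX _ (val_mem hφ)).1 hφ
    refine ⟨g, fun y hy' hy => ?_⟩
    rw [jj_of_mem (hX (α ⟨y, hy⟩).2), jj_of_mem (hX hy)]
    exact hg ⟨y, hy⟩
  refine ⟨⟨subE_saturated hreal N T hT, hF, fun P φ h => h.1, hsc, ?_, ?_⟩, ?_⟩
  · -- invariance
    rintro P hPT φ ⟨hφF, -, hv, h, hh, hφv⟩ α hα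
    have hPS := hPT.trans hS₀S
    obtain ⟨g, hg⟩ := hautS hS₀S α hα
    have hαM : IsMapOn F (pullback ι N) (fn α) := isMapOn_fn hS₀S hα
    have hαinv : IsMapOn F (pullback ι N) (fn α⁻¹) := isMapOn_fn hS₀S ((F.autGroup _).inv_mem hα)
    obtain ⟨P', hP'def⟩ : ∃ P', P' = (P.subgroupOf (pullback ι N)).map ((pullback ι N).subtype.comp α.toMonoidHom) := ⟨_, rfl⟩
    have hP'S₀ : P' ≤ pullback ι N := by
      rw [hP'def]
      rintro _ ⟨t, -, rfl⟩
      exact (α t).2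
    have hinvP : ∀ y ∈ P', fn α⁻¹ y ∈ P := by
      intro y hy
      rw [hP'def] at hy
      obtain ⟨t, ht, rfl⟩ := hy
      have e : ((pullback ι N).subtype.comp α.toMonoidHom) t = fn α (t : Ω) := (fn_coe α t).symm
      rw [e, fn_inv_fn α t.2]
      exact ht
    have hfP' : IsMapOn F P' (fun y => fn α (toFun φ (fn α⁻¹ y))) :=
      ((hαinv.mono hP'S₀).comp (isMapOn_toFun hφF) hinvP).comp hαM (fun y hy => by
        rw [toFun_of_mem φ (hinvP y hy)]
        exact hv _)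
    obtain ⟨χ, hχ, hχv⟩ := hfP'
    have hjα : ∀ y ∈ pullback ι N, jj ι (fn α y) = g * jj ι y * g⁻¹ := by
      intro y hy
      rw [fn_of_mem α hy]
      exact hg y hy hy
    have hjαinv : ∀ y ∈ pullback ι N, jj ι (fn α⁻¹ y) = g⁻¹ * jj ι y * g := by
      intro y hy
      have h3 := hjα _ (fn_mem α⁻¹ hy)
      rw [fn_fn_inv α hy] at h3
      rw [h3]
      group
    have hresult : χ ∈ (subE hreal N).Hom P' ∧ ∀ (x : P) (hφx : φ x ∈ pullback ι N) (hαx : ((α ⟨x, hPT x.2⟩ : pullback ι N) : Ω) ∈ P'),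
        χ ⟨(α ⟨x, hPT x.2⟩ : pullback ι N), hαx⟩ = ((α ⟨φ x, hφx⟩ : pullback ι N) : Ω) := by
      refine ⟨⟨hχ, hP'S₀, fun y => ?_, g * h * g⁻¹, hN.conj_mem _ hh g, fun y => ?_⟩, fun x hφx hαx => ?_⟩
      · rw [hχv]
        exact fn_mem α (by rw [toFun_of_mem φ (hinvP y y.2)]; exact hv _)
      · rw [hχv]
        have h5 : toFun φ (fn α⁻¹ y) ∈ pullback ι N := by
          rw [toFun_of_mem φ (hinvP y y.2)]
          exact hv _
        show jj ι (fn α (toFun φ (fn α⁻¹ y))) = _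
        rw [hjα _ h5, toFun_of_mem φ (hinvP y y.2), hφv]
        show g * (h * jj ι (fn α⁻¹ y) * h⁻¹) * g⁻¹ = _
        rw [hjαinv _ (hP'S₀ y.2)]
        group
      · rw [hχv]
        show fn α (toFun φ (fn α⁻¹ _)) = _
        have e : fn α⁻¹ ((α ⟨x, hPT x.2⟩ : pullback ι N) : Ω) = x := by
          rw [← fn_coe α ⟨x, hPT x.2⟩]
          exact fn_inv_fn α (hPT x.2)
        rw [e, toFun_coe, fn_of_mem α hφx]
    subst hP'def
    exact ⟨χ, hresult.1, hresult.2⟩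
  · -- Frattini
    intro P hPT φ hφ
    have hPS := hPT.trans hS₀S
    obtain ⟨g, hg⟩ := (hreal.2 P hPS φ (val_mem hφ)).1 hφ
    have hgv : ∀ x : P, jj ι (φ x) = g * jj ι x * g⁻¹ := by
      intro x
      rw [jj_of_mem (val_mem hφ x), hg, jj_of_mem (hPS x.2)]
    have hφT : ∀ x : P, φ x ∈ pullback ι N := fun x => hsc.2 P hPT φ hφ x
    have hU : cj g⁻¹ T₀ ≤ N := by
      rintro _ ⟨t, ht, rfl⟩
      exact hN.conj_mem _ (hT₀N ht) g⁻¹
    obtain ⟨c, hc, hcle⟩ := hsyl.exists_conj (isPGroup_cj hT₀p _) hU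
    have hcT : ∀ t ∈ T₀, (c * g⁻¹) * t * (c * g⁻¹)⁻¹ ∈ T₀ := by
      intro t ht
      have := hcle (conj_mem_cj (conj_mem_cj ht) : c * (g⁻¹ * t * g⁻¹⁻¹) * c⁻¹ ∈ cj c (cj g⁻¹ T₀))
      have e : (c * g⁻¹) * t * (c * g⁻¹)⁻¹ = c * (g⁻¹ * t * g⁻¹⁻¹) * c⁻¹ := by group
      rwa [e]
    have hnT : c * g⁻¹ ∈ Subgroup.normalizer (T₀ : Set G) :=
      mem_normalizer_of_conj_mem (S := (⊤ : Subgroup G)) le_top hcT
    have hn : g * c⁻¹ ∈ Subgroup.normalizer (T₀ : Set G) := by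
      have := Subgroup.inv_mem _ hnT
      simpa using this
    have hcP : ∀ y ∈ P, c * jj ι y * c⁻¹ ∈ T₀ := by
      intro y hy
      have h3 := hcT _ (h1 _ (hφT ⟨y, hy⟩))
      rw [hgv] at h3
      have e : (c * g⁻¹) * (g * jj ι y * g⁻¹) * (c * g⁻¹)⁻¹ = c * jj ι y * c⁻¹ := by group
      rwa [e] at h3
    obtain ⟨f₀, hf₀, hf₀v⟩ := exists_map_of_conj hreal hPS (d := c) (fun y hy => by
      rw [← hT]
      exact hT₀T (hcP y hy))
    obtain ⟨φ₀, hφ₀, hφ₀v⟩ := hf₀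
    have hφ₀E : φ₀ ∈ (subE hreal N).Hom P := by
      refine ⟨hφ₀, hPT, fun x => ?_, c, hc, fun x => ?_⟩
      · rw [hφ₀v]
        obtain ⟨h3, h4⟩ := hf₀v x x.2
        refine mem_pull.2 ⟨h3, ?_⟩
        rw [h4]
        exact hT₀N (hcP x x.2)
      · rw [hφ₀v]
        exact (hf₀v x x.2).2
    -- the automorphism
    have hS₀T : ∀ y ∈ pullback ι N, (g * c⁻¹) * jj ι y * (g * c⁻¹)⁻¹ ∈ ι.range := by
      intro y hy
      rw [← hT]
      exact hT₀T (conj_mem_of_normalizer hn (h1 y hy))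
    obtain ⟨f, hf, hfv⟩ := exists_map_of_conj hreal hS₀S hS₀T
    have hfI : IsImage f (pullback ι N) (pullback ι N) := by
      intro y
      constructor
      · intro hy
        obtain ⟨x, hx, hxe⟩ := h2 _ (conj_mem_of_normalizer hnT (h1 y hy))
        refine ⟨x, hx, jj_inj hι (hfv x hx).1 (mem_pull.1 hy).1 ?_⟩
        rw [(hfv x hx).2, hxe]
        have e : (g * c⁻¹) = (c * g⁻¹)⁻¹ := by group
        rw [e]
        group
      · rintro ⟨x, hx, rfl⟩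
        refine mem_pull.2 ⟨(hfv x hx).1, ?_⟩
        rw [(hfv x hx).2]
        exact hT₀N (conj_mem_of_normalizer hn (h1 x hx))
    obtain ⟨α, hα, hαv⟩ := exists_aut_of_map hf hfI
    refine ⟨α, hα, φ₀, hφ₀E, fun x hx => ?_⟩
    have h5 : ((α ⟨φ₀ x, hx⟩ : pullback ι N) : Ω) = f (φ₀ x) := by
      rw [← fn_of_mem, hαv _ hx]
    rw [h5]
    refine jj_inj hι (val_mem hφ x) (hfv _ hx).1 ?_
    rw [(hfv _ hx).2, hgv, hφ₀v, (hf₀v x x.2).2]
    group
  · -- extension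
    intro α hα
    have hαE := (mem_autGroup_iff le_rfl).1 hα
    obtain ⟨-, -, -, h, hh, hαv⟩ := hαE
    have hαj : ∀ x : pullback ι N, jj ι ((α x : pullback ι N) : Ω) = h * jj ι x * h⁻¹ := hαv
    have hhT : h ∈ Subgroup.normalizer (T₀ : Set G) := by
      refine mem_normalizer_of_conj_mem (S := (⊤ : Subgroup G)) le_top (fun t ht => ?_)
      obtain ⟨x, hx, rfl⟩ := h2 t ht
      rw [← hαj ⟨x, hx⟩]
      exact h1 _ (α _).2
    obtain ⟨l, hl, hd⟩ := exists_ext_normal T N hT₀def hh hhT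
    obtain ⟨d, hddef⟩ : ∃ d, d = l * h := ⟨_, rfl⟩
    rw [← hddef] at hd
    have hdN : d ∈ N := hddef ▸ N.mul_mem hl.1 hh
    have hlC : l ∈ Subgroup.centralizer (T₀ : Set G) := hl.2
    have hdT₀ : d ∈ Subgroup.normalizer (T₀ : Set G) :=
      hddef ▸ Subgroup.mul_mem _ (Subgroup.centralizer_le_normalizer _ hlC) hhT
    obtain ⟨M, hMdef⟩ : ∃ M, M = T₀ ⊔ centralizerIn (T : Subgroup G) T₀ := ⟨_, rfl⟩
    rw [← hMdef] at hd
    obtain ⟨R, hRdef⟩ : ∃ R, R = pullback ι N ⊔ centralizerIn S (pullback ι N) := ⟨_, rfl⟩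
    have hRS : R ≤ S := hRdef ▸ sup_le hS₀S inf_le_left
    have hMT : M ≤ (T : Subgroup G) := hMdef ▸ sup_le hT₀T inf_le_left
    have h4 : ∀ m ∈ M, ∃ r ∈ R, jj ι r = m := by
      have hle : M ≤ (R.subgroupOf S).map ι := by
        rw [hMdef]
        refine sup_le (fun t ht => ?_) (fun c hc => ?_)
        · obtain ⟨x, hx, rfl⟩ := h2 t ht
          have hxR : x ∈ R := hRdef ▸ Subgroup.mem_sup_left hx
          refine ⟨⟨x, hRS hxR⟩, hxR, ?_⟩
          rw [jj_of_mem (hRS hxR)]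
        · have hc1 : c ∈ ι.range := hT ▸ hc.1
          obtain ⟨c', hc'S, rfl⟩ := exists_jj hc1
          have hc'C : c' ∈ centralizerIn S (pullback ι N) := by
            refine ⟨hc'S, Subgroup.mem_centralizer_iff.2 (fun s hs => ?_)⟩
            have hsS := hS₀S hs
            refine jj_inj hι (S.mul_mem hsS hc'S) (S.mul_mem hc'S hsS) ?_
            rw [jj_mul hsS hc'S, jj_mul hc'S hsS]
            exact Subgroup.mem_centralizer_iff.1 hc.2 _ (h1 s hs)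
          have hc'R : c' ∈ R := hRdef ▸ Subgroup.mem_sup_right hc'C
          refine ⟨⟨c', hc'S⟩, hc'R, ?_⟩
          rw [jj_of_mem hc'S]
      intro m hm
      obtain ⟨⟨r, hrS⟩, hr, rfl⟩ := hle hm
      exact ⟨r, hr, jj_of_mem hrS⟩
    have h3 : ∀ c ∈ centralizerIn S (pullback ι N), jj ι c ∈ Subgroup.centralizer (T₀ : Set G) := by
      intro c hc
      rw [Subgroup.mem_centralizer_iff]
      intro t ht
      obtain ⟨x, hx, rfl⟩ := h2 t ht
      have hxS := hS₀S hx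
      rw [← jj_mul hxS hc.1, ← jj_mul hc.1 hxS, Subgroup.mem_centralizer_iff.1 hc.2 x hx]
    have h5 : ∀ r ∈ R, jj ι r ∈ M := by
      have hle : R ≤ (M.comap ι).map S.subtype := by
        rw [hRdef]
        refine sup_le (fun x hx => ?_) (fun c hc => ?_)
        · refine ⟨⟨x, hS₀S hx⟩, ?_, rfl⟩
          show ι ⟨x, hS₀S hx⟩ ∈ M
          rw [← jj_of_mem, hMdef]
          exact Subgroup.mem_sup_left (h1 x hx)
        · refine ⟨⟨c, hc.1⟩, ?_, rfl⟩
          show ι ⟨c, hc.1⟩ ∈ M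
          rw [← jj_of_mem, hMdef]
          refine Subgroup.mem_sup_right ⟨?_, h3 c hc⟩
          rw [hT]
          exact jj_mem_range hc.1
      intro r hr
      obtain ⟨⟨r', hrS⟩, hr', rfl⟩ := hle hr
      have : jj ι r' = ι ⟨r', hrS⟩ := jj_of_mem hrS
      show jj ι r' ∈ M
      rw [this]
      exact hr'
    obtain ⟨f, hf, hfv⟩ := exists_map_of_conj hreal hRS (d := d) (fun y hy => by
      rw [← hT]
      exact hMT (conj_mem_of_normalizer hd (h5 y hy)))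
    have hfI : IsImage f R R := by
      intro y
      constructor
      · intro hy
        obtain ⟨x, hx, hxe⟩ := h4 _ (conj_mem_of_normalizer (Subgroup.inv_mem _ hd) (h5 y hy))
        refine ⟨x, hx, jj_inj hι (hfv x hx).1 (hRS hy) ?_⟩
        rw [(hfv x hx).2, hxe]
        group
      · rintro ⟨x, hx, rfl⟩
        obtain ⟨r, hr, hre⟩ := h4 _ (conj_mem_of_normalizer hd (h5 x hx))
        have : r = f x := jj_inj hι (hRS hr) (hfv x hx).1 (by rw [hre, (hfv x hx).2])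
        rwa [← this]
    obtain ⟨β, hβ, hβv⟩ := exists_aut_of_map hf hfI
    subst hRdef
    refine ⟨β, hβ, fun x => ?_, fun c hc => ?_⟩
    · have hxS₀ := x.2
      have hxR : (x : Ω) ∈ pullback ι N ⊔ centralizerIn S (pullback ι N) := Subgroup.mem_sup_left hxS₀
      have e1 : ((β (Subgroup.inclusion le_sup_left x) : ↥(pullback ι N ⊔ centralizerIn S (pullback ι N))) : Ω) = f x := by
        rw [← hβv _ hxR, fn_of_mem β hxR]
        rfl
      rw [e1]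
      refine jj_inj hι (hfv _ hxR).1 (hS₀S (α x).2) ?_
      rw [(hfv _ hxR).2, hαj, hddef]
      have e2 : h * jj ι (x : Ω) * h⁻¹ ∈ T₀ := conj_mem_of_normalizer hhT (h1 x x.2)
      have e3 := Subgroup.mem_centralizer_iff.1 hlC _ e2
      calc l * h * jj ι (x : Ω) * (l * h)⁻¹ = (l * (h * jj ι (x : Ω) * h⁻¹)) * l⁻¹ := by group
        _ = (h * jj ι (x : Ω) * h⁻¹ * l) * l⁻¹ := by rw [← e3]
        _ = h * jj ι (x : Ω) * h⁻¹ := by group
    · have hcR := c.2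
      have e1 : ((β c : ↥(pullback ι N ⊔ centralizerIn S (pullback ι N))) : Ω) = f c := by
        rw [← hβv _ hcR, fn_of_mem β hcR]
      rw [e1]
      have hcS := hRS hcR
      have hfS := (hfv _ hcR).1
      have hjw : jj ι ((c : Ω)⁻¹ * f c) = (jj ι (c : Ω))⁻¹ * (d * jj ι (c : Ω) * d⁻¹) := by
        rw [jj_mul (S.inv_mem hcS) hfS, jj_inv hcS, (hfv _ hcR).2]
      have hcC := h3 _ hc
      have hdC : d * jj ι (c : Ω) * d⁻¹ ∈ Subgroup.centralizer (T₀ : Set G) := by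
        rw [Subgroup.mem_centralizer_iff]
        intro t ht
        have h6 : d⁻¹ * t * d ∈ T₀ := by
          have := conj_mem_of_normalizer (Subgroup.inv_mem _ hdT₀) ht
          simpa using this
        have h7 := Subgroup.mem_centralizer_iff.1 hcC _ h6
        calc t * (d * jj ι (c : Ω) * d⁻¹) = d * ((d⁻¹ * t * d) * jj ι (c : Ω)) * d⁻¹ := by group
          _ = d * (jj ι (c : Ω) * (d⁻¹ * t * d)) * d⁻¹ := by rw [h7]
          _ = d * jj ι (c : Ω) * d⁻¹ * t := by group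
      have hwC : jj ι ((c : Ω)⁻¹ * f c) ∈ Subgroup.centralizer (T₀ : Set G) := by
        rw [hjw]
        exact Subgroup.mul_mem _ (Subgroup.inv_mem _ hcC) hdC
      have hwS : (c : Ω)⁻¹ * f c ∈ S := S.mul_mem (S.inv_mem hcS) hfS
      refine ⟨mem_pull.2 ⟨hwS, ?_⟩, Subgroup.mem_centralizer_iff.2 (fun s hs => ?_)⟩
      · rw [hjw]
        have h6 : (jj ι (c : Ω))⁻¹ * d * jj ι (c : Ω) ∈ N := by
          have := hN.conj_mem d hdN (jj ι (c : Ω))⁻¹
          simpa using this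
        have h7 := N.mul_mem h6 (N.inv_mem hdN)
        have e : (jj ι (c : Ω))⁻¹ * d * jj ι (c : Ω) * d⁻¹ = (jj ι (c : Ω))⁻¹ * (d * jj ι (c : Ω) * d⁻¹) := by group
        rwa [e] at h7
      · have hsS := hS₀S hs
        refine jj_inj hι (S.mul_mem hsS hwS) (S.mul_mem hwS hsS) ?_
        rw [jj_mul hsS hwS, jj_mul hwS hsS]
        exact Subgroup.mem_centralizer_iff.1 hwC _ (h1 s hs)

include hreal in
/-- A realizer of `F` by a quotient by a normal subgroup meeting the image trivially. -/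
theorem realized_quot (T : Sylow p G) (hT : (T : Subgroup G) = ι.range) (hbot : pullback ι N = ⊥) :
    F.IsRealizedBy ((QuotientGroup.mk' N).comp ι) ∧
      ∃ T' : Sylow p (G ⧸ N), (T' : Subgroup (G ⧸ N)) = ((QuotientGroup.mk' N).comp ι).range := by
  have hι := hreal.1
  have hTN : ∀ t ∈ (T : Subgroup G), t ∈ N → t = 1 := by
    intro t ht htN
    rw [hT] at ht
    obtain ⟨x, hxS, rfl⟩ := exists_jj ht
    have hx : x ∈ pullback ι N := mem_pull.2 ⟨hxS, htN⟩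
    rw [hbot, Subgroup.mem_bot] at hx
    rw [hx, jj_one]
  refine ⟨⟨?_, fun P hP φ hφS => ⟨?_, ?_⟩⟩, ?_⟩
  · intro a b hab
    have h1 : (ι a)⁻¹ * ι b ∈ N := QuotientGroup.eq.1 hab
    have h2 : (ι a)⁻¹ * ι b = 1 := by
      refine hTN _ ?_ h1
      rw [hT]
      exact Subgroup.mul_mem _ (Subgroup.inv_mem _ ⟨_, rfl⟩) ⟨_, rfl⟩
    exact hι (inv_mul_eq_one.1 h2)
  · intro hφ
    obtain ⟨g, hg⟩ := (hreal.2 P hP φ hφS).1 hφ
    refine ⟨QuotientGroup.mk g, fun x => ?_⟩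
    show ((ι ⟨φ x, hφS x⟩ : G) : G ⧸ N) = (g : G ⧸ N) * ((ι ⟨x, hP x.2⟩ : G) : G ⧸ N) * (g : G ⧸ N)⁻¹
    rw [hg]
    rfl
  · rintro ⟨gb, hgb⟩
    obtain ⟨g, rfl⟩ := QuotientGroup.mk_surjective gb
    have hmod : ∀ x : P, (ι ⟨φ x, hφS x⟩)⁻¹ * (g * ι ⟨x, hP x.2⟩ * g⁻¹) ∈ N := by
      intro x
      refine QuotientGroup.eq.1 ?_
      exact hgb x
    have hPT : (P.subgroupOf S).map ι ≤ (T : Subgroup G) := by
      rw [hT]
      rintro _ ⟨x, -, rfl⟩
      exact ⟨x, rfl⟩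
    obtain ⟨n, hn, hnv⟩ := exists_lift_conj T N hPT (g₀ := g) (by
      rintro _ ⟨⟨x, hxS⟩, hx, rfl⟩
      have hx' : x ∈ P := hx
      have h1 := hmod ⟨x, hx'⟩
      have h2 : g * ι ⟨x, hxS⟩ * g⁻¹ = ι ⟨φ ⟨x, hx'⟩, hφS _⟩ * ((ι ⟨φ ⟨x, hx'⟩, hφS _⟩)⁻¹ * (g * ι ⟨x, hxS⟩ * g⁻¹)) := by group
      rw [h2]
      refine Subgroup.mul_mem _ (Subgroup.mem_sup_left ?_) (Subgroup.mem_sup_right h1)
      rw [hT]
      exact ⟨_, rfl⟩)
    refine (hreal.2 P hP φ hφS).2 ⟨n * g, fun x => ?_⟩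
    have h1 := hnv _ ⟨⟨x, hP x.2⟩, x.2, rfl⟩
    have h2 : (ι ⟨φ x, hφS x⟩)⁻¹ * (n * g * ι ⟨x, hP x.2⟩ * (n * g)⁻¹) = 1 := by
      refine hTN _ ?_ ?_
      · refine Subgroup.mul_mem _ (Subgroup.inv_mem _ ?_) h1
        rw [hT]
        exact ⟨_, rfl⟩
      · have h4 := hN.conj_mem n hn (ι ⟨φ x, hφS x⟩)⁻¹
        have h5 := N.mul_mem (N.mul_mem h4 (hmod x)) (N.inv_mem hn)
        have e : (ι ⟨φ x, hφS x⟩)⁻¹ * n * (ι ⟨φ x, hφS x⟩)⁻¹⁻¹ * ((ι ⟨φ x, hφS x⟩)⁻¹ * (g * ι ⟨x, hP x.2⟩ * g⁻¹)) * n⁻¹ =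
            (ι ⟨φ x, hφS x⟩)⁻¹ * (n * g * ι ⟨x, hP x.2⟩ * (n * g)⁻¹) := by group
        rwa [e] at h5
    exact (inv_mul_eq_one.1 h2)
  · refine ⟨T.mapSurjective (QuotientGroup.mk'_surjective N), ?_⟩
    rw [Sylow.coe_mapSurjective, MonoidHom.range_comp, hT]

/-- The main theorem. -/
theorem main {Ω : Type u} [Group Ω] {S : Subgroup Ω} [Finite S] {p : ℕ} [Fact p.Prime] {F : FusionSystem S}
    (hsimple : F.IsSimple p) (hreal : F.IsRealizable p) :
    ∃ (G : Type u) (_ : Group G) (_ : Finite G) (_ : IsSimpleGroup G) (ι : ↥S →* G), F.IsRealizedBy ι ∧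
      ∃ T : Sylow p G, (T : Subgroup G) = ι.range := by
  classical
  let R : ℕ → Prop := fun n => ∃ (G : Type u) (_ : Group G) (_ : Finite G) (ι : ↥S →* G), F.IsRealizedBy ι ∧
      (∃ T : Sylow p G, (T : Subgroup G) = ι.range) ∧ Nat.card G = n
  have hex : ∃ n, R n := by
    obtain ⟨G, i1, i2, ι, h1, h2⟩ := hreal
    exact ⟨_, G, i1, i2, ι, h1, h2, rfl⟩
  obtain ⟨G, i1, i2, ι, hι, ⟨T, hT⟩, hcard⟩ := Nat.find_spec hex
  have hmin : ∀ (G' : Type u) (_ : Group G') (_ : Finite G') (ι' : ↥S →* G'), F.IsRealizedBy ι' →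
      (∃ T' : Sylow p G', (T' : Subgroup G') = ι'.range) → Nat.card G ≤ Nat.card G' := by
    intro G' i1' i2' ι' h1 h2
    rw [hcard]
    exact Nat.find_min' hex ⟨G', i1', i2', ι', h1, h2, rfl⟩
  obtain ⟨hF, hne, hnorm⟩ := hsimple
  have hsimp : IsSimpleGroup G := by
    haveI : Nontrivial G := by
      by_contra h
      rw [not_nontrivial_iff_subsingleton] at h
      apply hne
      rw [eq_bot_iff]
      intro x hx
      have h1 : ι ⟨x, hx⟩ = ι 1 := Subsingleton.elim _ _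
      have h2 := hι.1 h1
      exact congrArg Subtype.val h2
    refine ⟨fun N hN => ?_⟩
    haveI := hN
    have hEn := isNormalIn_subE hι N hF T hT
    rcases hnorm _ _ hEn with h1 | ⟨h1, h2⟩
    · left
      by_contra hNne
      obtain ⟨h3, h4⟩ := realized_quot hι N T hT h1
      have h5 := hmin _ _ inferInstance _ h3 h4
      have h6 := Subgroup.card_eq_card_quotient_mul_card_subgroup N
      have h7 : 1 < Nat.card N := by
        rw [Finite.one_lt_card_iff_nontrivial]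
        exact (Subgroup.nontrivial_iff_ne_bot N).2 hNne
      have h8 : 0 < Nat.card (G ⧸ N) := Nat.card_pos
      nlinarith
    · right
      by_contra hNtop
      have hιN : ∀ s : ↥S, ι s ∈ N := by
        intro s
        have hs : (s : Ω) ∈ pullback ι N := by
          rw [h1]
          exact s.2
        have := (mem_pull.1 hs).2
        rwa [jj_coe] at this
      have hTN : (T : Subgroup G) ≤ N := by
        rw [hT]
        rintro _ ⟨s, rfl⟩
        exact hιN s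
      have h3 : F.IsRealizedBy (ι.codRestrict N hιN) := by
        refine ⟨fun a b hab => hι.1 (congrArg Subtype.val hab), fun P hP φ hφS => ⟨fun hφ => ?_, ?_⟩⟩
        · have hφE : φ ∈ (subE hι N).Hom P := by
            rw [h2]
            exact hφ
          obtain ⟨-, -, -, h, hh, hv⟩ := hφE
          refine ⟨⟨h, hh⟩, fun x => Subtype.ext ?_⟩
          have := hv x
          rwa [jj_of_mem (hφS x), jj_of_mem (hP x.2)] at this
        · rintro ⟨g, hg⟩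
          exact (hι.2 P hP φ hφS).2 ⟨g, fun x => congrArg Subtype.val (hg x)⟩
      have h4 : ∃ T' : Sylow p N, (T' : Subgroup N) = (ι.codRestrict N hιN).range := by
        refine ⟨T.subtype hTN, ?_⟩
        rw [Sylow.coe_subtype, hT]
        ext ⟨t, ht⟩
        rw [Subgroup.mem_subgroupOf]
        constructor
        · rintro ⟨s, hs⟩
          exact ⟨s, Subtype.ext hs⟩
        · rintro ⟨s, hs⟩
          exact ⟨s, congrArg Subtype.val hs⟩
      have h5 := hmin _ _ inferInstance _ h3 h4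
      apply hNtop
      exact Subgroup.eq_top_of_card_eq N (le_antisymm (Subgroup.card_le_card_group N) h5)
  exact ⟨G, i1, i2, hsimp, ι, hι, T, hT⟩

end Cfsg.Agent.Lib.Fusion2.SimpleReal
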