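import Cfsg.Agent.Lib.Fusion2.CritSub
import Cfsg.Agent.Lib.Fusion.FixElt
import Cfsg.Agent.Lib.Fusion.Generation

/-!
# Abelian subgroups of small exponent control fusion
-/

set_option autoImplicit false
set_option linter.unusedSectionVars false

namespace Cfsg.Agent.Lib.Fusion2.SmallExp

open Cfsg Cfsg.FusionSystem Cfsg.Agent.Lib.Fusion Subgroup

variable {Ω : Type*} [Group Ω] {S : Subgroup Ω} {E F : FusionSystem S}
variable [Finite S] {p : ℕ} [hp : Fact p.Prime]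

theorem IsMapOn.of_le (hEF : ∀ X, E.Hom X ⊆ F.Hom X) {X : Subgroup Ω} {f : Ω → Ω} (h : IsMapOn E X f) : IsMapOn F X f := by
  obtain ⟨φ, hφ, hv⟩ := h
  exact ⟨φ, hEF X hφ, hv⟩

/-- The fusion-theoretic core: a map on `Q` whose restriction to a suitable normal subgroup lies in `E`. -/
theorem local_core (hS : IsPGroup p S) (hE : E.IsSaturated p) (hF : F.IsSaturated p) (hEF : ∀ X, E.Hom X ⊆ F.Hom X)
    {Q : Subgroup Ω} (hQ : F.IsFullyNormalized Q)
    (hlarge : ∀ X : Subgroup Ω, Nat.card Q < Nat.card X → F.Hom X ⊆ E.Hom X)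
    {B B' : Subgroup Ω} {a : Ω → Ω} (ha : IsMapOn F Q a) (haQ : IsImage a Q Q) (hB : B ≤ Q)
    (hBn : Q ≤ Subgroup.normalizer (B : Set Ω)) (hB' : IsImage a B' B) (hB'Q : B' ≤ Q)
    (hB'n : Q ≤ Subgroup.normalizer (B' : Set Ω)) (hagB : IsMapOn E B' a)
    (hC : ∀ β ∈ F.autGroup Q, (∀ b ∈ B, fn β b = b) → ∃ h ∈ S, ∀ x ∈ Q, fn β x = h * x * h⁻¹) : IsMapOn E Q a := by
  classical
  have hQS := hQ.1
  have hBS : B ≤ S := hB.trans hQS
  obtain ⟨B₁, hBB₁, hB₁⟩ := exists_fullyNormalized_conj (F := E) hBS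
  obtain ⟨ζ, hζ, -, him⟩ := exists_ext_of_fullyNormalized hS hE hB₁ hBB₁
  obtain ⟨Z, hZdef⟩ : ∃ Z, Z = toFun ζ := ⟨_, rfl⟩
  have hZ : IsMapOn E (normalizerIn S B) Z := hZdef ▸ isMapOn_toFun hζ
  have hQN : Q ≤ normalizerIn S B := fun x hx => ⟨hQS hx, hBn hx⟩
  have hBN : B ≤ normalizerIn S B := le_normalizerIn hBS
  have hZi : IsImage Z B B₁ := by
    intro y
    rw [← him, hZdef]
    constructor
    · rintro ⟨x, hx, rfl⟩
      exact ⟨x, hx, toFun_coe _ _⟩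
    · rintro ⟨x, hx, rfl⟩
      rw [toFun_of_mem ζ (hBN hx)]
      exact ⟨_, hx, rfl⟩
  have hφ₁ : IsMapOn E B' (fun x => Z (a x)) := hagB.comp hZ (fun x hx => hBN (hB'.mem hx))
  have hφ₁i : IsImage (fun x => Z (a x)) B' B₁ := hB'.comp hZi
  have hrecE := receptive_of_fullyNormalized hS hE hB₁
  obtain ⟨g, hg, hgv⟩ := hφ₁.exists_ext_set hrecE hφ₁i
  have hZF : IsMapOn F (normalizerIn S B) Z := IsMapOn.of_le hEF hZ
  have hQext : Q ≤ extSet S S B' (fun x => Z (a x)) := by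
    intro y hy
    refine ⟨hQS hy, hB'n hy, Z (a y), hZ.mem_S (hQN (haQ.mem hy)), fun x hx => ?_⟩
    show Z (a (y * x * y⁻¹)) = Z (a y) * Z (a x) * (Z (a y))⁻¹
    rw [ha.map_conj hy (hB'Q hx), hZ.map_conj (hQN (haQ.mem hy)) (hQN (haQ.mem (hB'Q hx)))]
  have hgQ : IsMapOn E Q g := hg.mono hQext
  obtain ⟨Y₁, hY₁⟩ := hgQ.exists_image le_rfl
  obtain ⟨g', hg', hg'i, hg'l, hg'r⟩ := hgQ.exists_inv hY₁
  have hgF : IsMapOn F Q g := IsMapOn.of_le hEF hgQ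
  have hg'F : IsMapOn F Y₁ g' := IsMapOn.of_le hEF hg'
  have hχ : IsMapOn F Y₁ (fun y => a (g' y)) := hg'F.comp ha (fun y hy => hg'i.mem hy)
  have hχi : IsImage (fun y => a (g' y)) Y₁ Q := hg'i.comp haQ
  have hgB' : ∀ x ∈ B', g x = Z (a x) := hgv
  have hχZ : ∀ b ∈ B, a (g' (Z b)) = b := by
    intro b hb
    obtain ⟨b', hb', rfl⟩ := hB'.exists_of_mem hb
    rw [← hgB' b' hb', hg'l b' (hB'Q hb')]
  have hY₁S : Y₁ ≤ S := IsImage.le_S hgQ le_rfl hY₁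
  have hB₁Y₁ : B₁ ≤ Y₁ := by
    intro y hy
    obtain ⟨b', hb', rfl⟩ := hφ₁i.exists_of_mem hy
    show Z (a b') ∈ Y₁
    rw [← hgB' b' hb']
    exact hY₁.mem (hB'Q hb')
  have hY₁norm : ∀ y ∈ Y₁, ∀ b₁ ∈ B₁, y * b₁ * y⁻¹ ∈ B₁ := by
    intro y hy b₁ hb₁
    obtain ⟨x, hx, rfl⟩ := hY₁.exists_of_mem hy
    obtain ⟨b', hb', rfl⟩ := hφ₁i.exists_of_mem hb₁
    show g x * Z (a b') * (g x)⁻¹ ∈ B₁
    rw [← hgB' b' hb', ← hgQ.map_conj hx (hB'Q hb')]
    have h1 : x * b' * x⁻¹ ∈ B' := conj_mem_of_normalizer (hB'n hx) hb'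
    rw [hgB' _ h1]
    exact hφ₁i.mem h1
  obtain ⟨ι, hι, hιi, hιl, hιr⟩ := hχ.exists_inv hχi
  have hιB : ∀ b ∈ B, ι b = Z b := by
    intro b hb
    have hZbY : Z b ∈ Y₁ := hB₁Y₁ (hZi.mem hb)
    have h1 := hιl (Z b) hZbY
    rw [hχZ b hb] at h1
    exact h1
  have hfinal : IsMapOn E Y₁ (fun y => a (g' y)) → IsMapOn E Q a := by
    intro h
    refine (hgQ.comp h (fun x hx => hY₁.mem hx)).congr (fun x hx => ?_)
    show a (g' (g x)) = a x
    rw [hg'l x hx]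
  have hcardY : Nat.card Q = Nat.card Y₁ := IsImage.card_eq hgQ le_rfl hY₁
  by_cases hcase : ∀ c ∈ S, c ∈ Subgroup.normalizer (Y₁ : Set Ω) → (∀ b₁ ∈ B₁, c * b₁ = b₁ * c) → c ∈ Y₁
  · -- the centralizer of `B₁` lies in `Y₁`
    have hCY : ∀ c ∈ S, (∀ b₁ ∈ B₁, c * b₁ = b₁ * c) → c ∈ Y₁ := by
      intro c₀ hc₀S hc₀c
      by_contra hc₀Y
      obtain ⟨C₀, hC₀⟩ : ∃ C₀ : Subgroup Ω, C₀ = centralizerIn S B₁ := ⟨_, rfl⟩
      have hC₀m : ∀ c, c ∈ C₀ ↔ c ∈ S ∧ ∀ b₁ ∈ B₁, c * b₁ = b₁ * c := by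
        intro c
        rw [hC₀]
        constructor
        · rintro ⟨h1, h2⟩
          exact ⟨h1, fun b₁ hb₁ => (Subgroup.mem_centralizer_iff.1 h2 b₁ hb₁).symm⟩
        · rintro ⟨h1, h2⟩
          refine ⟨h1, ?_⟩
          show c ∈ Subgroup.centralizer (B₁ : Set Ω)
          rw [Subgroup.mem_centralizer_iff]
          intro b₁ hb₁
          exact (h2 b₁ hb₁).symm
      have hC₀S : C₀ ≤ S := fun c hc => ((hC₀m c).1 hc).1
      have hYN : Y₁ ≤ Subgroup.normalizer (C₀ : Set Ω) := by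
        intro y hy
        refine mem_normalizer_of_conj_mem hC₀S (fun c hc => ?_)
        obtain ⟨h1, h2⟩ := (hC₀m c).1 hc
        refine (hC₀m _).2 ⟨S.mul_mem (S.mul_mem (hY₁S hy) h1) (S.inv_mem (hY₁S hy)), fun b₁ hb₁ => ?_⟩
        have h3 := hY₁norm y⁻¹ (Y₁.inv_mem hy) b₁ hb₁
        simp only [inv_inv] at h3
        have h4 := h2 _ h3
        calc y * c * y⁻¹ * b₁ = y * (c * (y⁻¹ * b₁ * y)) * y⁻¹ := by group
          _ = y * ((y⁻¹ * b₁ * y) * c) * y⁻¹ := by rw [h4]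
          _ = b₁ * (y * c * y⁻¹) := by group
      have hHS : Y₁ ⊔ C₀ ≤ S := sup_le hY₁S hC₀S
      have hlt : Y₁ < Y₁ ⊔ C₀ := by
        refine lt_of_le_of_ne le_sup_left (fun e => hc₀Y ?_)
        rw [e]
        exact Subgroup.mem_sup_right ((hC₀m c₀).2 ⟨hc₀S, hc₀c⟩)
      haveI : Finite ↥(Y₁ ⊔ C₀) := finite_of_le hHS
      obtain ⟨x, hx, hxY⟩ := exists_mem_normalizerIn_not_mem (hS.to_le hHS) hlt
      have hx1 : x ∈ ((Y₁ ⊔ C₀ : Subgroup Ω) : Set Ω) := hx.1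
      rw [Subgroup.coe_mul_of_left_le_normalizer_right _ _ hYN] at hx1
      obtain ⟨y, hy, c, hc, rfl⟩ := hx1
      have hcN : c ∈ Subgroup.normalizer (Y₁ : Set Ω) := by
        have e : c = y⁻¹ * (y * c) := by group
        rw [e]
        exact Subgroup.mul_mem _ (Subgroup.inv_mem _ (Subgroup.le_normalizer hy)) hx.2
      obtain ⟨h1, h2⟩ := (hC₀m c).1 hc
      exact hxY (Y₁.mul_mem hy (hcase c h1 hcN h2))
    -- `Z` maps `Q` into `Y₁`
    have hZY : ∀ q ∈ Q, Z q ∈ Y₁ := by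
      intro q hq
      have hy := hιi.mem hq
      obtain ⟨y, hydef⟩ : ∃ y, y = ι q := ⟨_, rfl⟩
      rw [← hydef] at hy
      have hqy : a (g' y) = q := by
        rw [hydef]
        exact hιr q hq
      have hw : y⁻¹ * Z q ∈ Y₁ := by
        refine hCY _ (S.mul_mem (S.inv_mem (hY₁S hy)) (hZ.mem_S (hQN hq))) (fun b₁ hb₁ => ?_)
        obtain ⟨b, hb, rfl⟩ := hZi.exists_of_mem hb₁
        have h1 : y * Z b * y⁻¹ ∈ B₁ := hY₁norm y hy _ (hZi.mem hb)
        obtain ⟨b'', hb'', h2⟩ := hZi.exists_of_mem h1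
        have h3 : q * b * q⁻¹ = b'' := by
          have h4 := hχ.map_conj hy (hB₁Y₁ (hZi.mem hb))
          rw [hqy, hχZ b hb, ← h2, hχZ b'' hb''] at h4
          exact h4.symm
        have h5 : Z q * Z b * (Z q)⁻¹ = y * Z b * y⁻¹ := by
          rw [← hZ.map_conj (hQN hq) (hBN hb), h3, h2]
        calc y⁻¹ * Z q * Z b = y⁻¹ * (Z q * Z b * (Z q)⁻¹) * Z q := by group
          _ = y⁻¹ * (y * Z b * y⁻¹) * Z q := by rw [h5]
          _ = Z b * (y⁻¹ * Z q) := by group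
      have e : Z q = y * (y⁻¹ * Z q) := by group
      rw [e]
      exact Y₁.mul_mem hy hw
    have hZQ : IsMapOn E Q Z := hZ.mono hQN
    obtain ⟨Q', hQ'⟩ := hZQ.exists_image le_rfl
    have hQ'Y : Q' ≤ Y₁ := by
      intro y hy
      obtain ⟨q, hq, rfl⟩ := hQ'.exists_of_mem hy
      exact hZY q hq
    have hQ'eq : Q' = Y₁ := eq_of_le_of_card_le (S := S) hQ'Y hY₁S (by
      rw [← IsImage.card_eq hZQ le_rfl hQ', hcardY])
    rw [hQ'eq] at hQ'
    obtain ⟨Zi, hZii, hZiI, hZil, hZir⟩ := hZQ.exists_inv hQ'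
    have hγ : IsMapOn F Q (fun q => (fun y => a (g' y)) (Z q)) := (IsMapOn.of_le hEF hZQ).comp hχ (fun x hx => hZY x hx)
    have hγi : IsImage (fun q => (fun y => a (g' y)) (Z q)) Q Q := hQ'.comp hχi
    obtain ⟨c₀, hc₀, hc₀v⟩ := exists_aut_of_map hγ hγi
    obtain ⟨h, hh, hhv⟩ := hC c₀ hc₀ (fun b hb => by
      rw [hc₀v b (hB hb)]
      exact hχZ b hb)
    apply hfinal
    refine (hZii.comp (isMapOn_conj hQS hh) (fun y hy => hZiI.mem hy)).congr (fun y hy => ?_)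
    have h1 := hc₀v (Zi y) (hZiI.mem hy)
    rw [hhv _ (hZiI.mem hy)] at h1
    simp only at h1
    rw [hZir y hy] at h1
    exact h1
  · -- a larger domain
    push_neg at hcase
    obtain ⟨c, hcS, hcN, hcB, hcY⟩ := hcase
    have hrecF := receptive_of_fullyNormalized hS hF hQ
    have hconj : IsMapOn F Y₁ (fun y => c * y * c⁻¹) := isMapOn_conj hY₁S hcS
    have hconji : IsImage (fun y => c * y * c⁻¹) Y₁ Y₁ := by
      intro y
      constructor
      · intro hy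
        refine ⟨c⁻¹ * y * c⁻¹⁻¹, conj_mem_of_normalizer (Subgroup.inv_mem _ hcN) hy, ?_⟩
        group
      · rintro ⟨x, hx, rfl⟩
        exact conj_mem_of_normalizer hcN hx
    have hγ : IsMapOn F Q (fun q => (fun y => a (g' y)) (c * ι q * c⁻¹)) :=
      (hι.comp hconj (fun q hq => hιi.mem hq)).comp hχ (fun q hq => hconji.mem (hιi.mem hq))
    have hγi : IsImage (fun q => (fun y => a (g' y)) (c * ι q * c⁻¹)) Q Q := (hιi.comp hconji).comp hχi
    obtain ⟨c₀, hc₀, hc₀v⟩ := exists_aut_of_map hγ hγi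
    obtain ⟨h, hh, hhv⟩ := hC c₀ hc₀ (fun b hb => by
      rw [hc₀v b (hB hb)]
      show a (g' (c * ι b * c⁻¹)) = b
      rw [hιB b hb]
      have : c * Z b * c⁻¹ = Z b := by
        rw [hcB _ (hZi.mem hb)]
        group
      rw [this]
      exact hχZ b hb)
    have hcExt : c ∈ extSet S S Y₁ (fun y => a (g' y)) := by
      refine ⟨hcS, hcN, h, hh, fun x hx => ?_⟩
      have h1 := hc₀v _ (hχi.mem hx)
      rw [hhv _ (hχi.mem hx)] at h1
      simp only at h1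
      rw [hιl x hx] at h1
      exact h1.symm
    obtain ⟨χ', hχ', hχ'v⟩ := hχ.exists_ext_set hrecF hχi
    have hle : Y₁ ≤ extSet S S Y₁ (fun y => a (g' y)) := le_extSet hχ
    have hlt : Y₁ < extSet S S Y₁ (fun y => a (g' y)) := lt_of_le_of_ne hle (fun e => hcY (e ▸ hcExt))
    have hcard := card_lt_of_lt hlt (fun x hx => hx.1)
    have hE' : IsMapOn E (extSet S S Y₁ (fun y => a (g' y))) χ' := by
      obtain ⟨φ, hφ, hv⟩ := hχ'
      exact ⟨φ, hlarge _ (by rw [hcardY]; exact hcard) hφ, hv⟩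
    apply hfinal
    exact (hE'.mono hle).congr hχ'v

/-- The pointwise stabilizer of a subgroup. -/
def stabOn {G : Type*} [Group G] (B : Subgroup G) : Subgroup (MulAut G) where
  carrier := {β | ∀ b ∈ B, β b = b}
  mul_mem' := by
    intro a c ha hc x hx
    rw [MulAut.mul_apply, hc x hx, ha x hx]
  one_mem' := fun _ _ => rfl
  inv_mem' := by
    intro a ha x hx
    have h := ha x hx
    calc a⁻¹ x = a⁻¹ (a x) := by rw [h]
      _ = x := by simp

theorem mem_stabOn {G : Type*} [Group G] {B : Subgroup G} {β : MulAut G} : β ∈ stabOn B ↔ ∀ b ∈ B, β b = b := Iff.rfl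

/-- A good subgroup: normal in `Q`, abelian of small exponent, inside the hyperfocal subgroup, and such that the elements of `Aut_F(Q)` fixing it are
induced by `S`. -/
theorem exists_good (hS : IsPGroup p S) (hF : F.IsSaturated p) {Q : Subgroup Ω} (hQ : F.IsFullyNormalized Q) {e : ℕ} (he : p ∣ e) (he2 : p ∣ e.choose 2) :
    ∃ B : Subgroup Q, (∀ b ∈ B, (b : Ω) ∈ F.hyperfocalSubgroup p) ∧ (∀ a ∈ B, ∀ b ∈ B, a * b = b * a) ∧ (∀ b ∈ B, b ^ e = 1) ∧ B.Normal ∧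
      ∀ β ∈ F.autGroup Q, (∀ b ∈ B, β b = b) → β ∈ autInducedBy S Q := by
  classical
  have hQS := hQ.1
  have hpp := hp.out
  haveI hQf : Finite Q := finite_of_le hQS
  haveI hAf : Finite (MulAut Q) := Finite.of_injective (fun α : MulAut Q => (α : Q → Q)) (fun a b h => MulEquiv.ext (congrFun h))
  have hQp : IsPGroup p Q := hS.to_le hQS
  obtain ⟨K, hK⟩ : ∃ K, K = F.autGroup Q := ⟨_, rfl⟩
  obtain ⟨I, hI⟩ : ∃ I, I = autInducedBy S Q := ⟨_, rfl⟩
  rw [← hK, ← hI]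
  have hIK : I ≤ K := by
    rw [hI, hK]
    exact autInducedBy_le_autGroup hQS
  let W : Subgroup Q := (F.hyperfocalSubgroup p).subgroupOf Q
  haveI hWn : W.Normal := by
    refine ⟨fun n hn g => ?_⟩
    rw [Subgroup.mem_subgroupOf] at hn ⊢
    exact conj_mem_hyp (hQS g.2) hn
  have hsc := hyp_stronglyClosed (F := F) hS hF
  have hΓW : ∀ α ∈ K, ∀ w ∈ W, α w ∈ W := by
    intro α hα w hw
    rw [hK] at hα
    rw [Subgroup.mem_subgroupOf]
    have hle : W.map Q.subtype ≤ F.hyperfocalSubgroup p := by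
      rintro _ ⟨x, hx, rfl⟩
      exact hx
    have hQ' : W.map Q.subtype ≤ Q := by
      rintro _ ⟨x, hx, rfl⟩
      exact x.2
    obtain ⟨φ, hφ, hv⟩ := (isMapOn_fn hQS hα).mono hQ'
    have h1 := hsc.2 _ hle φ hφ ⟨w, ⟨w, hw, rfl⟩⟩
    rw [hv, fn_coe] at h1
    exact h1
  have hWΓ : ∀ α ∈ K, (∃ n : ℕ, n.Coprime p ∧ α ^ n = 1) → ∀ x, x⁻¹ * α x ∈ W := by
    rintro α hα ⟨n, hn, hαn⟩ x
    rw [hK] at hα
    rw [Subgroup.mem_subgroupOf]
    have hord : Nat.Coprime (orderOf (⟨α, hα⟩ : F.autGroup Q)) p := by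
      rw [Subgroup.orderOf_mk]
      exact Nat.Coprime.coprime_dvd_left (orderOf_dvd_of_pow_eq_one hαn) hn
    have hres : (⟨α, hα⟩ : F.autGroup Q) ∈ pResidual p (F.autGroup Q) := Subgroup.subset_closure hord
    exact mem_hyp_of hQS hres x
  obtain ⟨B₀, hB₁, hB₂, hB₃, hB₄, hB₅⟩ := CritSub.exists_faithful hQp W K hΓW hWΓ he he2
  obtain ⟨a₂, ha₂⟩ := Finite.exists_max (fun a : K => Nat.card ↥(I ⊓ stabOn (B₀.map (a : MulAut Q).toMonoidHom)))
  obtain ⟨B, hBdef⟩ : ∃ B, B = B₀.map (a₂ : MulAut Q).toMonoidHom := ⟨_, rfl⟩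
  have ha₂' : ∀ a : K, Nat.card ↥(I ⊓ stabOn (B₀.map (a : MulAut Q).toMonoidHom)) ≤ Nat.card ↥(I ⊓ stabOn B) := by
    intro a
    rw [hBdef]
    exact ha₂ a
  have hfaith : ∀ β ∈ K, (∃ n : ℕ, n.Coprime p ∧ β ^ n = 1) → (∀ b ∈ B, β b = b) → β = 1 := by
    rintro β hβ ⟨n, hn, hβn⟩ hfix
    have h1 : (a₂ : MulAut Q)⁻¹ * β * a₂ = 1 := by
      refine hB₅ _ (K.mul_mem (K.mul_mem (K.inv_mem a₂.2) hβ) a₂.2) ⟨n, hn, ?_⟩ (fun b hb => ?_)
      · have e1 : (a₂ : MulAut Q)⁻¹ * β * a₂ = (a₂ : MulAut Q)⁻¹ * β * ((a₂ : MulAut Q)⁻¹)⁻¹ := by simp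
        rw [e1, conj_pow, hβn]
        group
      · have h2 := hfix ((a₂ : MulAut Q) b) (by rw [hBdef]; exact ⟨b, hb, rfl⟩)
        show (a₂ : MulAut Q)⁻¹ (β ((a₂ : MulAut Q) b)) = b
        rw [h2]
        simp
    have h2 : β = a₂ * ((a₂ : MulAut Q)⁻¹ * β * a₂) * (a₂ : MulAut Q)⁻¹ := by group
    rw [h2, h1]
    group
  refine ⟨B, ?_, ?_, ?_, ?_, ?_⟩
  · rw [hBdef]
    rintro _ ⟨b, hb, rfl⟩
    exact hΓW _ a₂.2 b (hB₁ hb)
  · rw [hBdef]
    rintro _ ⟨a, ha, rfl⟩ _ ⟨b, hb, rfl⟩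
    have := hB₂ a ha b hb
    show (a₂ : MulAut Q) a * (a₂ : MulAut Q) b = (a₂ : MulAut Q) b * (a₂ : MulAut Q) a
    rw [← map_mul, this, map_mul]
  · rw [hBdef]
    rintro _ ⟨b, hb, rfl⟩
    show ((a₂ : MulAut Q) b) ^ e = 1
    rw [← map_pow, hB₃ b hb, map_one]
  · rw [hBdef]
    exact Subgroup.Normal.map hB₄ _ (MulEquiv.surjective _)
  · -- the stabilizer is a `p`-group inside `I`
    have hpg : ∀ r ∈ K ⊓ stabOn B, ∃ k : ℕ, r ^ p ^ k = 1 := by
      rintro r ⟨hrK, hrS⟩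
      have hn0 : orderOf r ≠ 0 := (isOfFinOrder_of_finite r).orderOf_pos.ne'
      obtain ⟨k, m, hm, hkm⟩ := Nat.exists_eq_pow_mul_and_not_dvd hn0 p hpp.ne_one
      refine ⟨k, ?_⟩
      refine hfaith _ (K.pow_mem hrK _) ⟨m, ?_, ?_⟩ (fun b hb => ?_)
      · exact ((Nat.Prime.coprime_iff_not_dvd hpp).2 hm).symm
      · rw [← pow_mul, ← hkm]
        exact pow_orderOf_eq_one r
      · have : r ^ p ^ k ∈ stabOn B := (stabOn B).pow_mem hrS _
        exact this b hb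
    obtain ⟨Syl, hSyl⟩ := (fullyNormalized_spec hS hF hQ).2.2
    subst hK
    subst hI
    have hR₂p : IsPGroup p ↥((stabOn B).subgroupOf (F.autGroup Q)) := by
      intro r
      obtain ⟨k, hk⟩ := hpg (r : F.autGroup Q) ⟨r.1.2, Subgroup.mem_subgroupOf.1 r.2⟩
      refine ⟨k, Subtype.ext (Subtype.ext hk)⟩
    obtain ⟨P₁, hP₁⟩ := IsPGroup.exists_le_sylow hR₂p
    obtain ⟨c, hc⟩ := MulAction.exists_smul_eq (F.autGroup Q) P₁ Syl
    have hconj : ∀ r : F.autGroup Q, (r : MulAut Q) ∈ stabOn B → (c : MulAut Q) * r * (c : MulAut Q)⁻¹ ∈ autInducedBy S Q := by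
      intro r hr
      have h1 : c * r * c⁻¹ ∈ (Syl : Subgroup (F.autGroup Q)) := by
        rw [← hc, Sylow.coe_subgroup_smul]
        exact ⟨r, hP₁ (Subgroup.mem_subgroupOf.2 hr), rfl⟩
      rw [hSyl, Subgroup.mem_subgroupOf] at h1
      exact h1
    have heqc : B.map (c : MulAut Q).toMonoidHom = B₀.map ((c * a₂ : F.autGroup Q) : MulAut Q).toMonoidHom := by
      rw [hBdef, Subgroup.map_map]
      rfl
    have hcard : Nat.card ↥(F.autGroup Q ⊓ stabOn B) ≤ Nat.card ↥(autInducedBy S Q ⊓ stabOn B) := by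
      refine le_trans ?_ (ha₂' (c * a₂))
      rw [← heqc]
      let f : ↥(F.autGroup Q ⊓ stabOn B) → ↥(autInducedBy S Q ⊓ stabOn (B.map (c : MulAut Q).toMonoidHom)) := fun r =>
        ⟨(c : MulAut Q) * r * (c : MulAut Q)⁻¹, hconj ⟨r, r.2.1⟩ r.2.2, by
          rintro _ ⟨b, hb, rfl⟩
          show (c : MulAut Q) ((r : MulAut Q) ((c : MulAut Q)⁻¹ ((c : MulAut Q) b))) = (c : MulAut Q) b
          have h5 : (c : MulAut Q)⁻¹ ((c : MulAut Q) b) = b := by simp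
          rw [h5, r.2.2 b hb]⟩
      refine Nat.card_le_card_of_injective f (fun r s h => ?_)
      have h6 : (c : MulAut Q) * r * (c : MulAut Q)⁻¹ = (c : MulAut Q) * s * (c : MulAut Q)⁻¹ := congrArg Subtype.val h
      exact Subtype.ext (by simpa using h6)
    have hle : autInducedBy S Q ⊓ stabOn B ≤ F.autGroup Q ⊓ stabOn B := inf_le_inf_right _ hIK
    have heq := Subgroup.eq_of_le_of_card_ge hle hcard
    intro β hβ hfix
    have : β ∈ F.autGroup Q ⊓ stabOn B := ⟨hβ, hfix⟩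
    rw [← heq] at this
    exact this.1

/-- The local step. -/
theorem local_step (hS : IsPGroup p S) (hE : E.IsSaturated p) (hF : F.IsSaturated p) (hEF : ∀ X, E.Hom X ⊆ F.Hom X)
    {e : ℕ} (he : p ∣ e) (he2 : p ∣ e.choose 2)
    (hag : ∀ A B : Subgroup Ω, A ≤ F.hyperfocalSubgroup p → B ≤ F.hyperfocalSubgroup p → (∀ a ∈ A, ∀ b ∈ A, a * b = b * a) → (∀ a ∈ B, ∀ b ∈ B, a * b = b * a) →
      (∀ a ∈ A, a ^ e = 1) → (∀ b ∈ B, b ^ e = 1) → E.homSet A B = F.homSet A B)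
    {Q : Subgroup Ω} (hQ : F.IsFullyNormalized Q) (hlarge : ∀ X : Subgroup Ω, Nat.card Q < Nat.card X → F.Hom X ⊆ E.Hom X)
    {α : MulAut Q} (hα : α ∈ F.autGroup Q) : IsMapOn E Q (fn α) := by
  classical
  have hQS := hQ.1
  obtain ⟨B, hB₁, hB₂, hB₃, hB₄, hB₅⟩ := exists_good hS hF hQ he he2
  have hsc := hyp_stronglyClosed (F := F) hS hF
  have hma : IsMapOn F Q (fn α) := isMapOn_fn hQS hα
  have hmai : IsMapOn F Q (fn α⁻¹) := isMapOn_fn hQS (Subgroup.inv_mem _ hα)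
  obtain ⟨Bh, hBh⟩ : ∃ Bh : Subgroup Ω, Bh = B.map Q.subtype := ⟨_, rfl⟩
  have hBhQ : Bh ≤ Q := by
    rw [hBh]
    rintro _ ⟨x, -, rfl⟩
    exact x.2
  obtain ⟨B', hB'⟩ := hmai.exists_image hBhQ
  have hB'Q : B' ≤ Q := by
    intro y hy
    obtain ⟨x, hx, rfl⟩ := hB'.exists_of_mem hy
    exact fn_mem _ (hBhQ hx)
  have hαB' : IsImage (fn α) B' Bh := by
    have := hB'.inv (g := fn α) (fun x hx => by
      have h := fn_fn_inv α (hBhQ hx)
      exact h)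
    exact this
  have hmem : ∀ x ∈ Bh, x ∈ F.hyperfocalSubgroup p := by
    rw [hBh]
    rintro _ ⟨x, hx, rfl⟩
    exact hB₁ x hx
  have hcomm : ∀ a ∈ Bh, ∀ b ∈ Bh, a * b = b * a := by
    rw [hBh]
    rintro _ ⟨a, ha, rfl⟩ _ ⟨b, hb, rfl⟩
    exact congrArg Subtype.val (hB₂ a ha b hb)
  have hexp : ∀ a ∈ Bh, a ^ e = 1 := by
    rw [hBh]
    rintro _ ⟨a, ha, rfl⟩
    exact congrArg Subtype.val (hB₃ a ha)
  have hnorm : Q ≤ Subgroup.normalizer (Bh : Set Ω) := by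
    intro y hy
    refine mem_normalizer_of_conj_mem (hBhQ.trans hQS) ?_
    rw [hBh]
    rintro _ ⟨b, hb, rfl⟩
    exact ⟨⟨y, hy⟩ * b * ⟨y, hy⟩⁻¹, hB₄.conj_mem b hb _, rfl⟩
  have hB'sub : ∀ x ∈ B', x ∈ F.hyperfocalSubgroup p := by
    intro y hy
    obtain ⟨x, hx, rfl⟩ := hB'.exists_of_mem hy
    obtain ⟨φ, hφ, hv⟩ := hmai.mono hBhQ
    have h1 := hsc.2 _ (fun x hx => hmem x hx) φ hφ ⟨x, hx⟩
    rwa [hv] at h1
  have hcomm' : ∀ a ∈ B', ∀ b ∈ B', a * b = b * a := by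
    intro a ha b hb
    obtain ⟨a', ha', rfl⟩ := hB'.exists_of_mem ha
    obtain ⟨b', hb', rfl⟩ := hB'.exists_of_mem hb
    rw [← hmai.map_mul (hBhQ ha') (hBhQ hb'), hcomm a' ha' b' hb', hmai.map_mul (hBhQ hb') (hBhQ ha')]
  have hexp' : ∀ a ∈ B', a ^ e = 1 := by
    intro a ha
    obtain ⟨a', ha', rfl⟩ := hB'.exists_of_mem ha
    obtain ⟨φ, hφ, hv⟩ := hmai.mono hBhQ
    rw [← hv ⟨a', ha'⟩, ← map_pow]
    have h1 : (⟨a', ha'⟩ : Bh) ^ e = 1 := Subtype.ext (hexp a' ha')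
    rw [h1, map_one]
  have hnorm' : Q ≤ Subgroup.normalizer (B' : Set Ω) := by
    intro y hy
    refine mem_normalizer_of_conj_mem (hB'Q.trans hQS) (fun x hx => ?_)
    obtain ⟨x', hx', rfl⟩ := hB'.exists_of_mem hx
    have hy' : fn α y ∈ Q := fn_mem _ hy
    have h1 := hmai.map_conj hy' (hBhQ hx')
    rw [fn_inv_fn α hy] at h1
    rw [← h1]
    exact hB'.mem (conj_mem_of_normalizer (hnorm hy') hx')
  have hagB : IsMapOn E B' (fn α) := by
    obtain ⟨φ, hφ, hv⟩ := hma.mono hB'Q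
    have h1 : φ ∈ F.homSet B' Bh := ⟨hφ, fun x => by
      rw [hv]
      exact hαB'.mem x.2⟩
    rw [← hag B' Bh hB'sub hmem hcomm' hcomm hexp' hexp] at h1
    exact ⟨φ, h1.1, hv⟩
  refine local_core hS hE hF hEF hQ hlarge hma (isImage_fn α) hBhQ hnorm hαB' hB'Q hnorm' hagB (fun β hβ hfix => ?_)
  have h1 := hB₅ β hβ (fun b hb => by
    have h2 := hfix (b : Ω) (by rw [hBh]; exact ⟨b, hb, rfl⟩)
    rw [fn_coe] at h2
    exact Subtype.ext h2)
  obtain ⟨g, hg, hgv⟩ := mem_autInducedBy_iff.1 h1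
  refine ⟨g, hg, fun x hx => ?_⟩
  rw [fn_of_mem β hx]
  exact hgv ⟨x, hx⟩

/-- Small abelian subgroups of the hyperfocal subgroup control fusion. -/
theorem main (hS : IsPGroup p S) (hE : E.IsSaturated p) (hF : F.IsSaturated p) (hEF : ∀ X, E.Hom X ⊆ F.Hom X)
    {e : ℕ} (he : p ∣ e) (he2 : p ∣ e.choose 2)
    (hag : ∀ A B : Subgroup Ω, A ≤ F.hyperfocalSubgroup p → B ≤ F.hyperfocalSubgroup p → (∀ a ∈ A, ∀ b ∈ A, a * b = b * a) → (∀ a ∈ B, ∀ b ∈ B, a * b = b * a) →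
      (∀ a ∈ A, a ^ e = 1) → (∀ b ∈ B, b ^ e = 1) → E.homSet A B = F.homSet A B) :
    ∀ X, F.Hom X ⊆ E.Hom X := by
  have key : ∀ d m : ℕ, m + d = Nat.card S + 1 → ∀ X : Subgroup Ω, m ≤ Nat.card X → F.Hom X ⊆ E.Hom X := by
    intro d
    induction d with
    | zero =>
      intro m hm X hX φ hφ
      have := card_le_card_S (le_of_hom hφ)
      omega
    | succ d ih =>
      intro m hm X hX φ hφ
      have hup := ih (m + 1) (by omega)
      have h1 := alperin_induction (F := F) hS hF (fun P φ => Nat.card P < m ∨ φ ∈ E.Hom P) ?_ ?_ ?_ ?_ hφ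
      · rcases h1 with h1 | h1
        · omega
        · exact h1
      · intro P g hP hg
        exact Or.inr (E.conj_mem hP hg)
      · intro P Q φ ψ hφ hψ h1 h2 h
        by_cases hPm : Nat.card P < m
        · exact Or.inl hPm
        right
        have hQP : Nat.card P ≤ Nat.card Q := by
          have := finite_of_le (le_of_hom hψ)
          exact Nat.card_le_card_of_injective (φ.codRestrict Q h) (fun a b e => inj hφ (congrArg Subtype.val e))
        have h1' := h1.resolve_left hPm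
        have h2' := h2.resolve_left (by omega)
        exact E.comp_mem h1' h2' h
      · intro P φ ψ hφ hψ hψx h1
        have hc : Nat.card φ.range = Nat.card P := (Nat.card_congr (isoOfHom hφ rfl).toEquiv).symm
        rcases h1 with h1 | h1
        · left
          rwa [hc]
        · right
          obtain ⟨ψ', hψ', hψ'x⟩ := E.inv_mem h1
          have : ψ' = ψ := by
            ext ⟨_, y, rfl⟩
            rw [hψ'x, hψx]
          rwa [this] at hψ'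
      · intro P hP α hα
        by_cases hPm : Nat.card P < m
        · exact Or.inl hPm
        right
        have hPS : P ≤ S := by
          rcases hP with rfl | hP
          · exact le_rfl
          · exact hP.1.1
        obtain ⟨φ', hφ', hv⟩ := local_step hS hE hF hEF he he2 hag (fullyNormalized_of_mem P hP) (fun X hX' => hup X (by omega)) hα
        have : φ' = P.subtype.comp α.toMonoidHom := by
          ext x
          rw [hv, fn_coe]
          rfl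
        rwa [this] at hφ'
  intro X
  exact key (Nat.card S + 1) 0 (by omega) X (Nat.zero_le _)

/-- The elementary-abelian form. -/
theorem small_exp_hyp (hS : IsPGroup p S) (hE : E.IsSaturated p) (hF : F.IsSaturated p) (hEF : E.IsSubsystemOf F)
    (hodd : p ≠ 2 → ∀ A B : Subgroup Ω, A ≤ (F.hyperfocalSubgroup p) → B ≤ (F.hyperfocalSubgroup p) →
      Cfsg.IsElementaryAbelian p A → Cfsg.IsElementaryAbelian p B → E.homSet A B = F.homSet A B)
    (htwo : p = 2 → ∀ A B : Subgroup Ω, A ≤ (F.hyperfocalSubgroup p) → B ≤ (F.hyperfocalSubgroup p) →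
      IsMulCommutative ↥A → IsMulCommutative ↥B → (∀ a ∈ A, a ^ 4 = 1) → (∀ b ∈ B, b ^ 4 = 1) → E.homSet A B = F.homSet A B) :
    ∀ P : Subgroup Ω, E.Hom P = F.Hom P := by
  have hEF' : ∀ X, E.Hom X ⊆ F.Hom X := hEF
  have hab : ∀ (A : Subgroup Ω), (∀ a ∈ A, ∀ b ∈ A, a * b = b * a) → IsMulCommutative ↥A := by
    intro A h
    exact ⟨⟨fun a b => Subtype.ext (h a a.2 b b.2)⟩⟩
  have hmain : ∀ X, F.Hom X ⊆ E.Hom X := by
    by_cases h2 : p = 2
    · subst h2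
      refine main (e := 4) hS hE hF hEF' (by norm_num) (by decide) (fun A B hA hB h1 h3 h4 h5 => ?_)
      exact htwo rfl A B hA hB (hab A h1) (hab B h3) h4 h5
    · have hpp := hp.out
      have hlt : 2 < p := lt_of_le_of_ne hpp.two_le (Ne.symm h2)
      refine main (e := p) hS hE hF hEF' dvd_rfl (hpp.dvd_choose_self (by norm_num) hlt) (fun A B hA hB h1 h3 h4 h5 => ?_)
      exact hodd h2 A B hA hB ⟨hab A h1, h4⟩ ⟨hab B h3, h5⟩
  intro P
  exact le_antisymm (hEF' P) (hmain P)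

end Cfsg.Agent.Lib.Fusion2.SmallExp
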