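import Mathlib

/-!
# Computations in groups of class two with automorphisms
-/

set_option autoImplicit false
set_option linter.unusedSectionVars false
set_option linter.style.haveILetI false

namespace Cfsg.Agent.Lib.Fusion2.Stab

open Subgroup

variable {A : Type*} [Group A]

/-- The commutator `a⁻¹ b⁻¹ a b`. -/
def cc (a b : A) : A := a⁻¹ * b⁻¹ * a * b

/-- The obstruction to quadraticity. -/
def Ee (ψ : MulAut A) (a : A) : A := ψ a⁻¹ * a * ψ a⁻¹ * ψ (ψ a)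

/-- The derivative. -/
def dd (ψ : MulAut A) (a : A) : A := a⁻¹ * ψ a

theorem central_comm {z : A} (hz : z ∈ center A) (g : A) : g * z = z * g :=
  (mem_center_iff.1 hz g)

theorem cc_map {B : Type*} [Group B] (f : A →* B) (a b : A) : f (cc a b) = cc (f a) (f b) := by
  simp [cc]

theorem Ee_eq (ψ : MulAut A) (a : A) : Ee ψ a = (dd ψ a)⁻¹ * ψ (dd ψ a) := by
  simp only [Ee, dd, map_mul, map_inv]
  group

theorem apply_eq_mul_dd (ψ : MulAut A) (a : A) : ψ a = a * dd ψ a := by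
  simp [dd]

theorem apply_dd (ψ : MulAut A) (a : A) : ψ (dd ψ a) = dd ψ a * Ee ψ a := by
  rw [Ee_eq]
  group

theorem dd_mul (ψ : MulAut A) (a b : A) : dd ψ (a * b) = dd ψ a * cc (dd ψ a) b * dd ψ b := by
  simp only [dd, cc, map_mul, mul_inv_rev, inv_inv]
  group

section class2

variable (hc2 : ∀ a b : A, cc a b ∈ center A)

include hc2

theorem cc_mul_left (x y w : A) : cc (x * y) w = cc x w * cc y w := by
  have h1 : x⁻¹ * w⁻¹ * x = cc x w * w⁻¹ := by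
    simp only [cc]
    group
  calc cc (x * y) w = y⁻¹ * (x⁻¹ * w⁻¹ * x) * y * w := by
        simp only [cc, mul_inv_rev]
        group
    _ = y⁻¹ * (cc x w * w⁻¹) * y * w := by rw [h1]
    _ = (y⁻¹ * cc x w) * w⁻¹ * y * w := by group
    _ = cc x w * y⁻¹ * w⁻¹ * y * w := by rw [central_comm (hc2 x w) y⁻¹]
    _ = cc x w * cc y w := by
        simp only [cc]
        group

theorem cc_mul_right (x v w : A) : cc x (v * w) = cc x v * cc x w := by
  have h1 : v⁻¹ * x * v = x * cc x v := by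
    simp only [cc]
    group
  calc cc x (v * w) = x⁻¹ * w⁻¹ * (v⁻¹ * x * v) * w := by
        simp only [cc, mul_inv_rev]
        group
    _ = x⁻¹ * w⁻¹ * (x * cc x v) * w := by rw [h1]
    _ = (x⁻¹ * w⁻¹ * x) * (cc x v * w) := by group
    _ = (x⁻¹ * w⁻¹ * x) * (w * cc x v) := by rw [central_comm (hc2 x v) w]
    _ = cc x w * cc x v := by
        simp only [cc]
        group
    _ = cc x v * cc x w := central_comm (hc2 x v) _

omit hc2 in
theorem cc_central_left {x z w : A} (hz : z ∈ center A) : cc (x * z) w = cc x w := by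
  simp only [cc, mul_inv_rev]
  calc z⁻¹ * x⁻¹ * w⁻¹ * (x * z) * w = z⁻¹ * (x⁻¹ * w⁻¹ * x) * z * w := by group
    _ = z⁻¹ * (z * (x⁻¹ * w⁻¹ * x)) * w := by
        rw [mul_assoc z⁻¹ (x⁻¹ * w⁻¹ * x) z, central_comm hz (x⁻¹ * w⁻¹ * x)]
    _ = x⁻¹ * w⁻¹ * x * w := by group

omit hc2 in
theorem cc_central_right {x z w : A} (hz : z ∈ center A) : cc x (w * z) = cc x w := by
  simp only [cc, mul_inv_rev]
  have h1 : z⁻¹ * w⁻¹ * x * (w * z) = w⁻¹ * x * w := by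
    calc z⁻¹ * w⁻¹ * x * (w * z) = z⁻¹ * (w⁻¹ * x * w) * z := by group
      _ = z⁻¹ * (z * (w⁻¹ * x * w)) := by
          rw [mul_assoc z⁻¹ (w⁻¹ * x * w) z, central_comm hz (w⁻¹ * x * w)]
      _ = w⁻¹ * x * w := by group
  calc x⁻¹ * (z⁻¹ * w⁻¹) * x * (w * z) = x⁻¹ * (z⁻¹ * w⁻¹ * x * (w * z)) := by group
    _ = x⁻¹ * (w⁻¹ * x * w) := by rw [h1]
    _ = x⁻¹ * w⁻¹ * x * w := by group

/-- The defect of `Ee` from being a homomorphism. -/
theorem Ee_mul (ψ : MulAut A) (hE : ∀ a, Ee ψ a ∈ center A) (a b : A) :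
    Ee ψ (a * b) = Ee ψ a * Ee ψ b * cc (dd ψ a) (dd ψ b) := by
  obtain ⟨x, hx⟩ : ∃ x, x = dd ψ a := ⟨_, rfl⟩
  obtain ⟨v, hv⟩ : ∃ v, v = dd ψ b := ⟨_, rfl⟩
  have hψx : ψ x = x * Ee ψ a := by rw [hx]; exact apply_dd ψ a
  have hψv : ψ v = v * Ee ψ b := by rw [hv]; exact apply_dd ψ b
  have hψb : ψ b = b * v := by rw [hv]; exact apply_eq_mul_dd ψ b
  obtain ⟨c, hc⟩ : ∃ c, c = cc x b := ⟨_, rfl⟩
  obtain ⟨d, hd⟩ : ∃ d, d = cc x v := ⟨_, rfl⟩
  have hcC : c ∈ center A := hc ▸ hc2 _ _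
  have hdC : d ∈ center A := hd ▸ hc2 _ _
  have hEa := hE a
  have hEb := hE b
  obtain ⟨E1, hE1⟩ : ∃ E1, E1 = Ee ψ a := ⟨_, rfl⟩
  obtain ⟨E2, hE2⟩ : ∃ E2, E2 = Ee ψ b := ⟨_, rfl⟩
  rw [← hE1] at hψx hEa
  rw [← hE2] at hψv hEb
  have hdab : dd ψ (a * b) = x * c * v := by rw [dd_mul, ← hx, ← hv, ← hc]
  have hψc : ψ c = c * d := by
    rw [hc, show ψ (cc x b) = cc (ψ x) (ψ b) from cc_map ψ.toMonoidHom x b, hψx, hψb, cc_central_left hEa,
      cc_mul_right hc2, ← hc, ← hd]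
  have h1 : Ee ψ (a * b) = (x * c * v)⁻¹ * ψ (x * c * v) := by
    rw [Ee_eq, hdab]
  rw [h1, map_mul, map_mul, hψx, hψc, hψv, ← hE1, ← hE2, ← hx, ← hv, ← hd]
  -- collect the central elements
  have e : x * E1 * (c * d) * (v * E2) = x * c * v * (E1 * E2 * d) := by
    calc x * E1 * (c * d) * (v * E2) = x * (E1 * (c * d)) * (v * E2) := by group
      _ = x * ((c * d) * E1) * (v * E2) := by rw [← central_comm hEa (c * d)]
      _ = x * c * (d * (E1 * v)) * E2 := by group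
      _ = x * c * (d * (v * E1)) * E2 := by rw [central_comm hEa v]
      _ = x * c * ((d * v) * E1) * E2 := by group
      _ = x * c * ((v * d) * E1) * E2 := by rw [← central_comm hdC v]
      _ = x * c * v * (d * (E1 * E2)) := by group
      _ = x * c * v * ((E1 * E2) * d) := by rw [← central_comm hdC (E1 * E2)]
  rw [e]
  group

/-- The key computation. -/
theorem cc_sq_eq_one (ψ : MulAut A) (hE : ∀ a, Ee ψ a ∈ center A) (m m' : A) (h1 : ψ (cc m m') = cc m m')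
    (h2 : ψ (ψ (cc m m')) = cc m m') : cc (dd ψ m) (dd ψ m') * cc (dd ψ m) (dd ψ m') = 1 := by
  obtain ⟨e, he⟩ : ∃ e, e = dd ψ m := ⟨_, rfl⟩
  obtain ⟨e', he'⟩ : ∃ e', e' = dd ψ m' := ⟨_, rfl⟩
  rw [← he, ← he']
  have hψm : ψ m = m * e := by rw [he]; exact apply_eq_mul_dd ψ m
  have hψm' : ψ m' = m' * e' := by rw [he']; exact apply_eq_mul_dd ψ m'
  have hψe : ψ e = e * Ee ψ m := by rw [he]; exact apply_dd ψ m
  have hψe' : ψ e' = e' * Ee ψ m' := by rw [he']; exact apply_dd ψ m'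
  have hmap : ∀ u v : A, ψ (cc u v) = cc (ψ u) (ψ v) := fun u v => cc_map ψ.toMonoidHom u v
  have hexp : ∀ u v u' v' : A, cc (u * v) (u' * v') = cc u u' * cc u v' * (cc v u' * cc v v') := by
    intro u v u' v'
    rw [cc_mul_left hc2, cc_mul_right hc2, cc_mul_right hc2]
  have s1 : cc m m' * cc m e' * (cc e m' * cc e e') = cc m m' := by
    rw [← hexp, ← hψm, ← hψm', ← hmap, h1]
  have hψ2 : ψ (ψ m) = m * (e * e) * Ee ψ m := by
    rw [hψm, map_mul, hψm, hψe]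
    group
  have hψ2' : ψ (ψ m') = m' * (e' * e') * Ee ψ m' := by
    rw [hψm', map_mul, hψm', hψe']
    group
  have s2 : cc (m * (e * e)) (m' * (e' * e')) = cc m m' := by
    have h3 := h2
    rw [hmap, hmap, hψ2, hψ2', cc_central_left (hE m), cc_central_right (hE m')] at h3
    exact h3
  rw [hexp] at s2
  have hc1 : cc m (e' * e') = cc m e' * cc m e' := cc_mul_right hc2 _ _ _
  have hc3 : cc (e * e) m' = cc e m' * cc e m' := cc_mul_left hc2 _ _ _
  have hc4 : cc (e * e) (e' * e') = cc e e' * cc e e' * (cc e e' * cc e e') := by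
    rw [hexp]
  rw [hc1, hc3, hc4] at s2
  -- now in the centre
  obtain ⟨c0, hc0⟩ : ∃ c0 : center A, (c0 : A) = cc m m' := ⟨⟨_, hc2 _ _⟩, rfl⟩
  obtain ⟨u, hu⟩ : ∃ u : center A, (u : A) = cc m e' := ⟨⟨_, hc2 _ _⟩, rfl⟩
  obtain ⟨w, hw⟩ : ∃ w : center A, (w : A) = cc e m' := ⟨⟨_, hc2 _ _⟩, rfl⟩
  obtain ⟨g, hg⟩ : ∃ g : center A, (g : A) = cc e e' := ⟨⟨_, hc2 _ _⟩, rfl⟩
  rw [← hc0, ← hu, ← hw, ← hg] at s1 s2
  rw [← hg]
  have s1' : c0 * u * (w * g) = c0 := Subtype.ext s1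
  have s2' : c0 * (u * u) * (w * w * (g * g * (g * g))) = c0 := Subtype.ext s2
  have s3 : u * (w * g) = 1 := by
    rw [mul_assoc] at s1'
    exact mul_eq_left.1 s1'
  have s4 : u * u * (w * w * (g * g * (g * g))) = 1 := by
    rw [mul_assoc] at s2'
    exact mul_eq_left.1 s2'
  have s5 : g * g = 1 := by
    have e1 : u * u * (w * w * (g * g * (g * g))) = (u * (w * g)) * (u * (w * g)) * (g * g) := by
      ac_rfl
    rw [e1, s3, one_mul, one_mul] at s4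
    exact s4
  exact congrArg Subtype.val s5

/-- Elements inverted by an involution commuting with `ψ`. -/
theorem Ee_sq_of_inverted (ψ T : MulAut A) (hT : ∀ x, T (ψ x) = ψ (T x)) {a : A} (hEc : Ee ψ a ∈ center A)
    (hTE : T (Ee ψ a) = Ee ψ a) (ha : T a = a⁻¹) : Ee ψ a * Ee ψ a = 1 := by
  have h1 : T (Ee ψ a) = Ee ψ a⁻¹ := by
    simp only [Ee, map_mul, map_inv, hT, ha]
  have h2 : Ee ψ a⁻¹ = ψ (ψ a) * (Ee ψ a)⁻¹ * (ψ (ψ a))⁻¹ := by
    simp only [Ee, map_inv, mul_inv_rev, inv_inv]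
    group
  have h3 : ψ (ψ a) * (Ee ψ a)⁻¹ * (ψ (ψ a))⁻¹ = (Ee ψ a)⁻¹ := by
    have h4 : (Ee ψ a)⁻¹ ∈ center A := inv_mem hEc
    rw [central_comm h4, mul_inv_cancel_right]
  rw [h2, h3] at h1
  rw [hTE] at h1
  calc Ee ψ a * Ee ψ a = Ee ψ a * (Ee ψ a)⁻¹ := by rw [← h1]
    _ = 1 := mul_inv_cancel _

end class2

end Cfsg.Agent.Lib.Fusion2.Stab
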