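import Cfsg.Agent.Lib.PLocal.QuadClass

/-!
# Two quadratic generators acting irreducibly: an element acting as `-1`
-/

set_option autoImplicit false
set_option linter.unusedSectionVars false
set_option linter.style.haveILetI false

namespace Cfsg.Agent.Lib.Fusion2.Stab

open Subgroup Cfsg.Agent.Lib.OddLocal Cfsg.Agent.Lib.PLocal

theorem neg_of_two_dim {p : ℕ} [Fact p.Prime] (hp : p ≠ 2) {V : Type*} [AddCommGroup V] [Finite V]
    {L : Type*} [Group L] [Finite L] (ρ : L →* AddMonoid.End V)
    {F₁ : Type*} [Field F₁] [Finite F₁] [CharP F₁ p] (ι : F₁ →+* AddMonoid.End V)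
    (hcomm : ∀ (c : F₁) (t : L), ι c * ρ t = ρ t * ι c)
    (v₀ w : V) (hbij : Function.Bijective (fun u : Fin 2 → F₁ => ι (u 0) v₀ + ι (u 1) w))
    (x y : L) (hgen : closure ({x, y} : Set L) = ⊤) (hxp : ρ x ^ p = 1) (hyp : ρ y ^ p = 1) (hx1 : ρ x ≠ 1)
    (hirr : ∀ S : AddSubgroup V, (∀ v ∈ S, ρ x v ∈ S) → (∀ v ∈ S, ρ y v ∈ S) → S = ⊥ ∨ S = ⊤) : ∃ t : L, ∀ v, ρ t v = -v := by
  classical
  have hpp : p.Prime := Fact.out
  set φe := Equiv.ofBijective _ hbij with hφe
  have hφ : ∀ u, φe u = ι (u 0) v₀ + ι (u 1) w := fun _ => rfl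
  have hι : ∀ (a b : F₁) (v : V), ι a (ι b v) = ι (a * b) v := by
    intro a b v
    rw [map_mul]
    rfl
  have hιc : ∀ (c : F₁) (t : L) (v : V), ρ t (ι c v) = ι c (ρ t v) := by
    intro c t v
    have := congrArg (fun f : AddMonoid.End V => f v) (hcomm c t)
    exact this.symm
  have hιadd : ∀ (a b : F₁) (v : V), ι (a + b) v = ι a v + ι b v := by
    intro a b v
    rw [map_add]
    rfl
  -- the matrix
  let mat : L → Matrix (Fin 2) (Fin 2) F₁ := fun t => Matrix.of fun i j =>
    φe.symm (ρ t (if j = 0 then v₀ else w)) i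
  have hcol0 : ∀ t, ι (mat t 0 0) v₀ + ι (mat t 1 0) w = ρ t v₀ := by
    intro t
    have h1 := φe.apply_symm_apply (ρ t v₀)
    rw [hφ] at h1
    simpa [mat] using h1
  have hcol1 : ∀ t, ι (mat t 0 1) v₀ + ι (mat t 1 1) w = ρ t w := by
    intro t
    have h1 := φe.apply_symm_apply (ρ t w)
    rw [hφ] at h1
    simpa [mat] using h1
  have hkey : ∀ t u, φe ((mat t).mulVec u) = ρ t (φe u) := by
    intro t u
    have e0 : (mat t).mulVec u 0 = mat t 0 0 * u 0 + mat t 0 1 * u 1 := by
      simp [Matrix.mulVec, dotProduct, Fin.sum_univ_two]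
    have e1 : (mat t).mulVec u 1 = mat t 1 0 * u 0 + mat t 1 1 * u 1 := by
      simp [Matrix.mulVec, dotProduct, Fin.sum_univ_two]
    have h1 : ρ t (φe u) = ι (u 0) (ρ t v₀) + ι (u 1) (ρ t w) := by
      rw [hφ, map_add, hιc, hιc]
    rw [h1, ← hcol0, ← hcol1, hφ, e0, e1, hιadd, hιadd, map_add (ι (u 0)), map_add (ι (u 1)), hι, hι, hι, hι]
    rw [mul_comm (u 0), mul_comm (u 0), mul_comm (u 1), mul_comm (u 1)]
    abel
  have hmat1 : mat 1 = 1 := by
    apply Matrix.mulVec_injective
    funext u
    apply φe.injective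
    rw [hkey, map_one, Matrix.one_mulVec]
    rfl
  have hmatmul : ∀ s t, mat (s * t) = mat s * mat t := by
    intro s t
    apply Matrix.mulVec_injective
    funext u
    apply φe.injective
    rw [hkey, map_mul, ← Matrix.mulVec_mulVec, hkey, hkey]
    rfl
  let ρ' : L →* Matrix (Fin 2) (Fin 2) F₁ :=
    { toFun := mat
      map_one' := hmat1
      map_mul' := hmatmul }
  let ρ'' : L →* GL (Fin 2) F₁ := ρ'.toHomUnits
  have hρ'' : ∀ t, ((ρ'' t : GL (Fin 2) F₁) : Matrix (Fin 2) (Fin 2) F₁) = mat t := fun t => rfl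
  set H := ρ''.range with hH
  haveI : Finite H := Finite.of_surjective ρ''.rangeRestrict ρ''.rangeRestrict_surjective
  have hirr' : ∀ u : Fin 2 → F₁, u ≠ 0 →
      ∃ g ∈ H, (g : Matrix (Fin 2) (Fin 2) F₁).mulVec u ∉ Submodule.span F₁ {u} := by
    intro u hu
    by_contra hcon
    push Not at hcon
    have hspan : ∀ t, ∃ c : F₁, (mat t).mulVec u = c • u := by
      intro t
      have h1 := hcon (ρ'' t) ⟨t, rfl⟩
      rw [hρ'', Submodule.mem_span_singleton] at h1
      obtain ⟨c, hc⟩ := h1
      exact ⟨c, hc.symm⟩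
    set u' := φe u with hu'
    have hu'0 : u' ≠ 0 := by
      intro e
      apply hu
      have h0 : φe 0 = 0 := by
        rw [hφ]
        simp
      exact φe.injective (e.trans h0.symm)
    have hinv : ∀ t, ∃ c : F₁, ρ t u' = ι c u' := by
      intro t
      obtain ⟨c, hc⟩ := hspan t
      refine ⟨c, ?_⟩
      rw [hu', ← hkey, hc, hφ, hφ, map_add, hι, hι]
      simp only [Pi.smul_apply, smul_eq_mul]
    let S : AddSubgroup V :=
      { carrier := {v | ∃ c : F₁, v = ι c u'}
        zero_mem' := ⟨0, by simp⟩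
        add_mem' := by
          rintro a b ⟨c, rfl⟩ ⟨d, rfl⟩
          exact ⟨c + d, by rw [hιadd]⟩
        neg_mem' := by
          rintro a ⟨c, rfl⟩
          refine ⟨-c, ?_⟩
          rw [map_neg]
          rfl }
    have hSmem : ∀ v, v ∈ S ↔ ∃ c : F₁, v = ι c u' := fun v => Iff.rfl
    have hSinv : ∀ t, ∀ v ∈ S, ρ t v ∈ S := by
      rintro t v ⟨c, rfl⟩
      obtain ⟨d, hd⟩ := hinv t
      refine ⟨c * d, ?_⟩
      rw [hιc, hd, hι]
    have hu'S : u' ∈ S := ⟨1, by simp⟩
    have hStop : S = ⊤ := by
      rcases hirr S (hSinv x) (hSinv y) with h | h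
      · exfalso
        rw [h] at hu'S
        exact hu'0 hu'S
      · exact h
    have hv₀ : v₀ ∈ S := hStop ▸ AddSubgroup.mem_top v₀
    have hw : w ∈ S := hStop ▸ AddSubgroup.mem_top w
    obtain ⟨r, hr⟩ := hv₀
    obtain ⟨s, hs⟩ := hw
    have h0 : φe ![s, -r] = 0 := by
      rw [hφ]
      simp only [Matrix.cons_val_zero, Matrix.cons_val_one, map_neg]
      change ι s v₀ + -(ι r w) = 0
      conv_lhs => rw [hr, hs]
      rw [hι, hι, mul_comm]
      abel
    have h00 : φe 0 = 0 := by
      rw [hφ]
      simp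
    have h1 : ![s, -r] = (0 : Fin 2 → F₁) := φe.injective (h0.trans h00.symm)
    have hr0 : r = 0 := by
      have := congrFun h1 1
      simpa using this
    have hv00 : v₀ = 0 := by
      rw [hr, hr0]
      simp
    have hs0 : s = 0 := by
      have := congrFun h1 0
      simpa using this
    have hw0 : w = 0 := by
      rw [hs, hs0]
      simp
    -- φe is not injective
    have h2 : φe ![1, 0] = 0 := by
      rw [hφ, hv00, hw0]
      simp
    have h3 : ![(1 : F₁), 0] = 0 := φe.injective (h2.trans h00.symm)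
    have := congrFun h3 0
    simp at this
  have hHe : H = closure ({ρ'' x, ρ'' y} : Set (GL (Fin 2) F₁)) := by
    rw [hH, MonoidHom.range_eq_map, ← hgen, MonoidHom.map_closure, Set.image_pair]
  have hpowE : ∀ t : L, ρ t ^ p = 1 → ρ'' t ^ p = 1 := by
    intro t ht
    rw [← map_pow]
    apply Units.ext
    rw [hρ'']
    change mat (t ^ p) = 1
    apply Matrix.mulVec_injective
    funext u
    apply φe.injective
    rw [hkey, map_pow, ht, Matrix.one_mulVec]
    rfl
  have hmat1' : ρ'' x ≠ 1 := by
    intro e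
    apply hx1
    have h1 : mat x = 1 := by
      rw [← hρ'', e]
      rfl
    ext v
    have h2 := hkey x (φe.symm v)
    rw [h1, Matrix.one_mulVec, Equiv.apply_symm_apply] at h2
    exact h2.symm
  by_contra hno
  push Not at hno
  have htwo : (2 : F₁) ≠ 0 := by
    intro e
    have h1 : ((2 : ℕ) : F₁) = 0 := by exact_mod_cast e
    have h2 := (CharP.cast_eq_zero_iff F₁ p 2).mp h1
    exact hp ((Nat.prime_dvd_prime_iff_eq hpp Nat.prime_two).mp h2)
  have hdet := Cfsg.Agent.Lib.PLocal.gl2_closure_det (p := p) (hpowE x hxp) (hpowE y hyp)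
  have hodd : Odd (Nat.card H) := by
    by_contra hne
    rw [Nat.not_odd_iff_even, even_iff_two_dvd] at hne
    obtain ⟨g, hg⟩ := exists_prime_orderOf_dvd_card' (G := H) 2 hne
    have hg1 : g ≠ 1 := by
      rintro rfl
      rw [orderOf_one] at hg
      omega
    have hg2 : g * g = 1 := by
      have h0 := pow_orderOf_eq_one g
      rwa [hg, pow_two] at h0
    obtain ⟨t, ht⟩ := g.2
    have hgmem : (g : GL (Fin 2) F₁) ∈ closure ({ρ'' x, ρ'' y} : Set (GL (Fin 2) F₁)) := hHe ▸ g.2
    have h3 := Cfsg.Agent.Lib.PLocal.gl2_involution htwo (hdet _ hgmem)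
      (congrArg Subtype.val hg2) (fun e => hg1 (Subtype.ext e))
    obtain ⟨v, hv⟩ := hno t
    apply hv
    have h4 : mat t = -1 := by
      rw [← hρ'', ht]
      exact h3
    have h5 := hkey t (φe.symm v)
    rw [h4, Equiv.apply_symm_apply] at h5
    rw [← h5]
    have e0 : (-1 : Matrix (Fin 2) (Fin 2) F₁).mulVec (φe.symm v) = - φe.symm v := by
      rw [Matrix.neg_mulVec, Matrix.one_mulVec]
    rw [e0]
    have h6 : φe (- φe.symm v) = - φe (φe.symm v) := by
      rw [hφ, hφ]
      simp only [Pi.neg_apply, map_neg]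
      change -(ι (φe.symm v 0) v₀) + -(ι (φe.symm v 1) w) = _
      abel
    rw [h6, Equiv.apply_symm_apply]
  have hnd := Cfsg.Agent.S1463.result (F := F₁) p hp H hodd (by
    rw [hHe] at hirr' ⊢
    exact hirr')
  apply hnd
  have hx'mem : ρ'' x ∈ H := ⟨x, rfl⟩
  let a' : H := ⟨ρ'' x, hx'mem⟩
  have ha'p : a' ^ p = 1 := Subtype.ext (hpowE x hxp)
  have ha'1 : a' ≠ 1 := fun e => hmat1' (congrArg Subtype.val e)
  have hord := orderOf_eq_prime ha'p ha'1
  rw [← hord]
  exact orderOf_dvd_natCard _


/-- The statement of the main lemma. -/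
theorem exists_neg_of_quad {p : ℕ} [Fact p.Prime] (hp : p ≠ 2) {V : Type*} [AddCommGroup V] [Finite V]
    (hV : ∀ v : V, p • v = 0) {L : Type*} [Group L] [Finite L] (ρ : L →* AddMonoid.End V)
    (x y : L) (hgen : closure ({x, y} : Set L) = ⊤)
    (hx : (ρ x - 1) * (ρ x - 1) = 0) (hy : (ρ y - 1) * (ρ y - 1) = 0)
    (hirr : ∀ S : AddSubgroup V, (∀ v ∈ S, ρ x v ∈ S) → (∀ v ∈ S, ρ y v ∈ S) → S = ⊥ ∨ S = ⊤)
    (hne : ¬ (ρ x = 1 ∧ ρ y = 1)) :
    (∃ t : L, ∀ v, ρ t v = -v) ∧ (∀ v, ∃ w, (ρ x - 1) v = (ρ x - 1) ((ρ y - 1) w)) ∧ (∀ v, ∃ w, (ρ y - 1) v = (ρ y - 1) ((ρ x - 1) w)) := by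
  classical
  have hpp : p.Prime := Fact.out
  set x₁ : AddMonoid.End V := ρ x - 1 with hx₁
  set y₁ : AddMonoid.End V := ρ y - 1 with hy₁
  set z : AddMonoid.End V := x₁ * y₁ + y₁ * x₁ with hz
  have hxx' : x₁ * (x₁ * y₁) = 0 := by rw [← mul_assoc, hx, zero_mul]
  have hyy' : y₁ * (y₁ * x₁) = 0 := by rw [← mul_assoc, hy, zero_mul]
  have hzx : z * x₁ = x₁ * z := by
    simp only [hz, add_mul, mul_add, mul_assoc, hx, hxx', mul_zero, zero_add, add_zero]
  have hzy : z * y₁ = y₁ * z := by
    simp only [hz, add_mul, mul_add, mul_assoc, hy, hyy', mul_zero, zero_add, add_zero]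
  have hxe : ρ x = x₁ + 1 := by rw [hx₁]; abel
  have hye : ρ y = y₁ + 1 := by rw [hy₁]; abel
  -- general irreducibility
  have hirr' : ∀ S : AddSubgroup V, (∀ v ∈ S, x₁ v ∈ S) → (∀ v ∈ S, y₁ v ∈ S) → S = ⊥ ∨ S = ⊤ := by
    intro S h1 h2
    apply hirr S
    · intro v hv
      rw [hxe]
      exact S.add_mem (h1 v hv) hv
    · intro v hv
      rw [hye]
      exact S.add_mem (h2 v hv) hv
  have hker : ∀ r : AddMonoid.End V, r * x₁ = x₁ * r → r * y₁ = y₁ * r → r = 0 ∨ ∀ v, r v = 0 → v = 0 := by
    intro r h1 h2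
    rcases hirr' (endKer r) (by
      intro v hv
      rw [mem_endKer] at hv ⊢
      have := congrArg (fun f : AddMonoid.End V => f v) h1
      change r (x₁ v) = x₁ (r v) at this
      rw [this, hv, map_zero]) (by
      intro v hv
      rw [mem_endKer] at hv ⊢
      have := congrArg (fun f : AddMonoid.End V => f v) h2
      change r (y₁ v) = y₁ (r v) at this
      rw [this, hv, map_zero]) with h | h
    · right
      intro v hv
      have : v ∈ endKer r := hv
      rw [h] at this
      exact this
    · left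
      ext v
      have : v ∈ endKer r := h ▸ AddSubgroup.mem_top v
      exact this
  have hker2 : ∀ a b : AddMonoid.End V, a * a = 0 → a * b = -(b * a) →
      (∀ S : AddSubgroup V, (∀ v ∈ S, a v ∈ S) → (∀ v ∈ S, b v ∈ S) → S = ⊥ ∨ S = ⊤) → a = 0 := by
    intro a b haa hab hI
    have hk : endKer a = ⊥ ∨ endKer a = ⊤ := hI (endKer a) (by
      intro v hv
      rw [mem_endKer] at hv ⊢
      rw [hv, map_zero]) (by
      intro v hv
      rw [mem_endKer] at hv ⊢
      have := congrArg (fun f : AddMonoid.End V => f v) hab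
      change a (b v) = -(b (a v)) at this
      rw [this, hv, map_zero, neg_zero])
    ext v
    have h1 : a (a v) = 0 := congrArg (fun f : AddMonoid.End V => f v) haa
    rcases hk with h | h
    · have : a v ∈ endKer a := h1
      rw [h] at this
      exact this
    · have : v ∈ endKer a := h ▸ AddSubgroup.mem_top v
      exact this
  by_cases hz0 : z = 0
  · -- the easy case
    have hxy : x₁ * y₁ = -(y₁ * x₁) := by
      have := hz0
      rw [hz] at this
      exact eq_neg_of_add_eq_zero_left this
    have hyx : y₁ * x₁ = -(x₁ * y₁) := by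
      rw [hxy, neg_neg]
    have hx0 := hker2 x₁ y₁ hx hxy hirr'
    have hy0 := hker2 y₁ x₁ hy hyx (fun S h1 h2 => hirr' S h2 h1)
    exact absurd ⟨by rw [hxe, hx0, zero_add], by rw [hye, hy0, zero_add]⟩ hne
  · have hSall : ∀ v, ∃ a b, v = x₁ (y₁ a) + y₁ (x₁ b) := by
      let S : AddSubgroup V :=
        { carrier := {v | ∃ a b, v = x₁ (y₁ a) + y₁ (x₁ b)}
          zero_mem' := ⟨0, 0, by simp⟩
          add_mem' := by
            rintro _ _ ⟨a, b, rfl⟩ ⟨c, d, rfl⟩
            refine ⟨a + c, b + d, ?_⟩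
            simp only [map_add]
            abel
          neg_mem' := by
            rintro _ ⟨a, b, rfl⟩
            refine ⟨-a, -b, ?_⟩
            simp only [map_neg]
            abel }
      have hxx : ∀ v, x₁ (x₁ v) = 0 := fun v => congrArg (fun f : AddMonoid.End V => f v) hx
      have hyy : ∀ v, y₁ (y₁ v) = 0 := fun v => congrArg (fun f : AddMonoid.End V => f v) hy
      rcases hirr' S (by
        rintro _ ⟨a, b, rfl⟩
        refine ⟨x₁ b, 0, ?_⟩
        simp only [map_add, map_zero, hxx, add_zero, zero_add]) (by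
        rintro _ ⟨a, b, rfl⟩
        refine ⟨0, y₁ a, ?_⟩
        simp only [map_add, map_zero, hyy, add_zero, zero_add]) with h | h
      · exfalso
        apply hz0
        ext v
        have h1 : (z : AddMonoid.End V) v = x₁ (y₁ v) + y₁ (x₁ v) := rfl
        have h2 : x₁ (y₁ v) + y₁ (x₁ v) ∈ S := ⟨v, v, rfl⟩
        rw [h] at h2
        rw [h1]
        exact h2
      · intro v
        have h2 : v ∈ S := h ▸ AddSubgroup.mem_top v
        exact h2
    have hxx' : ∀ v, x₁ (x₁ v) = 0 := fun v => congrArg (fun f : AddMonoid.End V => f v) hx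
    have hyy' : ∀ v, y₁ (y₁ v) = 0 := fun v => congrArg (fun f : AddMonoid.End V => f v) hy
    have hA : ∀ v, ∃ w, x₁ v = x₁ (y₁ w) := by
      intro v
      obtain ⟨a, b, rfl⟩ := hSall v
      refine ⟨x₁ b, ?_⟩
      simp only [map_add, hxx', zero_add]
    have hB : ∀ v, ∃ w, y₁ v = y₁ (x₁ w) := by
      intro v
      obtain ⟨a, b, rfl⟩ := hSall v
      refine ⟨y₁ a, ?_⟩
      simp only [map_add, hyy', add_zero]
    have hx₁0 : x₁ ≠ 0 := by
      intro e
      apply hz0
      rw [hz, e, zero_mul, mul_zero, add_zero]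
    -- the field
    let R : Subring (AddMonoid.End V) := Subring.closure {z}
    have hRc : ∀ r ∈ R, r * x₁ = x₁ * r ∧ r * y₁ = y₁ * r := by
      intro r hr
      induction hr using Subring.closure_induction with
      | mem a ha =>
        rw [Set.mem_singleton_iff] at ha
        rw [ha]
        exact ⟨hzx, hzy⟩
      | zero => simp
      | one => simp
      | add a b _ _ h1 h2 =>
        exact ⟨by rw [add_mul, mul_add, h1.1, h2.1], by rw [add_mul, mul_add, h1.2, h2.2]⟩
      | neg a _ h1 =>
        exact ⟨by rw [neg_mul, mul_neg, h1.1], by rw [neg_mul, mul_neg, h1.2]⟩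
      | mul a b _ _ h1 h2 =>
        exact ⟨by rw [mul_assoc, h2.1, ← mul_assoc, h1.1, mul_assoc],
          by rw [mul_assoc, h2.2, ← mul_assoc, h1.2, mul_assoc]⟩
    have hzR : z ∈ R := Subring.subset_closure rfl
    letI hcr : CommRing R := Subring.closureCommRingOfComm (by
      intro a ha b hb
      rw [Set.mem_singleton_iff] at ha hb
      rw [ha, hb])
    have hinj : ∀ r : R, (r : AddMonoid.End V) ≠ 0 → ∀ v, (r : AddMonoid.End V) v = 0 → v = 0 := by
      intro r hr
      rcases hker r (hRc r r.2).1 (hRc r r.2).2 with h | h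
      · exact absurd h hr
      · exact h
    obtain ⟨v', hv'⟩ : ∃ v, x₁ v ≠ 0 := by
      by_contra h
      push Not at h
      exact hx₁0 (by ext v; exact h v)
    set v₀ := x₁ v' with hv₀
    have hx₁v₀ : x₁ v₀ = 0 := congrArg (fun f : AddMonoid.End V => f v') hx
    set w := y₁ v₀ with hw
    haveI hntR : Nontrivial R := by
      refine ⟨⟨0, 1, ?_⟩⟩
      intro e
      have h1 := congrArg Subtype.val e
      have h2 : (0 : AddMonoid.End V) = 1 := h1
      apply hv'
      have h3 := congrArg (fun f : AddMonoid.End V => f (x₁ v')) h2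
      exact h3.symm
    haveI hdomR : IsDomain R := by
      haveI : NoZeroDivisors R := by
        refine ⟨fun {a b} hab => ?_⟩
        by_contra hne
        push Not at hne
        obtain ⟨ha, hb⟩ := hne
        have ha' : (a : AddMonoid.End V) ≠ 0 := fun e => ha (Subtype.ext e)
        have hb' : (b : AddMonoid.End V) ≠ 0 := fun e => hb (Subtype.ext e)
        apply hb'
        ext v
        apply hinj a ha'
        have h1 : ((a * b : R) : AddMonoid.End V) = 0 := by rw [hab]; rfl
        have h2 : (a : AddMonoid.End V) * (b : AddMonoid.End V) = 0 := h1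
        exact congrArg (fun f : AddMonoid.End V => f v) h2
      exact NoZeroDivisors.to_isDomain R
    haveI hfinE : Finite (AddMonoid.End V) :=
      Finite.of_injective (fun f : AddMonoid.End V => (f : V → V)) DFunLike.coe_injective
    haveI hfinR : Finite R := inferInstance
    letI hfty : Fintype R := Fintype.ofFinite R
    letI hfield : Field R := Fintype.fieldOfDomain R
    haveI hcharR : CharP R p := by
      rw [CharP.charP_iff_prime_eq_zero hpp]
      apply Subtype.ext
      change ((p : AddMonoid.End V)) = 0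
      ext v
      exact hV v
    let ι : R →+* AddMonoid.End V :=
      { toFun := Subtype.val
        map_one' := rfl
        map_mul' := fun _ _ => rfl
        map_zero' := rfl
        map_add' := fun _ _ => rfl }
    have hιval : ∀ c : R, ι c = (c : AddMonoid.End V) := fun _ => rfl
    have hcomm : ∀ (c : R) (t : L), ι c * ρ t = ρ t * ι c := by
      intro c t
      have ht : t ∈ closure ({x, y} : Set L) := hgen ▸ Subgroup.mem_top t
      have hcx : ι c * ρ x = ρ x * ι c := by
        rw [hxe, hιval, mul_add, add_mul, (hRc c c.2).1, mul_one, one_mul]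
      have hcy : ι c * ρ y = ρ y * ι c := by
        rw [hye, hιval, mul_add, add_mul, (hRc c c.2).2, mul_one, one_mul]
      induction ht using Subgroup.closure_induction with
      | mem a ha =>
        rcases ha with rfl | ha
        · exact hcx
        · rw [Set.mem_singleton_iff] at ha
          rw [ha]
          exact hcy
      | one => rw [map_one, mul_one, one_mul]
      | mul a b _ _ h1 h2 =>
        rw [map_mul, ← mul_assoc, h1, mul_assoc, h2, mul_assoc]
      | inv a _ h1 =>
        have e1 : ρ a⁻¹ * ρ a = 1 := by rw [← map_mul, inv_mul_cancel, map_one]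
        have e2 : ρ a * ρ a⁻¹ = 1 := by rw [← map_mul, mul_inv_cancel, map_one]
        calc ι c * ρ a⁻¹ = (ρ a⁻¹ * ρ a) * (ι c * ρ a⁻¹) := by rw [e1, one_mul]
          _ = ρ a⁻¹ * (ρ a * ι c) * ρ a⁻¹ := by simp only [mul_assoc]
          _ = ρ a⁻¹ * (ι c * ρ a) * ρ a⁻¹ := by rw [h1]
          _ = ρ a⁻¹ * ι c * (ρ a * ρ a⁻¹) := by simp only [mul_assoc]
          _ = ρ a⁻¹ * ι c := by rw [e2, mul_one]
    have hxw : x₁ w = z v₀ := by
      have h1 : (z : AddMonoid.End V) v₀ = x₁ (y₁ v₀) + y₁ (x₁ v₀) := rfl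
      rw [h1, hx₁v₀, map_zero, add_zero]
    have hyw : y₁ w = 0 := congrArg (fun f : AddMonoid.End V => f v₀) hy
    have hzc : ∀ (c : R) (v : V), x₁ ((c : AddMonoid.End V) v) = (c : AddMonoid.End V) (x₁ v) := by
      intro c v
      exact (congrArg (fun f : AddMonoid.End V => f v) (hRc c c.2).1).symm
    have hzd : ∀ (c : R) (v : V), y₁ ((c : AddMonoid.End V) v) = (c : AddMonoid.End V) (y₁ v) := by
      intro c v
      exact (congrArg (fun f : AddMonoid.End V => f v) (hRc c c.2).2).symm
    have hbij : Function.Bijective (fun u : Fin 2 → R => ι (u 0) v₀ + ι (u 1) w) := by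
      constructor
      · -- injective
        have hinj0 : ∀ u : Fin 2 → R, ι (u 0) v₀ + ι (u 1) w = 0 → u = 0 := by
          intro u hu
          have h1 := congrArg x₁ hu
          rw [map_add, map_zero, hιval, hιval, hzc, hzc, hx₁v₀, map_zero, zero_add, hxw] at h1
          -- (u 1) z v₀ = 0
          have hu1 : u 1 = 0 := by
            by_contra hne
            have hne' : ((u 1 * ⟨z, hzR⟩ : R) : AddMonoid.End V) ≠ 0 := by
              intro e
              have h2 : u 1 * ⟨z, hzR⟩ = 0 := Subtype.ext e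
              rcases mul_eq_zero.mp h2 with h3 | h3
              · exact hne h3
              · exact hz0 (congrArg Subtype.val h3)
            exact hv' (hinj _ hne' v₀ h1)
          have hu0 : u 0 = 0 := by
            by_contra hne
            have hne' : ((u 0 : R) : AddMonoid.End V) ≠ 0 := fun e => hne (Subtype.ext e)
            rw [hu1, map_zero] at hu
            have h2 : (u 0 : AddMonoid.End V) v₀ = 0 := by
              have := hu
              rw [hιval] at this
              simpa using this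
            exact hv' (hinj _ hne' v₀ h2)
          funext i
          fin_cases i
          · exact hu0
          · exact hu1
        intro u u' huu
        have h1 : ι ((u - u') 0) v₀ + ι ((u - u') 1) w = 0 := by
          have h2 : ι (u 0) v₀ + ι (u 1) w = ι (u' 0) v₀ + ι (u' 1) w := huu
          simp only [Pi.sub_apply, map_sub]
          change (ι (u 0) v₀ - ι (u' 0) v₀) + (ι (u 1) w - ι (u' 1) w) = 0
          rw [sub_add_sub_comm, h2, sub_self]
        exact sub_eq_zero.mp (hinj0 _ h1)
      · -- surjective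
        let S : AddSubgroup V :=
          { carrier := {v | ∃ u : Fin 2 → R, v = ι (u 0) v₀ + ι (u 1) w}
            zero_mem' := ⟨0, by
              simp only [Pi.zero_apply, map_zero]
              exact (add_zero _).symm⟩
            add_mem' := by
              rintro a b ⟨c, rfl⟩ ⟨d, rfl⟩
              refine ⟨c + d, ?_⟩
              simp only [Pi.add_apply, map_add]
              change _ = (ι (c 0) v₀ + ι (d 0) v₀) + (ι (c 1) w + ι (d 1) w)
              abel
            neg_mem' := by
              rintro a ⟨c, rfl⟩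
              refine ⟨-c, ?_⟩
              simp only [Pi.neg_apply, map_neg]
              change _ = -(ι (c 0) v₀) + -(ι (c 1) w)
              abel }
        have hv₀S : v₀ ∈ S := ⟨![1, 0], by
          simp only [Matrix.cons_val_zero, Matrix.cons_val_one, map_zero, map_one]
          exact (add_zero _).symm⟩
        have hStop : S = ⊤ := by
          rcases hirr' S (by
            rintro v ⟨u, rfl⟩
            refine ⟨![u 1 * ⟨z, hzR⟩, 0], ?_⟩
            rw [map_add, hιval, hιval, hzc, hzc, hx₁v₀, map_zero, zero_add, hxw]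
            simp only [Matrix.cons_val_zero, Matrix.cons_val_one, map_zero]
            exact (add_zero _).symm) (by
            rintro v ⟨u, rfl⟩
            refine ⟨![0, u 0], ?_⟩
            rw [map_add, hιval, hιval, hzd, hzd, hyw, map_zero, add_zero]
            simp only [Matrix.cons_val_zero, Matrix.cons_val_one, map_zero]
            exact (zero_add _).symm) with h | h
          · exfalso
            rw [h] at hv₀S
            exact hv' hv₀S
          · exact h
        intro v
        have : v ∈ S := hStop ▸ AddSubgroup.mem_top v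
        obtain ⟨u, hu⟩ := this
        exact ⟨u, hu.symm⟩
    have hzpow : ∀ (t : L) (t₁ : AddMonoid.End V), ρ t = t₁ + 1 → t₁ * t₁ = 0 → ρ t ^ p = 1 := by
      intro t t₁ hte htt
      have hxpow : ∀ n : ℕ, ρ t ^ n = (n : AddMonoid.End V) * t₁ + 1 := by
        intro n
        induction n with
        | zero => simp
        | succ n ih =>
          rw [pow_succ, ih, hte, add_mul, mul_add, mul_add, mul_assoc, htt, mul_zero, zero_add, mul_one, one_mul]
          push_cast
          rw [add_mul]
          simp only [one_mul]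
          abel
      rw [hxpow]
      have : (p : AddMonoid.End V) = 0 := by
        ext v
        exact hV v
      rw [this, zero_mul, zero_add]
    have hxp : ρ x ^ p = 1 := hzpow x x₁ hxe hx
    have hyp : ρ y ^ p = 1 := hzpow y y₁ hye hy
    have hx1 : ρ x ≠ 1 := by
      intro e
      apply hx₁0
      rw [hx₁, e, sub_self]
    haveI hfinR' : Finite R := hfinR
    exact ⟨neg_of_two_dim hp ρ ι hcomm v₀ w hbij x y hgen hxp hyp hx1 hirr, hA, hB⟩

end Cfsg.Agent.Lib.Fusion2.Stab
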