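import Cfsg.Agent.Lib.Fusion2.StabAlg
import Cfsg.Agent.Lib.Fusion2.StabNeg
import Cfsg.Agent.Lib.Basic.Frattini

/-!
# Two automorphisms quadratic modulo a fixed subgroup
-/

set_option autoImplicit false
set_option linter.unusedSectionVars false
set_option linter.style.haveILetI false

universe u

namespace Cfsg.Agent.Lib.Fusion2.Stab

open Subgroup
open scoped commutatorElement

variable {A : Type u} [Group A]

theorem finite_mulAut [Finite A] : Finite (MulAut A) :=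
  Finite.of_injective (fun f : MulAut A => (f : A → A)) DFunLike.coe_injective

theorem inv_of_closure [Finite A] {s : Set (MulAut A)} {B : Subgroup A} (hs : ∀ g ∈ s, ∀ b ∈ B, g b ∈ B) :
    ∀ t ∈ closure s, ∀ b ∈ B, t b ∈ B := by
  intro t ht
  haveI := finite_mulAut (A := A)
  induction ht using Subgroup.closure_induction with
  | mem g hg => exact hs g hg
  | one => exact fun b hb => hb
  | mul a b _ _ h1 h2 => exact fun x hx => h1 _ (h2 x hx)
  | inv a _ h1 =>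
    have hpow : ∀ n : ℕ, ∀ b ∈ B, (a ^ n) b ∈ B := by
      intro n
      induction n with
      | zero => exact fun b hb => hb
      | succ n ih =>
        intro b hb
        rw [pow_succ]
        exact ih _ (h1 b hb)
    have hn : 0 < orderOf a := orderOf_pos a
    have e : a⁻¹ = a ^ (orderOf a - 1) := by
      rw [inv_eq_iff_mul_eq_one, ← pow_succ', Nat.sub_add_cancel hn, pow_orderOf_eq_one]
    rw [e]
    exact hpow _

/-- The stabilizer of a point. -/
def stabPt (b : A) : Subgroup (MulAut A) where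
  carrier := {t | t b = b}
  mul_mem' := by
    intro s t hs ht
    show s (t b) = b
    have ht' : t b = b := ht
    have hs' : s b = b := hs
    rw [ht', hs']
  one_mem' := rfl
  inv_mem' := by
    intro s hs
    have hs' : s b = b := hs
    show s⁻¹ b = b
    conv_lhs => rw [← hs']
    simp

theorem mem_of_coprime_pow {G : Type*} [Group G] (St : Subgroup G) (k : G) {u v : ℕ} (h : u.Coprime v) (hu : k ^ u ∈ St)
    (hv : k ^ v ∈ St) : k ∈ St := by
  have h1 : IsCoprime (u : ℤ) (v : ℤ) := Nat.isCoprime_iff_coprime.2 h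
  obtain ⟨a, b, hab⟩ := h1
  have h2 : k = (k ^ u) ^ a * (k ^ v) ^ b := by
    rw [← zpow_natCast, ← zpow_natCast, ← zpow_mul, ← zpow_mul, ← zpow_add, mul_comm (u : ℤ), mul_comm (v : ℤ), hab, zpow_one]
  rw [h2]
  exact St.mul_mem (St.zpow_mem hu a) (St.zpow_mem hv b)

theorem fix_of_coprime (k : MulAut A) (b : A) {u v : ℕ} (h : u.Coprime v) (hu : (k ^ u) b = b) (hv : (k ^ v) b = b) : k b = b :=
  mem_of_coprime_pow (stabPt b) k h hu hv

/-- Powers of an automorphism which is trivial on the image of `a` under `a ↦ a⁻¹ σ a`. -/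
theorem pow_apply_of_stab (σ : MulAut A) {a f : A} (hf : σ f = f) (ha : σ a = a * f) : ∀ n : ℕ, (σ ^ n) a = a * f ^ n := by
  intro n
  induction n with
  | zero => simp
  | succ n ih =>
    rw [pow_succ', MulAut.mul_apply, ih, map_mul, map_pow, hf, ha, pow_succ']
    group

/-- The package: the quotient as an additive group. -/
theorem exists_package (p : ℕ) (N : Subgroup A) [N.Normal] [Finite A] (hcomm : ∀ a b, cc a b ∈ N) (hpow : ∀ a, a ^ p ∈ N)
    (H : Subgroup (MulAut A)) (hinv : ∀ h ∈ H, ∀ n ∈ N, h n ∈ N) :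
    ∃ (V : Type u) (_ : AddCommGroup V) (_ : Finite V) (π : A → V) (ρ : H →* AddMonoid.End V),
      (∀ a b, π (a * b) = π a + π b) ∧ Function.Surjective π ∧ (∀ a, π a = 0 ↔ a ∈ N) ∧
      (∀ (t : H) (a : A), ρ t (π a) = π ((t : MulAut A) a)) ∧ ∀ v : V, p • v = 0 := by
  letI cg : CommGroup (A ⧸ N) := { (inferInstance : Group (A ⧸ N)) with
    mul_comm := by
      intro a b
      induction a using QuotientGroup.induction_on with
      | H a =>
      induction b using QuotientGroup.induction_on with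
      | H b =>
      rw [← QuotientGroup.mk_mul, ← QuotientGroup.mk_mul, QuotientGroup.eq]
      have e : (a * b)⁻¹ * (b * a) = cc b a := by
        simp only [cc, mul_inv_rev, inv_inv]
        group
      rw [e]
      exact hcomm _ _ }
  let qm : H → (A ⧸ N →* A ⧸ N) := fun t =>
    QuotientGroup.map N N (t : MulAut A).toMonoidHom (fun n hn => hinv t t.2 n hn)
  have hqm : ∀ (t : H) (a : A), qm t (a : A ⧸ N) = (((t : MulAut A) a : A) : A ⧸ N) := fun t a => rfl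
  refine ⟨Additive (A ⧸ N), inferInstance, inferInstance, fun a => Additive.ofMul (a : A ⧸ N),
    { toFun := fun t => (qm t).toAdditive
      map_one' := ?_
      map_mul' := ?_ }, ?_, ?_, ?_, ?_, ?_⟩
  · apply AddMonoidHom.ext
    intro v
    induction v using Additive.rec with
    | _ v =>
    induction v using QuotientGroup.induction_on with
    | H a => rfl
  · intro s t
    apply AddMonoidHom.ext
    intro v
    induction v using Additive.rec with
    | _ v =>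
    induction v using QuotientGroup.induction_on with
    | H a => rfl
  · intro a b
    rfl
  · intro v
    induction v using Additive.rec with
    | _ v =>
    induction v using QuotientGroup.induction_on with
    | H a => exact ⟨a, rfl⟩
  · intro a
    constructor
    · intro h
      exact (QuotientGroup.eq_one_iff a).1 (Additive.ofMul.injective h)
    · intro h
      exact congrArg Additive.ofMul ((QuotientGroup.eq_one_iff a).2 h)
  · intro t a
    rfl
  · intro v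
    induction v using Additive.rec with
    | _ v =>
    induction v using QuotientGroup.induction_on with
    | H a =>
      have h1 : p • Additive.ofMul (a : A ⧸ N) = Additive.ofMul (((a ^ p : A)) : A ⧸ N) := by
        rw [← ofMul_pow]
        rfl
      rw [h1]
      exact congrArg Additive.ofMul ((QuotientGroup.eq_one_iff _).2 (hpow a))

/-- The minimal situation. -/
theorem core_min [Finite A] {p : ℕ} [Fact p.Prime] (hp : p ≠ 2) (hA : IsPGroup p A) (χ y : MulAut A) (Z : Subgroup A)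
    (hZfix : ∀ h ∈ closure ({χ, y} : Set (MulAut A)), ∀ z ∈ Z, h z = z) (hχ : ∀ a, Ee χ a ∈ Z) (hy : ∀ a, Ee y a ∈ Z)
    (hmin : ∀ B : Subgroup A, B ≠ ⊤ → (∀ h ∈ closure ({χ, y} : Set (MulAut A)), ∀ b ∈ B, h b ∈ B) →
      ∀ h ∈ closure ({χ, y} : Set (MulAut A)), ∃ k : ℕ, ∀ b ∈ B, (h ^ (p ^ k)) b = b)
    (hnp : ∃ h ∈ closure ({χ, y} : Set (MulAut A)), ∀ k : ℕ, ∃ a, (h ^ (p ^ k)) a ≠ a) :
    ∃ (R : Subgroup A) (h₁ h₂ : MulAut A), h₁ ∈ closure ({χ, y} : Set (MulAut A)) ∧ h₂ ∈ closure ({χ, y} : Set (MulAut A)) ∧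
      (∀ a ∈ R, h₁ a ∈ R) ∧ (∀ a ∈ R, h₂ a ∈ R) ∧ (∀ a ∈ R, Ee h₁ a = 1) ∧ (∀ a ∈ R, Ee h₂ a = 1) ∧
      ∃ w ∈ closure ({h₁, h₂} : Set (MulAut A)), ∀ k : ℕ, ∃ a ∈ R, (w ^ (p ^ k)) a ≠ a := by
  classical
  have hpp : p.Prime := Fact.out
  have hodd : Odd p := hpp.odd_of_ne_two hp
  haveI hfinM := finite_mulAut (A := A)
  obtain ⟨H, hHdef⟩ : ∃ H, H = closure ({χ, y} : Set (MulAut A)) := ⟨_, rfl⟩
  rw [← hHdef] at hZfix hmin hnp ⊢
  have hχH : χ ∈ H := hHdef ▸ subset_closure (by simp)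
  have hyH : y ∈ H := hHdef ▸ subset_closure (by simp)
  obtain ⟨m, hm⟩ : ∃ m : ℕ, ∀ g : A, g ^ (p ^ m) = 1 := by
    obtain ⟨m, hm⟩ := hA.exists_card_eq
    refine ⟨m, fun g => ?_⟩
    rw [← hm]
    exact pow_card_eq_one'
  -- the maximal invariant subgroup
  obtain ⟨N, hNdef⟩ : ∃ N : Subgroup A, N = sSup {B : Subgroup A | B ≠ ⊤ ∧ ∀ h ∈ H, ∀ b ∈ B, h b ∈ B} := ⟨_, rfl⟩
  have hNmax : ∀ B : Subgroup A, B ≠ ⊤ → (∀ h ∈ H, ∀ b ∈ B, h b ∈ B) → B ≤ N := fun B h1 h2 => by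
    rw [hNdef]
    exact le_sSup ⟨h1, h2⟩
  have hNinv : ∀ h ∈ H, ∀ n ∈ N, h n ∈ N := by
    intro h hh
    have h1 : N ≤ N.comap h.toMonoidHom := by
      conv_lhs => rw [hNdef]
      exact sSup_le fun B hB b hb => hNmax B hB.1 hB.2 (hB.2 h hh b hb)
    exact fun n hn => h1 hn
  have hfixN : ∀ k ∈ H, ∀ m' : ℕ, m'.Coprime p → k ^ m' = 1 → ∀ n ∈ N, k n = n := by
    intro k hk m' hc hkm n hn
    have h1 : N ≤ MonoidHom.eqLocus k.toMonoidHom (MonoidHom.id A) := by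
      rw [hNdef]
      refine sSup_le fun B hB b hb => ?_
      obtain ⟨e, he⟩ := hmin B hB.1 hB.2 k hk
      refine fix_of_coprime k b (u := p ^ e) (v := m') ?_ (he b hb) (by rw [hkm]; rfl)
      exact (hc.symm.pow_left e)
    exact h1 hn
  have hNne : N ≠ ⊤ := by
    intro hN
    obtain ⟨h, hh, hnp'⟩ := hnp
    obtain ⟨e, m₁, hm₁, hord⟩ := Nat.exists_eq_pow_mul_and_not_dvd (n := orderOf h) (orderOf_pos h).ne' p hpp.ne_one
    have hk : h ^ (p ^ e) ∈ H := H.pow_mem hh _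
    have hk1 : (h ^ (p ^ e)) ^ m₁ = 1 := by
      rw [← pow_mul, ← hord, pow_orderOf_eq_one]
    have hcop : m₁.Coprime p := ((Nat.Prime.coprime_iff_not_dvd hpp).2 hm₁).symm
    obtain ⟨a, ha⟩ := hnp' e
    exact ha (hfixN _ hk m₁ hcop hk1 a (hN ▸ mem_top a))
  -- the Frattini subgroup
  haveI hnil : Group.IsNilpotent A := hA.isNilpotent
  have hbotne : (⊥ : Subgroup A) ≠ ⊤ := fun e => hNne (eq_top_iff.2 (e.symm.le.trans bot_le))
  have hΦ : (frattini A : Subgroup A) ≤ N := by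
    apply hNmax
    · obtain ⟨M, hM, -⟩ := Cfsg.Agent.Lib.Basic.exists_isCoatom_ge hbotne
      intro e
      apply hM.1
      exact eq_top_iff.2 (e.symm.le.trans (Cfsg.Agent.Lib.Basic.le_frattini_iff.1 le_rfl M hM))
    · intro h _ b hb
      have hc : (frattini A : Subgroup A).Characteristic := inferInstance
      have h1 := hc.fixed h
      rw [← h1] at hb
      exact hb
  have hcommN : ∀ a b, cc a b ∈ N := by
    intro a b
    apply hΦ
    apply Cfsg.Agent.Lib.Basic.commutator_le_frattini_of_isNilpotent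
    have e : cc a b = ⁅a⁻¹, b⁻¹⁆ := by
      simp [cc, commutatorElement_def]
    rw [e]
    exact Subgroup.commutator_mem_commutator (mem_top _) (mem_top _)
  have hpowN : ∀ a : A, a ^ p ∈ N := fun a => hΦ (Cfsg.Agent.Lib.Basic.pow_mem_frattini_of_isPGroup hA a)
  haveI hNn : N.Normal := ⟨by
    intro n hn g
    have e : g * n * g⁻¹ = n * cc n g⁻¹ := by
      simp only [cc, inv_inv]
      group
    rw [e]
    exact N.mul_mem hn (hcommN _ _)⟩
  obtain ⟨V, _, _, π, ρ, hπmul, hπs, hπ0, hρπ, hVp⟩ := exists_package p N hcommN hpowN H hNinv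
  have hπ1 : π 1 = 0 := (hπ0 1).2 N.one_mem
  have hπinv : ∀ a, π a⁻¹ = - π a := fun a => by
    have h1 := hπmul a a⁻¹
    rw [mul_inv_cancel, hπ1] at h1
    exact (eq_neg_of_add_eq_zero_right h1.symm)
  -- the action
  have hmapcl : (closure ({(⟨χ, hχH⟩ : H), (⟨y, hyH⟩ : H)} : Set H)).map H.subtype = H := by
    rw [MonoidHom.map_closure, Set.image_pair]
    exact hHdef.symm
  obtain ⟨x, hxdef⟩ : ∃ x : H, x = ⟨χ, hχH⟩ := ⟨_, rfl⟩
  obtain ⟨y', hy'def⟩ : ∃ y' : H, y' = ⟨y, hyH⟩ := ⟨_, rfl⟩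
  rw [← hxdef, ← hy'def] at hmapcl
  have hxc : (x : MulAut A) = χ := by rw [hxdef]
  have hyc : (y' : MulAut A) = y := by rw [hy'def]
  have hgen : closure ({x, y'} : Set H) = ⊤ := by
    refine eq_top_iff.2 fun t _ => ?_
    have h1 : (t : MulAut A) ∈ (closure ({x, y'} : Set H)).map H.subtype := hmapcl.symm ▸ t.2
    obtain ⟨t', ht', e⟩ := h1
    have h2 : t' = t := Subtype.ext e
    rwa [← h2]
  have hsub1 : ∀ (t : H) (w : V), (ρ t - 1) w = ρ t w - w := fun _ _ => rfl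
  have hddπ : ∀ (t : H) (a : A), π (dd (t : MulAut A) a) = (ρ t - 1) (π a) := by
    intro t a
    rw [hsub1, hρπ, dd, hπmul, hπinv]
    abel
  have hEeπ : ∀ (t : H) (a : A), π (Ee (t : MulAut A) a) = ((ρ t - 1) * (ρ t - 1)) (π a) := by
    intro t a
    have e1 : ((ρ t - 1) * (ρ t - 1)) (π a) = (ρ t - 1) ((ρ t - 1) (π a)) := rfl
    rw [e1, hsub1, hsub1, map_sub, hρπ, hρπ, Ee, hπmul, hπmul, hπmul, map_inv, hπinv]
    abel
  have hquad_of : ∀ t : H, (∀ a, Ee (t : MulAut A) a ∈ N) → (ρ t - 1) * (ρ t - 1) = 0 := by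
    intro t h
    apply AddMonoidHom.ext
    intro v
    obtain ⟨a, rfl⟩ := hπs v
    exact (hEeπ t a).symm.trans ((hπ0 _).2 (h a))
  have hZne : Z ≠ ⊤ := by
    rintro rfl
    obtain ⟨h, hh, hnp'⟩ := hnp
    obtain ⟨a, ha⟩ := hnp' 0
    apply ha
    rw [pow_zero, pow_one]
    exact hZfix h hh a (mem_top a)
  have hZN : Z ≤ N := hNmax Z hZne (fun h hh z hz => by rwa [hZfix h hh z hz])
  have hx : (ρ x - 1) * (ρ x - 1) = 0 := hquad_of x (fun a => hZN (by rw [hxc]; exact hχ a))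
  have hy2 : (ρ y' - 1) * (ρ y' - 1) = 0 := hquad_of y' (fun a => hZN (by rw [hyc]; exact hy a))
  have hirr : ∀ S : AddSubgroup V, (∀ v ∈ S, ρ x v ∈ S) → (∀ v ∈ S, ρ y' v ∈ S) → S = ⊥ ∨ S = ⊤ := by
    intro S h1 h2
    let B : Subgroup A :=
      { carrier := {a | π a ∈ S}
        mul_mem' := by
          intro a b ha hb
          show π (a * b) ∈ S
          rw [hπmul]
          exact S.add_mem ha hb
        one_mem' := by
          show π 1 ∈ S
          rw [hπ1]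
          exact S.zero_mem
        inv_mem' := by
          intro a ha
          show π a⁻¹ ∈ S
          rw [hπinv]
          exact S.neg_mem ha }
    have hBm : ∀ a, a ∈ B ↔ π a ∈ S := fun _ => Iff.rfl
    have hBinv : ∀ h ∈ H, ∀ b ∈ B, h b ∈ B := by
      rw [hHdef]
      apply inv_of_closure
      rintro g (rfl | hg) b hb
      · rw [hBm, ← hxc, ← hρπ]
        exact h1 _ hb
      · rw [Set.mem_singleton_iff] at hg
        subst hg
        rw [hBm, ← hyc, ← hρπ]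
        exact h2 _ hb
    by_cases hB : B = ⊤
    · right
      refine eq_top_iff.2 fun v _ => ?_
      obtain ⟨a, rfl⟩ := hπs v
      exact (hBm a).1 (hB ▸ mem_top a)
    · left
      have hBN := hNmax B hB hBinv
      refine eq_bot_iff.2 fun v hv => ?_
      obtain ⟨a, rfl⟩ := hπs v
      rw [AddSubgroup.mem_bot]
      exact (hπ0 a).2 (hBN hv)
  have hchain : ∀ σ : H, ρ σ = 1 → (∀ n ∈ N, (σ : MulAut A) n = n) → ∀ a, (((σ : MulAut A)) ^ (p ^ m)) a = a := by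
    intro σ h1 h2 a
    have hf : dd (σ : MulAut A) a ∈ N := by
      rw [← hπ0, hddπ, h1]
      simp
    have h3 := pow_apply_of_stab (σ : MulAut A) (h2 _ hf) (apply_eq_mul_dd _ a) (p ^ m)
    rw [h3, hm, mul_one]
  have hne : ¬ (ρ x = 1 ∧ ρ y' = 1) := by
    rintro ⟨e1, e2⟩
    have hall : ∀ t : H, ρ t = 1 := by
      intro t
      have ht : t ∈ closure ({x, y'} : Set H) := hgen ▸ mem_top t
      induction ht using Subgroup.closure_induction with
      | mem a ha =>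
        rcases ha with rfl | ha
        · exact e1
        · rw [Set.mem_singleton_iff] at ha
          rw [ha]
          exact e2
      | one => exact map_one _
      | mul a b _ _ h1 h2 => rw [map_mul, h1, h2, one_mul]
      | inv a _ h1 =>
        have h2 : ρ a⁻¹ * ρ a = 1 := by rw [← map_mul, inv_mul_cancel, map_one]
        rwa [h1, mul_one] at h2
    obtain ⟨h, hh, hnp'⟩ := hnp
    obtain ⟨k, hk⟩ := hmin N hNne hNinv h hh
    have h1 := hchain ((⟨h, hh⟩ : H) ^ (p ^ k)) (hall _) (fun n hn => by simpa using hk n hn)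
    obtain ⟨a, ha⟩ := hnp' (k + m)
    apply ha
    have h2 := h1 a
    rw [pow_add, pow_mul]
    simpa using h2
  obtain ⟨⟨t₀, ht₀⟩, hA₂, hB₂⟩ := exists_neg_of_quad hp hVp ρ x y' hgen hx hy2 hirr hne
  -- the element acting as `-1`
  have hρt₀ : ρ t₀ = -1 := by
    apply AddMonoidHom.ext
    intro v
    exact ht₀ v
  have hV2 : ∀ v : V, v + v = 0 → v = 0 := by
    intro v hv
    obtain ⟨q, hq⟩ := hodd
    have h1 : p • v = 0 := hVp v
    rw [hq, add_smul, mul_comm, mul_smul, two_smul, hv, smul_zero, zero_add, one_smul] at h1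
    exact h1
  have hsq1 : ∀ g : A, g * g = 1 → g = 1 := by
    intro g hg
    have hc : Nat.Coprime 2 (p ^ m) := Nat.Coprime.pow_right m ((Nat.coprime_primes Nat.prime_two hpp).2 (Ne.symm hp))
    have h1 := mem_of_coprime_pow (⊥ : Subgroup A) g hc (by rw [pow_two, hg]; exact one_mem _) (by rw [hm]; exact one_mem _)
    exact (Subgroup.mem_bot).1 h1
  obtain ⟨e, m₁, hm₁, hord⟩ := Nat.exists_eq_pow_mul_and_not_dvd (n := orderOf t₀) (orderOf_pos t₀).ne' 2 (by norm_num)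
  have hm₁odd : Odd m₁ := by
    rw [← Nat.not_even_iff_odd, even_iff_two_dvd]
    exact hm₁
  obtain ⟨T, hTdef⟩ : ∃ T : H, T = t₀ ^ m₁ := ⟨_, rfl⟩
  have hρT : ρ T = -1 := by
    rw [hTdef, map_pow, hρt₀, hm₁odd.neg_one_pow]
  have hπT : ∀ a, π ((T : MulAut A) a) = - π a := by
    intro a
    rw [← hρπ, hρT]
    rfl
  have hT2e : T ^ (2 ^ e) = 1 := by
    rw [hTdef, ← pow_mul, mul_comm, ← hord, pow_orderOf_eq_one]
  have hcop2 : ∀ j : ℕ, Nat.Coprime (2 ^ e) (p ^ j) := fun j =>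
    Nat.Coprime.pow e j ((Nat.coprime_primes Nat.prime_two hpp).2 (Ne.symm hp))
  have hTN : ∀ n ∈ N, (T : MulAut A) n = n := by
    refine hfixN _ T.2 (2 ^ e) ?_ ?_
    · simpa using hcop2 1
    · have := congrArg (Subtype.val) hT2e
      simpa using this
  have hT2 : T * T = 1 := by
    have hσ := hchain (T * T) (by rw [map_mul, hρT]; simp) (fun n hn => by
      show (T : MulAut A) ((T : MulAut A) n) = n
      rw [hTN n hn, hTN n hn])
    have h2e : (((T * T : H) : MulAut A)) ^ (2 ^ e) = 1 := by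
      have h1 : (T * T) ^ (2 ^ e) = 1 := by
        rw [← pow_two, ← pow_mul, mul_comm, pow_mul, hT2e, one_pow]
      have := congrArg (Subtype.val) h1
      simpa using this
    apply Subtype.ext
    apply MulEquiv.ext
    intro a
    have h3 := fix_of_coprime ((T * T : H) : MulAut A) a (hcop2 m) (by rw [h2e]; rfl) (hσ a)
    simpa using h3
  have hTT : ∀ a, (T : MulAut A) ((T : MulAut A) a) = a := by
    intro a
    have h1 := congrArg (fun s : H => (s : MulAut A) a) hT2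
    simpa using h1
  -- `N` is central
  have hCinv : ∀ h ∈ H, ∀ c ∈ centralizer (N : Set A), h c ∈ centralizer (N : Set A) := by
    intro h hh c hc
    rw [mem_centralizer_iff] at hc ⊢
    intro n hn
    have h1 : h⁻¹ n ∈ N := hNinv _ (H.inv_mem hh) n hn
    have h2 := hc _ h1
    have h3 := congrArg h h2
    rw [map_mul, map_mul] at h3
    have h4 : h (h⁻¹ n) = n := by simp
    rwa [h4] at h3
  have hgenC : ∀ r : A, r⁻¹ * (T : MulAut A) r ∈ centralizer (N : Set A) := by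
    intro r
    rw [mem_centralizer_iff]
    intro n hn
    have h1 : r * n * r⁻¹ ∈ N := hNn.conj_mem n hn r
    have h2 := hTN _ h1
    rw [map_mul, map_mul, map_inv, hTN n hn] at h2
    calc n * (r⁻¹ * (T : MulAut A) r) = r⁻¹ * (r * n * r⁻¹) * (T : MulAut A) r := by group
      _ = r⁻¹ * ((T : MulAut A) r * n * ((T : MulAut A) r)⁻¹) * (T : MulAut A) r := by rw [h2]
      _ = r⁻¹ * (T : MulAut A) r * n := by group
  have hCtop : centralizer (N : Set A) = ⊤ := by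
    by_contra hC
    have hCN := hNmax _ hC hCinv
    apply hNne
    refine eq_top_iff.2 fun r _ => ?_
    rw [← hπ0]
    apply hV2
    have h1 := (hπ0 _).2 (hCN (hgenC r))
    rw [hπmul, hπinv, hπT] at h1
    have h2 : π r + π r = -(-π r + -π r) := by abel
    rw [h2, h1, neg_zero]
  have hcen : ∀ n ∈ N, n ∈ center A := by
    intro n hn
    rw [mem_center_iff]
    intro g
    have h1 : g ∈ centralizer (N : Set A) := hCtop ▸ mem_top g
    exact ((mem_centralizer_iff.1 h1) n hn).symm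
  have hc2 : ∀ a b : A, cc a b ∈ center A := fun a b => hcen _ (hcommN a b)
  have hEc : ∀ t : H, (ρ t - 1) * (ρ t - 1) = 0 → ∀ a, Ee (t : MulAut A) a ∈ center A := by
    intro t ht a
    apply hcen
    rw [← hπ0, hEeπ, ht]
    rfl
  have hcc_mod : ∀ u u' v v' : A, π u = π v → π u' = π v' → cc u u' = cc v v' := by
    intro u u' v v' h1 h2
    have h3 : v⁻¹ * u ∈ N := by
      rw [← hπ0, hπmul, hπinv, h1]
      abel
    have h4 : v'⁻¹ * u' ∈ N := by
      rw [← hπ0, hπmul, hπinv, h2]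
      abel
    have e1 : u = v * (v⁻¹ * u) := by group
    have e2 : u' = v' * (v'⁻¹ * u') := by group
    rw [e1, e2, cc_central_left (hcen _ h3), cc_central_right (hcen _ h4)]
  -- commutators of derivatives
  have hZdef : ∀ t : H, (∀ a, Ee (t : MulAut A) a ∈ Z) → ∀ a b, cc (dd (t : MulAut A) a) (dd (t : MulAut A) b) ∈ Z := by
    intro t ht a b
    have h1 := Ee_mul hc2 (t : MulAut A) (fun a => hcen _ (hZN (ht a))) a b
    have h2 : cc (dd (t : MulAut A) a) (dd (t : MulAut A) b) =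
        (Ee (t : MulAut A) a * Ee (t : MulAut A) b)⁻¹ * Ee (t : MulAut A) (a * b) := by
      rw [h1]
      group
    rw [h2]
    exact Z.mul_mem (Z.inv_mem (Z.mul_mem (ht a) (ht b))) (ht _)
  have hχZ : ∀ a, Ee (x : MulAut A) a ∈ Z := fun a => by rw [hxc]; exact hχ a
  have hyZ : ∀ a, Ee (y' : MulAut A) a ∈ Z := fun a => by rw [hyc]; exact hy a
  have hcross : ∀ s t : H, (∀ a, Ee (s : MulAut A) a ∈ Z) → (ρ t - 1) * (ρ t - 1) = 0 →
      ∀ a b, cc (dd (t : MulAut A) (dd (s : MulAut A) a)) (dd (t : MulAut A) (dd (s : MulAut A) b)) = 1 := by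
    intro s t hs ht a b
    have h1 := hZdef s hs a b
    have h2 := hZfix _ t.2 _ h1
    have h3 : (t : MulAut A) ((t : MulAut A) (cc (dd (s : MulAut A) a) (dd (s : MulAut A) b))) =
        cc (dd (s : MulAut A) a) (dd (s : MulAut A) b) := by
      rw [h2, h2]
    exact hsq1 _ (cc_sq_eq_one hc2 (t : MulAut A) (hEc t ht) _ _ h2 h3)
  have hXc : ∀ a b, cc (dd (x : MulAut A) a) (dd (x : MulAut A) b) = 1 := by
    intro a b
    obtain ⟨a', ha'⟩ := hA₂ (π a)
    obtain ⟨b', hb'⟩ := hA₂ (π b)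
    obtain ⟨c, rfl⟩ := hπs a'
    obtain ⟨d, rfl⟩ := hπs b'
    rw [← hddπ, ← hddπ y' c, ← hddπ x (dd _ c)] at ha'
    rw [← hddπ, ← hddπ y' d, ← hddπ x (dd _ d)] at hb'
    rw [hcc_mod _ _ _ _ ha' hb']
    exact hcross y' x hyZ hx c d
  have hYc : ∀ a b, cc (dd (y' : MulAut A) a) (dd (y' : MulAut A) b) = 1 := by
    intro a b
    obtain ⟨a', ha'⟩ := hB₂ (π a)
    obtain ⟨b', hb'⟩ := hB₂ (π b)
    obtain ⟨c, rfl⟩ := hπs a'
    obtain ⟨d, rfl⟩ := hπs b'
    rw [← hddπ, ← hddπ x c, ← hddπ y' (dd _ c)] at ha'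
    rw [← hddπ, ← hddπ x d, ← hddπ y' (dd _ d)] at hb'
    rw [hcc_mod _ _ _ _ ha' hb']
    exact hcross x y' hχZ hy2 c d
  -- correcting an element so that it commutes with `T`
  have hTinv : T⁻¹ = T := inv_eq_of_mul_eq_one_left hT2
  have hmake : ∀ ψ : H, ∃ l : H, ρ l = 1 ∧ T * (ψ * l⁻¹) = (ψ * l⁻¹) * T := by
    intro ψ
    obtain ⟨T₁, hT₁⟩ : ∃ T₁ : H, T₁ = ψ⁻¹ * T * ψ := ⟨_, rfl⟩
    obtain ⟨w, hw⟩ : ∃ w : H, w = T * T₁ := ⟨_, rfl⟩
    have hρψ : ρ ψ⁻¹ * ρ ψ = 1 := by rw [← map_mul, inv_mul_cancel, map_one]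
    have hρT₁ : ρ T₁ = -1 := by
      rw [hT₁, map_mul, map_mul, hρT, mul_neg_one, neg_mul, hρψ]
    have hρw : ρ w = 1 := by
      rw [hw, map_mul, hρT, hρT₁]
      simp
    have hwN : ∀ n ∈ N, (w : MulAut A) n = n := by
      intro n hn
      have h1 : (ψ : MulAut A) n ∈ N := hNinv _ ψ.2 n hn
      have h2 : (T₁ : MulAut A) n = n := by
        rw [hT₁]
        show (ψ : MulAut A)⁻¹ ((T : MulAut A) ((ψ : MulAut A) n)) = n
        rw [hTN _ h1]
        simp
      rw [hw]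
      show (T : MulAut A) ((T₁ : MulAut A) n) = n
      rw [h2, hTN n hn]
    have hwp : w ^ (p ^ m) = 1 := by
      apply Subtype.ext
      apply MulEquiv.ext
      intro a
      have h1 := hchain w hρw hwN a
      simpa using h1
    obtain ⟨q, hq⟩ : Odd (p ^ m) := hodd.pow
    obtain ⟨l, hl⟩ : ∃ l : H, l = w ^ (q + 1) := ⟨_, rfl⟩
    have hll : l * l = w := by
      rw [hl, ← pow_add]
      have e1 : q + 1 + (q + 1) = p ^ m + 1 := by omega
      rw [e1, pow_succ, hwp, one_mul]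
    have hT₁2 : T₁ * T₁ = 1 := by
      rw [hT₁]
      calc ψ⁻¹ * T * ψ * (ψ⁻¹ * T * ψ) = ψ⁻¹ * (T * T) * ψ := by group
        _ = 1 := by rw [hT2]; group
    have hT₁inv : T₁⁻¹ = T₁ := inv_eq_of_mul_eq_one_left hT₁2
    have hwinv : w⁻¹ = T₁ * T := by
      rw [hw, mul_inv_rev, hT₁inv, hTinv]
    have hconjw : T * w * T⁻¹ = w⁻¹ := by
      rw [hwinv, hTinv, hw]
      calc T * (T * T₁) * T = (T * T) * T₁ * T := by group
        _ = T₁ * T := by rw [hT2, one_mul]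
    have hconjl : T * l * T⁻¹ = l⁻¹ := by
      rw [hl, ← conj_pow, hconjw, inv_pow]
    have hTl : T * l = l⁻¹ * T := by
      rw [← hconjl]
      group
    have hkey : l⁻¹ * T * l = T₁ := by
      calc l⁻¹ * T * l = l⁻¹ * (T * l) := by group
        _ = l⁻¹ * (l⁻¹ * T) := by rw [hTl]
        _ = (l * l)⁻¹ * T := by group
        _ = w⁻¹ * T := by rw [hll]
        _ = T₁ * (T * T) := by rw [hwinv]; group
        _ = T₁ := by rw [hT2, mul_one]
    refine ⟨l, ?_, ?_⟩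
    · rw [hl, map_pow, hρw, one_pow]
    · calc T * (ψ * l⁻¹) = ψ * (ψ⁻¹ * T * ψ) * l⁻¹ := by group
        _ = ψ * (l⁻¹ * T * l) * l⁻¹ := by rw [hkey, hT₁]
        _ = ψ * l⁻¹ * T := by group
  -- the subgroup
  obtain ⟨R, hRdef⟩ : ∃ R : Subgroup A, R = closure {g : A | ∃ r : A, g = r⁻¹ * (T : MulAut A) r} := ⟨_, rfl⟩
  have hsub : ∀ h t : H, ρ h = ρ t → (ρ t - 1) * (ρ t - 1) = 0 → (∀ a b, cc (dd (t : MulAut A) a) (dd (t : MulAut A) b) = 1) →
      T * h = h * T → (∀ a ∈ R, (h : MulAut A) a ∈ R) ∧ ∀ a ∈ R, Ee (h : MulAut A) a = 1 := by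
    intro h t hh hq hcc hT
    have hTc : ∀ a, (T : MulAut A) ((h : MulAut A) a) = (h : MulAut A) ((T : MulAut A) a) := by
      intro a
      have h1 := congrArg (fun s : H => (s : MulAut A) a) hT
      simpa using h1
    have hqh : (ρ h - 1) * (ρ h - 1) = 0 := by rw [hh]; exact hq
    have hE := hEc h hqh
    have hccH : ∀ a b, cc (dd (h : MulAut A) a) (dd (h : MulAut A) b) = 1 := by
      intro a b
      have h1 : π (dd (h : MulAut A) a) = π (dd (t : MulAut A) a) := by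
        rw [hddπ, hddπ, hh]
      have h2 : π (dd (h : MulAut A) b) = π (dd (t : MulAut A) b) := by
        rw [hddπ, hddπ, hh]
      rw [hcc_mod _ _ _ _ h1 h2]
      exact hcc a b
    have hmul : ∀ a b, Ee (h : MulAut A) (a * b) = Ee (h : MulAut A) a * Ee (h : MulAut A) b := by
      intro a b
      rw [Ee_mul hc2 _ hE, hccH, mul_one]
    have hone : Ee (h : MulAut A) 1 = 1 := by
      simp [Ee]
    let K : Subgroup A :=
      { carrier := {a | Ee (h : MulAut A) a = 1}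
        mul_mem' := by
          intro a b ha hb
          show Ee (h : MulAut A) (a * b) = 1
          rw [hmul, ha, hb, one_mul]
        one_mem' := hone
        inv_mem' := by
          intro a ha
          show Ee (h : MulAut A) a⁻¹ = 1
          have ha' : Ee (h : MulAut A) a = 1 := ha
          have h1 := hmul a a⁻¹
          rw [mul_inv_cancel, hone, ha', one_mul] at h1
          exact h1.symm }
    constructor
    · have hle : R ≤ R.comap (h : MulAut A).toMonoidHom := by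
        conv_lhs => rw [hRdef]
        rw [closure_le]
        rintro _ ⟨r, rfl⟩
        show (h : MulAut A) (r⁻¹ * (T : MulAut A) r) ∈ R
        rw [map_mul, map_inv, ← hTc, hRdef]
        exact subset_closure ⟨_, rfl⟩
      exact fun a ha => hle ha
    · have hle : R ≤ K := by
        rw [hRdef, closure_le]
        rintro _ ⟨r, rfl⟩
        show Ee (h : MulAut A) (r⁻¹ * (T : MulAut A) r) = 1
        apply hsq1
        have hTg : (T : MulAut A) (r⁻¹ * (T : MulAut A) r) = (r⁻¹ * (T : MulAut A) r)⁻¹ := by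
          rw [map_mul, map_inv, hTT]
          group
        apply Ee_sq_of_inverted hc2 (h : MulAut A) (T : MulAut A) hTc (hE _) _ hTg
        apply hTN
        rw [← hπ0, hEeπ, hqh]
        rfl
      exact fun a ha => hle ha
  obtain ⟨l₁, hl₁, hcl₁⟩ := hmake x
  obtain ⟨l₂, hl₂, hcl₂⟩ := hmake y'
  obtain ⟨h₁, hh₁⟩ : ∃ h₁ : H, h₁ = x * l₁⁻¹ := ⟨_, rfl⟩
  obtain ⟨h₂, hh₂⟩ : ∃ h₂ : H, h₂ = y' * l₂⁻¹ := ⟨_, rfl⟩
  rw [← hh₁] at hcl₁
  rw [← hh₂] at hcl₂
  have hinv1 : ∀ l : H, ρ l = 1 → ρ l⁻¹ = 1 := by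
    intro l hl
    have h2 : ρ l⁻¹ * ρ l = 1 := by rw [← map_mul, inv_mul_cancel, map_one]
    rwa [hl, mul_one] at h2
  have hρh₁ : ρ h₁ = ρ x := by
    rw [hh₁, map_mul, hinv1 _ hl₁, mul_one]
  have hρh₂ : ρ h₂ = ρ y' := by
    rw [hh₂, map_mul, hinv1 _ hl₂, mul_one]
  obtain ⟨hR1, hE1⟩ := hsub h₁ x hρh₁ hx hXc hcl₁
  obtain ⟨hR2, hE2⟩ := hsub h₂ y' hρh₂ hy2 hYc hcl₂
  refine ⟨R, (h₁ : MulAut A), (h₂ : MulAut A), h₁.2, h₂.2, hR1, hR2, hE1, hE2, ?_⟩
  have hall : ∀ t : H, ∃ w ∈ closure ({h₁, h₂} : Set H), ρ w = ρ t := by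
    intro t
    have ht : t ∈ closure ({x, y'} : Set H) := hgen ▸ mem_top t
    induction ht using Subgroup.closure_induction with
    | mem a ha =>
      rcases ha with rfl | ha
      · exact ⟨h₁, subset_closure (by simp), hρh₁⟩
      · rw [Set.mem_singleton_iff] at ha
        rw [ha]
        exact ⟨h₂, subset_closure (by simp), hρh₂⟩
    | one => exact ⟨1, one_mem _, rfl⟩
    | mul a b _ _ h1 h2 =>
      obtain ⟨w₁, hw₁, e₁⟩ := h1
      obtain ⟨w₂, hw₂, e₂⟩ := h2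
      exact ⟨w₁ * w₂, mul_mem hw₁ hw₂, by rw [map_mul, map_mul, e₁, e₂]⟩
    | inv a _ h1 =>
      obtain ⟨w₁, hw₁, e₁⟩ := h1
      refine ⟨w₁⁻¹, inv_mem hw₁, ?_⟩
      have h2 : ρ w₁⁻¹ * ρ w₁ = 1 := by rw [← map_mul, inv_mul_cancel, map_one]
      have h3 : ρ a * ρ a⁻¹ = 1 := by rw [← map_mul, mul_inv_cancel, map_one]
      calc ρ w₁⁻¹ = ρ w₁⁻¹ * (ρ a * ρ a⁻¹) := by rw [h3, mul_one]
        _ = (ρ w₁⁻¹ * ρ w₁) * ρ a⁻¹ := by rw [e₁, mul_assoc]
        _ = ρ a⁻¹ := by rw [h2, one_mul]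
  obtain ⟨w, hw, hρw⟩ := hall T
  rw [hρT] at hρw
  refine ⟨(w : MulAut A), ?_, ?_⟩
  · have h1 : (closure ({h₁, h₂} : Set H)).map H.subtype = closure ({(h₁ : MulAut A), (h₂ : MulAut A)} : Set (MulAut A)) := by
      rw [MonoidHom.map_closure, Set.image_pair]
      rfl
    rw [← h1]
    exact ⟨w, hw, rfl⟩
  · intro k
    obtain ⟨g, hg⟩ : ∃ g, g ∉ N := by
      by_contra hcon
      push Not at hcon
      exact hNne (eq_top_iff.2 fun g _ => hcon g)
    refine ⟨g⁻¹ * (T : MulAut A) g, ?_, ?_⟩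
    · rw [hRdef]
      exact subset_closure ⟨g, rfl⟩
    · intro he
      have hpow : ρ (w ^ (p ^ k)) = -1 := by
        rw [map_pow, hρw, (hodd.pow : Odd (p ^ k)).neg_one_pow]
      have h1 : π (((w ^ (p ^ k) : H) : MulAut A) (g⁻¹ * (T : MulAut A) g)) = - π (g⁻¹ * (T : MulAut A) g) := by
        rw [← hρπ, hpow]
        rfl
      have h2 : ((w ^ (p ^ k) : H) : MulAut A) = (w : MulAut A) ^ (p ^ k) := by simp
      rw [h2, he] at h1
      have h3 : π (g⁻¹ * (T : MulAut A) g) + π (g⁻¹ * (T : MulAut A) g) = 0 := by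
        nth_rw 1 [h1]
        abel
      have h4 := hV2 _ h3
      rw [hπmul, hπinv, hπT] at h4
      apply hg
      rw [← hπ0]
      apply hV2
      have h5 : π g + π g = -(-π g + -π g) := by abel
      rw [h5, h4, neg_zero]

/-- The group of automorphisms stabilizing a subgroup. -/
def stabSub (Q₁ : Subgroup A) : Subgroup (MulAut A) where
  carrier := {t | (∀ a ∈ Q₁, t a ∈ Q₁) ∧ ∀ a ∈ Q₁, t⁻¹ a ∈ Q₁}
  mul_mem' := by
    intro s t hs ht
    refine ⟨fun a ha => hs.1 _ (ht.1 a ha), fun a ha => ?_⟩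
    rw [mul_inv_rev]
    exact ht.2 _ (hs.2 a ha)
  one_mem' := ⟨fun _ ha => ha, fun a ha => by simpa using ha⟩
  inv_mem' := by
    intro s hs
    exact ⟨hs.2, fun a ha => by simpa using hs.1 a ha⟩

/-- Restriction of automorphisms. -/
def resSub (Q₁ : Subgroup A) : stabSub Q₁ →* MulAut Q₁ where
  toFun t :=
    { toFun := fun a => ⟨(t : MulAut A) a, t.2.1 a a.2⟩
      invFun := fun a => ⟨(t : MulAut A)⁻¹ a, t.2.2 a a.2⟩
      left_inv := fun a => Subtype.ext (by simp)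
      right_inv := fun a => Subtype.ext (by simp)
      map_mul' := fun a b => Subtype.ext (by simp) }
  map_one' := by
    apply MulEquiv.ext
    intro a
    apply Subtype.ext
    rfl
  map_mul' := by
    intro s t
    apply MulEquiv.ext
    intro a
    apply Subtype.ext
    rfl

theorem coe_resSub (Q₁ : Subgroup A) (t : stabSub Q₁) (a : Q₁) : ((resSub Q₁ t a : Q₁) : A) = (t : MulAut A) a := rfl

theorem coe_resSub_pow (Q₁ : Subgroup A) (t : stabSub Q₁) (n : ℕ) (a : Q₁) :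
    (((resSub Q₁ t) ^ n) a : A) = ((t : MulAut A) ^ n) a := by
  rw [← map_pow, coe_resSub]
  simp

theorem coe_Ee_resSub (Q₁ : Subgroup A) (t : stabSub Q₁) (a : Q₁) :
    ((Ee (resSub Q₁ t) a : Q₁) : A) = Ee (t : MulAut A) a := by
  simp [Ee, coe_resSub]

/-- The general situation: two automorphisms quadratic modulo a subgroup fixed by them. -/
theorem core [Finite A] {p : ℕ} [Fact p.Prime] (hp : p ≠ 2) (hA : IsPGroup p A) (χ y : MulAut A) (Z : Subgroup A)
    (hZfix : ∀ h ∈ closure ({χ, y} : Set (MulAut A)), ∀ z ∈ Z, h z = z) (hχ : ∀ a, Ee χ a ∈ Z) (hy : ∀ a, Ee y a ∈ Z)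
    (hnp : ∃ h ∈ closure ({χ, y} : Set (MulAut A)), ∀ k : ℕ, ∃ a, (h ^ (p ^ k)) a ≠ a) :
    ∃ (R : Subgroup A) (h₁ h₂ : MulAut A), h₁ ∈ closure ({χ, y} : Set (MulAut A)) ∧ h₂ ∈ closure ({χ, y} : Set (MulAut A)) ∧
      (∀ a ∈ R, h₁ a ∈ R) ∧ (∀ a ∈ R, h₂ a ∈ R) ∧ (∀ a ∈ R, Ee h₁ a = 1) ∧ (∀ a ∈ R, Ee h₂ a = 1) ∧
      ∃ w ∈ closure ({h₁, h₂} : Set (MulAut A)), ∀ k : ℕ, ∃ a ∈ R, (w ^ (p ^ k)) a ≠ a := by
  classical
  haveI hfinM := finite_mulAut (A := A)
  obtain ⟨H, hHdef⟩ : ∃ H, H = closure ({χ, y} : Set (MulAut A)) := ⟨_, rfl⟩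
  rw [← hHdef] at hZfix hnp ⊢
  have hχH : χ ∈ H := hHdef ▸ subset_closure (by simp)
  have hyH : y ∈ H := hHdef ▸ subset_closure (by simp)
  obtain ⟨𝔖, h𝔖⟩ : ∃ 𝔖 : Set (Subgroup A), 𝔖 = {B | (∀ h ∈ H, ∀ b ∈ B, h b ∈ B) ∧ ∃ h ∈ H, ∀ k : ℕ, ∃ a ∈ B, (h ^ (p ^ k)) a ≠ a} := ⟨_, rfl⟩
  have htop : (⊤ : Subgroup A) ∈ 𝔖 := by
    rw [h𝔖]
    refine ⟨fun _ _ _ _ => mem_top _, ?_⟩
    obtain ⟨h, hh, hk⟩ := hnp
    refine ⟨h, hh, fun k => ?_⟩
    obtain ⟨a, ha⟩ := hk k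
    exact ⟨a, mem_top a, ha⟩
  obtain ⟨Q₁, hQ₁⟩ := (Set.toFinite 𝔖).exists_minimal ⟨⊤, htop⟩
  have hQ₁m : Q₁ ∈ 𝔖 := hQ₁.1
  rw [h𝔖] at hQ₁m
  obtain ⟨hQ₁inv, hh₀, hh₀H, hh₀k⟩ := hQ₁m
  have hHS : H ≤ stabSub Q₁ := fun t ht => ⟨hQ₁inv t ht, hQ₁inv _ (H.inv_mem ht)⟩
  obtain ⟨χ₀, hχ₀⟩ : ∃ χ₀ : stabSub Q₁, χ₀ = ⟨χ, hHS hχH⟩ := ⟨_, rfl⟩
  obtain ⟨y₀, hy₀⟩ : ∃ y₀ : stabSub Q₁, y₀ = ⟨y, hHS hyH⟩ := ⟨_, rfl⟩
  have hχ₀c : (χ₀ : MulAut A) = χ := by rw [hχ₀]
  have hy₀c : (y₀ : MulAut A) = y := by rw [hy₀]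
  have hsubcl : (closure ({χ₀, y₀} : Set (stabSub Q₁))).map (stabSub Q₁).subtype = H := by
    rw [MonoidHom.map_closure, Set.image_pair, hHdef]
    show closure {(χ₀ : MulAut A), (y₀ : MulAut A)} = _
    rw [hχ₀c, hy₀c]
  have hcoeH : ∀ t ∈ closure ({χ₀, y₀} : Set (stabSub Q₁)), (t : MulAut A) ∈ H := fun t ht => by
    rw [← hsubcl]
    exact ⟨t, ht, rfl⟩
  have hcoe_ex : ∀ t ∈ H, ∃ t₀ ∈ closure ({χ₀, y₀} : Set (stabSub Q₁)), (t₀ : MulAut A) = t := fun t ht => by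
    rw [← hsubcl] at ht
    exact ht
  have hrescl : (closure ({χ₀, y₀} : Set (stabSub Q₁))).map (resSub Q₁) = closure ({resSub Q₁ χ₀, resSub Q₁ y₀} : Set (MulAut Q₁)) := by
    rw [MonoidHom.map_closure, Set.image_pair]
  obtain ⟨Rm, h₁', h₂', hh₁', hh₂', hR1, hR2, hE1, hE2, w', hw', hnp'⟩ := core_min hp (hA.to_subgroup Q₁) (resSub Q₁ χ₀) (resSub Q₁ y₀) (Z.subgroupOf Q₁)
    (by
      intro h hh z hz
      rw [← hrescl] at hh
      obtain ⟨t, ht, rfl⟩ := hh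
      apply Subtype.ext
      exact hZfix _ (hcoeH t ht) _ hz)
    (fun a => by
      show ((Ee (resSub Q₁ χ₀) a : Q₁) : A) ∈ Z
      rw [coe_Ee_resSub, hχ₀c]
      exact hχ _)
    (fun a => by
      show ((Ee (resSub Q₁ y₀) a : Q₁) : A) ∈ Z
      rw [coe_Ee_resSub, hy₀c]
      exact hy _)
    (by
      intro B hB hBinv h hh
      rw [← hrescl] at hBinv hh
      obtain ⟨t, ht, rfl⟩ := hh
      have hB₁inv : ∀ s ∈ H, ∀ b ∈ B.map Q₁.subtype, s b ∈ B.map Q₁.subtype := by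
        rintro s hs _ ⟨b, hb, rfl⟩
        obtain ⟨s₀, hs₀, rfl⟩ := hcoe_ex s hs
        exact ⟨_, hBinv _ ⟨s₀, hs₀, rfl⟩ b hb, rfl⟩
      have hle : B.map Q₁.subtype ≤ Q₁ := map_subtype_le B
      have hnm : B.map Q₁.subtype ∉ 𝔖 := by
        intro hm
        have h1 := hQ₁.2 hm hle
        apply hB
        refine eq_top_iff.2 fun a _ => ?_
        obtain ⟨b, hb, hba⟩ := h1 a.2
        have : b = a := Subtype.ext hba
        rwa [← this]
      rw [h𝔖] at hnm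
      have h2 : ¬ ∃ h ∈ H, ∀ k : ℕ, ∃ a ∈ B.map Q₁.subtype, (h ^ (p ^ k)) a ≠ a := fun h3 => hnm ⟨hB₁inv, h3⟩
      push Not at h2
      obtain ⟨k, hk⟩ := h2 _ (hcoeH t ht)
      refine ⟨k, fun b hb => ?_⟩
      apply Subtype.ext
      rw [coe_resSub_pow]
      exact hk _ ⟨b, hb, rfl⟩)
    (by
      obtain ⟨t₀, ht₀, e⟩ := hcoe_ex _ hh₀H
      refine ⟨resSub Q₁ t₀, hrescl ▸ ⟨t₀, ht₀, rfl⟩, fun k => ?_⟩
      obtain ⟨a, ha, hne⟩ := hh₀k k
      refine ⟨⟨a, ha⟩, fun h3 => hne ?_⟩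
      have h4 := congrArg (Subtype.val) h3
      rw [coe_resSub_pow, e] at h4
      exact h4)
  rw [← hrescl] at hh₁' hh₂'
  obtain ⟨ĥ₁, hĥ₁, rfl⟩ := hh₁'
  obtain ⟨ĥ₂, hĥ₂, rfl⟩ := hh₂'
  have hrescl₂ : (closure ({ĥ₁, ĥ₂} : Set (stabSub Q₁))).map (resSub Q₁) = closure ({resSub Q₁ ĥ₁, resSub Q₁ ĥ₂} : Set (MulAut Q₁)) := by
    rw [MonoidHom.map_closure, Set.image_pair]
  rw [← hrescl₂] at hw'
  obtain ⟨ŵ, hŵ, rfl⟩ := hw'
  refine ⟨Rm.map Q₁.subtype, (ĥ₁ : MulAut A), (ĥ₂ : MulAut A), hcoeH _ hĥ₁, hcoeH _ hĥ₂, ?_, ?_, ?_, ?_, (ŵ : MulAut A), ?_, ?_⟩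
  · rintro _ ⟨a, ha, rfl⟩
    exact ⟨_, hR1 a ha, rfl⟩
  · rintro _ ⟨a, ha, rfl⟩
    exact ⟨_, hR2 a ha, rfl⟩
  · rintro _ ⟨a, ha, rfl⟩
    have h1 := congrArg (Subtype.val) (hE1 a ha)
    rw [coe_Ee_resSub] at h1
    exact h1
  · rintro _ ⟨a, ha, rfl⟩
    have h1 := congrArg (Subtype.val) (hE2 a ha)
    rw [coe_Ee_resSub] at h1
    exact h1
  · have h1 : (closure ({ĥ₁, ĥ₂} : Set (stabSub Q₁))).map (stabSub Q₁).subtype = closure ({(ĥ₁ : MulAut A), (ĥ₂ : MulAut A)} : Set (MulAut A)) := by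
      rw [MonoidHom.map_closure, Set.image_pair]
      rfl
    rw [← h1]
    exact ⟨ŵ, hŵ, rfl⟩
  · intro k
    obtain ⟨a, ha, hne⟩ := hnp' k
    refine ⟨_, ⟨a, ha, rfl⟩, fun h3 => hne ?_⟩
    apply Subtype.ext
    rw [coe_resSub_pow]
    exact h3

end Cfsg.Agent.Lib.Fusion2.Stab
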