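import Cfsg.Agent.Lib.Fusion2.StabFactor
import Cfsg.Agent.Lib.LocalEven2.ZJ

/-!
# A realization of a `p`-stable system is `p`-stable, in the elementary form
-/

set_option autoImplicit false
set_option linter.unusedSectionVars false
set_option linter.style.haveILetI false

universe u v

namespace Cfsg.Agent.Lib.Fusion2.StabF

open Cfsg Cfsg.FusionSystem Cfsg.Agent.Lib.Fusion Cfsg.Agent.Lib.Fusion2
open Subgroup
open scoped commutatorElement

variable {Ω : Type u} [Group Ω] {T : Subgroup Ω} [Finite T] {E : FusionSystem T} {p : ℕ} [hp : Fact p.Prime]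
  {M : Type v} [Group M] [Finite M] {ι : T →* M}

theorem quad_of_comm {G : Type*} [Group G] {a b : G} (h : (b * a * b⁻¹ * a⁻¹) * a * (b * a * b⁻¹ * a⁻¹)⁻¹ * a⁻¹ = 1) :
    (a * b⁻¹ * a⁻¹) * b * (a * b⁻¹ * a⁻¹) * (a * (a * b * a⁻¹) * a⁻¹) = 1 := by
  have h1 : a * b⁻¹ * a * b * a⁻¹ = b⁻¹ * a * b := by
    have h2 : b * (a * b⁻¹ * a * b * a⁻¹) * b⁻¹ * a⁻¹ = 1 := by
      rw [← h]
      group
    have h3 : a * b⁻¹ * a * b * a⁻¹ = b⁻¹ * (b * (a * b⁻¹ * a * b * a⁻¹) * b⁻¹ * a⁻¹) * a * b := by group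
    rw [h3, h2]
    group
  calc (a * b⁻¹ * a⁻¹) * b * (a * b⁻¹ * a⁻¹) * (a * (a * b * a⁻¹) * a⁻¹)
      = (a * b⁻¹ * a⁻¹) * b * (a * b⁻¹ * a * b * a⁻¹) * a⁻¹ := by group
    _ = (a * b⁻¹ * a⁻¹) * b * (b⁻¹ * a * b) * a⁻¹ := by rw [h1]
    _ = 1 := by group

/-- A group realizing a `p`-stable system on a Sylow subgroup is `QStable`. -/
theorem qStable_of_realized (hreal : E.IsRealizedBy ι) (P : Sylow p M) (hP : (P : Subgroup M) = ι.range)
    (hst : PStab p E) : Cfsg.Agent.Lib.LocalEven2.QStable p M := by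
  classical
  intro B hB
  have hι := hreal.1
  -- conjugate into the Sylow subgroup
  obtain ⟨P₁, hP₁⟩ := hB.exists_le_sylow
  obtain ⟨g, hg⟩ := MulAction.exists_smul_eq M P₁ P
  have hgB : ∀ b ∈ B, g * b * g⁻¹ ∈ ι.range := by
    intro b hb
    rw [← hP, ← hg, Sylow.coe_subgroup_smul]
    exact ⟨b, hP₁ hb, rfl⟩
  -- the subgroup of `Ω`
  let f : B →* M := (MulAut.conj g).toMonoidHom.comp B.subtype
  have hfr : f.range ≤ ι.range := by
    rintro _ ⟨b, rfl⟩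
    exact hgB b b.2
  let B₀ : Subgroup Ω := (f.range.comap ι).map T.subtype
  have hB₀T : B₀ ≤ T := map_subtype_le _
  have hB₀mem : ∀ {x : Ω}, x ∈ B₀ ↔ ∃ h : x ∈ T, ι ⟨x, h⟩ ∈ f.range := by
    intro x
    constructor
    · rintro ⟨t, ht, rfl⟩
      exact ⟨t.2, ht⟩
    · rintro ⟨h, h1⟩
      exact ⟨⟨x, h⟩, h1, rfl⟩
  -- the isomorphism
  let f₀ : B₀ →* M := (MulAut.conj g⁻¹).toMonoidHom.comp (ι.comp (Subgroup.inclusion hB₀T))
  have hf₀v : ∀ x : B₀, f₀ x = g⁻¹ * ι (Subgroup.inclusion hB₀T x) * g := by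
    intro x
    simp [f₀, MulAut.conj_apply]
  have hf₀inj : Function.Injective f₀ := by
    intro x y hxy
    rw [hf₀v, hf₀v] at hxy
    have h1 : ι (Subgroup.inclusion hB₀T x) = ι (Subgroup.inclusion hB₀T y) := by
      have := congrArg (fun z => g * z * g⁻¹) hxy
      simpa [mul_assoc] using this
    exact Subgroup.inclusion_injective hB₀T (hι h1)
  have hf₀r : f₀.range = B := by
    ext m
    constructor
    · rintro ⟨x, rfl⟩
      obtain ⟨_, b, hb⟩ := hB₀mem.1 x.2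
      have h1 : ι (Subgroup.inclusion hB₀T x) = f b := hb.symm
      rw [hf₀v, h1]
      have e : g⁻¹ * f b * g = b := by simp [f, MulAut.conj_apply, mul_assoc]
      rw [e]
      exact b.2
    · intro hm
      obtain ⟨t, ht⟩ := hfr ⟨⟨m, hm⟩, rfl⟩
      have hx : (t : Ω) ∈ B₀ := hB₀mem.2 ⟨t.2, ⟨⟨m, hm⟩, ht.symm⟩⟩
      refine ⟨⟨t, hx⟩, ?_⟩
      rw [hf₀v]
      have h1 : Subgroup.inclusion hB₀T ⟨t, hx⟩ = t := rfl
      rw [h1, ht]
      simp [f, MulAut.conj_apply, mul_assoc]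
  obtain ⟨e, hev⟩ : ∃ e : B₀ ≃* B, ∀ x : B₀, ((e x : B) : M) = g⁻¹ * ι (Subgroup.inclusion hB₀T x) * g :=
    ⟨(MonoidHom.ofInjective hf₀inj).trans (MulEquiv.subgroupCongr hf₀r), fun x => hf₀v x⟩
  -- the action of the normalizer
  obtain ⟨N, hN⟩ : ∃ N, N = normalizer (B : Set M) := ⟨_, rfl⟩
  have hNconj : ∀ (n : N) (b : B), (n : M) * b * (n : M)⁻¹ ∈ B := by
    intro n b
    have h1 : (n : M) ∈ normalizer (B : Set M) := hN ▸ n.2
    exact (mem_normalizer_iff.1 h1 b).1 b.2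
  have hNconj' : ∀ (n : N) (b : B), (n : M)⁻¹ * b * (n : M) ∈ B := by
    intro n b
    have h1 : (n : M)⁻¹ ∈ normalizer (B : Set M) := inv_mem (hN ▸ n.2)
    have h2 := (mem_normalizer_iff.1 h1 b).1 b.2
    simpa using h2
  obtain ⟨ρ₁, hρ₁v⟩ : ∃ ρ₁ : N →* MulAut B, ∀ (n : N) (b : B), ((ρ₁ n b : B) : M) = (n : M) * b * (n : M)⁻¹ := ⟨
    { toFun := fun n =>
        { toFun := fun b => ⟨(n : M) * b * (n : M)⁻¹, hNconj n b⟩
          invFun := fun b => ⟨(n : M)⁻¹ * b * (n : M), hNconj' n b⟩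
          left_inv := fun b => Subtype.ext (by simp [mul_assoc])
          right_inv := fun b => Subtype.ext (by simp [mul_assoc])
          map_mul' := fun a b => Subtype.ext (by simp [mul_assoc]) }
      map_one' := by
        apply MulEquiv.ext
        intro b
        apply Subtype.ext
        simp
      map_mul' := by
        intro a b
        apply MulEquiv.ext
        intro c
        apply Subtype.ext
        simp [mul_assoc] }, fun _ _ => rfl⟩
  obtain ⟨ρ, hρv⟩ : ∃ ρ : N →* MulAut B₀, ∀ (n : N) (x : B₀), e (ρ n x) = ρ₁ n (e x) := by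
    refine ⟨(MulAut.congr e.symm).toMonoidHom.comp ρ₁, fun n x => ?_⟩
    show e (e.symm (ρ₁ n (e.symm.symm x))) = _
    simp
  have hρA : ∀ n : N, ρ n ∈ E.autGroup B₀ := by
    intro n
    refine Subgroup.subset_closure ?_
    show B₀.subtype.comp (ρ n).toMonoidHom ∈ E.Hom B₀
    refine (hreal.2 B₀ hB₀T _ (fun x => hB₀T (ρ n x).2)).2 ⟨g * n * g⁻¹, fun x => ?_⟩
    have h1 := hρv n x
    have h2 : ((e (ρ n x) : B) : M) = (n : M) * ((e x : B) : M) * (n : M)⁻¹ := by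
      rw [h1, hρ₁v]
    rw [hev, hev] at h2
    have h3 : ι ⟨(B₀.subtype.comp (ρ n).toMonoidHom) x, hB₀T (ρ n x).2⟩ = ι (Subgroup.inclusion hB₀T (ρ n x)) := rfl
    have h4 : ι ⟨(x : Ω), hB₀T x.2⟩ = ι (Subgroup.inclusion hB₀T x) := rfl
    rw [h3, h4]
    have h5 := congrArg (fun z => g * z * g⁻¹) h2
    beta_reduce at h5
    calc ι (Subgroup.inclusion hB₀T (ρ n x)) = g * (g⁻¹ * ι (Subgroup.inclusion hB₀T (ρ n x)) * g) * g⁻¹ := by group
      _ = _ := by rw [h5]; group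
  haveI : Finite (E.autGroup B₀) := finite_autGroup (S := T) hB₀T
  obtain ⟨K₀, hK₀⟩ : ∃ K₀ : Subgroup N, ∀ x, x ∈ K₀ ↔ ρ x ∈ opAut E p B₀ := ⟨(opAut E p B₀).comap ρ, fun _ => Iff.rfl⟩
  have hker : ∀ n : N, ρ n = 1 → (n : M) ∈ centralizer (B : Set M) := by
    intro n hn
    rw [mem_centralizer_iff]
    intro b hb
    have h1 := hρv n (e.symm ⟨b, hb⟩)
    rw [hn] at h1
    have h2 : ((ρ₁ n ⟨b, hb⟩ : B) : M) = b := by
      have h3 : e ((1 : MulAut B₀) (e.symm ⟨b, hb⟩)) = ⟨b, hb⟩ := by simp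
      rw [h3] at h1
      have h4 := congrArg Subtype.val h1
      simp only [MulEquiv.apply_symm_apply] at h4
      exact h4.symm
    rw [hρ₁v] at h2
    have h3 : (n : M) * b = b * (n : M) := by
      calc (n : M) * b = ((n : M) * b * (n : M)⁻¹) * n := by group
        _ = b * n := by rw [h2]
    exact h3.symm
  refine ⟨K₀.map N.subtype, ?_, ?_, ?_, ?_⟩
  · rw [← hN]
    exact map_subtype_le K₀
  · intro n hn
    have hn' : n ∈ N := hN ▸ hn
    rw [mem_normalizer_iff]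
    intro x
    constructor
    · rintro ⟨w, hw, rfl⟩
      refine ⟨⟨n, hn'⟩ * w * ⟨n, hn'⟩⁻¹, ?_, rfl⟩
      rw [SetLike.mem_coe, hK₀, map_mul, map_mul, map_inv]
      exact opAut_conj (hρA _) ((hK₀ _).1 hw)
    · rintro ⟨w, hw, hwe⟩
      refine ⟨⟨n, hn'⟩⁻¹ * w * ⟨n, hn'⟩, ?_, ?_⟩
      · rw [SetLike.mem_coe, hK₀, map_mul, map_mul, map_inv]
        simpa using opAut_conj (Subgroup.inv_mem _ (hρA ⟨n, hn'⟩)) ((hK₀ _).1 hw)
      · have hwe' : (w : M) = n * x * n⁻¹ := hwe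
        show n⁻¹ * (w : M) * n = x
        rw [hwe']
        group
  · rintro _ ⟨w, hw, rfl⟩
    obtain ⟨k, hk⟩ := opAut_isPGroup (F := E) (p := p) (Q := B₀) ⟨ρ w, (hK₀ _).1 hw⟩
    have hk' : (ρ w) ^ p ^ k = 1 := congrArg Subtype.val hk
    refine ⟨k, ?_⟩
    have h1 := hker (w ^ p ^ k) (by rw [map_pow, hk'])
    simpa using h1
  · intro a ha hq
    have ha' : a ∈ N := hN ▸ ha
    refine ⟨⟨a, ha'⟩, ?_, rfl⟩
    rw [SetLike.mem_coe, hK₀]
    refine pStab_all hst hB₀T (hρA _) (fun y => ?_)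
    apply e.injective
    apply Subtype.ext
    have hcomm : ∀ b ∈ B, (⁅⁅b, a⁆, a⁆ : M) = 1 := by
      intro b hb
      have h1 : (⁅⁅b, a⁆, a⁆ : M) ∈ ⁅⁅B, zpowers a⁆, zpowers a⁆ :=
        Subgroup.commutator_mem_commutator (Subgroup.commutator_mem_commutator hb (mem_zpowers a)) (mem_zpowers a)
      rw [hq] at h1
      exact h1
    have h2 := quad_of_comm (a := a) (b := ((e y : B) : M)) (by
      have := hcomm _ (e y).2
      simpa [commutatorElement_def] using this)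
    have hv : ∀ x : B₀, ((e ((ρ ⟨a, ha'⟩) x) : B) : M) = a * ((e x : B) : M) * a⁻¹ := by
      intro x
      rw [hρv, hρ₁v]
    simp only [map_mul, map_one, Subgroup.coe_mul, Subgroup.coe_one, hv, map_inv, InvMemClass.coe_inv]
    have h3 : a * ((a * ((e y : B) : M) * a⁻¹)) * a⁻¹ = a * (a * ((e y : B) : M) * a⁻¹) * a⁻¹ := rfl
    simpa [mul_assoc] using h2

end Cfsg.Agent.Lib.Fusion2.StabF
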