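import Cfsg.Agent.Lib.Fusion2.StabModel
import Cfsg.Agent.Lib.Fusion.ZJ6

/-!
# The ZJ theorem for `p`-stable fusion systems, `p` odd
-/

set_option autoImplicit false
set_option linter.unusedSectionVars false
set_option linter.style.haveILetI false

universe u

namespace Cfsg.Agent.Lib.Fusion2.StabZJ

open Cfsg Cfsg.FusionSystem Cfsg.Agent.Lib.Fusion Cfsg.Agent.Lib.Fusion.Qd Cfsg.Agent.Lib.Fusion.ZJ Cfsg.Agent.Lib.Fusion2 Cfsg.Agent.Lib.Fusion2.StabF Wreath

variable {W : ∀ (Q : Type u) [Group Q], Subgroup Q} {Ω : Type u} [Group Ω] {S : Subgroup Ω} [Finite S] {F : FusionSystem S} {p : ℕ} [hp : Fact p.Prime] {H : Type*} [Group H]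

/-- The condition on models. -/
def NF (p : ℕ) (W : ∀ (Q : Type u) [Group Q], Subgroup Q) : Prop :=
  ∀ (L : Type u) [Group L] [Finite L] (P : Sylow p L), Cfsg.Agent.Lib.LocalEven2.QStable p L →
    Subgroup.centralizer ((pCore p L : Subgroup L) : Set L) ≤ pCore p L →
    (((W ↥(P : Subgroup L)).map (P : Subgroup L).subtype : Subgroup L)).Normal

/-- The constrained case. -/
theorem isNormal_wOn_of_centric' (hodd : p ≠ 2) (hW : Functorial p H W) (hWN : NF p W) (hS : IsPGroup p S) (hF : F.IsSaturated p) (hfree : PStab p F) {U : Subgroup Ω} (hUn : F.IsFullyNormalized U) (hUc : F.IsCentric U)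
    {E : FusionSystem (normalizerIn S U)} (hE : F.IsNormalizerSystem U E) : E.IsNormal (wOn W (normalizerIn S U)) := by
  classical
  obtain ⟨L, _, ι, hL⟩ := exists_local_model hS hF hUn hUc hE
  obtain ⟨hfin, hreal, ⟨T, hT⟩, hcen⟩ := id hL
  haveI : Finite L := hfin
  haveI : Finite (normalizerIn S U) := finite_of_le (normalizerIn_le U)
  have hstE : PStab p E := pStab_normalizer hfree hE
  have h1 := hWN L T (qStable_of_realized hreal T hT hstE) hcen
  have hle : (W ↥(T : Subgroup L)).map (T : Subgroup L).subtype ≤ ι.range := by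
    rw [← hT]
    rintro _ ⟨x, -, rfl⟩
    exact x.2
  have h2 := isNormal_pullback hreal h1 hle
  rwa [pullback_wOn (hS.to_le (normalizerIn_le U)) hW hreal.1 hT] at h2

/-- The induction hypothesis on the order of `S`. -/
def SmallerOK' (p : ℕ) [Fact p.Prime] (W : ∀ (Q : Type u) [Group Q], Subgroup Q) (n : ℕ) : Prop :=
  ∀ (Ω' : Type u) [Group Ω'] (S' : Subgroup Ω') [Finite S'], Nat.card S' < n → IsPGroup p S' → ∀ F' : FusionSystem S', F'.IsSaturated p → PStab p F' → F'.IsNormal (wOn W S')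

/-- The non constrained case: there is a larger normal subgroup. -/
theorem exists_larger_normal' (hodd : p ≠ 2) (hW : Functorial p H W) (hWN : NF p W) (hS : IsPGroup p S) (hF : F.IsSaturated p) (hfree : PStab p F) (hMT : SmallerOK' p W (Nat.card S))
    {U : Subgroup Ω} (hUn : F.IsFullyNormalized U) (hUne : U ≠ ⊥) (hCU : ¬ centralizerIn S U ≤ U) {E : FusionSystem (normalizerIn S U)} (hE : F.IsNormalizerSystem U E) :
    ∃ U₂, U < U₂ ∧ E.IsNormal U₂ := by
  classical
  have hUS : U ≤ S := hUn.1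
  have hUfc := (fullyNormalized_spec hS hF hUn).1
  obtain ⟨F₀, hF₀⟩ := kSystem_centralizer F hUS
  have A := admisSetup_normalizer hS hF hUn hE
  have A₀ := admisSetup_centralizer hS hF hUfc hF₀
  have hCS : centralizerIn S U ≤ S := A₀.T_le
  have hTS : normalizerIn S U ≤ S := A.T_le
  haveI hfC : Finite (centralizerIn S U) := finite_of_le hCS
  haveI hfT : Finite (normalizerIn S U) := finite_of_le hTS
  have hCp : IsPGroup p (centralizerIn S U) := hS.to_le hCS
  have hTp : IsPGroup p (normalizerIn S U) := hS.to_le hTS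
  have hF₀sat : F₀.IsSaturated p := A₀.isSaturated
  have hF₀free := pStab_of_setup A₀ hfree
  have hEsat : E.IsSaturated p := A.isSaturated
  obtain ⟨C, hC⟩ : ∃ C, C = centralizerIn S U := ⟨_, rfl⟩
  have hZsc : F₀.StronglyClosed (U ⊓ centralizerIn S U) := by
    refine ⟨inf_le_right, fun R hR φ hφ x => ?_⟩
    obtain ⟨-, -, g, hg, hag, hr⟩ := (A₀.hE R _).1 (isMapOn_toFun hφ)
    have hxU : (x : Ω) ∈ U := (hR x.2).1
    have h1 := hr.2 trivial x hxU
    rw [hag x x.2, toFun_coe] at h1
    rw [h1]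
    exact hR x.2
  haveI hZn : ((U ⊓ centralizerIn S U).subgroupOf (centralizerIn S U)).Normal := ⟨by
    intro z hz c
    have hz' : (z : Ω) ∈ U ⊓ centralizerIn S U := hz
    have e : ((c * z * c⁻¹ : centralizerIn S U) : Ω) = z := by
      show (c : Ω) * z * (c : Ω)⁻¹ = z
      rw [comm_of_mem_centralizer c.2.2 hz'.1]
      group
    show ((c * z * c⁻¹ : centralizerIn S U) : Ω) ∈ U ⊓ centralizerIn S U
    rw [e]
    exact hz'⟩
  have hker : ∀ s : centralizerIn S U, QuotientGroup.mk' ((U ⊓ centralizerIn S U).subgroupOf (centralizerIn S U)) s = 1 ↔ (s : Ω) ∈ U ⊓ centralizerIn S U :=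
    fun s => QuotientGroup.eq_one_iff s
  have hr : (QuotientGroup.mk' ((U ⊓ centralizerIn S U).subgroupOf (centralizerIn S U))).range = ⊤ :=
    MonoidHom.range_eq_top.2 (QuotientGroup.mk'_surjective _)
  obtain ⟨Eb, hEb⟩ := exists_factorSystem hZsc hker hr
  have hEbsat : Eb.IsSaturated p := isSaturated_of_surjective hCp hF₀sat (isSurjectiveMorphism_of_factor hCp hF₀sat hZsc hEb)
  have hEbfree := pStab_of_factor hodd hCp (U := U ⊓ centralizerIn S U) (fun R φ hφ x hx => by
    obtain ⟨-, -, g, hg, hag, hr⟩ := (A₀.hE R _).1 (isMapOn_toFun hφ)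
    have h1 := hr.2 trivial x hx.1
    rw [hag x x.2, toFun_coe] at h1
    exact h1) hEb hF₀free
  -- the order
  have hQp : IsPGroup p (↥(centralizerIn S U) ⧸ (U ⊓ centralizerIn S U).subgroupOf (centralizerIn S U)) := hCp.to_quotient _
  haveI hUnt : Nontrivial U := (Subgroup.nontrivial_iff_ne_bot U).2 hUne
  haveI hfU : Finite U := finite_of_le hUS
  have hUp : IsPGroup p U := hS.to_le hUS
  have hcardZ : 1 < Nat.card ((U ⊓ centralizerIn S U).subgroupOf (centralizerIn S U)) := by
    haveI := hUp.center_nontrivial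
    obtain ⟨z, hz⟩ := exists_ne (1 : Subgroup.center U)
    have hzU : ((z : U) : Ω) ∈ U := (z : U).2
    have hzC : ((z : U) : Ω) ∈ centralizerIn S U := by
      refine ⟨hUS hzU, ?_⟩
      show _ ∈ Subgroup.centralizer _
      rw [Subgroup.mem_centralizer_iff]
      intro y hy
      have h1 := Subgroup.mem_center_iff.1 z.2 ⟨y, hy⟩
      exact congrArg Subtype.val h1
    have hm : (⟨(z : U), hzC⟩ : centralizerIn S U) ∈ (U ⊓ centralizerIn S U).subgroupOf (centralizerIn S U) := ⟨hzU, hzC⟩
    have hne : (⟨(⟨(z : U), hzC⟩ : centralizerIn S U), hm⟩ : (U ⊓ centralizerIn S U).subgroupOf (centralizerIn S U)) ≠ 1 := by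
      intro h
      apply hz
      apply Subtype.ext
      apply Subtype.ext
      exact congrArg (fun t : (U ⊓ centralizerIn S U).subgroupOf (centralizerIn S U) => ((t : centralizerIn S U) : Ω)) h
    haveI : Nontrivial ((U ⊓ centralizerIn S U).subgroupOf (centralizerIn S U)) := ⟨⟨_, _, hne⟩⟩
    exact Finite.one_lt_card
  have hcardlt : Nat.card (⊤ : Subgroup (↥(centralizerIn S U) ⧸ (U ⊓ centralizerIn S U).subgroupOf (centralizerIn S U))) < Nat.card S := by
    rw [Subgroup.card_top]
    have h1 := Subgroup.card_eq_card_quotient_mul_card_subgroup ((U ⊓ centralizerIn S U).subgroupOf (centralizerIn S U))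
    have h2 : Nat.card (centralizerIn S U) ≤ Nat.card S := card_le_card_S hCS
    have h3 : 0 < Nat.card (↥(centralizerIn S U) ⧸ (U ⊓ centralizerIn S U).subgroupOf (centralizerIn S U)) := Nat.card_pos
    nlinarith
  haveI : Finite (↥(centralizerIn S U) ⧸ (U ⊓ centralizerIn S U).subgroupOf (centralizerIn S U)) := inferInstance
  have hRb := hMT _ ⊤ hcardlt (hQp.to_subgroup ⊤) Eb hEbsat hEbfree
  have hInv : ∀ β₀, IsMapOn F (centralizerIn S U ⊔ U) β₀ → IsImage β₀ U U → IsImage β₀ (centralizerIn S U) (centralizerIn S U) → IsImage β₀ (U ⊓ centralizerIn S U) (U ⊓ centralizerIn S U) →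
      IsImage β₀ (preimageAlong (QuotientGroup.mk' ((U ⊓ centralizerIn S U).subgroupOf (centralizerIn S U))) (wOn W ⊤)) (preimageAlong (QuotientGroup.mk' ((U ⊓ centralizerIn S U).subgroupOf (centralizerIn S U))) (wOn W ⊤)) :=
    fun β₀ hβ _ hβC hβZ => isImage_preimage_wOn hW hS hCS hβ hβC hβZ inf_le_right
  have hRsc := stronglyClosed_preimage_E A A₀ hUn hEb hZsc hRb hInv
  have hUnorm := isNormal_normalizerSystem hUS hE
  have hUsc := stronglyClosed_of_isNormal hUnorm
  have hU₂sc := stronglyClosed_sup hTp hEsat hUsc hRsc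
  refine ⟨_, ?_, isNormal_of_essential_le hTp hEsat hU₂sc (fun P hP => sup_le (le_of_isNormal hTp hUnorm hP.1 (isRadical_of_essential hTp hP))
    (le_of_essential A A₀ hUn hEb hZsc hRb hInv hUnorm hP))⟩
  refine lt_of_le_of_ne le_sup_left (fun he => ?_)
  -- `R` is not contained in `U`
  have hRU : preimageAlong (QuotientGroup.mk' ((U ⊓ centralizerIn S U).subgroupOf (centralizerIn S U))) (wOn W (⊤ : Subgroup (↥(centralizerIn S U) ⧸ (U ⊓ centralizerIn S U).subgroupOf (centralizerIn S U)))) ≤ U :=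
    le_sup_right.trans he.symm.le
  obtain ⟨c, hc, hcU⟩ := SetLike.not_le_iff_exists.1 hCU
  haveI hnt : Nontrivial ↥(⊤ : Subgroup (↥(centralizerIn S U) ⧸ (U ⊓ centralizerIn S U).subgroupOf (centralizerIn S U))) := by
    refine ⟨⟨⟨QuotientGroup.mk' _ ⟨c, hc⟩, trivial⟩, 1, fun h => hcU ?_⟩⟩
    have h1 : QuotientGroup.mk' ((U ⊓ centralizerIn S U).subgroupOf (centralizerIn S U)) ⟨c, hc⟩ = 1 := congrArg Subtype.val h
    exact ((hker _).1 h1).1
  have hne := hW.ne_bot _ (hQp.to_subgroup ⊤) hnt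
  apply hne
  rw [eq_bot_iff]
  rintro ⟨y, hyt⟩ hy
  obtain ⟨x, rfl⟩ := QuotientGroup.mk'_surjective _ y
  have hxR : (x : Ω) ∈ preimageAlong (QuotientGroup.mk' ((U ⊓ centralizerIn S U).subgroupOf (centralizerIn S U))) (wOn W (⊤ : Subgroup (↥(centralizerIn S U) ⧸ (U ⊓ centralizerIn S U).subgroupOf (centralizerIn S U)))) :=
    mem_preimageAlong.2 ⟨x.2, mem_wOn.2 ⟨trivial, hy⟩⟩
  have hxU := hRU hxR
  rw [Subgroup.mem_bot]
  apply Subtype.ext
  exact (hker x).2 ⟨hxU, x.2⟩

/-- The case of a normal subgroup of `S`. -/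
theorem top' (hodd : p ≠ 2) (hW : Functorial p H W) (hWN : NF p W) (hS : IsPGroup p S) (hF : F.IsSaturated p) (hfree : PStab p F) (hMT : SmallerOK' p W (Nat.card S)) :
    ∀ U : Subgroup Ω, U ≤ S → S ≤ Subgroup.normalizer (U : Set Ω) → U ≠ ⊥ → ∀ (R₀ : Subgroup Ω) (f : Ω → Ω), U ≤ R₀ → IsMapOn F R₀ f → IsImage f U U → ExtD F (wOn W S) R₀ f := by
  suffices hk : ∀ (k : ℕ) (U : Subgroup Ω), Nat.card S - Nat.card U = k → U ≤ S → S ≤ Subgroup.normalizer (U : Set Ω) → U ≠ ⊥ → ∀ (R₀ : Subgroup Ω) (f : Ω → Ω), U ≤ R₀ → IsMapOn F R₀ f → IsImage f U U → ExtD F (wOn W S) R₀ f from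
    fun U => hk _ U rfl
  intro k
  induction k using Nat.strong_induction_on with
  | _ k IH =>
    intro U hk hUS hn hne R₀ f hUR hf hi
    have hUn : F.IsFullyNormalized U := fullyNormalized_of_normal hUS hn
    obtain ⟨E, hE⟩ := kSystem_normalizer F hUS
    have A := admisSetup_normalizer hS hF hUn hE
    have hNS := normalizerIn_eq_self hn
    have hR₀S : R₀ ≤ S := hf.le
    have hR₀T : R₀ ≤ normalizerIn S U := hR₀S.trans hNS.ge
    have hfE : IsMapOn E R₀ f := A.isMapOn_E_of hR₀T (by rwa [sup_eq_left.2 hUR]) ⟨hi, False.elim⟩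
    haveI hfT : Finite (normalizerIn S U) := finite_of_le (normalizerIn_le U)
    by_cases hCU : centralizerIn S U ≤ U
    · have hUc := isCentric_of_centralizer_le hS hF hUn hCU
      have h1 := isNormal_wOn_of_centric' hodd hW hWN hS hF hfree hUn hUc hE
      rw [wOn_congr hNS] at h1
      obtain ⟨g, hg, hag, hgi⟩ := IsNormal.exists_ext h1 hfE
      exact ⟨g, isMapOn_of_setup A hg, hag, hgi⟩
    · obtain ⟨U₂, hlt, hN₂⟩ := exists_larger_normal' hodd hW hWN hS hF hfree hMT hUn hne hCU hE
      obtain ⟨g, hg, hag, hgi⟩ := IsNormal.exists_ext hN₂ hfE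
      have hU₂T : U₂ ≤ normalizerIn S U := hN₂.1
      have hU₂S : U₂ ≤ S := hU₂T.trans (normalizerIn_le U)
      have hn₂ : S ≤ Subgroup.normalizer (U₂ : Set Ω) := fun s hs => normalizer_of_stronglyClosed (stronglyClosed_of_isNormal hN₂) (hNS.ge hs)
      have hcard : Nat.card U < Nat.card U₂ := card_lt_of_lt hlt hU₂S
      have hcS : Nat.card U₂ ≤ Nat.card S := card_le_card_S hU₂S
      have hne₂ : U₂ ≠ ⊥ := fun h => hne (le_bot_iff.1 (hlt.le.trans h.le))
      have hgF := isMapOn_of_setup A hg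
      have h2 := IH (Nat.card S - Nat.card U₂) (by omega) U₂ rfl hU₂S hn₂ hne₂ (R₀ ⊔ U₂) g le_sup_right hgF hgi
      exact h2.mono le_sup_left hag

/-- The main step: the theorem for `S`, assuming it for smaller groups. -/
theorem main_step' (hodd : p ≠ 2) (hW : Functorial p H W) (hWN : NF p W) (hS : IsPGroup p S) (hF : F.IsSaturated p) (hfree : PStab p F) (hMT : SmallerOK' p W (Nat.card S)) :
    F.IsNormal (wOn W S) := by
  classical
  have hDS : wOn W S ≤ S := wOn_le S
  have hSn : S ≤ Subgroup.normalizer ((wOn W S : Subgroup Ω) : Set Ω) := fun x hx => wOn_normalizer hS hW.map le_rfl hx (Subgroup.le_normalizer hx)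
  have hNS := normalizerIn_eq_self hSn
  obtain ⟨E0, hE0⟩ := kSystem_normalizer F hDS
  have hE0iff : ∀ P f, IsMapOn E0 P f ↔ P ≤ S ∧ (∀ x ∈ P, f x ∈ S) ∧ ExtD F (wOn W S) P f := by
    intro P f
    rw [isMapOn_normalizerSystem_iff hE0 P f, hNS]
    rfl
  have hE0F : ∀ {P f}, IsMapOn E0 P f → IsMapOn F P f := by
    intro P f h
    obtain ⟨-, -, g, hg, hag, -⟩ := (hE0iff P f).1 h
    exact (hg.mono le_sup_left).congr hag
  have hof : ∀ {P f}, IsMapOn F P f → ExtD F (wOn W S) P f → IsMapOn E0 P f := fun hf he => (hE0iff _ _).2 ⟨hf.le, fun _ hx => hf.mem_S hx, he⟩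
  suffices hk : ∀ (k : ℕ) (P : Subgroup Ω) (f : Ω → Ω), Nat.card S - Nat.card P = k → IsMapOn F P f → IsMapOn E0 P f by
    refine isNormal_of_extD hDS (fun P f hf => ?_)
    exact ((hE0iff P f).1 (hk _ P f rfl hf)).2.2
  intro k
  induction k using Nat.strong_induction_on with
  | _ k IHk =>
    intro P f hk hf
    have hPS : P ≤ S := hf.le
    have hcPS : Nat.card P ≤ Nat.card S := card_le_card_S hPS
    have hbig : ∀ {Q : Subgroup Ω} {g : Ω → Ω}, Nat.card P < Nat.card Q → Q ≤ S → IsMapOn F Q g → IsMapOn E0 Q g := by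
      intro Q g hlt hQ hg
      have hcQ : Nat.card Q ≤ Nat.card S := card_le_card_S hQ
      exact IHk (Nat.card S - Nat.card Q) (by omega) Q g rfl hg
    -- the local statement
    have hLoc : ∀ (n : ℕ) (V R : Subgroup Ω) (h : Ω → Ω), Nat.card S - Nat.card (normalizerIn S V) = n → V ≠ ⊥ → V ≤ R → R ≤ normalizerIn S V → IsMapOn F R h → IsImage h R R → IsImage h V V →
        Nat.card P < Nat.card (normalizerIn S V) → IsMapOn E0 R h := by
      intro n
      induction n using Nat.strong_induction_on with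
      | _ n IHn =>
        intro V R h hn hne hVR hRT hh hhR hhV hcard
        have hVS : V ≤ S := hVR.trans (hRT.trans (normalizerIn_le V))
        have hcT : Nat.card (normalizerIn S V) ≤ Nat.card S := card_le_card_S (normalizerIn_le V)
        by_cases hVn : F.IsFullyNormalized V
        · by_cases hTS : normalizerIn S V = S
          · have hnV : S ≤ Subgroup.normalizer (V : Set Ω) := fun s hs => (hTS.ge hs).2
            exact hof hh (top' hodd hW hWN hS hF hfree hMT V hVS hnV hne R h hVR hh hhV)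
          · -- a proper normalizer
            obtain ⟨N, hN⟩ := kSystem_normalizer F hVS
            have A := admisSetup_normalizer hS hF hVn hN
            have hTS' : normalizerIn S V ≤ S := normalizerIn_le V
            have hTlt : normalizerIn S V < S := lt_of_le_of_ne hTS' hTS
            haveI hfT : Finite (normalizerIn S V) := finite_of_le hTS'
            have hTp : IsPGroup p (normalizerIn S V) := hS.to_le hTS'
            have hNsat : N.IsSaturated p := A.isSaturated
            have hNfree := pStab_of_setup A hfree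
            have hV₁ := hMT Ω (normalizerIn S V) (card_lt_of_lt hTlt le_rfl) hTp N hNsat hNfree
            have hfN : IsMapOn N R h := A.isMapOn_E_of hRT (by rwa [sup_eq_left.2 hVR]) ⟨hhV, False.elim⟩
            obtain ⟨g, hg, hag, hgi⟩ := IsNormal.exists_ext hV₁ hfN
            have hgF := isMapOn_of_setup A hg
            have hV₁le : wOn W (normalizerIn S V) ≤ normalizerIn S V := wOn_le _
            have hV₁S : wOn W (normalizerIn S V) ≤ S := hV₁le.trans hTS'
            have hV₁ne : wOn W (normalizerIn S V) ≠ ⊥ := by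
              intro h0
              have hnt : Nontrivial ↥(normalizerIn S V) := by
                obtain ⟨⟨v, hv⟩, hv1⟩ := Subgroup.ne_bot_iff_exists_ne_one.1 hne
                refine ⟨⟨⟨v, (hVR.trans hRT) hv⟩, 1, fun e => hv1 (Subtype.ext ?_)⟩⟩
                have e' := congrArg (fun t : normalizerIn S V => (t : Ω)) e
                exact e'
              apply hW.ne_bot _ hTp hnt
              rw [eq_bot_iff]
              intro y hy
              have h1 : (y : Ω) ∈ wOn W (normalizerIn S V) := ⟨y, hy, rfl⟩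
              rw [h0, Subgroup.mem_bot] at h1
              rw [Subgroup.mem_bot]
              exact Subtype.ext h1
            have hTn : normalizerIn S V ≤ normalizerIn S (wOn W (normalizerIn S V)) := fun t ht =>
              ⟨hTS' ht, wOn_normalizer hS hW.map hTS' (hTS' ht) (Subgroup.le_normalizer ht)⟩
            have hR₁ : R ⊔ wOn W (normalizerIn S V) ≤ normalizerIn S (wOn W (normalizerIn S V)) :=
              sup_le (hRT.trans hTn) (le_normalizerIn hV₁S)
            have hgR : IsImage g R R := hhR.congr (fun x hx => (hag x hx).symm)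
            have hRnV₁ : R ≤ Subgroup.normalizer ((wOn W (normalizerIn S V) : Subgroup Ω) : Set Ω) := fun x hx => (hTn (hRT hx)).2
            have hgR₁ := hgF.image_sup hgR hgi hRnV₁
            have hlt₁ : normalizerIn S V < normalizerIn S (wOn W (normalizerIn S V)) := by
              refine lt_of_le_of_ne hTn (fun he => ?_)
              obtain ⟨t, ht, htn⟩ := exists_mem_normalizerIn_not_mem hS hTlt
              apply htn
              rw [he]
              exact ⟨ht.1, wOn_normalizer hS hW.map hTS' ht.1 ht.2⟩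
            have hc₁ := card_lt_of_lt hlt₁ (normalizerIn_le _)
            have hc₂ : Nat.card (normalizerIn S (wOn W (normalizerIn S V))) ≤ Nat.card S := card_le_card_S (normalizerIn_le _)
            have h2 := IHn (Nat.card S - Nat.card (normalizerIn S (wOn W (normalizerIn S V)))) (by omega) _ _ g rfl hV₁ne le_sup_right hR₁ hgF hgR₁ hgi (by omega)
            exact (h2.mono le_sup_left).congr hag
        · -- not fully normalized
          obtain ⟨V', hc, hV'⟩ := exists_fullyNormalized_conj (F := F) hVS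
          have hlt : Nat.card (normalizerIn S V) < Nat.card (normalizerIn S V') := by
            by_contra hge
            apply hVn
            refine ⟨hVS, fun Q hQ => ?_⟩
            exact (hV'.2 Q (isConj_trans (isConj_symm hc) hQ)).trans (not_lt.1 hge)
          obtain ⟨φ, hφ, hval, hmap⟩ := exists_ext_of_fullyNormalized hS hF hV' hc
          obtain ⟨θ, hθ, hθe⟩ : ∃ θ, IsMapOn F (normalizerIn S V) θ ∧ θ = toFun φ := ⟨_, isMapOn_toFun hφ, rfl⟩
          have hVT : V ≤ normalizerIn S V := hVR.trans hRT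
          have hθv : ∀ x ∈ normalizerIn S V, θ x ∈ normalizerIn S V' := fun x hx => by
            rw [hθe, toFun_of_mem φ hx]
            exact hval _
          have hθi : IsImage θ V V' := by
            intro y
            rw [← hmap, hθe]
            constructor
            · rintro ⟨x, hx, rfl⟩
              exact ⟨x, hx, toFun_coe φ x⟩
            · rintro ⟨x, hx, rfl⟩
              exact ⟨⟨x, hVT hx⟩, hx, (toFun_of_mem φ _).symm⟩
          have hθE : IsMapOn E0 (normalizerIn S V) θ := hbig hcard (normalizerIn_le V) hθ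
          obtain ⟨B', hB'⟩ := hθ.exists_image le_rfl
          obtain ⟨ζ, hζ, hζi, hζθ, hθζ⟩ := hθE.exists_inv hB'
          obtain ⟨R', hR'⟩ := hθ.exists_image hRT
          have hR'B : R' ≤ B' := fun y hy => by
            obtain ⟨x, hx, rfl⟩ := hR'.exists_of_mem hy
            exact hB'.mem (hRT hx)
          have hhT : ∀ x ∈ R, h x ∈ R := fun x hx => hhR.mem hx
          have hf' : IsMapOn F R' (fun y => θ (h (ζ y))) := by
            have h1 : IsMapOn F R' (fun y => h (ζ y)) := ((hE0F hζ).mono hR'B).comp hh (fun y hy => by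
              obtain ⟨x, hx, rfl⟩ := hR'.exists_of_mem hy
              rw [hζθ x (hRT hx)]
              exact hx)
            exact h1.comp hθ (fun y hy => by
              obtain ⟨x, hx, rfl⟩ := hR'.exists_of_mem hy
              rw [hζθ x (hRT hx)]
              exact hRT (hhT x hx))
          have hζR' : IsImage ζ R' R := hR'.inv (fun x hx => hζθ x (hRT hx))
          have hζV' : IsImage ζ V' V := hθi.inv (fun x hx => hζθ x (hVT hx))
          have hf'R : IsImage (fun y => θ (h (ζ y))) R' R' := (hζR'.comp hhR).comp hR'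
          have hf'V : IsImage (fun y => θ (h (ζ y))) V' V' := (hζV'.comp hhV).comp hθi
          have hV'R' : V' ≤ R' := fun y hy => by
            obtain ⟨x, hx, rfl⟩ := hθi.exists_of_mem hy
            exact hR'.mem (hVR hx)
          have hR'T : R' ≤ normalizerIn S V' := fun y hy => by
            obtain ⟨x, hx, rfl⟩ := hR'.exists_of_mem hy
            exact hθv x (hRT hx)
          have hne' : V' ≠ ⊥ := by
            intro h0
            apply hne
            rw [eq_bot_iff]
            intro v hv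
            have h1 := hθi.mem hv
            rw [h0, Subgroup.mem_bot] at h1
            have h3 := hθ.map_one
            rw [Subgroup.mem_bot]
            exact hθ.injOn (hVT hv) (Subgroup.one_mem _) (h1.trans h3.symm)
          have hc₂ : Nat.card (normalizerIn S V') ≤ Nat.card S := card_le_card_S (normalizerIn_le _)
          have h2 := IHn (Nat.card S - Nat.card (normalizerIn S V')) (by omega) V' R' _ rfl hne' hV'R' hR'T hf' hf'R hf'V (by omega)
          have h3 : IsMapOn E0 R (fun x => (fun y => θ (h (ζ y))) (θ x)) := (hθE.mono hRT).comp h2 (fun x hx => hR'.mem hx)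
          have h4 : IsMapOn E0 R (fun x => ζ ((fun y => θ (h (ζ y))) (θ x))) := h3.comp hζ (fun x hx => by
            show θ (h (ζ (θ x))) ∈ B'
            rw [hζθ x (hRT hx)]
            exact hB'.mem (hRT (hhT x hx)))
          refine h4.congr (fun x hx => ?_)
          show ζ (θ (h (ζ (θ x)))) = h x
          rw [hζθ x (hRT hx), hζθ _ (hRT (hhT x hx))]
    by_cases hPtop : P = S
    · have hfS : IsMapOn F S f := hPtop ▸ hf
      have hiS : IsImage f S S := by
        obtain ⟨P', hP'⟩ := hfS.exists_image le_rfl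
        have hle : P' ≤ S := IsImage.le_S hfS le_rfl hP'
        have he : P' = S := eq_of_le_of_card_le (S := S) hle le_rfl (IsImage.card_eq hfS le_rfl hP').le
        rwa [he] at hP'
      have hD := isImage_wOn hS hW hfS hiS
      refine hof hf ⟨f, ?_, fun _ _ => rfl, hD⟩
      rwa [hPtop, sup_eq_left.2 hDS]
    have hPlt : P < S := lt_of_le_of_ne hPS hPtop
    by_cases hP0 : P = ⊥
    · refine hof hf ⟨id, isMapOn_id (sup_le hPS hDS), fun x hx => ?_, IsImage.refl _⟩
      rw [hP0, Subgroup.mem_bot] at hx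
      rw [hx, hf.map_one]
      rfl
    have hext : ∀ {X Q' : Subgroup Ω}, F.IsFullyNormalized Q' → F.IsConj X Q' → ∃ θ, IsMapOn F (normalizerIn S X) θ ∧ (∀ x ∈ normalizerIn S X, θ x ∈ normalizerIn S Q') ∧ IsImage θ X Q' := by
      intro X Q' hQ' hc
      have hXN : X ≤ normalizerIn S X := le_normalizerIn (isConj_le_left hc)
      obtain ⟨φ, hφ, hval, hmap⟩ := exists_ext_of_fullyNormalized hS hF hQ' hc
      refine ⟨toFun φ, isMapOn_toFun hφ, fun x hx => ?_, fun y => ?_⟩
      · rw [toFun_of_mem φ hx]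
        exact hval _
      · rw [← hmap]
        constructor
        · rintro ⟨x, hx, rfl⟩
          exact ⟨x, hx, toFun_coe φ x⟩
        · rintro ⟨x, hx, rfl⟩
          exact ⟨⟨x, hXN hx⟩, hx, (toFun_of_mem φ _).symm⟩
    have hclt : ∀ {X : Subgroup Ω}, Nat.card X = Nat.card P → X ≤ S → Nat.card P < Nat.card (normalizerIn S X) := by
      intro X he hXS
      have hXlt : X < S := lt_of_le_of_ne hXS (fun h0 => by
        have h1 := card_lt_of_lt hPlt le_rfl
        rw [← he, h0] at h1
        exact lt_irrefl _ h1)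
      obtain ⟨t, ht, htn⟩ := exists_mem_normalizerIn_not_mem hS hXlt
      have hlt' : X < normalizerIn S X := lt_of_le_of_ne (le_normalizerIn hXS) (fun h0 => htn (by rw [h0]; exact ht))
      rw [← he]
      exact card_lt_of_lt hlt' (normalizerIn_le X)
    obtain ⟨Q', hc, hQ'⟩ := exists_fullyNormalized_conj (F := F) hPS
    obtain ⟨Q₂, hQ₂⟩ := hf.exists_image le_rfl
    have hc₂ : F.IsConj P Q₂ := hf.isConj hQ₂
    have hc₃ : F.IsConj Q₂ Q' := isConj_trans (isConj_symm hc₂) hc
    have hPQ' : Nat.card Q' = Nat.card P := (isConj_card_eq hc).symm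
    have hPQ₂ : Nat.card Q₂ = Nat.card P := (isConj_card_eq hc₂).symm
    have hQ'S : Q' ≤ S := hQ'.1
    have hQ₂S : Q₂ ≤ S := isConj_le_right hc₂
    obtain ⟨θ₁, hθ₁, hθ₁v, hθ₁i⟩ := hext hQ' hc
    obtain ⟨θ₂, hθ₂, hθ₂v, hθ₂i⟩ := hext hQ' hc₃
    have hθ₁E : IsMapOn E0 (normalizerIn S P) θ₁ := hbig (hclt rfl hPS) (normalizerIn_le P) hθ₁
    have hθ₂E : IsMapOn E0 (normalizerIn S Q₂) θ₂ := hbig (hclt hPQ₂ hQ₂S) (normalizerIn_le Q₂) hθ₂
    obtain ⟨B₁, hB₁⟩ := hθ₁.exists_image le_rfl
    obtain ⟨B₂, hB₂⟩ := hθ₂.exists_image le_rfl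
    obtain ⟨ζ₁, hζ₁, -, hζ₁θ, -⟩ := hθ₁E.exists_inv hB₁
    obtain ⟨ζ₂, hζ₂, -, hζ₂θ, -⟩ := hθ₂E.exists_inv hB₂
    have hPN : P ≤ normalizerIn S P := le_normalizerIn hPS
    have hQ₂N : Q₂ ≤ normalizerIn S Q₂ := le_normalizerIn hQ₂S
    have hQ'B₁ : Q' ≤ B₁ := fun y hy => by
      obtain ⟨x, hx, rfl⟩ := hθ₁i.exists_of_mem hy
      exact hB₁.mem (hPN hx)
    have hζ₁i : IsImage ζ₁ Q' P := hθ₁i.inv (fun x hx => hζ₁θ x (hPN hx))
    have hαF : IsMapOn F Q' (fun y => θ₂ (f (ζ₁ y))) := by
      have h1 : IsMapOn F Q' (fun y => f (ζ₁ y)) := ((hE0F hζ₁).mono hQ'B₁).comp hf (fun y hy => hζ₁i.mem hy)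
      exact h1.comp hθ₂ (fun y hy => hQ₂N (hQ₂.mem (hζ₁i.mem hy)))
    have hαi : IsImage (fun y => θ₂ (f (ζ₁ y))) Q' Q' := (hζ₁i.comp hQ₂).comp hθ₂i
    have hQ'ne : Q' ≠ ⊥ := by
      intro h0
      apply hP0
      rw [eq_bot_iff]
      intro v hv
      have h1 := hθ₁i.mem hv
      rw [h0, Subgroup.mem_bot] at h1
      rw [Subgroup.mem_bot]
      exact hθ₁.injOn (hPN hv) (Subgroup.one_mem _) (h1.trans hθ₁.map_one.symm)
    have hαE := hLoc _ Q' Q' _ rfl hQ'ne le_rfl (le_normalizerIn hQ'S) hαF hαi hαi (hclt hPQ' hQ'S)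
    have h3 : IsMapOn E0 P (fun x => (fun y => θ₂ (f (ζ₁ y))) (θ₁ x)) := (hθ₁E.mono hPN).comp hαE (fun x hx => hθ₁i.mem hx)
    have h4 : IsMapOn E0 P (fun x => ζ₂ ((fun y => θ₂ (f (ζ₁ y))) (θ₁ x))) := h3.comp hζ₂ (fun x hx => by
      show θ₂ (f (ζ₁ (θ₁ x))) ∈ B₂
      rw [hζ₁θ x (hPN hx)]
      exact hB₂.mem (hQ₂N (hQ₂.mem hx)))
    refine h4.congr (fun x hx => ?_)
    show ζ₂ (θ₂ (f (ζ₁ (θ₁ x)))) = f x
    rw [hζ₁θ x (hPN hx), hζ₂θ _ (hQ₂N (hQ₂.mem hx))]

/-- The ZJ theorem for fusion systems, in functor form. -/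
theorem isNormal_wOn' (hodd : p ≠ 2) (hW : Functorial p H W) (hWN : NF p W) : ∀ (n : ℕ) (Ω : Type u) [Group Ω] (S : Subgroup Ω) [Finite S], Nat.card S = n → IsPGroup p S → ∀ F : FusionSystem S, F.IsSaturated p →
    PStab p F → F.IsNormal (wOn W S) := by
  intro n
  induction n using Nat.strong_induction_on with
  | _ n IH =>
    intro Ω _ S _ hn hS F hF hfree
    refine main_step' hodd hW hWN hS hF hfree (fun Ω' _ S' _ hlt hp F' hs hf => ?_)
    exact IH (Nat.card S') (by omega) Ω' S' rfl hp F' hs hf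


end Cfsg.Agent.Lib.Fusion2.StabZJ
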